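import Mathlib
import Groth.Prelude.Def_SGA3b

/-!
# Monomorphisms out of groups of multiplicative type are closed immersions (Hopf form)

helper77.  Used for S5243.

Strategy: surjectivity of `φ : C → A` is local on `Spec R` and descends along faithfully flat base
change; the monomorphism property (on points) is stable under base change; so one is reduced to
`A = K[M]` diagonalisable.  There the image `B` of `φ` is a graded Hopf subalgebra,
`B = ⊕ 𝔞_m · e_m` for ideals `𝔞_m` of `K`.  If `𝔞_{m₀} ≠ ⊤`, take a maximal ideal `𝔭 ⊇ 𝔞_{m₀}`;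
the `m` with `𝔞_m ⊄ 𝔭` form a subgroup `S ∌ m₀` of `M`, and the two points
`m ↦ [m]`, `m ↦ 1` of `D(M)` with values in `κ(𝔭)[M/S]` agree on `B` but differ at `m₀`.
-/

set_option autoImplicit false
universe u
open TensorProduct WithConv

namespace Groth.Agent.Lib.Helper77.MultMono

open SGA3b

/-- the monomorphism condition (on points with values in algebras of the same universe). -/
def IsMonoPts (K : Type u) [CommRing K] (A : Type u) [CommRing A] [Algebra K A]
    (C : Type u) [CommRing C] [Algebra K C] (φ : C →ₐ[K] A) : Prop :=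
  ∀ (T : Type u) [CommRing T] [Algebra K T], Function.Injective (fun x : A →ₐ[K] T => x.comp φ)

section Antipode

variable {K : Type u} [CommRing K] {C H : Type u} [CommRing C] [HopfAlgebra K C] [CommRing H]
  [HopfAlgebra K H]

/-- bialgebra maps between commutative Hopf algebras commute with the antipodes. -/
theorem map_antipode (φ : C →ₐc[K] H) (c : C) :
    φ (HopfAlgebra.antipode K c) = HopfAlgebra.antipode K (φ c) := by
  have h1 : (toConv (φ : C →ₐ[K] H))⁻¹ * toConv (φ : C →ₐ[K] H) = 1 := inv_mul_cancel _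
  have h2 : toConv (φ : C →ₐ[K] H) *
      toConv ((HopfAlgebra.antipodeAlgHom K H).comp (φ : C →ₐ[K] H)) = 1 := by
    have h3 := AlgHom.convMul_comp_bialgHom_distrib (toConv (AlgHom.id K H))
      (toConv (HopfAlgebra.antipodeAlgHom K H)) φ
    have h4 : toConv (AlgHom.id K H) * toConv (HopfAlgebra.antipodeAlgHom K H) = 1 :=
      mul_inv_cancel (toConv (AlgHom.id K H))
    rw [h4] at h3
    simp only [AlgHom.id_comp] at h3
    rw [← toConv_ofConv (toConv (φ : C →ₐ[K] H) *
      toConv ((HopfAlgebra.antipodeAlgHom K H).comp (φ : C →ₐ[K] H))), ← h3]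
    rw [AlgHom.convOne_def, ofConv_toConv, AlgHom.comp_assoc, BialgHom.counitAlgHom_comp]
    rfl
  have h4 := left_inv_eq_right_inv h1 h2
  have h5 := congrArg (fun f => f.ofConv c) h4
  exact h5

end Antipode

section Graded

variable (K : Type u) [CommRing K] (M : Type u) [CommGroup M]
  (C : Type u) [CommRing C] [HopfAlgebra K C]

open MonoidAlgebra

/-- coefficient functional -/
noncomputable def coeffL (m : M) : MonoidAlgebra K M →ₗ[K] K :=
  (Finsupp.lapply m).comp (MonoidAlgebra.coeffLinearEquiv K).toLinearMap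

lemma coeffL_apply (m : M) (x : MonoidAlgebra K M) : coeffL K M m x = x.coeff m := rfl

/-- `x ⊗ y ↦ y_m • x` -/
noncomputable def psi (m : M) :
    MonoidAlgebra K M ⊗[K] MonoidAlgebra K M →ₗ[K] MonoidAlgebra K M :=
  (TensorProduct.rid K (MonoidAlgebra K M)).toLinearMap ∘ₗ
    LinearMap.lTensor (MonoidAlgebra K M) (coeffL K M m)

lemma psi_tmul (m : M) (x y : MonoidAlgebra K M) :
    psi K M m (x ⊗ₜ[K] y) = (y.coeff m) • x := by
  simp [psi, coeffL_apply]

lemma psi_comul (m : M) (x : MonoidAlgebra K M) :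
    psi K M m (Coalgebra.comul x) = single m (x.coeff m) := by
  classical
  induction x using MonoidAlgebra.induction_on with
  | of n =>
    rw [MonoidAlgebra.of_apply, MonoidAlgebra.comul_single]
    simp only [CommSemiring.comul_apply, TensorProduct.map_tmul, MonoidAlgebra.lsingle_apply]
    rw [psi_tmul, MonoidAlgebra.coeff_single, Finsupp.single_apply]
    split_ifs with h
    · subst h; simp
    · simp
  | add x y hx hy =>
    rw [map_add, map_add, hx, hy, MonoidAlgebra.coeff_add, Finsupp.add_apply,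
      MonoidAlgebra.single_add]
  | smul r x hx =>
    rw [map_smul, map_smul, hx, MonoidAlgebra.coeff_smul, Finsupp.smul_apply,
      MonoidAlgebra.smul_single]

variable {K M C}

/-- the image of a bialgebra map into a group algebra is a graded submodule. -/
lemma graded_mem_range (φ : C →ₐc[K] MonoidAlgebra K M) (c : C) (m : M) :
    single m ((φ c).coeff m) ∈ (φ : C →ₐ[K] MonoidAlgebra K M).range := by
  rw [← psi_comul, ← CoalgHomClass.map_comp_comul_apply φ c]
  generalize Coalgebra.comul (R := K) c = t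
  induction t using TensorProduct.induction_on with
  | zero => rw [map_zero, map_zero]; exact zero_mem _
  | tmul c₁ c₂ =>
    rw [TensorProduct.map_tmul, psi_tmul]
    refine ⟨((φ c₂).coeff m) • c₁, ?_⟩
    simp
  | add x y hx hy => rw [map_add, map_add]; exact add_mem hx hy

/-- the ideal of `m`-th coefficients of the image. -/
noncomputable def coeffIdeal (φ : C →ₐc[K] MonoidAlgebra K M) (m : M) : Ideal K :=
  (Subalgebra.toSubmodule (φ : C →ₐ[K] MonoidAlgebra K M).range).comap
    (MonoidAlgebra.lsingle m : K →ₗ[K] MonoidAlgebra K M)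

lemma mem_coeffIdeal (φ : C →ₐc[K] MonoidAlgebra K M) (m : M) (r : K) :
    r ∈ coeffIdeal φ m ↔ single m r ∈ (φ : C →ₐ[K] MonoidAlgebra K M).range := Iff.rfl

lemma coeff_mem_coeffIdeal (φ : C →ₐc[K] MonoidAlgebra K M) (c : C) (m : M) :
    (φ c).coeff m ∈ coeffIdeal φ m := graded_mem_range φ c m

lemma coeffIdeal_one (φ : C →ₐc[K] MonoidAlgebra K M) : coeffIdeal φ 1 = ⊤ := by
  rw [Ideal.eq_top_iff_one, mem_coeffIdeal, ← MonoidAlgebra.one_def]
  exact one_mem _

lemma mul_mem_coeffIdeal (φ : C →ₐc[K] MonoidAlgebra K M) {m n : M} {r s : K}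
    (hr : r ∈ coeffIdeal φ m) (hs : s ∈ coeffIdeal φ n) : r * s ∈ coeffIdeal φ (m * n) := by
  rw [mem_coeffIdeal] at hr hs ⊢
  rw [← MonoidAlgebra.single_mul_single]
  exact mul_mem hr hs

lemma inv_mem_coeffIdeal (φ : C →ₐc[K] MonoidAlgebra K M) {m : M} {r : K}
    (hr : r ∈ coeffIdeal φ m) : r ∈ coeffIdeal φ m⁻¹ := by
  rw [mem_coeffIdeal] at hr ⊢
  obtain ⟨c, hc⟩ := hr
  refine ⟨HopfAlgebra.antipode K c, ?_⟩
  have h1 := map_antipode φ c
  have hc' : φ c = single m r := hc
  rw [hc', MonoidAlgebra.antipode_single] at h1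
  exact h1

/-- the subgroup of those `m` whose coefficient ideal is not contained in the prime `𝔭`. -/
def goodSubgroup (φ : C →ₐc[K] MonoidAlgebra K M) (𝔭 : Ideal K) [𝔭.IsPrime] : Subgroup M where
  carrier := {m | ¬ coeffIdeal φ m ≤ 𝔭}
  one_mem' := by
    show ¬ coeffIdeal φ 1 ≤ 𝔭
    rw [coeffIdeal_one, top_le_iff]
    exact Ideal.IsPrime.ne_top'
  mul_mem' := by
    intro m n hm hn
    have hm' : ¬ coeffIdeal φ m ≤ 𝔭 := hm
    have hn' : ¬ coeffIdeal φ n ≤ 𝔭 := hn
    show ¬ coeffIdeal φ (m * n) ≤ 𝔭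
    rw [SetLike.not_le_iff_exists] at hm' hn' ⊢
    obtain ⟨r, hr, hr'⟩ := hm'
    obtain ⟨s, hs, hs'⟩ := hn'
    refine ⟨r * s, mul_mem_coeffIdeal φ hr hs, ?_⟩
    intro h
    rcases Ideal.IsPrime.mem_or_mem inferInstance h with h | h
    · exact hr' h
    · exact hs' h
  inv_mem' := by
    intro m hm
    have hm' : ¬ coeffIdeal φ m ≤ 𝔭 := hm
    show ¬ coeffIdeal φ m⁻¹ ≤ 𝔭
    rw [SetLike.not_le_iff_exists] at hm' ⊢
    obtain ⟨r, hr, hr'⟩ := hm'
    exact ⟨r, inv_mem_coeffIdeal φ hr, hr'⟩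

lemma mem_goodSubgroup (φ : C →ₐc[K] MonoidAlgebra K M) (𝔭 : Ideal K) [𝔭.IsPrime] (m : M) :
    m ∈ goodSubgroup φ 𝔭 ↔ ¬ coeffIdeal φ m ≤ 𝔭 := Iff.rfl

theorem coeffIdeal_eq_top (φ : C →ₐc[K] MonoidAlgebra K M)
    (hmono : IsMonoPts K (MonoidAlgebra K M) C (φ : C →ₐ[K] MonoidAlgebra K M)) (m₀ : M) :
    coeffIdeal φ m₀ = ⊤ := by
  classical
  by_contra hne
  obtain ⟨𝔭, h𝔭, hle⟩ := Ideal.exists_le_maximal _ hne
  have : 𝔭.IsPrime := h𝔭.isPrime
  set S := goodSubgroup φ 𝔭 with hS
  let T := MonoidAlgebra (K ⧸ 𝔭) (M ⧸ S)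
  let x : MonoidAlgebra K M →ₐ[K] T :=
    MonoidAlgebra.lift K T M ((MonoidAlgebra.of (K ⧸ 𝔭) (M ⧸ S)).comp (QuotientGroup.mk' S))
  let y : MonoidAlgebra K M →ₐ[K] T := MonoidAlgebra.lift K T M 1
  have hxy : x.comp (φ : C →ₐ[K] MonoidAlgebra K M) = y.comp (φ : C →ₐ[K] MonoidAlgebra K M) := by
    apply AlgHom.ext
    intro c
    show x (φ c) = y (φ c)
    have hb : ∀ m, (φ c).coeff m ∈ coeffIdeal φ m := coeff_mem_coeffIdeal φ c
    rw [← MonoidAlgebra.sum_coeff_single (φ c), Finsupp.sum, map_sum, map_sum]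
    apply Finset.sum_congr rfl
    intro m _
    show MonoidAlgebra.lift K T M _ _ = MonoidAlgebra.lift K T M _ _
    rw [MonoidAlgebra.lift_single, MonoidAlgebra.lift_single]
    by_cases hm : m ∈ S
    · have : (QuotientGroup.mk' S) m = 1 := (QuotientGroup.eq_one_iff m).mpr hm
      simp only [MonoidHom.coe_comp, Function.comp_apply, this, map_one, MonoidHom.one_apply]
    · have h1 : coeffIdeal φ m ≤ 𝔭 := by
        by_contra h
        exact hm ((mem_goodSubgroup φ 𝔭 m).mpr h)
      have h2 : (φ c).coeff m ∈ 𝔭 := h1 (hb m)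
      have h3 : ∀ t : T, ((φ c).coeff m) • t = 0 := by
        intro t
        rw [← algebraMap_smul (K ⧸ 𝔭) ((φ c).coeff m) t]
        have : algebraMap K (K ⧸ 𝔭) ((φ c).coeff m) = 0 :=
          Ideal.Quotient.eq_zero_iff_mem.mpr h2
        rw [this, zero_smul]
      rw [h3, h3]
  have hxy' := hmono T hxy
  have h4 : x (single m₀ 1) = y (single m₀ 1) := by rw [hxy']
  have h5 : MonoidAlgebra.of (K ⧸ 𝔭) (M ⧸ S) (QuotientGroup.mk' S m₀) =
      MonoidAlgebra.of (K ⧸ 𝔭) (M ⧸ S) 1 := by
    have h6 : x (single m₀ 1) = MonoidAlgebra.of (K ⧸ 𝔭) (M ⧸ S) (QuotientGroup.mk' S m₀) := by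
      show MonoidAlgebra.lift K T M _ _ = _
      rw [MonoidAlgebra.lift_single, one_smul]
      rfl
    have h7 : y (single m₀ 1) = MonoidAlgebra.of (K ⧸ 𝔭) (M ⧸ S) 1 := by
      show MonoidAlgebra.lift K T M _ _ = _
      rw [MonoidAlgebra.lift_single, one_smul, map_one]
      rfl
    rw [← h6, ← h7, h4]
  have : Nontrivial (K ⧸ 𝔭) := Ideal.Quotient.nontrivial_iff.mpr h𝔭.ne_top
  have h8 := MonoidAlgebra.of_injective h5
  have h9 : m₀ ∈ S := (QuotientGroup.eq_one_iff m₀).mp h8
  exact (mem_goodSubgroup φ 𝔭 m₀).mp h9 hle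

/-- the diagonal case: a monomorphism `D(M) → H` is a closed immersion. -/
theorem surjective_of_mono_monoidAlgebra (φ : C →ₐc[K] MonoidAlgebra K M)
    (hmono : IsMonoPts K (MonoidAlgebra K M) C (φ : C →ₐ[K] MonoidAlgebra K M)) :
    Function.Surjective φ := by
  intro b
  have h : b ∈ (φ : C →ₐ[K] MonoidAlgebra K M).range := by
    induction b using MonoidAlgebra.induction_on with
    | of m =>
      have h1 : (1 : K) ∈ coeffIdeal φ m := by
        rw [coeffIdeal_eq_top φ hmono m]; trivial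
      exact h1
    | add x y hx hy => exact add_mem hx hy
    | smul r x hx => exact Subalgebra.smul_mem _ hx r
  exact h

end Graded

section Diag

variable {K : Type u} [CommRing K] {A : Type u} [CommRing A] [HopfAlgebra K A]
  {C : Type u} [CommRing C] [HopfAlgebra K C]

theorem surjective_of_mono_of_isDiag (hA : IsDiag K A) (φ : C →ₐc[K] A)
    (hmono : IsMonoPts K A C (φ : C →ₐ[K] A)) : Function.Surjective φ := by
  obtain ⟨M, _, ⟨e⟩⟩ := hA
  let φ' : C →ₐc[K] MonoidAlgebra K M := (e : A →ₐc[K] MonoidAlgebra K M).comp φ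
  have hmono' : IsMonoPts K (MonoidAlgebra K M) C (φ' : C →ₐ[K] MonoidAlgebra K M) := by
    intro T _ _ x y hxy
    have h1 : (x.comp ((e : A →ₐc[K] MonoidAlgebra K M) : A →ₐ[K] MonoidAlgebra K M)).comp
        (φ : C →ₐ[K] A) =
        (y.comp ((e : A →ₐc[K] MonoidAlgebra K M) : A →ₐ[K] MonoidAlgebra K M)).comp
        (φ : C →ₐ[K] A) := by
      apply AlgHom.ext
      intro c
      exact congrArg (fun f => f c) hxy
    have h2 := hmono T h1
    apply AlgHom.ext
    intro b
    obtain ⟨a, rfl⟩ := e.surjective b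
    exact congrArg (fun f => f a) h2
  have hs := surjective_of_mono_monoidAlgebra φ' hmono'
  intro a
  obtain ⟨c, hc⟩ := hs (e a)
  exact ⟨c, e.injective hc⟩

end Diag

section BaseChange

variable (K : Type u) [CommRing K] {A : Type u} [CommRing A] [HopfAlgebra K A]
  {C : Type u} [CommRing C] [HopfAlgebra K C] (K' : Type u) [CommRing K'] [Algebra K K']

/-- base change of a bialgebra map -/
noncomputable def bcHom (φ : C →ₐc[K] A) : K' ⊗[K] C →ₐc[K'] K' ⊗[K] A :=
  Bialgebra.TensorProduct.map (BialgHom.id K' K') φ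

lemma bcHom_tmul (φ : C →ₐc[K] A) (k : K') (c : C) :
    bcHom K K' φ (k ⊗ₜ[K] c) = k ⊗ₜ[K] φ c := rfl

lemma bcHom_apply (φ : C →ₐc[K] A) (x : K' ⊗[K] C) :
    bcHom K K' φ x = LinearMap.lTensor K' (φ : C →ₗ[K] A) x := by
  induction x using TensorProduct.induction_on with
  | zero => simp
  | tmul k c => rfl
  | add x y hx hy => rw [map_add, map_add, hx, hy]

/-- the monomorphism property is stable under base change. -/
theorem IsMonoPts.baseChange (φ : C →ₐc[K] A) (h : IsMonoPts K A C (φ : C →ₐ[K] A)) :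
    IsMonoPts K' (K' ⊗[K] A) (K' ⊗[K] C) (bcHom K K' φ : K' ⊗[K] C →ₐ[K'] K' ⊗[K] A) := by
  intro T _ _ x y hxy
  letI : Algebra K T := ((algebraMap K' T).comp (algebraMap K K')).toAlgebra
  haveI : IsScalarTower K K' T := IsScalarTower.of_algebraMap_eq (fun _ => rfl)
  let x₀ : A →ₐ[K] T := (x.restrictScalars K).comp Algebra.TensorProduct.includeRight
  let y₀ : A →ₐ[K] T := (y.restrictScalars K).comp Algebra.TensorProduct.includeRight
  have h0 : x₀.comp (φ : C →ₐ[K] A) = y₀.comp (φ : C →ₐ[K] A) := by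
    apply AlgHom.ext
    intro c
    exact congrArg (fun f => f ((1 : K') ⊗ₜ[K] c)) hxy
  have h1 := h T h0
  apply Algebra.TensorProduct.ext
  · ext
  · exact h1

/-- surjectivity descends along faithfully flat base change. -/
theorem surjective_of_bcHom_surjective [Module.FaithfullyFlat K K'] (φ : C →ₐc[K] A)
    (h : Function.Surjective (bcHom K K' φ)) : Function.Surjective φ := by
  have h1 : Function.Surjective (LinearMap.lTensor K' (φ : C →ₗ[K] A)) := by
    intro y
    obtain ⟨x, hx⟩ := h y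
    exact ⟨x, by rw [← bcHom_apply, hx]⟩
  exact (Module.FaithfullyFlat.lTensor_surjective_iff_surjective K K' (φ : C →ₗ[K] A)).mp h1

end BaseChange

section Global

variable (R : Type u) [CommRing R] {A : Type u} [CommRing A] [HopfAlgebra R A]
  {C : Type u} [CommRing C] [HopfAlgebra R C]

/-- surjectivity is local on the base. -/
theorem surjective_of_localizations (φ : C →ₐc[R] A) (s : Set R) (hs : Ideal.span s = ⊤)
    (h : ∀ f ∈ s, Function.Surjective (bcHom R (Localization.Away f) φ)) :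
    Function.Surjective φ := by
  have key := surjective_of_isLocalized_span s hs
    (fun r => Localization.Away r.1 ⊗[R] C)
    (fun r => TensorProduct.mk R (Localization.Away r.1) C 1)
    (fun r => Localization.Away r.1 ⊗[R] A)
    (fun r => TensorProduct.mk R (Localization.Away r.1) A 1)
    (φ : C →ₗ[R] A) ?_
  · exact key
  intro r
  have heq : IsLocalizedModule.map (Submonoid.powers r.1)
      (TensorProduct.mk R (Localization.Away r.1) C 1)
      (TensorProduct.mk R (Localization.Away r.1) A 1) (φ : C →ₗ[R] A) =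
      ((bcHom R (Localization.Away r.1) φ : Localization.Away r.1 ⊗[R] C →ₐ[Localization.Away r.1]
        Localization.Away r.1 ⊗[R] A).toLinearMap.restrictScalars R) := by
    apply IsLocalizedModule.linearMap_ext (Submonoid.powers r.1)
      (TensorProduct.mk R (Localization.Away r.1) C 1)
      (TensorProduct.mk R (Localization.Away r.1) A 1)
    rw [IsLocalizedModule.map_comp]
    ext c
    rfl
  rw [heq]
  exact h r.1 r.2

theorem main (hA : IsMultType R A) (φ : C →ₐc[R] A)
    (hmono : IsMonoPts R A C (φ : C →ₐ[R] A)) : Function.Surjective φ := by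
  obtain ⟨s, hs, hloc⟩ := hA
  apply surjective_of_localizations R φ s hs
  intro f hf
  obtain ⟨K', _, _, hff, hdiag⟩ := hloc f hf
  have hm1 := IsMonoPts.baseChange R (Localization.Away f) φ hmono
  have hm2 := IsMonoPts.baseChange (Localization.Away f) K' (bcHom R (Localization.Away f) φ) hm1
  have hsurj := surjective_of_mono_of_isDiag hdiag _ hm2
  exact surjective_of_bcHom_surjective (Localization.Away f) K' _ hsurj

end Global

end Groth.Agent.Lib.Helper77.MultMono
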