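import Mathlib
import Groth.Agent.Lib.Helper77.MultMono

/-!
# Closed subgroups of multiplicative type of diagonalisable groups over a connected base

If `θ : R[M] → B` is a surjective bialgebra map, `B` is of multiplicative type and `Spec R` is
connected, then `B ≃ R[M/N]` where `N` is the kernel of `m ↦ θ(m)`.  The point is that the locus
where a group-like element `g` of `B` equals `1` is open and closed: the annihilator of `g - 1` is,
fpqc-locally, generated by an idempotent (the coefficient at `1` of the image of `g` in a chart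
`R'[M']`), hence it is a finitely generated idempotent ideal of `R`, hence `0` or `R`.
-/

set_option autoImplicit false
universe u
open TensorProduct

namespace Groth.Agent.Lib.Helper77.DiagSub
open SGA3b Groth.Agent.Lib.Helper77.MultMono


section GroupLike
variable {K : Type u} [CommRing K] {M : Type u} [CommGroup M]
open MonoidAlgebra

/-- `x ⊗ y ↦ x_m y_n` -/
noncomputable def lam2 (m n : M) : MonoidAlgebra K M ⊗[K] MonoidAlgebra K M →ₗ[K] K :=
  LinearMap.mul' K K ∘ₗ TensorProduct.map (coeffL K M m) (coeffL K M n)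

lemma lam2_tmul (m n : M) (x y : MonoidAlgebra K M) :
    lam2 m n (x ⊗ₜ[K] y) = x.coeff m * y.coeff n := by
  simp [lam2, coeffL_apply]

open Classical in
lemma lam2_comul (m n : M) (x : MonoidAlgebra K M) :
    lam2 m n (Coalgebra.comul (R := K) x) = if m = n then x.coeff m else 0 := by
  classical
  induction x using MonoidAlgebra.induction_on with
  | of k =>
    rw [MonoidAlgebra.of_apply, MonoidAlgebra.comul_single]
    simp only [CommSemiring.comul_apply, TensorProduct.map_tmul, MonoidAlgebra.lsingle_apply]
    rw [lam2_tmul, MonoidAlgebra.coeff_single, Finsupp.single_apply, Finsupp.single_apply]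
    split_ifs <;> simp_all
  | add x y hx hy =>
    rw [map_add, map_add, hx, hy, MonoidAlgebra.coeff_add, Finsupp.add_apply]
    split_ifs <;> simp
  | smul r x hx =>
    rw [map_smul, map_smul, hx, MonoidAlgebra.coeff_smul, Finsupp.smul_apply]
    split_ifs <;> simp

open Classical in
/-- the coefficients of a group-like element are orthogonal idempotents. -/
lemma coeff_mul_coeff_of_isGroupLikeElem {w : MonoidAlgebra K M} (hw : IsGroupLikeElem K w)
    (m n : M) : w.coeff m * w.coeff n = if m = n then w.coeff m else 0 := by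
  rw [← lam2_tmul, ← hw.comul_eq_tmul_self, lam2_comul]

/-- annihilator of `w - 1` for `w` group-like. -/
lemma torsionOf_sub_one_of_isGroupLikeElem {w : MonoidAlgebra K M} (hw : IsGroupLikeElem K w) :
    Ideal.torsionOf K (MonoidAlgebra K M) (w - 1) = Ideal.span {w.coeff 1} := by
  classical
  ext r
  rw [Ideal.mem_torsionOf_iff, Ideal.mem_span_singleton']
  constructor
  · intro h
    refine ⟨r, ?_⟩
    have h1 := congrArg (fun x : MonoidAlgebra K M => x.coeff 1) h
    simp only [MonoidAlgebra.coeff_smul, Finsupp.smul_apply, MonoidAlgebra.coeff_sub,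
      Finsupp.sub_apply, MonoidAlgebra.one_def, MonoidAlgebra.coeff_single,
      Finsupp.single_apply, if_true,
      MonoidAlgebra.coeff_zero, Finsupp.zero_apply, smul_eq_mul] at h1
    linear_combination h1
  · rintro ⟨a, rfl⟩
    apply MonoidAlgebra.ext
    apply Finsupp.ext
    intro m
    simp only [MonoidAlgebra.coeff_smul, Finsupp.smul_apply, MonoidAlgebra.coeff_sub,
      Finsupp.sub_apply, MonoidAlgebra.one_def, MonoidAlgebra.coeff_single, Finsupp.single_apply,
      MonoidAlgebra.coeff_zero, Finsupp.zero_apply, smul_eq_mul]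
    have h11 := coeff_mul_coeff_of_isGroupLikeElem hw 1 1
    rw [if_pos rfl] at h11
    by_cases hm : 1 = m
    · subst hm
      rw [if_pos rfl]
      linear_combination a * h11
    · rw [if_neg hm, sub_zero]
      have h1m := coeff_mul_coeff_of_isGroupLikeElem hw 1 m
      rw [if_neg hm] at h1m
      linear_combination a * h1m

lemma isIdempotentElem_coeff_of_isGroupLikeElem {w : MonoidAlgebra K M}
    (hw : IsGroupLikeElem K w) (m : M) : IsIdempotentElem (w.coeff m) := by
  have := coeff_mul_coeff_of_isGroupLikeElem hw m m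
  rwa [if_pos rfl] at this

end GroupLike

section Flat

variable (R : Type u) [CommRing R] (S : Type u) [CommRing S] [Algebra R S]
  {N : Type u} [AddCommGroup N] [Module R N]

/-- flat base change of the annihilator of an element. -/
theorem torsionOf_baseChange [Module.Flat R S] (y : N) :
    Ideal.torsionOf S (S ⊗[R] N) ((1 : S) ⊗ₜ[R] y) =
      Ideal.map (algebraMap R S) (Ideal.torsionOf R N y) := by
  apply le_antisymm
  · intro s hs
    rw [Ideal.mem_torsionOf_iff, TensorProduct.smul_tmul', smul_eq_mul, mul_one] at hs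
    let g : R →ₗ[R] N := LinearMap.toSpanSingleton R N y
    have hex : Function.Exact (LinearMap.ker g).subtype g := LinearMap.exact_subtype_ker_map g
    have hex' := Module.Flat.lTensor_exact S hex
    have h0 : LinearMap.lTensor S g (s ⊗ₜ[R] (1 : R)) = 0 := by
      rw [LinearMap.lTensor_tmul]
      simpa [g] using hs
    obtain ⟨t, ht⟩ := (hex' _).mp h0
    have h1 : (TensorProduct.rid R S) (s ⊗ₜ[R] (1 : R)) = s := by simp
    rw [← h1, ← ht]
    clear ht h0 h1 hs
    induction t using TensorProduct.induction_on with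
    | zero => simp
    | tmul s' a =>
      rw [LinearMap.lTensor_tmul, TensorProduct.rid_tmul, Algebra.smul_def]
      exact Ideal.mul_mem_right _ _ (Ideal.mem_map_of_mem _ a.2)
    | add x y hx hy => rw [map_add, map_add]; exact add_mem hx hy
  · rw [Ideal.map_le_iff_le_comap]
    intro a ha
    rw [Ideal.mem_torsionOf_iff] at ha
    rw [Ideal.mem_comap, Ideal.mem_torsionOf_iff, TensorProduct.smul_tmul', smul_eq_mul, mul_one,
      Algebra.algebraMap_eq_smul_one, TensorProduct.smul_tmul, ha, TensorProduct.tmul_zero]

end Flat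

section Descent

variable {K : Type u} [CommRing K] (S : Type u) [CommRing S] [Algebra K S]

/-- an ideal whose extension to a faithfully flat algebra is generated by an idempotent is
finitely generated and idempotent. -/
theorem fg_and_idempotent_of_map_eq_span [Module.FaithfullyFlat K S] (I : Ideal K) (c : S)
    (hc : IsIdempotentElem c) (hI : I.map (algebraMap K S) = Ideal.span {c}) :
    I.FG ∧ IsIdempotentElem I := by
  classical
  constructor
  · have hcI : c ∈ Ideal.span ((algebraMap K S) '' (I : Set K)) := by
      have : c ∈ I.map (algebraMap K S) := by rw [hI]; exact Ideal.mem_span_singleton_self c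
      exact this
    obtain ⟨T, hT, hcT⟩ := Submodule.mem_span_finite_of_mem_span hcI
    obtain ⟨T', hT', rfl⟩ := Finset.subset_set_image_iff.mp hT
    refine ⟨T', ?_⟩
    have hle : Ideal.span (T' : Set K) ≤ I := Ideal.span_le.mpr hT'
    have hmap : (Ideal.span (T' : Set K)).map (algebraMap K S) = I.map (algebraMap K S) := by
      apply le_antisymm (Ideal.map_mono hle)
      rw [hI, Ideal.span_le, Set.singleton_subset_iff, Ideal.map_span]
      simpa using hcT
    rw [← Ideal.comap_map_eq_self_of_faithfullyFlat (B := S) (Ideal.span (T' : Set K)), hmap,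
      Ideal.comap_map_eq_self_of_faithfullyFlat]
  · have hmap : (I * I).map (algebraMap K S) = I.map (algebraMap K S) := by
      rw [Ideal.map_mul, hI, Ideal.span_singleton_mul_span_singleton, hc.eq]
    show I * I = I
    rw [← Ideal.comap_map_eq_self_of_faithfullyFlat (B := S) (I * I), hmap,
      Ideal.comap_map_eq_self_of_faithfullyFlat]

end Descent

section Local

variable {R : Type u} [CommRing R]

/-- local-to-global for finitely generated idempotent ideals. -/
theorem fg_and_idempotent_of_localizationSpan (s : Set R) (hs : Ideal.span s = ⊤) (I : Ideal R)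
    (h : ∀ f ∈ s, (I.map (algebraMap R (Localization.Away f))).FG ∧
      IsIdempotentElem (I.map (algebraMap R (Localization.Away f)))) :
    I.FG ∧ IsIdempotentElem I := by
  constructor
  · exact Ideal.fg_of_localizationSpan s hs (fun g => (h g.1 g.2).1)
  · show I * I = I
    refine Submodule.eq_of_isLocalized'_span s hs (fun r => Localization.Away r.1)
      (fun r => Localization.Away r.1) (fun r => Algebra.linearMap R (Localization.Away r.1)) ?_
    intro r
    rw [Ideal.localized'_eq_map, Ideal.localized'_eq_map, Ideal.map_mul]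
    exact (h r.1 r.2).2

/-- in a connected ring, a finitely generated idempotent ideal is trivial. -/
theorem eq_bot_or_eq_top_of_fg_idempotent (hconn : ∀ e : R, IsIdempotentElem e → e = 0 ∨ e = 1)
    (I : Ideal R) (hfg : I.FG) (hI : IsIdempotentElem I) : I = ⊥ ∨ I = ⊤ := by
  obtain ⟨e, he, rfl⟩ := (Ideal.isIdempotentElem_iff_of_fg I hfg).mp hI
  rcases hconn e he with rfl | rfl
  · left; simp
  · right; simp

end Local

section BC

variable (K : Type u) [CommRing K] (K' : Type u) [CommRing K'] [Algebra K K']
  {A : Type u} [CommRing A] [HopfAlgebra K A]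

/-- base change of a group-like element. -/
lemma isGroupLikeElem_one_tmul {g : A} (hg : IsGroupLikeElem K g) :
    IsGroupLikeElem K' ((1 : K') ⊗ₜ[K] g) where
  counit_eq_one := by
    rw [TensorProduct.counit_tmul, hg.counit_eq_one]
    simp
  comul_eq_tmul_self := by
    rw [TensorProduct.comul_tmul, hg.comul_eq_tmul_self]
    simp

end BC

section Chart

variable {R : Type u} [CommRing R] {B : Type u} [CommRing B] [HopfAlgebra R B]

lemma torsionOf_linearEquiv {K : Type u} [CommRing K] {X Y : Type u} [AddCommGroup X] [Module K X]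
    [AddCommGroup Y] [Module K Y] (e : X ≃ₗ[K] Y) (x : X) :
    Ideal.torsionOf K Y (e x) = Ideal.torsionOf K X x := by
  ext r
  rw [Ideal.mem_torsionOf_iff, Ideal.mem_torsionOf_iff, ← map_smul, EmbeddingLike.map_eq_zero_iff]

/-- in a chart, the extension of the annihilator of `g - 1` is generated by the idempotent
coefficient at `1` of the image of `g`. -/
theorem chart_ideal {g : B} (hg : IsGroupLikeElem R g) (f : R)
    (R' : Type u) [CommRing R'] [Algebra (Localization.Away f) R']
    [Module.Flat (Localization.Away f) R'] (M' : Type u) [CommGroup M']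
    (ε : R' ⊗[Localization.Away f] (Localization.Away f ⊗[R] B) ≃ₐc[R'] MonoidAlgebra R' M') :
    ((Ideal.torsionOf R B (g - 1)).map (algebraMap R (Localization.Away f))).map
        (algebraMap (Localization.Away f) R') =
      Ideal.span {(ε ((1 : R') ⊗ₜ ((1 : Localization.Away f) ⊗ₜ[R] g))).coeff 1} ∧
    IsIdempotentElem ((ε ((1 : R') ⊗ₜ ((1 : Localization.Away f) ⊗ₜ[R] g))).coeff 1) := by
  have hw : IsGroupLikeElem R' (ε ((1 : R') ⊗ₜ ((1 : Localization.Away f) ⊗ₜ[R] g))) :=
    (isGroupLikeElem_one_tmul (Localization.Away f) R'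
      (isGroupLikeElem_one_tmul R (Localization.Away f) hg)).map ε
  refine ⟨?_, isIdempotentElem_coeff_of_isGroupLikeElem hw 1⟩
  rw [← torsionOf_sub_one_of_isGroupLikeElem hw, ← torsionOf_baseChange R (Localization.Away f),
    ← torsionOf_baseChange (Localization.Away f) R']
  have h1 : ε ((1 : R') ⊗ₜ ((1 : Localization.Away f) ⊗ₜ[R] g)) - 1 =
      ε ((1 : R') ⊗ₜ ((1 : Localization.Away f) ⊗ₜ[R] (g - 1))) := by
    rw [TensorProduct.tmul_sub, TensorProduct.tmul_sub, map_sub]
    congr 1
    rw [← Algebra.TensorProduct.one_def, ← Algebra.TensorProduct.one_def, map_one]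
  rw [h1]
  exact (torsionOf_linearEquiv
    (ε : (R' ⊗[Localization.Away f] (Localization.Away f ⊗[R] B)) ≃ₐ[R']
      MonoidAlgebra R' M').toLinearEquiv _).symm

variable (hconn : ∀ e : R, IsIdempotentElem e → e = 0 ∨ e = 1)
include hconn

/-- over a connected base, a nontrivial group-like element of a group of multiplicative type
has trivial annihilator of `g - 1`. -/
theorem torsionOf_sub_one_eq_bot (hB : IsMultType R B) {g : B} (hg : IsGroupLikeElem R g)
    (hg1 : g ≠ 1) : Ideal.torsionOf R B (g - 1) = ⊥ := by
  obtain ⟨s, hs, hch⟩ := hB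
  have h1 := fg_and_idempotent_of_localizationSpan s hs (Ideal.torsionOf R B (g - 1)) (by
    intro f hf
    obtain ⟨R', _, _, hff, M', _, ⟨ε⟩⟩ := hch f hf
    obtain ⟨h1, h2⟩ := chart_ideal hg f R' M' ε
    exact fg_and_idempotent_of_map_eq_span R' _ _ h2 h1)
  rcases eq_bot_or_eq_top_of_fg_idempotent hconn _ h1.1 h1.2 with h | h
  · exact h
  · exfalso
    rw [Ideal.torsionOf_eq_top_iff, sub_eq_zero] at h
    exact hg1 h

theorem coeff_one_eq_zero (hB : IsMultType R B) {g : B} (hg : IsGroupLikeElem R g)
    (hg1 : g ≠ 1) (f : R)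
    (R' : Type u) [CommRing R'] [Algebra (Localization.Away f) R']
    [Module.Flat (Localization.Away f) R'] (M' : Type u) [CommGroup M']
    (ε : R' ⊗[Localization.Away f] (Localization.Away f ⊗[R] B) ≃ₐc[R'] MonoidAlgebra R' M') :
    (ε ((1 : R') ⊗ₜ ((1 : Localization.Away f) ⊗ₜ[R] g))).coeff 1 = 0 := by
  have h := (chart_ideal hg f R' M' ε).1
  rw [torsionOf_sub_one_eq_bot hconn hB hg hg1, Ideal.map_bot, Ideal.map_bot] at h
  exact Ideal.span_singleton_eq_bot.mp h.symm

end Chart

section Main

variable {R : Type u} [CommRing R] {B : Type u} [CommRing B] [HopfAlgebra R B]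
  {M : Type u} [CommGroup M]

/-- the group-like element attached to `m`. -/
noncomputable def glHom (θ : MonoidAlgebra R M →ₐc[R] B) : M →* GroupLike R B where
  toFun m := ⟨θ (MonoidAlgebra.single m 1), (MonoidAlgebra.isGroupLikeElem_single_one m).map θ⟩
  map_one' := by
    ext
    show θ (MonoidAlgebra.single 1 1) = 1
    rw [← MonoidAlgebra.one_def, map_one]
  map_mul' m n := by
    ext
    show θ (MonoidAlgebra.single (m * n) 1) =
      θ (MonoidAlgebra.single m 1) * θ (MonoidAlgebra.single n 1)
    rw [← map_mul, MonoidAlgebra.single_mul_single, one_mul]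

/-- the character group of the image. -/
abbrev QGrp (θ : MonoidAlgebra R M →ₐc[R] B) : Type u := M ⧸ (glHom θ).ker

/-- the induced injective map from the quotient group to `B`. -/
noncomputable def ubar (θ : MonoidAlgebra R M →ₐc[R] B) : QGrp θ →* B :=
  (GroupLike.valMonoidHom R B).comp (QuotientGroup.kerLift (glHom θ))

lemma ubar_mk (θ : MonoidAlgebra R M →ₐc[R] B) (m : M) :
    ubar θ (QuotientGroup.mk m) = θ (MonoidAlgebra.single m 1) := rfl

lemma isGroupLikeElem_ubar (θ : MonoidAlgebra R M →ₐc[R] B) (q : QGrp θ) :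
    IsGroupLikeElem R (ubar θ q) :=
  (QuotientGroup.kerLift (glHom θ) q).2

lemma ubar_injective (θ : MonoidAlgebra R M →ₐc[R] B) : Function.Injective (ubar θ) := by
  intro a b h
  exact QuotientGroup.kerLift_injective (glHom θ) (GroupLike.val_injective h)

/-- the induced algebra map from the group algebra of the quotient. -/
noncomputable def thetaBarAlg (θ : MonoidAlgebra R M →ₐc[R] B) :
    MonoidAlgebra R (QGrp θ) →ₐ[R] B :=
  MonoidAlgebra.lift R B (QGrp θ) (ubar θ)

lemma thetaBarAlg_single (θ : MonoidAlgebra R M →ₐc[R] B) (q : QGrp θ) (r : R) :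
    thetaBarAlg θ (MonoidAlgebra.single q r) = r • ubar θ q := by
  simp [thetaBarAlg, MonoidAlgebra.lift_apply]

/-- the induced bialgebra map. -/
noncomputable def thetaBar (θ : MonoidAlgebra R M →ₐc[R] B) :
    MonoidAlgebra R (QGrp θ) →ₐc[R] B :=
  BialgHom.ofAlgHom (thetaBarAlg θ)
    (by
      refine MonoidAlgebra.algHom_ext ?_ (Subsingleton.elim _ _)
      intro q
      simp only [AlgHom.comp_apply, Bialgebra.counitAlgHom_apply]
      rw [thetaBarAlg_single, one_smul, (isGroupLikeElem_ubar θ q).counit_eq_one,
        (MonoidAlgebra.isGroupLikeElem_single_one q).counit_eq_one])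
    (by
      refine MonoidAlgebra.algHom_ext ?_ (Subsingleton.elim _ _)
      intro q
      simp only [AlgHom.comp_apply, Bialgebra.comulAlgHom_apply]
      rw [thetaBarAlg_single, one_smul, (isGroupLikeElem_ubar θ q).comul_eq_tmul_self,
        (MonoidAlgebra.isGroupLikeElem_single_one q).comul_eq_tmul_self,
        Algebra.TensorProduct.map_tmul, thetaBarAlg_single, one_smul])

lemma thetaBar_apply (θ : MonoidAlgebra R M →ₐc[R] B) (x : MonoidAlgebra R (QGrp θ)) :
    thetaBar θ x = thetaBarAlg θ x := rfl

lemma thetaBar_surjective (θ : MonoidAlgebra R M →ₐc[R] B) (hθ : Function.Surjective θ) :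
    Function.Surjective (thetaBar θ) := by
  have h : (θ : MonoidAlgebra R M →ₐ[R] B) = (thetaBarAlg θ).comp
      (MonoidAlgebra.mapDomainAlgHom R R (QuotientGroup.mk' (glHom θ).ker)) := by
    refine MonoidAlgebra.algHom_ext ?_ (Subsingleton.elim _ _)
    intro m
    simp only [AlgHom.comp_apply, MonoidAlgebra.mapDomainAlgHom_apply]
    rw [MonoidAlgebra.mapDomain_single]
    show _ = thetaBarAlg θ (MonoidAlgebra.single _ 1)
    rw [thetaBarAlg_single, one_smul]
    rfl
  intro b
  obtain ⟨x, rfl⟩ := hθ b
  refine ⟨MonoidAlgebra.mapDomainAlgHom R R (QuotientGroup.mk' (glHom θ).ker) x, ?_⟩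
  rw [thetaBar_apply]
  exact (congrArg (fun φ : MonoidAlgebra R M →ₐ[R] B => φ x) h).symm

section ChartL

variable (f : R) (R' : Type u) [CommRing R'] [Algebra (Localization.Away f) R']
  (M' : Type u) [CommGroup M']
  (ε : R' ⊗[Localization.Away f] (Localization.Away f ⊗[R] B) ≃ₐc[R'] MonoidAlgebra R' M')

/-- the coefficient at `1` of the image in a chart, as an additive map. -/
noncomputable def chartL : B →+ R' where
  toFun b := (ε ((1 : R') ⊗ₜ ((1 : Localization.Away f) ⊗ₜ[R] b))).coeff 1
  map_zero' := by simp
  map_add' a b := by simp [TensorProduct.tmul_add]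

lemma chartL_apply (b : B) : chartL f R' M' ε b =
    (ε ((1 : R') ⊗ₜ ((1 : Localization.Away f) ⊗ₜ[R] b))).coeff 1 := rfl

lemma chartL_one : chartL f R' M' ε 1 = 1 := by
  rw [chartL_apply, ← Algebra.TensorProduct.one_def, ← Algebra.TensorProduct.one_def, map_one ε]
  simp [MonoidAlgebra.one_def]

lemma chartL_smul (r : R) (b : B) : chartL f R' M' ε (r • b) =
    algebraMap (Localization.Away f) R' (algebraMap R (Localization.Away f) r) *
      chartL f R' M' ε b := by
  rw [chartL_apply, chartL_apply]
  have h1 : (1 : Localization.Away f) ⊗ₜ[R] (r • b) =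
      (algebraMap R (Localization.Away f) r) • ((1 : Localization.Away f) ⊗ₜ[R] b) := by
    rw [TensorProduct.smul_tmul', smul_eq_mul, mul_one, Algebra.algebraMap_eq_smul_one,
      TensorProduct.smul_tmul]
  have h2 : ∀ (a : Localization.Away f) (x : Localization.Away f ⊗[R] B),
      (1 : R') ⊗ₜ[Localization.Away f] (a • x) =
        (algebraMap (Localization.Away f) R' a) • ((1 : R') ⊗ₜ[Localization.Away f] x) := by
    intro a x
    rw [TensorProduct.smul_tmul', smul_eq_mul, mul_one, Algebra.algebraMap_eq_smul_one,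
      TensorProduct.smul_tmul]
  rw [h1, h2, map_smul, MonoidAlgebra.coeff_smul, Finsupp.smul_apply, smul_eq_mul]

end ChartL

variable (hconn : ∀ e : R, IsIdempotentElem e → e = 0 ∨ e = 1)
include hconn

theorem coeff_one_eq_zero_of_thetaBarAlg_eq_zero (hB : IsMultType R B)
    (θ : MonoidAlgebra R M →ₐc[R] B) (y : MonoidAlgebra R (QGrp θ)) (hy : thetaBarAlg θ y = 0) :
    y.coeff 1 = 0 := by
  classical
  obtain ⟨s, hs, hch⟩ := id hB
  apply Module.eq_zero_of_isLocalized_span s hs (fun r => Localization.Away r.1)
    (fun r => Algebra.linearMap R (Localization.Away r.1))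
  intro r
  obtain ⟨R', _, _, hff, M', _, ⟨ε⟩⟩ := hch r.1 r.2
  have hinj : Function.Injective (algebraMap (Localization.Away r.1) R') :=
    FaithfulSMul.algebraMap_injective _ _
  apply hinj
  rw [map_zero]
  have h1 : chartL r.1 R' M' ε (thetaBarAlg θ y) =
      algebraMap _ R' (algebraMap R (Localization.Away r.1) (y.coeff 1)) := by
    rw [thetaBarAlg, MonoidAlgebra.lift_apply, Finsupp.sum, map_sum]
    rw [Finset.sum_eq_single 1]
    · rw [chartL_smul, map_one (ubar θ), chartL_one, mul_one]
    · intro q _ hq
      have hq1 : ubar θ q ≠ 1 := by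
        rw [← map_one (ubar θ)]
        exact fun h => hq (ubar_injective θ h)
      rw [chartL_smul, chartL_apply,
        coeff_one_eq_zero hconn hB (isGroupLikeElem_ubar θ q) hq1, mul_zero]
    · intro h1
      rw [Finsupp.notMem_support_iff.mp h1]
      simp
  exact h1.symm.trans (by rw [hy, map_zero])

theorem thetaBar_injective (hB : IsMultType R B) (θ : MonoidAlgebra R M →ₐc[R] B) :
    Function.Injective (thetaBar θ) := by
  rw [injective_iff_map_eq_zero]
  intro x hx
  apply MonoidAlgebra.ext
  apply Finsupp.ext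
  intro q
  have h1 : (x * MonoidAlgebra.single q⁻¹ 1).coeff 1 = x.coeff q := by
    rw [MonoidAlgebra.coeff_mul_single_eq_coeff_mul (m₂ := q), mul_one]
    intro m' _
    exact mul_inv_eq_one
  rw [← h1]
  apply coeff_one_eq_zero_of_thetaBarAlg_eq_zero hconn hB θ
  rw [map_mul, ← thetaBar_apply, hx, zero_mul]

theorem isDiag_of_surjective (hB : IsMultType R B) (θ : MonoidAlgebra R M →ₐc[R] B)
    (hθ : Function.Surjective θ) : IsDiag R B :=
  ⟨QGrp θ, inferInstance, ⟨(BialgEquiv.ofBijective (thetaBar θ)
    ⟨thetaBar_injective hconn hB θ, thetaBar_surjective θ hθ⟩).symm⟩⟩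

end Main

end Groth.Agent.Lib.Helper77.DiagSub
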