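import Mathlib

set_option autoImplicit false
universe u v w w'

namespace Groth.Agent.Lib.Helper77.Deligne

open WithConv LinearMap Coalgebra TensorProduct

section L1

variable (R : Type u) [CommRing R] (A : Type v) [CommRing A] [HopfAlgebra R A]
  [Coalgebra.IsCocomm R A]

/-- the convolution ring of functionals -/
abbrev B := WithConv (A →ₗ[R] R)
/-- the convolution ring of endomorphisms -/
abbrev M := WithConv (A →ₗ[R] A)

variable {R A}

/-- post-composition with an algebra hom as ring hom of convolution rings. -/
noncomputable def post {S : Type w} {T : Type w'} [CommRing S] [Algebra R S] [CommRing T] [Algebra R T]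
    (h : S →ₐ[R] T) : WithConv (A →ₗ[R] S) →+* WithConv (A →ₗ[R] T) where
  toFun f := toConv (h.toLinearMap.comp f.ofConv)
  map_one' := by
    apply WithConv.ext
    ext x
    simp
  map_mul' f g := by
    apply WithConv.ext
    exact LinearMap.algHom_comp_convMul_distrib h f g
  map_zero' := by
    apply WithConv.ext
    ext x
    simp
  map_add' f g := by
    apply WithConv.ext
    ext x
    simp

@[simp] theorem post_apply {S : Type w} {T : Type w'} [CommRing S] [Algebra R S] [CommRing T] [Algebra R T]
    (h : S →ₐ[R] T) (f : WithConv (A →ₗ[R] S)) (x : A) : post h f x = h (f x) := rfl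

variable (R A)

/-- `M` as a `B`-algebra. -/
noncomputable abbrev algBM : Algebra (B R A) (M R A) := (post (Algebra.ofId R A)).toAlgebra

attribute [local instance] algBM

theorem algebraMap_BM_apply (f : B R A) (x : A) :
    algebraMap (B R A) (M R A) f x = algebraMap R A (f x) := rfl

theorem smul_BM_apply (f : B R A) (g : M R A) : f • g = algebraMap (B R A) (M R A) f * g :=
  Algebra.smul_def f g

variable {R A}

/-- post-composition with an algebra endomorphism is a `B`-algebra hom of `M`. -/
noncomputable def postAlg (τ : A →ₐ[R] A) : M R A →ₐ[B R A] M R A :=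
  { post τ with
    commutes' := by
      intro f
      apply WithConv.ext
      ext x
      show τ (algebraMap R A (f x)) = algebraMap R A (f x)
      simp }

@[simp] theorem postAlg_apply (τ : A →ₐ[R] A) (g : M R A) (x : A) : postAlg τ g x = τ (g x) := rfl

/-- post-composition with an algebra automorphism. -/
noncomputable def postEquiv (τ σ : A →ₐ[R] A) (h1 : τ.comp σ = AlgHom.id R A)
    (h2 : σ.comp τ = AlgHom.id R A) : M R A ≃ₐ[B R A] M R A :=
  AlgEquiv.ofAlgHom (postAlg τ) (postAlg σ)
    (by
      apply AlgHom.ext
      intro g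
      apply WithConv.ext
      ext x
      show τ (σ (g x)) = g x
      rw [← AlgHom.comp_apply, h1]; rfl)
    (by
      apply AlgHom.ext
      intro g
      apply WithConv.ext
      ext x
      show σ (τ (g x)) = g x
      rw [← AlgHom.comp_apply, h2]; rfl)

end L1

section L1b

variable {R : Type u} [CommRing R] {A : Type v} [CommRing A] [HopfAlgebra R A]
  [Coalgebra.IsCocomm R A]

attribute [local instance] algBM

theorem smul_BM_apply' (f : B R A) (g : M R A) (x : A) {κ : Type*} (𝓡 : Coalgebra.Repr R x κ) :
    (f • g) x = ∑ i ∈ 𝓡.index, f (𝓡.left i) • g (𝓡.right i) := by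
  rw [smul_BM_apply, 𝓡.convMul_apply]
  apply Finset.sum_congr rfl
  intro i _
  rw [algebraMap_BM_apply, Algebra.smul_def]

variable {ι : Type w} [Fintype ι] [DecidableEq ι] (e : Module.Basis ι R A)

/-- coordinates of `M` over `B`. -/
noncomputable def coordEquiv : M R A ≃ₗ[B R A] (ι → B R A) where
  toFun g i := toConv ((e.coord i).comp g.ofConv)
  map_add' g h := by
    funext i
    apply WithConv.ext
    ext x
    simp
  map_smul' f g := by
    funext i
    apply WithConv.ext
    ext x
    have 𝓡 := Coalgebra.Repr.arbitrary R x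
    show e.coord i ((f • g) x) = (f * toConv ((e.coord i).comp g.ofConv)) x
    rw [smul_BM_apply' f g x 𝓡, 𝓡.convMul_apply, map_sum]
    apply Finset.sum_congr rfl
    intro j _
    rw [map_smul]
    rfl
  invFun f := toConv (∑ i, (f i).ofConv.smulRight (e i))
  left_inv g := by
    apply WithConv.ext
    ext x
    simp only [ofConv_toConv, LinearMap.coe_sum, Finset.sum_apply, LinearMap.smulRight_apply,
      LinearMap.coe_comp, Function.comp_apply, Module.Basis.coord_apply]
    exact e.sum_repr (g x)
  right_inv f := by
    funext i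
    apply WithConv.ext
    ext x
    simp only [ofConv_toConv, LinearMap.coe_comp, Function.comp_apply, LinearMap.coe_sum,
      Finset.sum_apply, LinearMap.smulRight_apply, map_sum, map_smul, Module.Basis.coord_apply,
      Module.Basis.repr_self, smul_eq_mul]
    simp [Finsupp.single_apply]

end L1b


section L1c

variable {R : Type u} [CommRing R] {A : Type v} [CommRing A] [HopfAlgebra R A]
  [Coalgebra.IsCocomm R A]

attribute [local instance] algBM

/-- linearisation of a point, as an element of `B`. -/
noncomputable def lin : WithConv (A →ₐ[R] R) →* B R A where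
  toFun w := toConv w.ofConv.toLinearMap
  map_one' := AlgHom.toLinearMap_convOne
  map_mul' f g := AlgHom.toLinearMap_convMul f g

theorem lin_injective : Function.Injective (lin (R := R) (A := A)) := by
  intro f g h
  apply WithConv.ofConv_injective
  apply AlgHom.toLinearMap_injective
  exact WithConv.toConv_injective h

/-- translation by a point -/
noncomputable def transl (w : WithConv (A →ₐ[R] R)) : A →ₐ[R] A :=
  (Algebra.TensorProduct.lid R A).toAlgHom.comp
    ((Algebra.TensorProduct.map w.ofConv (AlgHom.id R A)).comp (Bialgebra.comulAlgHom R A))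

/-- identity as element of `M`. -/
noncomputable abbrev idM : M R A := toConv LinearMap.id

theorem transl_toLinearMap (w : WithConv (A →ₐ[R] R)) :
    (toConv (transl w).toLinearMap : M R A) = algebraMap (B R A) (M R A) (lin w) * idM := by
  apply WithConv.ext
  ext x
  have 𝓡 := Coalgebra.Repr.arbitrary R x
  show (transl w) x = _
  rw [𝓡.convMul_apply]
  unfold transl
  simp only [AlgEquiv.toAlgHom_eq_coe, AlgHom.coe_comp, AlgHom.coe_coe, Function.comp_apply,
    Bialgebra.comulAlgHom_apply]
  rw [← 𝓡.eq]
  simp only [map_sum, Algebra.TensorProduct.map_tmul, AlgHom.coe_id, id_eq,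
    Algebra.TensorProduct.lid_tmul]
  apply Finset.sum_congr rfl
  intro i _
  rw [algebraMap_BM_apply]
  erw [Algebra.TensorProduct.lid_tmul]
  rw [Algebra.smul_def]
  rfl

theorem postAlg_toLinearMap (τ σ : A →ₐ[R] A) :
    postAlg τ (toConv σ.toLinearMap) = toConv (τ.comp σ).toLinearMap := rfl

theorem postAlg_idM (τ : A →ₐ[R] A) : postAlg τ idM = toConv τ.toLinearMap := rfl

theorem transl_comp (w w' : WithConv (A →ₐ[R] R)) :
    (transl w).comp (transl w') = transl (w' * w) := by
  apply AlgHom.toLinearMap_injective
  apply WithConv.toConv_injective (A := A →ₗ[R] A)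
  rw [← postAlg_toLinearMap, transl_toLinearMap w', map_mul, AlgHom.commutes, postAlg_idM,
    transl_toLinearMap w, transl_toLinearMap, map_mul, map_mul, mul_assoc]

theorem transl_one : transl (1 : WithConv (A →ₐ[R] R)) = AlgHom.id R A := by
  apply AlgHom.toLinearMap_injective
  apply WithConv.toConv_injective (A := A →ₗ[R] A)
  rw [transl_toLinearMap, map_one, map_one, one_mul]
  rfl

theorem isUnit_idM : IsUnit (idM : M R A) :=
  IsUnit.of_mul_eq_one _ LinearMap.id_mul_antipode

variable {ι : Type w} [Fintype ι] [DecidableEq ι] (e : Module.Basis ι R A)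

include e in
theorem pow_card_eq_one (w : WithConv (A →ₐ[R] R)) : w ^ Fintype.card ι = 1 := by
  have h1 : (transl w).comp (transl w⁻¹) = AlgHom.id R A := by
    rw [transl_comp, inv_mul_cancel, transl_one]
  have h2 : (transl w⁻¹).comp (transl w) = AlgHom.id R A := by
    rw [transl_comp, mul_inv_cancel, transl_one]
  have key := Algebra.norm_eq_of_algEquiv (postEquiv (transl w) (transl w⁻¹) h1 h2) (idM : M R A)
  have h3 : postEquiv (transl w) (transl w⁻¹) h1 h2 idM =
      algebraMap (B R A) (M R A) (lin w) * idM := by
    rw [← transl_toLinearMap]; rfl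
  rw [h3, map_mul] at key
  have bM : Module.Basis ι (B R A) (M R A) := Module.Basis.ofEquivFun (coordEquiv e)
  rw [Algebra.norm_algebraMap_of_basis bM] at key
  have hu : IsUnit (Algebra.norm (B R A) (idM : M R A)) := isUnit_idM.map _
  have h4 : (lin w) ^ Fintype.card ι = 1 := by
    have := hu.mul_left_injective (a₁ := (lin w) ^ Fintype.card ι) (a₂ := 1)
    apply this
    simp only [one_mul]
    exact key
  apply lin_injective
  rw [map_pow, map_one, h4]

end L1c


section BC

variable (R : Type u) [CommRing R] (S : Type w) [CommRing S] [Algebra R S]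
  (A : Type v) [CommRing A] [HopfAlgebra R A]
  (T : Type w') [CommRing T] [Algebra S T] [Algebra R T] [IsScalarTower R S T]

/-- restriction of a point of the base change to a point of the original. -/
noncomputable def res (f : WithConv (S ⊗[R] A →ₐ[S] T)) : WithConv (A →ₐ[R] T) :=
  toConv ((f.ofConv.restrictScalars R).comp Algebra.TensorProduct.includeRight)

theorem res_apply (f : WithConv (S ⊗[R] A →ₐ[S] T)) (a : A) :
    res R S A T f a = f ((1 : S) ⊗ₜ[R] a) := rfl

theorem res_mul (f g : WithConv (S ⊗[R] A →ₐ[S] T)) :
    res R S A T (f * g) = res R S A T f * res R S A T g := by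
  apply WithConv.ext
  apply AlgHom.ext
  intro a
  have 𝓡 := Coalgebra.Repr.arbitrary R a
  show (f * g) ((1 : S) ⊗ₜ[R] a) = (res R S A T f * res R S A T g) a
  rw [AlgHom.convMul_apply, AlgHom.convMul_apply]
  rw [TensorProduct.comul_tmul, ← 𝓡.eq]
  simp only [map_sum, tmul_sum, Algebra.TensorProduct.lift_tmul, CommSemiring.comul_apply,
    TensorProduct.AlgebraTensorModule.tensorTensorTensorComm_tmul]
  rfl

theorem res_one : res R S A T 1 = 1 := by
  apply WithConv.ext
  apply AlgHom.ext
  intro a
  show (1 : WithConv (S ⊗[R] A →ₐ[S] T)) ((1 : S) ⊗ₜ[R] a) = (1 : WithConv (A →ₐ[R] T)) a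
  rw [AlgHom.convOne_apply, AlgHom.convOne_apply, TensorProduct.counit_tmul]
  simp [Algebra.algebraMap_eq_smul_one]

theorem res_pow (f : WithConv (S ⊗[R] A →ₐ[S] T)) (n : ℕ) :
    res R S A T (f ^ n) = (res R S A T f) ^ n := by
  induction n with
  | zero => rw [pow_zero, pow_zero, res_one]
  | succ n ih => rw [pow_succ, pow_succ, res_mul, ih]

end BC


section Free

variable (R : Type u) [CommRing R] (A : Type v) [CommRing A] [HopfAlgebra R A]
  [Coalgebra.IsCocomm R A]

/-- the universal point of the base change of `A` to itself. -/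
noncomputable def univPt : A ⊗[R] A →ₐ[A] A :=
  Algebra.TensorProduct.lift (Algebra.ofId A A) (AlgHom.id R A) (fun x y => Commute.all _ _)

theorem res_univPt : res R A A A (toConv (univPt R A)) = toConv (AlgHom.id R A) := by
  apply WithConv.ext
  apply AlgHom.ext
  intro a
  show univPt R A ((1 : A) ⊗ₜ[R] a) = a
  simp [univPt]

theorem id_pow_card_eq_one {ι : Type w} [Fintype ι] [DecidableEq ι] (e : Module.Basis ι R A) :
    (toConv (AlgHom.id R A)) ^ Fintype.card ι = 1 := by
  have h := pow_card_eq_one (R := A) (A := A ⊗[R] A) (e.baseChange A) (toConv (univPt R A))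
  have h2 := congrArg (res R A A A) h
  rw [res_pow, res_one, res_univPt] at h2
  exact h2

theorem id_pow_finrank_eq_one [Module.Free R A] [Module.Finite R A] :
    (toConv (AlgHom.id R A)) ^ Module.finrank R A = 1 := by
  classical
  rcases subsingleton_or_nontrivial R with hR | hR
  · have : Subsingleton A := Module.subsingleton R A
    apply WithConv.ext
    apply AlgHom.ext
    intro a
    exact Subsingleton.elim _ _
  · rw [Module.finrank_eq_card_chooseBasisIndex]
    exact id_pow_card_eq_one R A (Module.Free.chooseBasis R A)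

end Free

section Main

theorem comp_convPow {R : Type u} [CommRing R] {A : Type v} [CommRing A] [HopfAlgebra R A]
    {C : Type w} [CommRing C] [Algebra R C] {D : Type w'} [CommRing D] [Algebra R D]
    (h : C →ₐ[R] D) (f : WithConv (A →ₐ[R] C)) (n : ℕ) :
    toConv (h.comp (f ^ n).ofConv) = (toConv (h.comp f.ofConv)) ^ n := by
  induction n with
  | zero =>
    rw [pow_zero, pow_zero]
    apply WithConv.ext
    apply AlgHom.ext
    intro a
    show h ((1 : WithConv (A →ₐ[R] C)) a) = (1 : WithConv (A →ₐ[R] D)) a
    rw [AlgHom.convOne_apply, AlgHom.convOne_apply, AlgHom.commutes]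
  | succ n ih =>
    rw [pow_succ, pow_succ, ← ih]
    apply WithConv.ext
    exact AlgHom.comp_convMul_distrib h (f ^ n) f

variable (R : Type u) [CommRing R] (A : Type v) [CommRing A] [HopfAlgebra R A]
  [Coalgebra.IsCocomm R A] [Module.Finite R A] [Module.Projective R A]

theorem main (n : ℕ) (hn : ∀ p : PrimeSpectrum R, Module.rankAtStalk A p = n) :
    (toConv (AlgHom.id R A)) ^ n = 1 := by
  apply WithConv.ext
  apply AlgHom.ext
  intro a
  apply Module.eq_of_localization_maximal (fun P _ => Localization.AtPrime P ⊗[R] A)
    (fun P _ => TensorProduct.mk R (Localization.AtPrime P) A 1)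
  intro P hP
  have : Module.Free (Localization.AtPrime P) (Localization.AtPrime P ⊗[R] A) :=
    Module.free_of_flat_of_isLocalRing
  have h1 := id_pow_finrank_eq_one (Localization.AtPrime P) (Localization.AtPrime P ⊗[R] A)
  rw [← Module.rankAtStalk_eq_finrank_tensorProduct ⟨P, inferInstance⟩, hn] at h1
  have h2 := congrArg (res R (Localization.AtPrime P) A (Localization.AtPrime P ⊗[R] A)) h1
  rw [res_pow, res_one] at h2
  have h3 : res R (Localization.AtPrime P) A (Localization.AtPrime P ⊗[R] A)
      (toConv (AlgHom.id (Localization.AtPrime P) (Localization.AtPrime P ⊗[R] A))) =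
      toConv ((Algebra.TensorProduct.includeRight :
        A →ₐ[R] Localization.AtPrime P ⊗[R] A).comp (toConv (AlgHom.id R A)).ofConv) := rfl
  rw [h3, ← comp_convPow] at h2
  have h4 := congrArg (fun f => f a) h2
  simp only at h4
  show (1 : Localization.AtPrime P) ⊗ₜ[R] (((toConv (AlgHom.id R A)) ^ n) a) =
    (1 : Localization.AtPrime P) ⊗ₜ[R] ((1 : WithConv (A →ₐ[R] A)) a)
  refine Eq.trans h4 ?_
  rw [AlgHom.convOne_apply, AlgHom.convOne_apply]
  simp [Algebra.algebraMap_eq_smul_one, Algebra.TensorProduct.one_def]

end Main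


end Groth.Agent.Lib.Helper77.Deligne
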