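import Mathlib
import Groth.Prelude.Def_Versch
import Groth.Prelude.Def_SGA3b

set_option autoImplicit false
universe u

namespace Groth.Agent.Lib.Helper77.VerschFV

open TensorProduct WithConv

section DualBasis

variable (R : Type u) [CommRing R] (A : Type u) [AddCommGroup A] [Module R A]
  [Module.Finite R A] [Module.Projective R A]

/-- a finite dual basis of a finite projective module -/
theorem exists_dualBasis : ∃ (n : ℕ) (a : Fin n → A) (x : Fin n → (A →ₗ[R] R)),
    ∀ b : A, b = ∑ i, x i b • a i := by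
  obtain ⟨n, f, g, -, -, hfg⟩ := Module.Finite.exists_comp_eq_id_of_projective R A
  refine ⟨n, fun i => f (Pi.single i 1), fun i => LinearMap.proj i ∘ₗ g, fun b => ?_⟩
  have h1 : b = f (g b) := by
    have := congrArg (fun φ : A →ₗ[R] A => φ b) hfg
    simpa using this.symm
  conv_lhs => rw [h1]
  have h2 : g b = ∑ i, (g b i) • (Pi.single i (1 : R) : Fin n → R) := by
    ext j
    simp [Finset.sum_apply, Pi.single_apply]
  conv_lhs => rw [h2]
  simp [map_sum]

end DualBasis

section Conv

variable (R : Type u) [CommRing R] (A : Type u) [CommRing A] [HopfAlgebra R A]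

/-- the rank one endomorphism `a ↦ x a • b` in the convolution algebra -/
noncomputable def φ (x : CartDual.D R A) (b : A) : WithConv (A →ₗ[R] A) :=
  toConv (x.ofConv.smulRight b)

@[simp] theorem φ_apply (x : CartDual.D R A) (b a : A) : φ R A x b a = x a • b := rfl

theorem φ_mul (x y : CartDual.D R A) (b c : A) :
    φ R A x b * φ R A y c = φ R A (x * y) (b * c) := by
  apply WithConv.ext
  apply LinearMap.ext
  intro a
  have 𝓡 := Coalgebra.Repr.arbitrary R a
  show (φ R A x b * φ R A y c) a = (φ R A (x * y) (b * c)) a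
  rw [𝓡.convMul_apply, φ_apply, 𝓡.convMul_apply, Finset.sum_smul]
  refine Finset.sum_congr rfl fun i _ => ?_
  simp only [φ_apply, smul_mul_smul_comm]

theorem φ_one : φ R A 1 1 = 1 := by
  apply WithConv.ext
  apply LinearMap.ext
  intro a
  show (φ R A 1 1) a = (1 : WithConv (A →ₗ[R] A)) a
  rw [φ_apply, LinearMap.convOne_apply, LinearMap.convOne_apply, Algebra.algebraMap_eq_smul_one]
  simp [Algebra.algebraMap_eq_smul_one]

theorem φ_pow (x : CartDual.D R A) (b : A) (n : ℕ) :
    φ R A x b ^ n = φ R A (x ^ n) (b ^ n) := by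
  induction n with
  | zero => rw [pow_zero, pow_zero, pow_zero, φ_one]
  | succ n ih => rw [pow_succ, ih, φ_mul, pow_succ, pow_succ]

theorem algebraMap_conv_injective :
    Function.Injective (algebraMap R (WithConv (A →ₗ[R] A))) := by
  intro r s h
  have h1 := congrArg (fun f : WithConv (A →ₗ[R] A) => Coalgebra.counit (R := R) (f 1)) h
  simpa [LinearMap.convAlgebraMap_apply, Algebra.algebraMap_eq_smul_one] using h1

end Conv

section Main

variable (p : ℕ) [Fact p.Prime] (R : Type u) [CommRing R] [CharP R p]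
  (A : Type u) [CommRing A] [HopfAlgebra R A] [Coalgebra.IsCocomm R A]

theorem charP_conv : CharP (WithConv (A →ₗ[R] A)) p :=
  charP_of_injective_algebraMap (algebraMap_conv_injective R A) p

variable [Module.Finite R A] [Module.Projective R A]

/-- `[p] a = ∑ (x_i^p)(a) a_i^p` for a dual basis. -/
theorem powConv_apply {n : ℕ} (a : Fin n → A) (x : Fin n → CartDual.D R A)
    (hax : ∀ b : A, b = ∑ i, x i b • a i) (b : A) :
    SGA3b.powConv R A p b = ∑ i, ((x i) ^ p) b • (a i) ^ p := by
  have := charP_conv p R A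
  have h1 : toConv (AlgHom.id R A).toLinearMap = ∑ i, φ R A (x i) (a i) := by
    apply WithConv.ext
    apply LinearMap.ext
    intro b
    show b = (∑ i, φ R A (x i) (a i)).ofConv b
    rw [WithConv.ofConv_sum, LinearMap.sum_apply]
    exact hax b
  have h2 : toConv (SGA3b.powConv R A p).toLinearMap = (toConv (AlgHom.id R A).toLinearMap) ^ p := by
    unfold SGA3b.powConv
    exact AlgHom.toLinearMap_convPow (toConv (AlgHom.id R A)) p
  rw [h1, sum_pow_char] at h2
  have h3 := congrArg (fun f : WithConv (A →ₗ[R] A) => f.ofConv b) h2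
  simp only [φ_pow, WithConv.ofConv_sum, LinearMap.sum_apply] at h3
  exact h3

/-- every linear form is `∑ y(a_i) x_i`. -/
theorem form_eq {n : ℕ} (a : Fin n → A) (x : Fin n → CartDual.D R A)
    (hax : ∀ b : A, b = ∑ i, x i b • a i) (y : CartDual.D R A) :
    y = ∑ i, y (a i) • x i := by
  apply WithConv.ext
  apply LinearMap.ext
  intro b
  show y b = (∑ i, y (a i) • x i).ofConv b
  rw [WithConv.ofConv_sum, LinearMap.sum_apply]
  conv_lhs => rw [hax b]
  show y.ofConv (∑ i, (x i) b • a i) = _
  rw [map_sum]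
  refine Finset.sum_congr rfl fun i _ => ?_
  rw [map_smul, WithConv.ofConv_smul, LinearMap.smul_apply, smul_eq_mul, smul_eq_mul, mul_comm]

theorem form_pow_eq {n : ℕ} (a : Fin n → A) (x : Fin n → CartDual.D R A)
    (hax : ∀ b : A, b = ∑ i, x i b • a i) (y : CartDual.D R A) :
    y ^ p = ∑ i, (y (a i)) ^ p • (x i) ^ p := by
  conv_lhs => rw [form_eq R A a x hax y]
  rw [sum_pow_char]
  refine Finset.sum_congr rfl fun i _ => ?_
  rw [smul_pow]

theorem relFrob_tmul [CharP A p] (b : A) (s : FrobAlg.Twist p R) :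
    FrobAlg.relFrob p R A (b ⊗ₜ s) = b ^ p * algebraMap R A ((FrobAlg.toTwist p R).symm s) := by
  simp [FrobAlg.relFrob, FrobAlg.frobHom, FrobAlg.inclHom, Algebra.TensorProduct.lift_tmul]
  rfl

theorem v_apply (v : A →+* FrobAlg.BaseChange p R A) (hv : Versch.IsVerschiebung p R A v)
    {n : ℕ} (a : Fin n → A) (x : Fin n → CartDual.D R A)
    (hax : ∀ b : A, b = ∑ i, x i b • a i) (b : A) :
    v b = ∑ i, (a i) ⊗ₜ[R] (FrobAlg.toTwist p R (((x i) ^ p) b)) := by
  rw [Versch.isVerschiebung_iff] at hv
  apply Versch.evTw_injective p R A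
  intro y
  rw [hv b y, map_sum]
  simp only [Versch.evTw_tmul']
  rw [form_pow_eq p R A a x hax y]
  simp only [← map_mul, ← map_sum]
  congr 1
  show (∑ i, y (a i) ^ p • x i ^ p).ofConv b = _
  rw [WithConv.ofConv_sum, LinearMap.sum_apply]
  rfl

theorem main [CharP A p] (v : A →+* FrobAlg.BaseChange p R A)
    (hv : Versch.IsVerschiebung p R A v) :
    (FrobAlg.relFrob p R A).comp v = (SGA3b.powConv R A p).toRingHom := by
  obtain ⟨n, a, x0, hax0⟩ := exists_dualBasis R A
  let x : Fin n → CartDual.D R A := fun i => toConv (x0 i)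
  have hax : ∀ b : A, b = ∑ i, x i b • a i := hax0
  apply RingHom.ext
  intro b
  show FrobAlg.relFrob p R A (v b) = SGA3b.powConv R A p b
  rw [v_apply p R A v hv a x hax b, map_sum, powConv_apply p R A a x hax b]
  refine Finset.sum_congr rfl fun i _ => ?_
  rw [relFrob_tmul, RingEquiv.symm_apply_apply, Algebra.smul_def, mul_comm]

end Main

end Groth.Agent.Lib.Helper77.VerschFV
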