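import Mathlib
import Groth.Agent.Lib.Helper77.VerschFV

set_option autoImplicit false
universe u

namespace Groth.Agent.Lib.Helper77.VerschFV

open TensorProduct WithConv

section BaseChange

variable (R : Type u) [CommRing R] (S : Type u) [CommRing S] [Algebra R S]
  (A : Type u) [CommRing A] [HopfAlgebra R A]

/-- base change of algebra endomorphisms -/
noncomputable abbrev bc (f : A →ₐ[R] A) : S ⊗[R] A →ₐ[S] S ⊗[R] A :=
  Algebra.TensorProduct.map (AlgHom.id S S) f

theorem bc_convMul (f g : A →ₐ[R] A) :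
    toConv (bc R S A (toConv f * toConv g).ofConv) = toConv (bc R S A f) * toConv (bc R S A g) := by
  apply WithConv.ext
  apply Algebra.TensorProduct.ext
  · ext
  · apply AlgHom.ext
    intro a
    have 𝓡 := Coalgebra.Repr.arbitrary R a
    show (1 : S) ⊗ₜ[R] ((toConv f * toConv g) a) = (toConv (bc R S A f) * toConv (bc R S A g)) ((1 : S) ⊗ₜ[R] a)
    rw [AlgHom.convMul_apply, AlgHom.convMul_apply]
    rw [TensorProduct.comul_tmul, ← 𝓡.eq]
    simp only [map_sum, tmul_sum, Algebra.TensorProduct.lift_tmul, CommSemiring.comul_apply,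
      TensorProduct.AlgebraTensorModule.tensorTensorTensorComm_tmul, Algebra.TensorProduct.map_tmul,
      AlgHom.id_apply, Algebra.TensorProduct.tmul_mul_tmul, mul_one]

theorem bc_convOne :
    toConv (bc R S A (1 : WithConv (A →ₐ[R] A)).ofConv) = 1 := by
  apply WithConv.ext
  apply Algebra.TensorProduct.ext
  · ext
  · apply AlgHom.ext
    intro a
    show (1 : S) ⊗ₜ[R] ((1 : WithConv (A →ₐ[R] A)) a) = (1 : WithConv (S ⊗[R] A →ₐ[S] S ⊗[R] A)) ((1 : S) ⊗ₜ[R] a)
    rw [AlgHom.convOne_apply, AlgHom.convOne_apply, TensorProduct.counit_tmul]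
    simp [Algebra.algebraMap_eq_smul_one, Algebra.TensorProduct.one_def, TensorProduct.smul_tmul']

theorem bc_convPow (f : WithConv (A →ₐ[R] A)) (n : ℕ) :
    toConv (bc R S A (f ^ n).ofConv) = (toConv (bc R S A f.ofConv)) ^ n := by
  induction n with
  | zero => rw [pow_zero, pow_zero, bc_convOne]
  | succ n ih =>
    rw [pow_succ, pow_succ, ← ih]
    exact bc_convMul R S A (f ^ n).ofConv f.ofConv

theorem powConv_baseChange (n : ℕ) :
    SGA3b.powConv S (S ⊗[R] A) n = bc R S A (SGA3b.powConv R A n) := by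
  unfold SGA3b.powConv
  have h := bc_convPow R S A (toConv (AlgHom.id R A)) n
  have h2 : bc R S A (toConv (AlgHom.id R A)).ofConv = AlgHom.id S (S ⊗[R] A) :=
    Algebra.TensorProduct.map_id
  rw [h2] at h
  rw [← h]

end BaseChange

section FV

variable (p : ℕ) [Fact p.Prime] (R : Type u) [CommRing R] [CharP R p]
  (A : Type u) [CommRing A] [HopfAlgebra R A]

theorem charP_baseChange : CharP (FrobAlg.BaseChange p R A) p := by
  apply charP_of_injective_algebraMap (R := FrobAlg.Twist p R) _ p
  intro s t h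
  have h1 := congrArg (fun z => (Algebra.TensorProduct.lid R (FrobAlg.Twist p R))
    (Algebra.TensorProduct.map (Bialgebra.counitAlgHom R A) (AlgHom.id R (FrobAlg.Twist p R)) z)) h
  simpa [Algebra.TensorProduct.algebraMap_eq_includeRight] using h1

variable [Coalgebra.IsCocomm R A] [Module.Finite R A] [Module.Projective R A]

theorem pow_apply_one (y : CartDual.D R A) (n : ℕ) : (y ^ n) 1 = (y 1) ^ n := by
  have h := map_pow (Bialgebra.counitAlgHom R (CartDual.D R A)) y n
  exact h

theorem v_algebraMap (v : A →+* FrobAlg.BaseChange p R A) (hv : Versch.IsVerschiebung p R A v)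
    (r : R) : v (algebraMap R A r) = (1 : A) ⊗ₜ[R] FrobAlg.toTwist p R r := by
  rw [Versch.isVerschiebung_iff] at hv
  apply Versch.evTw_injective p R A
  intro y
  rw [hv, Versch.evTw_tmul', ← map_mul]
  congr 1
  rw [Algebra.algebraMap_eq_smul_one]
  show (y ^ p).ofConv (r • (1 : A)) = _
  rw [map_smul, smul_eq_mul, mul_comm]
  congr 1
  exact pow_apply_one R A y p

theorem main2 [CharP A p] (v : A →+* FrobAlg.BaseChange p R A)
    (hv : Versch.IsVerschiebung p R A v) :
    ((Algebra.TensorProduct.comm R A (FrobAlg.Twist p R)).toRingEquiv.toRingHom.comp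
        ((v.comp (FrobAlg.relFrob p R A)).comp
          (Algebra.TensorProduct.comm R A (FrobAlg.Twist p R)).symm.toRingEquiv.toRingHom)) =
      (SGA3b.powConv (FrobAlg.Twist p R) (FrobAlg.Twist p R ⊗[R] A) p).toRingHom := by
  rw [powConv_baseChange]
  obtain ⟨n, a, x0, hax0⟩ := exists_dualBasis R A
  let x : Fin n → CartDual.D R A := fun i => toConv (x0 i)
  have hax : ∀ b : A, b = ∑ i, x i b • a i := hax0
  have := charP_baseChange p R A
  have key : ∀ b : A, (v b) ^ p = (SGA3b.powConv R A p b) ⊗ₜ[R] (1 : FrobAlg.Twist p R) := by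
    intro b
    rw [v_apply p R A v hv a x hax b, sum_pow_char, powConv_apply p R A a x hax b,
      TensorProduct.sum_tmul]
    refine Finset.sum_congr rfl fun i _ => ?_
    rw [Algebra.TensorProduct.tmul_pow, ← map_pow, ← FrobAlg.algebraMap_twist,
      Algebra.algebraMap_eq_smul_one, ← TensorProduct.smul_tmul]
  apply RingHom.ext
  intro z
  induction z using TensorProduct.induction_on with
  | zero => simp
  | add z w hz hw => simp only [map_add, hz, hw]
  | tmul s b =>
    show (Algebra.TensorProduct.comm R A (FrobAlg.Twist p R))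
      (v (FrobAlg.relFrob p R A ((Algebra.TensorProduct.comm R A (FrobAlg.Twist p R)).symm (s ⊗ₜ b)))) =
      s ⊗ₜ[R] (SGA3b.powConv R A p b)
    rw [Algebra.TensorProduct.comm_symm_tmul, relFrob_tmul, map_mul, map_pow, key, v_algebraMap p R A v hv,
      RingEquiv.apply_symm_apply, Algebra.TensorProduct.tmul_mul_tmul, mul_one, one_mul,
      Algebra.TensorProduct.comm_tmul]

end FV

end Groth.Agent.Lib.Helper77.VerschFV
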