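import Mathlib
import Groth.Prelude.Def_SGA3b
import Groth.Agent.Lib.Helper77.VerschFV2
import Groth.Agent.Lib.Helper77.Deligne

set_option autoImplicit false
universe u

namespace Groth.Agent.Lib.Helper77.MultFin

open TensorProduct WithConv SGA3b
open Groth.Agent.Lib.Helper77.VerschFV

section Killed

variable (R : Type u) [CommRing R] (A : Type u) [CommRing A] [HopfAlgebra R A]

/-- the `n`-th power map is trivial -/
def Killed (n : ℕ) : Prop := (toConv (AlgHom.id R A)) ^ n = 1

theorem killed_iff_apply (n : ℕ) :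
    Killed R A n ↔ ∀ a : A, powConv R A n a = algebraMap R A (Coalgebra.counit a) := by
  unfold Killed powConv
  constructor
  · intro h a
    rw [h]
    rfl
  · intro h
    apply WithConv.ext
    apply AlgHom.ext
    intro a
    rw [h a]
    rfl

theorem torsionIdeal_eq_bot_iff (n : ℕ) : torsionIdeal R A n = ⊥ ↔ Killed R A n := by
  rw [killed_iff_apply]
  unfold torsionIdeal
  rw [Ideal.map_eq_bot_iff_le_ker]
  constructor
  · intro h a
    have h1 : a - algebraMap R A (Coalgebra.counit a) ∈
        RingHom.ker (Bialgebra.counitAlgHom R A) := by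
      rw [RingHom.mem_ker, map_sub]
      simp
    have h2 := h h1
    rw [RingHom.mem_ker, map_sub, AlgHom.commutes, sub_eq_zero] at h2
    exact h2
  · intro h a ha
    rw [RingHom.mem_ker] at ha ⊢
    rw [h a]
    have : Coalgebra.counit (R := R) a = 0 := ha
    rw [this, map_zero]

theorem Killed.mul {n : ℕ} (h : Killed R A n) (m : ℕ) : Killed R A (n * m) := by
  unfold Killed at h ⊢
  rw [pow_mul, h, one_pow]

theorem Killed.baseChange (S : Type u) [CommRing S] [Algebra R S] {n : ℕ} (h : Killed R A n) :
    Killed S (S ⊗[R] A) n := by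
  unfold Killed at h ⊢
  have h1 := bc_convPow R S A (toConv (AlgHom.id R A)) n
  have h2 : bc R S A (toConv (AlgHom.id R A)).ofConv = AlgHom.id S (S ⊗[R] A) :=
    Algebra.TensorProduct.map_id
  rw [h2] at h1
  rw [← h1, h, bc_convOne]

theorem Killed.of_baseChange (S : Type u) [CommRing S] [Algebra R S] {n : ℕ}
    (hinj : Function.Injective (fun a : A => (1 : S) ⊗ₜ[R] a))
    (h : Killed S (S ⊗[R] A) n) : Killed R A n := by
  unfold Killed at h ⊢
  have h1 := bc_convPow R S A (toConv (AlgHom.id R A)) n
  have h2 : bc R S A (toConv (AlgHom.id R A)).ofConv = AlgHom.id S (S ⊗[R] A) :=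
    Algebra.TensorProduct.map_id
  rw [h2, h, ← bc_convOne R S A] at h1
  apply WithConv.ext
  apply AlgHom.ext
  intro a
  apply hinj
  have h3 := congrArg (fun f => f.ofConv ((1 : S) ⊗ₜ[R] a)) h1
  simpa [bc] using h3

end Killed

section Equiv

variable (R : Type u) [CommRing R] (A : Type u) [CommRing A] [HopfAlgebra R A]
  (B : Type u) [CommRing B] [HopfAlgebra R B]

theorem convPow_comp_bialgHom (φ : A →ₐc[R] B) (f : WithConv (B →ₐ[R] B)) (n : ℕ) :
    toConv ((f ^ n).ofConv.comp (φ : A →ₐ[R] B)) = (toConv (f.ofConv.comp (φ : A →ₐ[R] B))) ^ n := by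
  induction n with
  | zero =>
    rw [pow_zero, pow_zero]
    apply WithConv.ext
    apply AlgHom.ext
    intro a
    show (1 : WithConv (B →ₐ[R] B)) (φ a) = (1 : WithConv (A →ₐ[R] B)) a
    rw [AlgHom.convOne_apply, AlgHom.convOne_apply]
    congr 1
    exact CoalgHomClass.counit_comp_apply φ a
  | succ n ih =>
    rw [pow_succ, pow_succ, ← ih]
    apply WithConv.ext
    exact AlgHom.convMul_comp_bialgHom_distrib (f ^ n) f φ

theorem Killed.of_bialgHom_injective (φ : A →ₐc[R] B) (hφ : Function.Injective φ) {n : ℕ}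
    (h : Killed R B n) : Killed R A n := by
  unfold Killed at h ⊢
  have h1 := convPow_comp_bialgHom R A B φ (toConv (AlgHom.id R B)) n
  have h2 := Deligne.comp_convPow (φ : A →ₐ[R] B) (toConv (AlgHom.id R A)) n
  have h3 : (toConv (AlgHom.id R B)).ofConv.comp (φ : A →ₐ[R] B) =
      (φ : A →ₐ[R] B).comp (toConv (AlgHom.id R A)).ofConv := rfl
  rw [h3, ← h2, h] at h1
  apply WithConv.ext
  apply AlgHom.ext
  intro a
  apply hφ
  have h4 := congrArg (fun f => f.ofConv a) h1
  simp only [ofConv_toConv, AlgHom.comp_apply] at h4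
  show φ (((toConv (AlgHom.id R A)) ^ n) a) = φ ((1 : WithConv (A →ₐ[R] A)) a)
  refine Eq.trans h4.symm ?_
  show (1 : WithConv (B →ₐ[R] B)) (φ a) = φ ((1 : WithConv (A →ₐ[R] A)) a)
  rw [AlgHom.convOne_apply, AlgHom.convOne_apply]
  rw [CoalgHomClass.counit_comp_apply φ a]
  exact (AlgHomClass.commutes φ _).symm

theorem killed_iff_of_bialgEquiv (e : A ≃ₐc[R] B) (n : ℕ) : Killed R A n ↔ Killed R B n := by
  constructor
  · intro h
    exact Killed.of_bialgHom_injective R B A (e.symm : B →ₐc[R] A) e.symm.injective h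
  · intro h
    exact Killed.of_bialgHom_injective R A B (e : A →ₐc[R] B) e.injective h

end Equiv


section MA

variable (K : Type u) [CommRing K] (M : Type u) [CommGroup M]

theorem convPow_single (n : ℕ) (m : M) :
    ((toConv (AlgHom.id K (MonoidAlgebra K M))) ^ n) (MonoidAlgebra.single m (1 : K)) =
      MonoidAlgebra.single (m ^ n) (1 : K) := by
  induction n with
  | zero =>
    rw [pow_zero, pow_zero, AlgHom.convOne_apply]
    simp [MonoidAlgebra.one_def]
  | succ n ih =>
    rw [pow_succ, AlgHom.convMul_apply]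
    rw [MonoidAlgebra.comul_single]
    simp only [CommSemiring.comul_apply, TensorProduct.map_tmul, MonoidAlgebra.lsingle_apply,
      Algebra.TensorProduct.lift_tmul]
    rw [ih]
    simp [MonoidAlgebra.single_mul_single, pow_succ]

theorem killed_monoidAlgebra_iff [Nontrivial K] (n : ℕ) :
    Killed K (MonoidAlgebra K M) n ↔ ∀ m : M, m ^ n = 1 := by
  constructor
  · intro h m
    have h1 := congrArg (fun f => f.ofConv (MonoidAlgebra.single m (1 : K))) h
    have h2 := convPow_single K M n m
    have h3 : ((1 : WithConv (MonoidAlgebra K M →ₐ[K] MonoidAlgebra K M))).ofConv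
        (MonoidAlgebra.single m (1 : K)) = MonoidAlgebra.single (1 : M) (1 : K) := by
      show (1 : WithConv (MonoidAlgebra K M →ₐ[K] MonoidAlgebra K M)) (MonoidAlgebra.single m (1 : K)) = _
      rw [AlgHom.convOne_apply]
      simp [MonoidAlgebra.one_def]
    have h4 : MonoidAlgebra.single (m ^ n) (1 : K) = MonoidAlgebra.single (1 : M) (1 : K) := by
      rw [← h2, ← h3]
      exact h1
    exact MonoidAlgebra.single_left_injective one_ne_zero h4
  · intro h
    unfold Killed
    apply WithConv.ext
    refine MonoidAlgebra.algHom_ext ?_ (by ext)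
    intro m
    have h2 := convPow_single K M n m
    show ((toConv (AlgHom.id K (MonoidAlgebra K M))) ^ n) (MonoidAlgebra.single m (1 : K)) =
      (1 : WithConv (MonoidAlgebra K M →ₐ[K] MonoidAlgebra K M)) (MonoidAlgebra.single m (1 : K))
    rw [h2, h m, AlgHom.convOne_apply]
    simp [MonoidAlgebra.one_def]

theorem finite_monoidAlgebra_iff [Nontrivial K] :
    Module.Finite K (MonoidAlgebra K M) ↔ Finite M := by
  constructor
  · intro h
    exact Module.Finite.finite_basis (MonoidAlgebra.basis M K)
  · intro h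
    exact Module.Finite.of_basis (MonoidAlgebra.basis M K)

end MA


section Local

variable (K : Type u) [CommRing K] (C : Type u) [CommRing C] [HopfAlgebra K C]

theorem killed_of_subsingleton [Subsingleton K] (n : ℕ) : Killed K C n := by
  have : Subsingleton C := Module.subsingleton K C
  unfold Killed
  apply WithConv.ext
  apply AlgHom.ext
  intro a
  exact Subsingleton.elim _ _

theorem finite_of_isDiag_of_killed (hC : IsDiag K C) (hft : Algebra.FiniteType K C) {n : ℕ}
    (hn : 0 < n) (h : Killed K C n) : Module.Finite K C := by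
  rcases subsingleton_or_nontrivial K with hK | hK
  · have : Subsingleton C := Module.subsingleton K C
    exact Module.Finite.of_finite
  obtain ⟨M, _, ⟨e⟩⟩ := hC
  have h1 : Killed K (MonoidAlgebra K M) n := (killed_iff_of_bialgEquiv K C _ e n).mp h
  rw [killed_monoidAlgebra_iff] at h1
  have hft' : Algebra.FiniteType K (MonoidAlgebra K M) :=
    Algebra.FiniteType.equiv hft (e : C ≃ₐ[K] MonoidAlgebra K M)
  have hfg : Group.FG M := MonoidAlgebra.finiteType_iff_group_fg.mp hft'
  have htors : IsMulTorsion M := by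
    intro m
    exact isOfFinOrder_iff_pow_eq_one.mpr ⟨n, hn, h1 m⟩
  have hfin : Finite M := CommGroup.finite_of_fg_isMulTorsion M htors
  have : Module.Finite K (MonoidAlgebra K M) := (finite_monoidAlgebra_iff K M).mpr hfin
  exact Module.Finite.equiv (e.symm : MonoidAlgebra K M ≃ₐ[K] C).toLinearEquiv

theorem exists_killed_of_isDiag_of_finite (hC : IsDiag K C) [Module.Finite K C] :
    ∃ n : ℕ, 0 < n ∧ Killed K C n := by
  rcases subsingleton_or_nontrivial K with hK | hK
  · exact ⟨1, Nat.one_pos, killed_of_subsingleton K C 1⟩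
  obtain ⟨M, _, ⟨e⟩⟩ := hC
  have : Module.Finite K (MonoidAlgebra K M) :=
    Module.Finite.equiv (e : C ≃ₐ[K] MonoidAlgebra K M).toLinearEquiv
  have hfin : Finite M := (finite_monoidAlgebra_iff K M).mp this
  refine ⟨Nat.card M, Nat.card_pos, ?_⟩
  rw [killed_iff_of_bialgEquiv K C _ e, killed_monoidAlgebra_iff]
  intro m
  exact pow_card_eq_one'

theorem one_tmul_injective (K' : Type u) [CommRing K'] [Algebra K K'] [Module.FaithfullyFlat K K'] :
    Function.Injective (fun a : C => (1 : K') ⊗ₜ[K] a) := by
  intro a b hab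
  have : (1 : K') ⊗ₜ[K] (a - b) = 0 := by
    rw [TensorProduct.tmul_sub]
    exact sub_eq_zero.mpr hab
  rw [Module.FaithfullyFlat.one_tmul_eq_zero_iff] at this
  exact sub_eq_zero.mp this

theorem finite_of_isMultTypeConst_of_killed (hC : IsMultTypeConst K C) (hft : Algebra.FiniteType K C)
    {n : ℕ} (hn : 0 < n) (h : Killed K C n) : Module.Finite K C := by
  obtain ⟨K', _, _, hff, hdiag⟩ := hC
  have h1 : Killed K' (K' ⊗[K] C) n := h.baseChange K C K'
  have h2 : Algebra.FiniteType K' (K' ⊗[K] C) := inferInstance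
  have h3 : Module.Finite K' (K' ⊗[K] C) := finite_of_isDiag_of_killed K' _ hdiag h2 hn h1
  exact Module.Finite.of_finite_tensorProduct_of_faithfullyFlat K'

theorem exists_killed_of_isMultTypeConst_of_finite (hC : IsMultTypeConst K C) [Module.Finite K C] :
    ∃ n : ℕ, 0 < n ∧ Killed K C n := by
  obtain ⟨K', _, _, hff, hdiag⟩ := hC
  obtain ⟨n, hn, h⟩ := exists_killed_of_isDiag_of_finite K' (K' ⊗[K] C) hdiag
  exact ⟨n, hn, Killed.of_baseChange K C K' (one_tmul_injective K C K') h⟩

end Local


section Global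

variable (R : Type u) [CommRing R] (A : Type u) [CommRing A] [HopfAlgebra R A]

theorem killed_of_localizations (t : Set R) (ht : Ideal.span t = ⊤) (n : ℕ)
    (h : ∀ f ∈ t, Killed (Localization.Away f) (Localization.Away f ⊗[R] A) n) : Killed R A n := by
  rw [killed_iff_apply]
  intro a
  rw [← sub_eq_zero]
  apply Module.eq_zero_of_isLocalized_span t ht
    (fun r => Localization.Away r.1 ⊗[R] A)
    (fun r => TensorProduct.mk R (Localization.Away r.1) A 1)
  intro r
  have h1 := (killed_iff_apply _ _ n).mp (h r.1 r.2) ((1 : Localization.Away r.1) ⊗ₜ[R] a)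
  rw [powConv_baseChange] at h1
  show (1 : Localization.Away r.1) ⊗ₜ[R] (powConv R A n a - algebraMap R A (Coalgebra.counit a)) = 0
  rw [TensorProduct.tmul_sub, sub_eq_zero]
  have h2 : bc R (Localization.Away r.1) A (powConv R A n) ((1 : Localization.Away r.1) ⊗ₜ[R] a) =
      (1 : Localization.Away r.1) ⊗ₜ[R] (powConv R A n a) := by
    simp [bc]
  rw [← h2, h1, TensorProduct.counit_tmul]
  simp [Algebra.algebraMap_eq_smul_one, Algebra.TensorProduct.one_def]

theorem main (hft : Algebra.FiniteType R A) (h : IsMultType R A) :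
    Module.Finite R A ↔ ∃ n : ℕ, 0 < n ∧ torsionIdeal R A n = ⊥ := by
  obtain ⟨s, hs, hloc⟩ := h
  constructor
  · intro hfin
    have hex : ∀ f ∈ s, ∃ n : ℕ, 0 < n ∧
        Killed (Localization.Away f) (Localization.Away f ⊗[R] A) n := by
      intro f hf
      exact exists_killed_of_isMultTypeConst_of_finite _ _ (hloc f hf)
    obtain ⟨t, hts, htspan⟩ := (Ideal.span_eq_top_iff_finite s).mp hs
    classical
    choose! N hNpos hN using hex
    refine ⟨∏ f ∈ t, N f, Finset.prod_pos (fun f hf => hNpos f (hts hf)), ?_⟩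
    rw [torsionIdeal_eq_bot_iff]
    apply killed_of_localizations R A (t : Set R) htspan
    intro f hf
    have hf' : f ∈ t := hf
    rw [← Finset.mul_prod_erase t N hf']
    exact (hN f (hts hf')).mul _ _ _
  · rintro ⟨n, hn, hk⟩
    rw [torsionIdeal_eq_bot_iff] at hk
    apply Module.Finite.of_localizationSpan' s hs (Rₚ := fun g => Localization.Away g.1)
      (Mₚ := fun g => Localization.Away g.1 ⊗[R] A)
      (fun g => TensorProduct.mk R (Localization.Away g.1) A 1)
    intro g
    have h1 : Killed (Localization.Away g.1) (Localization.Away g.1 ⊗[R] A) n :=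
      hk.baseChange R A _
    have h2 : Algebra.FiniteType (Localization.Away g.1) (Localization.Away g.1 ⊗[R] A) :=
      inferInstance
    exact finite_of_isMultTypeConst_of_killed _ _ (hloc g.1 g.2) h2 hn h1

end Global


end Groth.Agent.Lib.Helper77.MultFin
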