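import Mathlib
import Groth.Prelude.Def_SGA3b
import Groth.Agent.Lib.Helper77.MultMono
import Groth.Agent.Lib.Helper77.DiagSub
import Groth.Agent.Lib.Helper77.MultFin

/-!
# Base change toolkit for groups of multiplicative type (Hopf form)

helper77.  Base change of bialgebra equivalences, of group algebras, transitivity of base change
as a bialgebra equivalence, stability of `IsDiag` / `IsMultTypeConst` under base change,
group-like elements under change of rings, faithfully flat descent of group-likeness and of
elements (equaliser of `K' ⊗ N ⇉ (K' ⊗ K') ⊗ N`).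
-/

set_option autoImplicit false
universe u
open TensorProduct

namespace Groth.Agent.Lib.Helper77.MultBC

open SGA3b Groth.Agent.Lib.Helper77.MultMono

section Equiv

variable (K : Type u) [CommRing K] (K' : Type u) [CommRing K'] [Algebra K K']
  {A : Type u} [CommRing A] [HopfAlgebra K A] {B : Type u} [CommRing B] [HopfAlgebra K B]

/-- base change of a bialgebra equivalence. -/
noncomputable def bcEquiv (e : A ≃ₐc[K] B) : K' ⊗[K] A ≃ₐc[K'] K' ⊗[K] B :=
  BialgEquiv.ofBijective (bcHom K K' (e : A →ₐc[K] B)) (by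
    have h1 : Function.LeftInverse (bcHom K K' (e.symm : B →ₐc[K] A))
        (bcHom K K' (e : A →ₐc[K] B)) := by
      intro x
      induction x using TensorProduct.induction_on with
      | zero => simp
      | tmul k a => simp [bcHom_tmul]
      | add x y hx hy => rw [map_add, map_add, hx, hy]
    have h2 : Function.RightInverse (bcHom K K' (e.symm : B →ₐc[K] A))
        (bcHom K K' (e : A →ₐc[K] B)) := by
      intro x
      induction x using TensorProduct.induction_on with
      | zero => simp
      | tmul k a => simp [bcHom_tmul]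
      | add x y hx hy => rw [map_add, map_add, hx, hy]
    exact ⟨h1.injective, h2.surjective⟩)

lemma bcEquiv_tmul (e : A ≃ₐc[K] B) (k : K') (a : A) :
    bcEquiv K K' e (k ⊗ₜ[K] a) = k ⊗ₜ[K] e a := rfl

end Equiv

section MA

variable (K : Type u) [CommRing K] (K' : Type u) [CommRing K'] [Algebra K K']
  (M : Type u) [CommGroup M]

/-- base change of a group algebra, as a bialgebra equivalence. -/
noncomputable def monoidAlgebraBC :
    K' ⊗[K] MonoidAlgebra K M ≃ₐc[K'] MonoidAlgebra K' M :=
  BialgEquiv.ofAlgEquiv (MonoidAlgebra.scalarTensorEquiv K K') (by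
    apply Algebra.TensorProduct.ext
    · ext
    · refine MonoidAlgebra.algHom_ext ?_ (Subsingleton.elim _ _)
      intro m
      simp [MonoidAlgebra.scalarTensorEquiv_tmul]) (by
    apply Algebra.TensorProduct.ext
    · ext
    · refine MonoidAlgebra.algHom_ext ?_ (Subsingleton.elim _ _)
      intro m
      simp [MonoidAlgebra.scalarTensorEquiv_tmul])

lemma monoidAlgebraBC_tmul_single (k : K') (m : M) (r : K) :
    monoidAlgebraBC K K' M (k ⊗ₜ[K] MonoidAlgebra.single m r) =
      MonoidAlgebra.single m (r • k) := by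
  show MonoidAlgebra.scalarTensorEquiv K K' (k ⊗ₜ[K] MonoidAlgebra.single m r) = _
  rw [MonoidAlgebra.scalarTensorEquiv_tmul]
  simp [Algebra.smul_def, mul_comm]

end MA

section Cancel

variable (K : Type u) [CommRing K] (T : Type u) [CommRing T] [Algebra K T]
  (T' : Type u) [CommRing T'] [Algebra K T'] [Algebra T T'] [IsScalarTower K T T']
  (B : Type u) [CommRing B] [HopfAlgebra K B]

/-- transitivity of base change, as a bialgebra equivalence. -/
noncomputable def cancelBC : T' ⊗[T] (T ⊗[K] B) ≃ₐc[T'] T' ⊗[K] B :=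
  BialgEquiv.ofAlgEquiv (Algebra.TensorProduct.cancelBaseChange K T T' T' B) (by
    apply Algebra.TensorProduct.ext
    · ext
    · apply Algebra.TensorProduct.ext
      · ext
      · ext b
        simp only [AlgHom.coe_comp, AlgHom.coe_restrictScalars', Function.comp_apply,
          Algebra.TensorProduct.includeRight_apply, Bialgebra.counitAlgHom_apply,
          AlgEquiv.coe_toAlgHom, Algebra.TensorProduct.cancelBaseChange_tmul, one_smul,
          TensorProduct.counit_tmul]
        simp only [Bialgebra.counit_one]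
        rw [smul_assoc, one_smul]) (by
    apply Algebra.TensorProduct.ext
    · ext
    · apply Algebra.TensorProduct.ext
      · ext
      · ext b
        simp only [AlgHom.coe_comp, AlgHom.coe_restrictScalars', Function.comp_apply,
          Algebra.TensorProduct.includeRight_apply, Bialgebra.comulAlgHom_apply,
          AlgEquiv.coe_toAlgHom, Algebra.TensorProduct.cancelBaseChange_tmul, one_smul,
          TensorProduct.comul_tmul]
        generalize CoalgebraStruct.comul (R := K) b = z
        induction z using TensorProduct.induction_on with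
        | zero => simp
        | tmul x y => simp
        | add x y hx hy => simp only [TensorProduct.tmul_add, map_add, hx, hy])

lemma cancelBC_tmul (t' : T') (t : T) (b : B) :
    cancelBC K T T' B (t' ⊗ₜ[T] (t ⊗ₜ[K] b)) = (t • t') ⊗ₜ[K] b := by
  show Algebra.TensorProduct.cancelBaseChange K T T' T' B (t' ⊗ₜ[T] (t ⊗ₜ[K] b)) = _
  rw [Algebra.TensorProduct.cancelBaseChange_tmul]

lemma cancelBC_symm_tmul (t' : T') (b : B) :
    (cancelBC K T T' B).symm (t' ⊗ₜ[K] b) = t' ⊗ₜ[T] ((1 : T) ⊗ₜ[K] b) := by
  have h := cancelBC_tmul K T T' B t' 1 b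
  rw [one_smul] at h
  rw [← h]
  exact (cancelBC K T T' B).symm_apply_apply _

end Cancel

section Diag

variable {K : Type u} [CommRing K] {B : Type u} [CommRing B] [HopfAlgebra K B]

theorem isDiag_of_equiv {B' : Type u} [CommRing B'] [HopfAlgebra K B'] (e : B ≃ₐc[K] B')
    (h : IsDiag K B) : IsDiag K B' := by
  obtain ⟨M, _, ⟨ε⟩⟩ := h
  exact ⟨M, inferInstance, ⟨e.symm.trans ε⟩⟩

variable (T : Type u) [CommRing T] [Algebra K T]

theorem isDiag_baseChange (h : IsDiag K B) : IsDiag T (T ⊗[K] B) := by
  obtain ⟨M, _, ⟨ε⟩⟩ := h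
  exact ⟨M, inferInstance, ⟨(bcEquiv K T ε).trans (monoidAlgebraBC K T M)⟩⟩

variable (T' : Type u) [CommRing T'] [Algebra K T'] [Algebra T T'] [IsScalarTower K T T']

theorem isDiag_tower (h : IsDiag T (T ⊗[K] B)) : IsDiag T' (T' ⊗[K] B) :=
  isDiag_of_equiv (cancelBC K T T' B) (isDiag_baseChange T' h)

end Diag

section Const

variable {K : Type u} [CommRing K] {B : Type u} [CommRing B] [HopfAlgebra K B]

theorem isMultTypeConst_of_equiv {B' : Type u} [CommRing B'] [HopfAlgebra K B'] (e : B ≃ₐc[K] B')
    (h : IsMultTypeConst K B) : IsMultTypeConst K B' := by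
  obtain ⟨K', _, _, hff, hd⟩ := h
  exact ⟨K', inferInstance, inferInstance, hff, isDiag_of_equiv (bcEquiv K K' e) hd⟩

theorem isMultTypeConst_of_isDiag (h : IsDiag K B) : IsMultTypeConst K B :=
  ⟨K, inferInstance, inferInstance, inferInstance, isDiag_baseChange K h⟩

variable (T : Type u) [CommRing T] [Algebra K T]

theorem isMultTypeConst_baseChange (h : IsMultTypeConst K B) : IsMultTypeConst T (T ⊗[K] B) := by
  obtain ⟨K', _, _, hff, hd⟩ := h
  refine ⟨T ⊗[K] K', inferInstance, inferInstance, inferInstance, ?_⟩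
  -- `(T ⊗ K') ⊗[T] (T ⊗[K] B) ≅ (T ⊗ K') ⊗[K] B`
  apply isDiag_of_equiv (cancelBC K T (T ⊗[K] K') B).symm
  let _ : Algebra K' (T ⊗[K] K') := Algebra.TensorProduct.rightAlgebra
  exact isDiag_tower K' (T ⊗[K] K') hd

variable (T' : Type u) [CommRing T'] [Algebra K T'] [Algebra T T'] [IsScalarTower K T T']

theorem isMultTypeConst_tower (h : IsMultTypeConst T (T ⊗[K] B)) :
    IsMultTypeConst T' (T' ⊗[K] B) :=
  isMultTypeConst_of_equiv (cancelBC K T T' B) (isMultTypeConst_baseChange T' h)

end Const

section Nat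

variable (K : Type u) [CommRing K] (T : Type u) [CommRing T] [Algebra K T]
  (T' : Type u) [CommRing T'] [Algebra K T'] [Algebra T T'] [IsScalarTower K T T']
  {A : Type u} [CommRing A] [HopfAlgebra K A] {C : Type u} [CommRing C] [HopfAlgebra K C]

lemma cancelBC_bcHom (φ : C →ₐc[K] A) (x : T' ⊗[T] (T ⊗[K] C)) :
    cancelBC K T T' A (bcHom T T' (bcHom K T φ) x) = bcHom K T' φ (cancelBC K T T' C x) := by
  induction x using TensorProduct.induction_on with
  | zero => simp
  | tmul t' y =>
    induction y using TensorProduct.induction_on with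
    | zero => simp
    | tmul t c => rw [bcHom_tmul, bcHom_tmul, cancelBC_tmul, cancelBC_tmul, bcHom_tmul]
    | add y z hy hz => rw [TensorProduct.tmul_add, map_add, map_add, map_add, map_add, hy, hz]
  | add x y hx hy => rw [map_add, map_add, map_add, map_add, hx, hy]

lemma bcHom_bijective (φ : C →ₐc[K] A) (h : Function.Bijective φ) :
    Function.Bijective (bcHom K T φ) := by
  have h1 : ∀ x, bcHom K T φ x = bcEquiv K T (BialgEquiv.ofBijective φ h) x := by
    intro x
    induction x using TensorProduct.induction_on with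
    | zero => simp
    | tmul t c => rw [bcHom_tmul, bcEquiv_tmul]; rfl
    | add x y hx hy => rw [map_add, map_add, hx, hy]
  have h2 : (bcHom K T φ : T ⊗[K] C → T ⊗[K] A) = bcEquiv K T (BialgEquiv.ofBijective φ h) :=
    funext h1
  rw [h2]
  exact (bcEquiv K T (BialgEquiv.ofBijective φ h)).bijective

lemma bcHom_bijective_tower (φ : C →ₐc[K] A) (h : Function.Bijective (bcHom K T φ)) :
    Function.Bijective (bcHom K T' φ) := by
  have h1 := bcHom_bijective T T' (bcHom K T φ) h
  have h2 : (bcHom K T' φ : T' ⊗[K] C → T' ⊗[K] A) =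
      (cancelBC K T T' A) ∘ (bcHom T T' (bcHom K T φ)) ∘ (cancelBC K T T' C).symm := by
    funext x
    simp only [Function.comp_apply]
    rw [cancelBC_bcHom]
    congr 1
    exact ((cancelBC K T T' C).apply_symm_apply x).symm
  rw [h2]
  exact (cancelBC K T T' A).bijective.comp (h1.comp (cancelBC K T T' C).symm.bijective)

end Nat

section GrpLike

variable {K : Type u} [CommRing K] {K' : Type u} [CommRing K'] [Algebra K K']
  {K'' : Type u} [CommRing K''] [Algebra K K'']
  {B : Type u} [CommRing B] [HopfAlgebra K B]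

/-- group-like elements are preserved by change of the base ring. -/
theorem isGroupLikeElem_map (i : K' →ₐ[K] K'') {g : K' ⊗[K] B} (hg : IsGroupLikeElem K' g) :
    IsGroupLikeElem K'' (Algebra.TensorProduct.map i (AlgHom.id K B) g) := by
  let _ : Algebra K' K'' := i.toRingHom.toAlgebra
  have : IsScalarTower K K' K'' := IsScalarTower.of_algebraMap_eq (fun x => (i.commutes x).symm)
  have h3 : ∀ g : K' ⊗[K] B, cancelBC K K' K'' B ((1 : K'') ⊗ₜ[K'] g) =
      Algebra.TensorProduct.map i (AlgHom.id K B) g := by
    intro g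
    induction g using TensorProduct.induction_on with
    | zero => simp
    | tmul k b =>
      rw [cancelBC_tmul, Algebra.TensorProduct.map_tmul, AlgHom.id_apply, Algebra.smul_def, mul_one]
      rfl
    | add x y hx hy => rw [TensorProduct.tmul_add, map_add, map_add, hx, hy]
  have h1 : IsGroupLikeElem K'' ((1 : K'') ⊗ₜ[K'] g) :=
    Groth.Agent.Lib.Helper77.DiagSub.isGroupLikeElem_one_tmul K' K'' hg
  have h2 := h1.map (cancelBC K K' K'' B)
  rwa [h3] at h2

end GrpLike

section Descent

variable (K : Type u) [CommRing K] (K' : Type u) [CommRing K'] [Algebra K K']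
  (B : Type u) [CommRing B] [HopfAlgebra K B]

lemma comul_one_tmul (b : B) :
    Coalgebra.comul (R := K') ((1 : K') ⊗ₜ[K] b) =
      TensorProduct.AlgebraTensorModule.distribBaseChange K K' B B
        ((1 : K') ⊗ₜ[K] Coalgebra.comul (R := K) b) := by
  rw [TensorProduct.comul_tmul]
  generalize Coalgebra.comul (R := K) b = z
  induction z using TensorProduct.induction_on with
  | zero => simp
  | tmul x y => simp
  | add x y hx hy => simp only [TensorProduct.tmul_add, map_add, hx, hy]

/-- group-likeness descends along faithfully flat base change. -/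
theorem isGroupLikeElem_of_one_tmul [Module.FaithfullyFlat K K'] {b : B}
    (h : IsGroupLikeElem K' ((1 : K') ⊗ₜ[K] b)) : IsGroupLikeElem K b where
  counit_eq_one := by
    have h1 := h.counit_eq_one
    rw [TensorProduct.counit_tmul] at h1
    simp only [Bialgebra.counit_one] at h1
    have h2 : algebraMap K K' (Coalgebra.counit b) = algebraMap K K' 1 := by
      rw [map_one, Algebra.algebraMap_eq_smul_one]
      exact h1
    exact (FaithfulSMul.algebraMap_injective K K') h2
  comul_eq_tmul_self := by
    have h1 := h.comul_eq_tmul_self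
    rw [comul_one_tmul] at h1
    have h2 : ((1 : K') ⊗ₜ[K] b) ⊗ₜ[K'] ((1 : K') ⊗ₜ[K] b) =
        TensorProduct.AlgebraTensorModule.distribBaseChange K K' B B
          ((1 : K') ⊗ₜ[K] (b ⊗ₜ[K] b)) := by
      simp
    rw [h2] at h1
    have h3 := (TensorProduct.AlgebraTensorModule.distribBaseChange K K' B B).injective h1
    have h4 : (1 : K') ⊗ₜ[K] (Coalgebra.comul (R := K) b - b ⊗ₜ[K] b) = 0 := by
      rw [TensorProduct.tmul_sub, h3, sub_self]
    rw [Module.FaithfullyFlat.one_tmul_eq_zero_iff] at h4
    exact sub_eq_zero.mp h4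

end Descent

section Equalizer

variable (K : Type u) [CommRing K] (K' : Type u) [CommRing K'] [Algebra K K']
  (N : Type u) [AddCommGroup N] [Module K N]

/-- faithfully flat descent for elements: the equaliser of the two maps
`K' ⊗ N ⇉ (K' ⊗ K') ⊗ N` is `N`. -/
theorem exists_eq_one_tmul_of_rTensor_eq [Module.FaithfullyFlat K K'] (y : K' ⊗[K] N)
    (h : LinearMap.rTensor N
        (Algebra.TensorProduct.includeLeft : K' →ₐ[K] K' ⊗[K] K').toLinearMap y =
      LinearMap.rTensor N
        (Algebra.TensorProduct.includeRight : K' →ₐ[K] K' ⊗[K] K').toLinearMap y) :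
    ∃ n : N, y = (1 : K') ⊗ₜ[K] n := by
  let ι : N →ₗ[K] K' ⊗[K] N := TensorProduct.mk K K' N 1
  let Q := (K' ⊗[K] N) ⧸ LinearMap.range ι
  let π : K' ⊗[K] N →ₗ[K] Q := (LinearMap.range ι).mkQ
  let Ψ : (K' ⊗[K] K') ⊗[K] N →ₗ[K] K' ⊗[K] Q :=
    (LinearMap.lTensor K' π).comp (TensorProduct.assoc K K' K' N).toLinearMap
  have h1 : ∀ z : K' ⊗[K] N, Ψ (LinearMap.rTensor N
      (Algebra.TensorProduct.includeLeft : K' →ₐ[K] K' ⊗[K] K').toLinearMap z) = 0 := by
    intro z
    induction z using TensorProduct.induction_on with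
    | zero => simp
    | tmul k n =>
      have : π ((1 : K') ⊗ₜ[K] n) = 0 := by
        rw [Submodule.mkQ_apply, Submodule.Quotient.mk_eq_zero]
        exact ⟨n, rfl⟩
      simp [Ψ, this]
    | add x y hx hy => rw [map_add, map_add, hx, hy, add_zero]
  have h2 : ∀ z : K' ⊗[K] N, Ψ (LinearMap.rTensor N
      (Algebra.TensorProduct.includeRight : K' →ₐ[K] K' ⊗[K] K').toLinearMap z) =
      (1 : K') ⊗ₜ[K] π z := by
    intro z
    induction z using TensorProduct.induction_on with
    | zero => simp
    | tmul k n => simp [Ψ]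
    | add x y hx hy => rw [map_add, map_add, hx, hy, map_add, TensorProduct.tmul_add]
  have h3 : (1 : K') ⊗ₜ[K] π y = 0 := by
    rw [← h2, ← h, h1]
  rw [Module.FaithfullyFlat.one_tmul_eq_zero_iff] at h3
  rw [Submodule.mkQ_apply, Submodule.Quotient.mk_eq_zero] at h3
  obtain ⟨n, hn⟩ := h3
  exact ⟨n, hn.symm⟩

end Equalizer

end Groth.Agent.Lib.Helper77.MultBC
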