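import Mathlib

set_option autoImplicit false
universe u v w

namespace Groth.Agent.Lib.Helper77

open TensorProduct IsLocalRing Function

section Nakayama

variable {A : Type u} [CommRing A] {M : Type v} [AddCommGroup M] [Module A M]

/-- Nakayama's lemma for a nilpotent ideal, no finiteness needed. -/
theorem eq_top_of_sup_smul_top_eq_top (I : Ideal A) (hI : IsNilpotent I) (N : Submodule A M)
    (h : N ⊔ I • (⊤ : Submodule A M) = ⊤) : N = ⊤ := by
  obtain ⟨n, hn⟩ := hI
  have key : ∀ k : ℕ, N ⊔ (I ^ k) • (⊤ : Submodule A M) = ⊤ := by
    intro k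
    induction k with
    | zero => simp
    | succ k ih =>
      rw [eq_top_iff]
      calc (⊤ : Submodule A M) = N ⊔ I • (⊤ : Submodule A M) := h.symm
        _ = N ⊔ I • (N ⊔ (I ^ k) • (⊤ : Submodule A M)) := by rw [ih]
        _ = N ⊔ (I • N ⊔ I • ((I ^ k) • (⊤ : Submodule A M))) := by rw [Submodule.smul_sup]
        _ ≤ N ⊔ (I ^ (k + 1)) • (⊤ : Submodule A M) := by
          rw [← Submodule.mul_smul, ← pow_succ']
          refine sup_le le_sup_left (sup_le ?_ le_sup_right)
          exact le_trans Submodule.smul_le_right le_sup_left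
  have := key n
  rwa [hn, Submodule.zero_eq_bot, Submodule.bot_smul, sup_bot_eq] at this

end Nakayama

section ArtinLocal

variable {A : Type u} [CommRing A] [IsLocalRing A] [IsArtinianRing A]

theorem isNilpotent_maximalIdeal_of_artinian : IsNilpotent (maximalIdeal A) := by
  have h := IsArtinianRing.isNilpotent_jacobson_bot (R := A)
  rwa [IsLocalRing.jacobson_eq_maximalIdeal ⊥ bot_ne_top] at h

variable {P : Type v} {L : Type w} [AddCommGroup P] [Module A P] [AddCommGroup L] [Module A L]

/-- `x ↦ 1 ⊗ x` is surjective onto `k ⊗ M`. -/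
theorem residue_mk_surjective (M : Type v) [AddCommGroup M] [Module A M] :
    Surjective (TensorProduct.mk A (ResidueField A) M 1) := by
  intro z
  induction z using TensorProduct.induction_on with
  | zero => exact ⟨0, by simp⟩
  | tmul c x =>
    obtain ⟨a, rfl⟩ := Ideal.Quotient.mk_surjective c
    refine ⟨a • x, ?_⟩
    rw [TensorProduct.mk_apply, TensorProduct.tmul_smul, TensorProduct.smul_tmul']
    congr 1
    rw [Algebra.smul_def, mul_one]
    rfl
  | add z z' hz hz' =>
    obtain ⟨x, rfl⟩ := hz
    obtain ⟨x', rfl⟩ := hz'
    exact ⟨x + x', by rw [map_add]⟩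

/-- Over an Artinian local ring, a linear map which is surjective mod the maximal ideal is
surjective. -/
theorem surjective_of_lTensor_residueField_surjective (h : P →ₗ[A] L)
    (hs : Surjective (h.lTensor (ResidueField A))) : Surjective h := by
  rw [← LinearMap.range_eq_top]
  apply eq_top_of_sup_smul_top_eq_top (maximalIdeal A) isNilpotent_maximalIdeal_of_artinian
  rw [eq_top_iff]
  intro y _
  obtain ⟨z, hz⟩ := hs (TensorProduct.mk A (ResidueField A) L 1 y)
  obtain ⟨x, rfl⟩ := residue_mk_surjective P z
  have h0 : TensorProduct.mk A (ResidueField A) L 1 (y - h x) = 0 := by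
    rw [map_sub, ← hz]
    simp
  have hmem : y - h x ∈ LinearMap.ker (TensorProduct.mk A (A ⧸ maximalIdeal A) L 1) := h0
  rw [LinearMap.ker_tensorProductMk] at hmem
  have : y = h x + (y - h x) := by abel
  rw [this]
  exact Submodule.add_mem_sup (LinearMap.mem_range_self h x) hmem

/-- Over an Artinian local ring, a module `M` with `k ⊗ M = 0` vanishes. -/
theorem subsingleton_of_subsingleton_residue_tensor (M : Type v) [AddCommGroup M] [Module A M]
    (hM : Subsingleton (ResidueField A ⊗[A] M)) : Subsingleton M := by
  have hs : Surjective ((0 : PUnit.{v+1} →ₗ[A] M).lTensor (ResidueField A)) := by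
    intro z; exact ⟨0, Subsingleton.elim _ _⟩
  have := surjective_of_lTensor_residueField_surjective (0 : PUnit.{v+1} →ₗ[A] M) hs
  constructor
  intro a b
  obtain ⟨_, ha⟩ := this a
  obtain ⟨_, hb⟩ := this b
  rw [← ha, ← hb]

end ArtinLocal

section ArtinLocalFlat

variable {A : Type u} [CommRing A] [IsLocalRing A] [IsArtinianRing A]
variable {P : Type v} {L : Type w} [AddCommGroup P] [Module A P] [AddCommGroup L] [Module A L]

/-- A flat module over an Artinian local ring has a basis lifting any basis of its reduction:
here we produce one such basis together with the compatibility. -/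
theorem exists_basis_lifting_of_flat (M : Type v) [AddCommGroup M] [Module A M] [Module.Flat A M] :
    ∃ (ι : Type (max u v)) (b : Module.Basis ι A M),
      LinearIndependent (ResidueField A) (fun i => TensorProduct.mk A (ResidueField A) M 1 (b i)) := by
  let bk := Module.Free.chooseBasis (ResidueField A) (ResidueField A ⊗[A] M)
  let ι := Module.Free.ChooseBasisIndex (ResidueField A) (ResidueField A ⊗[A] M)
  choose v hv using fun i : ι => residue_mk_surjective (A := A) M (bk i)
  have hcomp : (TensorProduct.mk A (ResidueField A) M 1 ∘ v) = bk := funext hv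
  have hli : LinearIndependent A v := by
    apply Module.IsLocalRing.linearIndependent_of_flat v
    rw [hcomp]
    exact bk.linearIndependent
  have hsurj : Surjective (Finsupp.linearCombination A v) := by
    apply surjective_of_lTensor_residueField_surjective
    intro z
    have hz : z ∈ LinearMap.range ((Finsupp.linearCombination A v).lTensor (ResidueField A)) := by
      rw [← bk.linearCombination_repr z, Finsupp.linearCombination_apply, Finsupp.sum]
      apply Submodule.sum_mem
      intro i _
      refine ⟨(bk.repr z i) ⊗ₜ Finsupp.single i 1, ?_⟩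
      rw [LinearMap.lTensor_tmul, Finsupp.linearCombination_single, one_smul, ← hv i,
        TensorProduct.mk_apply, TensorProduct.smul_tmul', smul_eq_mul, mul_one]
    exact hz
  have hsp : ⊤ ≤ Submodule.span A (Set.range v) := by
    rw [← Finsupp.range_linearCombination, LinearMap.range_eq_top.mpr hsurj]
  refine ⟨ι, Module.Basis.mk hli hsp, ?_⟩
  have : (fun i => TensorProduct.mk A (ResidueField A) M 1 ((Module.Basis.mk hli hsp) i)) = bk := by
    funext i
    rw [Module.Basis.mk_apply]
    exact hv i
  rw [this]
  exact bk.linearIndependent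

/-- Over an Artinian local ring, a linear map between flat modules which is injective mod the
maximal ideal is injective. -/
theorem injective_of_lTensor_residueField_injective [Module.Flat A P] [Module.Flat A L]
    (h : P →ₗ[A] L) (hi : Injective (h.lTensor (ResidueField A))) : Injective h := by
  obtain ⟨ι, b, hb⟩ := exists_basis_lifting_of_flat (A := A) P
  have hli : LinearIndependent A (h ∘ b) := by
    apply Module.IsLocalRing.linearIndependent_of_flat
    have hcomp : (TensorProduct.mk A (ResidueField A) L 1 ∘ (h ∘ b)) =
        (h.baseChange (ResidueField A)) ∘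
          (fun i => TensorProduct.mk A (ResidueField A) P 1 (b i)) := by
      funext i
      simp
    rw [hcomp]
    apply hb.map'
    rw [LinearMap.ker_eq_bot]
    intro x y hxy
    apply hi
    have e := LinearMap.baseChange_eq_ltensor (A := ResidueField A) (f := h)
    rw [← e]
    exact hxy
  have heq : h = (Finsupp.linearCombination A (h ∘ b)) ∘ₗ b.repr.toLinearMap := by
    apply b.ext
    intro i
    simp
  rw [heq, LinearMap.coe_comp]
  have hli' : Injective (Finsupp.linearCombination A (h ∘ b)) := hli
  exact hli'.comp b.repr.injective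

end ArtinLocalFlat

section TorVanishing

variable {A : Type u} [CommRing A] [IsLocalRing A] [IsArtinianRing A]
variable {M : Type v} {N : Type v} [AddCommGroup M] [Module A M] [AddCommGroup N] [Module A N]

/-- "Tor₁(Q, N/M) = 0" for finite length `Q`, from the case `Q = k`: if `M → N` stays injective
after `k ⊗ -` and `N` is flat, then it stays injective after `Q ⊗ -` for every `Q` of finite
length. -/
theorem lTensor_injective_of_isFiniteLength [Module.Flat A N] (f : M →ₗ[A] N)
    (hk : Injective (f.lTensor (ResidueField A)))
    (Q : Type w) [AddCommGroup Q] [Module A Q] (hQ : IsFiniteLength A Q) :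
    Injective (f.lTensor Q) := by
  induction hQ with
  | of_subsingleton =>
    intro x y _
    exact Subsingleton.elim _ _
  | @of_simple_quotient Q _ _ Q' hsimple hQ' ih =>
    -- the simple quotient is the residue field
    obtain ⟨I, hI, ⟨e₀⟩⟩ := isSimpleModule_iff_quot_maximal.mp hsimple
    have hIm : I = maximalIdeal A := IsLocalRing.eq_maximalIdeal hI
    subst hIm
    let idEquiv : (A ⧸ maximalIdeal A) ≃ₗ[A] ResidueField A :=
      { toFun := fun x => x
        invFun := fun x => x
        map_add' := fun _ _ => rfl
        map_smul' := fun _ _ => rfl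
        left_inv := fun _ => rfl
        right_inv := fun _ => rfl }
    let e : (Q ⧸ Q') ≃ₗ[A] ResidueField A := e₀.trans idEquiv
    have hquot : Injective (f.lTensor (Q ⧸ Q')) := by
      rw [injective_iff_map_eq_zero]
      intro x hx
      have h1 : (f.lTensor (ResidueField A)) ((e.toLinearMap.rTensor M) x) = 0 := by
        have : (f.lTensor (ResidueField A)) ((e.toLinearMap.rTensor M) x)
            = (e.toLinearMap.rTensor N) ((f.lTensor (Q ⧸ Q')) x) := by
          rw [← LinearMap.comp_apply, ← LinearMap.comp_apply, LinearMap.lTensor_comp_rTensor,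
            LinearMap.rTensor_comp_lTensor]
        rw [this, hx, map_zero]
      have h2 : (e.toLinearMap.rTensor M) x = 0 := by
        apply hk
        rw [h1, map_zero]
      have h3 : Injective (e.toLinearMap.rTensor M) := (LinearEquiv.rTensor M e).injective
      apply h3
      rw [h2, map_zero]
    rw [injective_iff_map_eq_zero]
    intro x hx
    -- push x to the quotient
    have hx1 : (Q'.mkQ.rTensor M) x = 0 := by
      apply hquot
      rw [map_zero]
      have : (f.lTensor (Q ⧸ Q')) ((Q'.mkQ.rTensor M) x) = (Q'.mkQ.rTensor N) ((f.lTensor Q) x) := by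
        rw [← LinearMap.comp_apply, ← LinearMap.comp_apply, LinearMap.lTensor_comp_rTensor,
          LinearMap.rTensor_comp_lTensor]
      rw [this, hx, map_zero]
    -- x comes from Q' ⊗ M
    have hex := rTensor_exact M (LinearMap.exact_subtype_mkQ Q') (Submodule.mkQ_surjective Q')
    obtain ⟨x', rfl⟩ := (hex x).mp hx1
    have hx2 : (Q'.subtype.rTensor N) ((f.lTensor Q') x') = 0 := by
      have : (Q'.subtype.rTensor N) ((f.lTensor Q') x') = (f.lTensor Q) ((Q'.subtype.rTensor M) x') := by
        rw [← LinearMap.comp_apply, ← LinearMap.comp_apply, LinearMap.lTensor_comp_rTensor,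
          LinearMap.rTensor_comp_lTensor]
      rw [this, hx]
    have hinj : Injective (Q'.subtype.rTensor N) :=
      Module.Flat.rTensor_preserves_injective_linearMap _ Q'.injective_subtype
    have hx3 : (f.lTensor Q') x' = 0 := by
      apply hinj
      rw [hx2, map_zero]
    have hx4 : x' = 0 := by
      apply ih
      rw [hx3, map_zero]
    rw [hx4, map_zero]

end TorVanishing

section FlatQuotient

variable {A : Type u} [CommRing A]
variable {M : Type v} {N : Type v} {P : Type v} [AddCommGroup M] [Module A M] [AddCommGroup N]
  [Module A N] [AddCommGroup P] [Module A P]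

/-- If `0 → M → N → P → 0` is exact with `P` flat, then `Q ⊗ M → Q ⊗ N` is injective for every
module `Q`. -/
theorem lTensor_injective_of_flat_coker [Module.Flat A P] (f : M →ₗ[A] N) (g : N →ₗ[A] P)
    (hf : Injective f) (hg : Surjective g) (hfg : Exact f g)
    (Q : Type w) [AddCommGroup Q] [Module A Q] : Injective (f.lTensor Q) := by
  -- free presentation of Q
  have hπ : Surjective (Finsupp.linearCombination A (id : Q → Q)) :=
    Finsupp.linearCombination_id_surjective A Q
  have hex : Exact (LinearMap.ker (Finsupp.linearCombination A (id : Q → Q))).subtype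
      (Finsupp.linearCombination A (id : Q → Q)) := LinearMap.exact_subtype_ker_map _
  refine @lTensor_injective_of_exact_of_exact_of_rTensor_injective A _
    (LinearMap.ker (Finsupp.linearCombination A (id : Q → Q))) (Q →₀ A) Q M N P
    _ _ _ _ _ _ _ _ _ _ _ _ _ _ _ _ hex hπ hfg hg ?_ ?_
  · exact Module.Flat.rTensor_preserves_injective_linearMap _ (Submodule.injective_subtype _)
  · exact Module.Flat.lTensor_preserves_injective_linearMap _ hf

/-- The kernel of a surjection from a flat module onto a flat module is flat. -/
theorem flat_of_flat_of_flat_coker [Module.Flat A N] [Module.Flat A P] (f : M →ₗ[A] N)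
    (g : N →ₗ[A] P) (hf : Injective f) (hg : Surjective g) (hfg : Exact f g) :
    Module.Flat A M := by
  rw [Module.Flat.iff_lTensor_injective']
  intro I
  have h1 : Injective (f.lTensor I) := lTensor_injective_of_flat_coker f g hf hg hfg I
  have h1' : Injective (f.rTensor I) := (LinearMap.lTensor_inj_iff_rTensor_inj _ _).mp h1
  have h2 : Injective (I.subtype.lTensor N) :=
    Module.Flat.lTensor_preserves_injective_linearMap _ I.injective_subtype
  have hcomp : (f.rTensor A) ∘ₗ (I.subtype.lTensor M) = (I.subtype.lTensor N) ∘ₗ (f.rTensor I) := by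
    rw [LinearMap.rTensor_comp_lTensor, LinearMap.lTensor_comp_rTensor]
  have h3 : Injective ((f.rTensor A) ∘ₗ (I.subtype.lTensor M)) := by
    rw [hcomp, LinearMap.coe_comp]
    exact h2.comp h1'
  rw [LinearMap.coe_comp] at h3
  exact Function.Injective.of_comp h3

end FlatQuotient

section FlatCriterion

variable {A : Type u} [CommRing A] [IsLocalRing A] [IsArtinianRing A]
variable {M : Type v} {N : Type v} {P : Type v} [AddCommGroup M] [Module A M] [AddCommGroup N]
  [Module A N] [AddCommGroup P] [Module A P]

/-- Local flatness criterion over an Artinian local ring: if `M → N → P → 0` is exact with `N` flat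
and `k ⊗ M → k ⊗ N` injective then `P` is flat. -/
theorem flat_of_exact_of_lTensor_residueField_injective [Module.Flat A N] (f : M →ₗ[A] N)
    (g : N →ₗ[A] P) (hg : Surjective g) (hfg : Exact f g)
    (hk : Injective (f.lTensor (ResidueField A))) : Module.Flat A P := by
  rw [Module.Flat.iff_lTensor_injective']
  intro I
  refine @lTensor_injective_of_exact_of_exact_of_rTensor_injective A _ M N P I A (A ⧸ I)
    _ _ _ _ _ _ _ _ _ _ _ _ f g I.subtype I.mkQ hfg hg
    (LinearMap.exact_subtype_mkQ I) (Submodule.mkQ_surjective I) ?_ ?_
  · have hfl : IsFiniteLength A (A ⧸ I) :=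
      isFiniteLength_iff_isNoetherian_isArtinian.mpr ⟨inferInstance, inferInstance⟩
    exact (LinearMap.lTensor_inj_iff_rTensor_inj _ _).mp
      (lTensor_injective_of_isFiniteLength f hk (A ⧸ I) hfl)
  · exact Module.Flat.lTensor_preserves_injective_linearMap _ I.injective_subtype

end FlatCriterion

section ComplexCriterion

variable {A : Type u} [CommRing A] [IsLocalRing A] [IsArtinianRing A]

/-- Core of the complex criterion: `P → Q → R → M → 0` with `Q`, `R` flat, exact at `R`, `M`, and
reduced complex exact at `k ⊗ Q`: then `M` is flat and the complex is exact at `Q`.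
(No flatness of `P` is needed.) -/
theorem flat_and_exact_of_reduced_exact
    {P Q R M : Type v} [AddCommGroup P] [Module A P] [AddCommGroup Q] [Module A Q]
    [AddCommGroup R] [Module A R] [AddCommGroup M] [Module A M]
    [Module.Flat A Q] [Module.Flat A R]
    (f : P →ₗ[A] Q) (g : Q →ₗ[A] R) (h : R →ₗ[A] M)
    (hfg : g ∘ₗ f = 0) (hgh : Function.Exact g h) (hh : Function.Surjective h)
    (hred : Function.Exact (f.lTensor (IsLocalRing.ResidueField A))
      (g.lTensor (IsLocalRing.ResidueField A))) :
    Module.Flat A M ∧ Function.Exact f g := by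
  classical
  -- notation
  let k := IsLocalRing.ResidueField A
  let B : Submodule A R := LinearMap.range g
  let g' : Q →ₗ[A] B := g.rangeRestrict
  have hg'surj : Function.Surjective g' := LinearMap.surjective_rangeRestrict g
  have hιg' : B.subtype ∘ₗ g' = g := LinearMap.subtype_comp_codRestrict _ _ _
  have hexB : Function.Exact B.subtype h := by
    intro r
    rw [hgh r]
    constructor
    · rintro ⟨q, rfl⟩; exact ⟨⟨g q, ⟨q, rfl⟩⟩, rfl⟩
    · rintro ⟨⟨b, ⟨q, rfl⟩⟩, rfl⟩; exact ⟨q, rfl⟩
  have hg'f : g' ∘ₗ f = 0 := by
    apply LinearMap.ext; intro p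
    apply Subtype.ext
    have := congrArg (fun φ : P →ₗ[A] R => φ p) hfg
    simpa [g'] using this
  -- (1) k ⊗ B → k ⊗ R is injective
  have hBinj : Function.Injective (B.subtype.lTensor k) := by
    rw [injective_iff_map_eq_zero]
    intro y hy
    obtain ⟨q, rfl⟩ := LinearMap.lTensor_surjective k hg'surj y
    have h1 : (g.lTensor k) q = 0 := by
      rw [← hιg', LinearMap.lTensor_comp, LinearMap.comp_apply, hy]
    obtain ⟨p, rfl⟩ := (hred q).mp h1
    rw [← LinearMap.comp_apply, ← LinearMap.lTensor_comp, hg'f, LinearMap.lTensor_zero,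
      LinearMap.zero_apply]
  -- (2) M is flat
  have hMflat : Module.Flat A M :=
    flat_of_exact_of_lTensor_residueField_injective B.subtype h hh hexB hBinj
  -- (3) B is flat
  have hBflat : Module.Flat A B :=
    flat_of_flat_of_flat_coker B.subtype h B.injective_subtype hh hexB
  refine ⟨hMflat, ?_⟩
  -- (4) Z = ker g
  let Z : Submodule A Q := LinearMap.ker g
  have hexZ : Function.Exact Z.subtype g' := by
    intro q
    constructor
    · intro hq
      refine ⟨⟨q, ?_⟩, rfl⟩
      have := congrArg (fun b : B => (b : R)) hq
      exact LinearMap.mem_ker.mpr (by simpa [g'] using this)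
    · rintro ⟨⟨z, hz⟩, rfl⟩
      apply Subtype.ext
      have hz' : g z = 0 := LinearMap.mem_ker.mp hz
      simpa [g'] using hz'
  have hZinj : Function.Injective (Z.subtype.lTensor k) :=
    lTensor_injective_of_flat_coker Z.subtype g' Z.injective_subtype
      hg'surj hexZ k
  -- (5) f' : P → Z is surjective
  let f' : P →ₗ[A] Z := f.codRestrict Z (fun p => by
    have := congrArg (fun φ : P →ₗ[A] R => φ p) hfg
    simpa [Z] using this)
  have hιf' : Z.subtype ∘ₗ f' = f := LinearMap.subtype_comp_codRestrict _ _ _
  have hg'ι : g' ∘ₗ Z.subtype = 0 := by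
    apply LinearMap.ext; intro z
    exact (hexZ _).mpr ⟨z, rfl⟩
  have hf'surj : Function.Surjective f' := by
    apply surjective_of_lTensor_residueField_surjective
    intro z
    have hgι : g ∘ₗ Z.subtype = 0 := by
      apply LinearMap.ext; intro z
      exact LinearMap.mem_ker.mp z.2
    have h1 : (g.lTensor k) ((Z.subtype.lTensor k) z) = 0 := by
      rw [← LinearMap.comp_apply, ← LinearMap.lTensor_comp, hgι, LinearMap.lTensor_zero,
        LinearMap.zero_apply]
    obtain ⟨p, hp⟩ := (hred _).mp h1
    refine ⟨p, ?_⟩
    apply hZinj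
    rw [← hp, ← LinearMap.comp_apply, ← LinearMap.lTensor_comp, hιf']
  -- (6) exactness
  intro q
  constructor
  · intro hq
    obtain ⟨p, hp⟩ := hf'surj ⟨q, hq⟩
    refine ⟨p, ?_⟩
    have := congrArg (fun z : Z => (z : Q)) hp
    simpa [f'] using this
  · rintro ⟨p, rfl⟩
    have := congrArg (fun φ : P →ₗ[A] R => φ p) hfg
    simpa using this

/-- The head of a complex `X0 → X1 → X2` with `X1`, `X2` flat whose reduction is exact at `X0`
(injective) and at `X1` is flat. -/
theorem flat_head_of_reduced_exact
    {X0 X1 X2 : Type v} [AddCommGroup X0] [Module A X0] [AddCommGroup X1] [Module A X1]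
    [AddCommGroup X2] [Module A X2] [Module.Flat A X1] [Module.Flat A X2]
    (f0 : X0 →ₗ[A] X1) (f1 : X1 →ₗ[A] X2) (h01 : f1 ∘ₗ f0 = 0)
    (hinj : Function.Injective (f0.lTensor (IsLocalRing.ResidueField A)))
    (hex : Function.Exact (f0.lTensor (IsLocalRing.ResidueField A))
      (f1.lTensor (IsLocalRing.ResidueField A))) :
    Module.Flat A X0 := by
  classical
  let k := IsLocalRing.ResidueField A
  -- cokernel flat and exactness at X1
  obtain ⟨hKflat, hexact⟩ := flat_and_exact_of_reduced_exact f0 f1 (LinearMap.range f1).mkQ h01
    (LinearMap.exact_map_mkQ_range f1) (Submodule.mkQ_surjective _) hex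
  -- B = range f1 is flat
  let B : Submodule A X2 := LinearMap.range f1
  have hexB : Function.Exact B.subtype B.mkQ := LinearMap.exact_subtype_mkQ B
  have hBflat : Module.Flat A B :=
    flat_of_flat_of_flat_coker B.subtype B.mkQ B.injective_subtype (Submodule.mkQ_surjective _) hexB
  -- Z = ker f1 is flat
  let Z : Submodule A X1 := LinearMap.ker f1
  let g' : X1 →ₗ[A] B := f1.rangeRestrict
  have hg'surj : Function.Surjective g' := LinearMap.surjective_rangeRestrict f1
  have hexZ : Function.Exact Z.subtype g' := by
    intro q
    constructor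
    · intro hq
      refine ⟨⟨q, ?_⟩, rfl⟩
      have := congrArg (fun b : B => (b : X2)) hq
      exact LinearMap.mem_ker.mpr (by simpa [g'] using this)
    · rintro ⟨⟨z, hz⟩, rfl⟩
      apply Subtype.ext
      have hz' : f1 z = 0 := LinearMap.mem_ker.mp hz
      simpa [g'] using hz'
  have hZflat : Module.Flat A Z :=
    flat_of_flat_of_flat_coker Z.subtype g' Z.injective_subtype hg'surj hexZ
  -- f0' : X0 → Z
  let f0' : X0 →ₗ[A] Z := f0.codRestrict Z (fun p => by
    have := congrArg (fun φ : X0 →ₗ[A] X2 => φ p) h01
    exact LinearMap.mem_ker.mpr (by simpa using this))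
  have hιf0' : Z.subtype ∘ₗ f0' = f0 := LinearMap.subtype_comp_codRestrict _ _ _
  have hf0'surj : Function.Surjective f0' := by
    rintro ⟨z, hz⟩
    obtain ⟨x, hx⟩ := (hexact z).mp (LinearMap.mem_ker.mp hz)
    exact ⟨x, Subtype.ext hx⟩
  have hf0'kinj : Function.Injective (f0'.lTensor k) := by
    have : Function.Injective ((Z.subtype.lTensor k) ∘ (f0'.lTensor k)) := by
      rw [← LinearMap.coe_comp, ← LinearMap.lTensor_comp, hιf0']
      exact hinj
    exact Function.Injective.of_comp this
  -- the kernel of f0' vanishes
  let N : Submodule A X0 := LinearMap.ker f0'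
  have hexN : Function.Exact N.subtype f0' := LinearMap.exact_subtype_ker_map f0'
  have hNinj : Function.Injective (N.subtype.lTensor k) :=
    lTensor_injective_of_flat_coker N.subtype f0' N.injective_subtype hf0'surj hexN k
  have hNsub : Subsingleton (k ⊗[A] N) := by
    constructor
    intro a b
    apply hNinj
    apply hf0'kinj
    have hz : f0' ∘ₗ N.subtype = 0 := by
      apply LinearMap.ext; intro z
      exact LinearMap.mem_ker.mp z.2
    rw [← LinearMap.comp_apply, ← LinearMap.comp_apply, ← LinearMap.lTensor_comp, hz,
      LinearMap.lTensor_zero, LinearMap.zero_apply, LinearMap.zero_apply]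
  have hN0 : Subsingleton N := subsingleton_of_subsingleton_residue_tensor N hNsub
  have hf0'inj : Function.Injective f0' := by
    rw [← LinearMap.ker_eq_bot]
    exact Submodule.eq_bot_of_subsingleton
  exact Module.Flat.of_linearEquiv (LinearEquiv.ofBijective f0' ⟨hf0'inj, hf0'surj⟩)

end ComplexCriterion

end Groth.Agent.Lib.Helper77
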