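import Mathlib
import Groth.Prelude.Def_CartDual
import Groth.Agent.Lib.Helper77.MuP

/-!
# Structure of simple bi-infinitesimal finite commutative group schemes: alpha_p (helper77)
-/

set_option autoImplicit false
universe u

namespace Groth.Agent.Lib.Helper77.AlphaP

open TensorProduct WithConv Coalgebra Polynomial

variable {k : Type u} [Field k]
variable {A : Type u} [CommRing A] [HopfAlgebra k A]

/-- evaluation at one as an algebra map on the dual -/
noncomputable def ev1 (k : Type u) [Field k] (A : Type u) [CommRing A] [HopfAlgebra k A] :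
    WithConv (A →ₗ[k] k) →ₐ[k] k :=
  AlgHom.ofLinearMap (CartDual.counit k A) (CartDual.counit_one' k A) (CartDual.counit_mul' k A)

@[simp] theorem ev1_apply (f : WithConv (A →ₗ[k] k)) : ev1 k A f = f 1 := rfl

/-- a nonzero primitive element exists when the dual is local -/
theorem exists_primitive [Coalgebra.IsCocomm k A] [FiniteDimensional k A]
    (hdual : IsLocalRing (WithConv (A →ₗ[k] k))) (hA : 1 < Module.finrank k A) :
    ∃ x : A, x ≠ 0 ∧ Coalgebra.counit (R := k) x = 0 ∧
      Coalgebra.comul x = x ⊗ₜ[k] (1 : A) + (1 : A) ⊗ₜ[k] x := by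
  have hfinD : Module.Finite k (WithConv (A →ₗ[k] k)) :=
    Module.Finite.equiv (WithConv.linearEquiv k (A →ₗ[k] k)).symm
  have hart : IsArtinianRing (WithConv (A →ₗ[k] k)) := IsArtinianRing.of_finite k _
  set m : Ideal (WithConv (A →ₗ[k] k)) := IsLocalRing.maximalIdeal _ with hm
  -- kernel of ev1 is the maximal ideal
  have hsurj : Function.Surjective (ev1 k A) := fun c => ⟨algebraMap k _ c, by simp⟩
  have hker : RingHom.ker (ev1 k A) = m := by
    have hmax : (RingHom.ker (ev1 k A)).IsMaximal :=
      RingHom.ker_isMaximal_of_surjective _ hsurj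
    exact IsLocalRing.eq_maximalIdeal hmax
  have hmem : ∀ f : WithConv (A →ₗ[k] k), f ∈ m ↔ f 1 = 0 := by
    intro f
    rw [← hker, RingHom.mem_ker]
    rfl
  -- m ≠ ⊥
  have hmne : m ≠ ⊥ := by
    intro hbot
    have hinj : Function.Injective (ev1 k A) := by
      rw [injective_iff_map_eq_zero]
      intro f hf
      have : f ∈ m := by rw [← hker]; exact hf
      rw [hbot] at this
      exact this
    have h1 : Module.finrank k (WithConv (A →ₗ[k] k)) ≤ Module.finrank k k :=
      LinearMap.finrank_le_finrank_of_injective (f := (ev1 k A).toLinearMap) hinj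
    have h2 : Module.finrank k (WithConv (A →ₗ[k] k)) = Module.finrank k A := by
      rw [LinearEquiv.finrank_eq (WithConv.linearEquiv k (A →ₗ[k] k))]
      exact Subspace.dual_finrank_eq
    rw [h2, Module.finrank_self] at h1
    omega
  -- m^2 ≠ m
  have hm2 : ¬ (m ≤ m * m) := by
    intro hle
    apply hmne
    have hjac : m ≤ Ideal.jacobson ⊥ := by
      rw [IsLocalRing.jacobson_eq_maximalIdeal ⊥ bot_ne_top]
    have hfg : (m : Submodule _ _).FG := IsNoetherian.noetherian m
    exact Submodule.eq_bot_of_le_smul_of_le_jacobson_bot m m hfg hle hjac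
  -- the subspace k·1 + m²
  let W : Submodule k (WithConv (A →ₗ[k] k)) :=
    Submodule.span k {1} ⊔ (m * m).restrictScalars k
  have hW : W < ⊤ := by
    rw [lt_top_iff_ne_top]
    intro htop
    apply hm2
    intro f hf
    have hfW : f ∈ W := htop ▸ Submodule.mem_top
    obtain ⟨y, hy, z, hz, hyz⟩ := Submodule.mem_sup.mp hfW
    obtain ⟨c, rfl⟩ := Submodule.mem_span_singleton.mp hy
    have hz' : z ∈ m * m := hz
    have hzm : z ∈ m := Ideal.mul_le_right hz'
    have h1 : f 1 = 0 := (hmem f).mp hf
    have h2 : z 1 = 0 := (hmem z).mp hzm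
    have h3 : (c • (1 : WithConv (A →ₗ[k] k)) + z) 1 = c := by
      show (c • (1 : WithConv (A →ₗ[k] k))) 1 + z 1 = c
      rw [h2, add_zero]
      show c • ((1 : WithConv (A →ₗ[k] k)) 1) = c
      simp
    rw [hyz, h1] at h3
    rw [← hyz, ← h3, zero_smul, zero_add]
    exact hz'
  obtain ⟨φ, hφ0, hφ⟩ := Submodule.exists_le_ker_of_lt_top W hW
  let ψ : Module.Dual k (Module.Dual k A) :=
    φ ∘ₗ (WithConv.linearEquiv k (A →ₗ[k] k)).symm.toLinearMap
  obtain ⟨x, hx⟩ := (Module.bijective_dual_eval k A).surjective ψ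
  have hφx : ∀ f : WithConv (A →ₗ[k] k), φ f = f x := by
    intro f
    have h1 : ψ f.ofConv = φ f := rfl
    have h2 : (Module.Dual.eval k A x) f.ofConv = f x := rfl
    rw [← h1, ← hx, h2]
  have hx0 : x ≠ 0 := by
    rintro rfl
    apply hφ0
    ext f
    rw [hφx]
    simp
  have hone : (1 : WithConv (A →ₗ[k] k)) x = 0 := by
    rw [← hφx]
    exact hφ (Submodule.mem_sup_left (Submodule.subset_span rfl))
  have hcounit : Coalgebra.counit (R := k) x = 0 := by
    simpa using hone
  have hmm : ∀ f g : WithConv (A →ₗ[k] k), f ∈ m → g ∈ m → (f * g) x = 0 := by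
    intro f g hf hg
    rw [← hφx]
    exact hφ (Submodule.mem_sup_right (Ideal.mul_mem_mul hf hg))
  have hmul : ∀ f g : WithConv (A →ₗ[k] k), (f * g) x = f x * g 1 + f 1 * g x := by
    intro f g
    have hf' : f - algebraMap k _ (f 1) ∈ m := by
      rw [hmem]
      show f 1 - (algebraMap k (WithConv (A →ₗ[k] k)) (f 1)) 1 = 0
      simp
    have hg' : g - algebraMap k _ (g 1) ∈ m := by
      rw [hmem]
      show g 1 - (algebraMap k (WithConv (A →ₗ[k] k)) (g 1)) 1 = 0
      simp
    have key := hmm _ _ hf' hg'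
    have hexp : (f - algebraMap k _ (f 1)) * (g - algebraMap k _ (g 1)) =
        f * g - (g 1) • f - (f 1) • g + (f 1 * g 1) • (1 : WithConv (A →ₗ[k] k)) := by
      rw [Algebra.algebraMap_eq_smul_one, Algebra.algebraMap_eq_smul_one]
      simp only [sub_mul, mul_sub, smul_mul_assoc, mul_smul_comm, one_mul, mul_one, smul_sub,
        smul_smul]
      module
    rw [hexp] at key
    have key2 : (f * g) x - (g 1) * f x - (f 1) * g x + (f 1 * g 1) * (1 : WithConv (A →ₗ[k] k)) x
        = 0 := key
    rw [hone, mul_zero, add_zero] at key2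
    linear_combination key2
  refine ⟨x, hx0, hcounit, ?_⟩
  have key : ∀ t : CartDual.D k A ⊗[k] CartDual.D k A,
      CartDual.ev₂ k A t (comul x) = CartDual.ev₂ k A t (x ⊗ₜ[k] (1 : A) + (1 : A) ⊗ₜ[k] x) := by
    intro t
    induction t using TensorProduct.induction_on with
    | zero => simp
    | tmul f g =>
      rw [map_add, CartDual.ev₂_tmul, CartDual.ev₂_tmul, CartDual.ev₂_tmul_eq]
      have := hmul f g
      rw [LinearMap.convMul_apply] at this
      rw [← this]
      rfl
    | add y z hy hz => rw [map_add, LinearMap.add_apply, LinearMap.add_apply, hy, hz]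
  rw [← sub_eq_zero]
  rw [← Module.forall_dual_apply_eq_zero_iff k]
  intro χ
  obtain ⟨t, rfl⟩ := (CartDual.ev₂ k A).surjective χ
  rw [map_sub, key, sub_self]

theorem antipode_of_primitive {x : A} (h0 : Coalgebra.counit (R := k) x = 0)
    (hx : Coalgebra.comul x = x ⊗ₜ[k] (1 : A) + (1 : A) ⊗ₜ[k] x) :
    HopfAlgebra.antipode k x = -x := by
  have h := HopfAlgebra.mul_antipode_rTensor_comul_apply (R := k) x
  rw [hx, map_add, LinearMap.rTensor_tmul, LinearMap.rTensor_tmul, map_add,
    LinearMap.mul'_apply, LinearMap.mul'_apply, HopfAlgebra.antipode_one, h0, map_zero, mul_one,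
    one_mul] at h
  exact eq_neg_of_add_eq_zero_left h

theorem isHopfIdeal_span_primitive {x : A} (h0 : Coalgebra.counit (R := k) x = 0)
    (hx : Coalgebra.comul x = x ⊗ₜ[k] (1 : A) + (1 : A) ⊗ₜ[k] x) :
    (Ideal.span ({x} : Set A)).IsHopfIdeal k := by
  apply MuP.isHopfIdeal_span
  · intro s hs
    rw [Set.mem_singleton_iff.mp hs]
    exact h0
  · intro s hs
    rw [Set.mem_singleton_iff.mp hs]
    have hmem : x ∈ (Ideal.span ({x} : Set A)).restrictScalars k :=
      Ideal.subset_span rfl
    have hq : Submodule.mkQ ((Ideal.span ({x} : Set A)).restrictScalars k) x = 0 :=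
      (Submodule.Quotient.mk_eq_zero _).mpr hmem
    rw [hx, map_add, TensorProduct.map_tmul, TensorProduct.map_tmul, hq, TensorProduct.zero_tmul,
      TensorProduct.tmul_zero, add_zero]
  · intro s hs
    rw [Set.mem_singleton_iff.mp hs]
    rw [antipode_of_primitive h0 hx]
    exact (Ideal.span ({x} : Set A)).neg_mem (Ideal.subset_span rfl)

theorem primitive_pow (p : ℕ) [Fact p.Prime] [CharP k p] [Nontrivial A] {x : A}
    (hx : Coalgebra.comul x = x ⊗ₜ[k] (1 : A) + (1 : A) ⊗ₜ[k] x) :
    Coalgebra.comul (R := k) (x ^ p) = (x ^ p) ⊗ₜ[k] (1 : A) + (1 : A) ⊗ₜ[k] (x ^ p) := by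
  have hchar : CharP (A ⊗[k] A) p :=
    charP_of_injective_algebraMap (algebraMap k (A ⊗[k] A)).injective p
  have h1 : Coalgebra.comul (R := k) (x ^ p) = (Coalgebra.comul (R := k) x) ^ p :=
    map_pow (Bialgebra.comulAlgHom k A) x p
  rw [h1, hx, add_pow_char, Algebra.TensorProduct.tmul_pow, Algebra.TensorProduct.tmul_pow,
    one_pow]

theorem main (p : ℕ) [Fact p.Prime] [CharP k p] [Coalgebra.IsCocomm k A] [FiniteDimensional k A]
    [IsLocalRing A] (hdual : IsLocalRing (WithConv (A →ₗ[k] k))) (hA : 1 < Module.finrank k A)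
    (hsimple : ∀ I : Ideal A, I.IsHopfIdeal k → I = ⊥ ∨ I = RingHom.ker (Bialgebra.counitAlgHom k A)) :
    ∃ x : A, Coalgebra.comul x = x ⊗ₜ[k] (1 : A) + (1 : A) ⊗ₜ[k] x ∧ x ^ p = 0 ∧
      LinearIndependent k (fun i : Fin p => x ^ (i : ℕ)) ∧ Module.finrank k A = p := by
  classical
  have hp : p.Prime := Fact.out
  obtain ⟨x, hx0, hεx, hx⟩ := exists_primitive hdual hA
  have hart : IsArtinianRing A := IsArtinianRing.of_finite k A
  -- span {x} = ker ε
  have hJ : Ideal.span ({x} : Set A) = RingHom.ker (Bialgebra.counitAlgHom k A) := by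
    rcases hsimple _ (isHopfIdeal_span_primitive hεx hx) with h | h
    · exfalso
      apply hx0
      have : x ∈ Ideal.span ({x} : Set A) := Ideal.subset_span rfl
      rw [h] at this
      exact this
    · exact h
  -- x is nilpotent
  have hnil : IsNilpotent x := by
    have hmem : x ∈ IsLocalRing.maximalIdeal A := by
      rw [IsLocalRing.mem_maximalIdeal, mem_nonunits_iff]
      intro hu
      have h2 : IsUnit (Bialgebra.counitAlgHom k A x) := hu.map _
      have h3 : Bialgebra.counitAlgHom k A x = 0 := hεx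
      rw [h3] at h2
      exact not_isUnit_zero h2
    have hnil' : IsNilpotent (Ideal.jacobson (⊥ : Ideal A)) :=
      IsArtinianRing.isNilpotent_jacobson_bot
    rw [IsLocalRing.jacobson_eq_maximalIdeal ⊥ bot_ne_top] at hnil'
    obtain ⟨n, hn⟩ := hnil'
    refine ⟨n, ?_⟩
    have hxn : x ^ n ∈ (IsLocalRing.maximalIdeal A) ^ n := Ideal.pow_mem_pow hmem n
    rw [hn] at hxn
    simpa using hxn
  -- x ^ p = 0
  have hεxp : Coalgebra.counit (R := k) (x ^ p) = 0 := by
    have : Bialgebra.counitAlgHom k A (x ^ p) = 0 := by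
      rw [map_pow]
      have h3 : Bialgebra.counitAlgHom k A x = 0 := hεx
      rw [h3, zero_pow hp.ne_zero]
    exact this
  have hxp : x ^ p = 0 := by
    rcases hsimple _ (isHopfIdeal_span_primitive hεxp (primitive_pow p hx)) with h | h
    · have : x ^ p ∈ Ideal.span ({x ^ p} : Set A) := Ideal.subset_span rfl
      rw [h] at this
      exact this
    · exfalso
      apply hx0
      have hxmem : x ∈ Ideal.span ({x ^ p} : Set A) := by
        rw [h, ← hJ]
        exact Ideal.subset_span rfl
      obtain ⟨a, ha⟩ := Ideal.mem_span_singleton'.mp hxmem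
      have hp1 : p = (p - 1) + 1 := (Nat.sub_add_cancel hp.one_le).symm
      have hnil2 : IsNilpotent (a * x ^ (p - 1)) := by
        have : IsNilpotent (x ^ (p - 1)) := hnil.pow_of_pos (by have := hp.two_le; omega)
        exact (Commute.all _ _).isNilpotent_mul_left this
      have hunit : IsUnit (1 - a * x ^ (p - 1)) := hnil2.isUnit_one_sub
      have hz : (1 - a * x ^ (p - 1)) * x = 0 := by
        rw [sub_mul, one_mul, mul_assoc, ← pow_succ, ← hp1, ha, sub_self]
      exact (hunit.mul_right_eq_zero).mp hz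
  -- minimal polynomial
  have hint : IsIntegral k x := Algebra.IsIntegral.isIntegral x
  obtain ⟨n, hnp, hq⟩ : ∃ n ≤ p, minpoly k x = X ^ n := by
    have hdvd : minpoly k x ∣ X ^ p := minpoly.dvd k x (by simp [hxp])
    obtain ⟨i, hi, hassoc⟩ := (dvd_prime_pow prime_X _).mp hdvd
    exact ⟨i, hi, eq_of_monic_of_associated (minpoly.monic hint) (monic_X_pow i) hassoc⟩
  have hxn : x ^ n = 0 := by
    have := minpoly.aeval k x
    rw [hq] at this
    simpa using this
  have hli : LinearIndependent k (fun i : Fin n => x ^ (i : ℕ)) := by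
    have := linearIndependent_pow (K := k) x
    rw [hq, natDegree_X_pow] at this
    exact this
  -- spanning
  have hdecomp : ∀ a : A, ∃ c : k, ∃ a' : A, a = algebraMap k A c + x * a' := by
    intro a
    have hmem : a - algebraMap k A (Coalgebra.counit (R := k) a) ∈
        RingHom.ker (Bialgebra.counitAlgHom k A) := by
      rw [RingHom.mem_ker, map_sub, AlgHom.commutes]
      show Coalgebra.counit (R := k) a - algebraMap k k (Coalgebra.counit (R := k) a) = 0
      simp
    rw [← hJ] at hmem
    obtain ⟨a', ha'⟩ := Ideal.mem_span_singleton'.mp hmem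
    refine ⟨Coalgebra.counit (R := k) a, a', ?_⟩
    rw [mul_comm, ha']
    ring
  have hspan_aux : ∀ j, j ≤ n → ∀ a : A,
      x ^ (n - j) * a ∈ Submodule.span k (Set.range (fun i : Fin n => x ^ (i : ℕ))) := by
    intro j
    induction j with
    | zero =>
      intro _ a
      rw [Nat.sub_zero, hxn, zero_mul]
      exact Submodule.zero_mem _
    | succ j ih =>
      intro hj a
      obtain ⟨c, a', rfl⟩ := hdecomp a
      have hm : n - (j + 1) < n := by omega
      have hm1 : n - (j + 1) + 1 = n - j := by omega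
      rw [mul_add, ← mul_assoc, ← pow_succ, hm1, ← Algebra.commutes, ← Algebra.smul_def]
      refine Submodule.add_mem _ (Submodule.smul_mem _ _ ?_) (ih (by omega) a')
      exact Submodule.subset_span ⟨⟨n - (j + 1), hm⟩, rfl⟩
  have hspan : ⊤ ≤ Submodule.span k (Set.range (fun i : Fin n => x ^ (i : ℕ))) := by
    intro a _
    have := hspan_aux n le_rfl a
    rwa [Nat.sub_self, pow_zero, one_mul] at this
  let b : Module.Basis (Fin n) k A := Module.Basis.mk hli hspan
  have hb : ∀ i : Fin n, b i = x ^ (i : ℕ) := fun i => by simp [b]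
  have hcard : Module.finrank k A = n := by
    rw [Module.finrank_eq_card_basis b, Fintype.card_fin]
  -- n = p
  have hn : n = p := by
    by_contra hne
    have hlt : n < p := lt_of_le_of_ne hnp hne
    have hn2 : 2 ≤ n := by omega
    have hcom : Coalgebra.comul (R := k) (x ^ n) = (Coalgebra.comul (R := k) x) ^ n :=
      map_pow (Bialgebra.comulAlgHom k A) x n
    rw [hxn, map_zero, hx, add_pow] at hcom
    let i1 : Fin n := ⟨1, by omega⟩
    let i2 : Fin n := ⟨n - 1, by omega⟩
    let Φ : A ⊗[k] A →ₗ[k] k :=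
      (TensorProduct.lid k k).toLinearMap ∘ₗ TensorProduct.map (b.coord i1) (b.coord i2)
    have hΦ := congrArg Φ hcom
    rw [map_zero, map_sum] at hΦ
    rw [Finset.sum_eq_single 1] at hΦ
    · have h1 : b.coord i1 (x ^ 1) = 1 := by
        have : x ^ 1 = b i1 := (hb i1).symm
        rw [this]
        simp
      have h2 : b.coord i2 (x ^ (n - 1)) = 1 := by
        have : x ^ (n - 1) = b i2 := (hb i2).symm
        rw [this]
        simp
      have h3 : Φ ((x ⊗ₜ[k] (1 : A)) ^ 1 * ((1 : A) ⊗ₜ[k] x) ^ (n - 1) * ((n.choose 1 : ℕ) : A ⊗[k] A))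
          = (n : k) := by
        rw [Algebra.TensorProduct.tmul_pow, Algebra.TensorProduct.tmul_pow,
          Algebra.TensorProduct.tmul_mul_tmul, one_pow, one_pow, mul_one, one_mul,
          Nat.choose_one_right, mul_comm, ← nsmul_eq_mul, map_nsmul]
        show n • ((TensorProduct.lid k k) ((b.coord i1 (x ^ 1)) ⊗ₜ[k] (b.coord i2 (x ^ (n - 1))))) = _
        rw [h1, h2]
        simp
      rw [h3] at hΦ
      have hdvd : p ∣ n := (CharP.cast_eq_zero_iff k p n).mp hΦ.symm
      have := Nat.le_of_dvd (by omega) hdvd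
      omega
    · intro m hm hm1
      rw [Finset.mem_range] at hm
      rw [Algebra.TensorProduct.tmul_pow, Algebra.TensorProduct.tmul_pow,
          Algebra.TensorProduct.tmul_mul_tmul, one_pow, one_pow, mul_one, one_mul,
          mul_comm, ← nsmul_eq_mul, map_nsmul]
      have hz : Φ ((x ^ m) ⊗ₜ[k] (x ^ (n - m))) = 0 := by
        show (TensorProduct.lid k k) ((b.coord i1 (x ^ m)) ⊗ₜ[k] (b.coord i2 (x ^ (n - m)))) = 0
        by_cases hmn : m = n
        · rw [hmn, hxn, map_zero, TensorProduct.zero_tmul, map_zero]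
        · have hmlt : m < n := by omega
          have : x ^ m = b ⟨m, hmlt⟩ := (hb ⟨m, hmlt⟩).symm
          rw [this]
          have hne : (⟨m, hmlt⟩ : Fin n) ≠ i1 := by
            intro h
            apply hm1
            exact congrArg Fin.val h
          have : b.coord i1 (b ⟨m, hmlt⟩) = 0 := by
            simp [hne]
          rw [this, TensorProduct.zero_tmul, map_zero]
      rw [hz, smul_zero]
    · intro h1
      exfalso
      apply h1
      rw [Finset.mem_range]
      omega
  subst hn
  exact ⟨x, hx, hxp, hli, hcard⟩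

end Groth.Agent.Lib.Helper77.AlphaP
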