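import Mathlib

/-!
# Cartier dual of a short exact sequence, part 1 (helper77; for S15892)

Global Nakayama, surjectivity of the transpose of a fibrewise injective map of finite projective
modules, and the module retraction of a finite faithfully flat ring map over a noetherian base.
-/

set_option autoImplicit false
universe u
open TensorProduct

namespace Groth.Agent.Lib.Helper77.CartExact

section Nak

variable {R : Type u} [CommRing R] {M : Type u} [AddCommGroup M] [Module R M]

/-- global Nakayama: a submodule of a finite module which generates modulo every maximal ideal is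
everything. -/
theorem eq_top_of_forall_maximal_sup_smul_eq_top [Module.Finite R M] (N : Submodule R M)
    (h : ∀ (𝔪 : Ideal R) [𝔪.IsMaximal], N ⊔ 𝔪 • (⊤ : Submodule R M) = ⊤) : N = ⊤ := by
  by_contra hne
  let I : Ideal R := N.colon ⊤
  have hI : I ≠ ⊤ := by
    intro htop
    apply hne
    have h1 : (1 : R) ∈ I := by rw [htop]; exact Submodule.mem_top
    rw [Submodule.mem_colon] at h1
    rw [eq_top_iff]
    intro x _
    have h5 : (1 : R) • x ∈ N := h1 x (Submodule.mem_top (R := R) (x := x))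
    rwa [one_smul] at h5
  obtain ⟨𝔪, h𝔪, hle⟩ := Ideal.exists_le_maximal I hI
  have h2 := h 𝔪
  have h3 : (⊤ : Submodule R (M ⧸ N)) ≤ 𝔪 • (⊤ : Submodule R (M ⧸ N)) := by
    intro y _
    obtain ⟨x, rfl⟩ := N.mkQ_surjective y
    have hx : x ∈ N ⊔ 𝔪 • (⊤ : Submodule R M) := by rw [h2]; exact Submodule.mem_top
    obtain ⟨n, hn, z, hz, rfl⟩ := Submodule.mem_sup.mp hx
    have hn0 : N.mkQ n = 0 := (Submodule.Quotient.mk_eq_zero N).mpr hn
    rw [map_add, hn0, zero_add]
    have := Submodule.mem_map_of_mem (f := N.mkQ) hz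
    rw [Submodule.map_smul''] at this
    exact Submodule.smul_mono le_rfl le_top this
  obtain ⟨r, hr1, hr0⟩ := Submodule.exists_sub_one_mem_and_smul_eq_zero_of_fg_of_le_smul 𝔪
    (⊤ : Submodule R (M ⧸ N)) Module.Finite.fg_top h3
  have hrI : r ∈ I := by
    rw [Submodule.mem_colon]
    intro x _
    have := hr0 (N.mkQ x) (Submodule.mem_top (R := R))
    rw [← map_smul] at this
    exact (Submodule.Quotient.mk_eq_zero N).mp this
  have h4 : (1 : R) ∈ 𝔪 := by
    have := sub_mem (hle hrI) hr1
    simpa using this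
  exact h𝔪.ne_top ((Ideal.eq_top_iff_one 𝔪).mpr h4)

end Nak

section DualSurj

variable {R : Type u} [CommRing R] {P Q : Type u} [AddCommGroup P] [Module R P]
  [AddCommGroup Q] [Module R Q]

/-- a functional with values in an ideal `𝔞` on a finite projective module lies in `𝔞 • ⊤`. -/
lemma mem_smul_top_of_forall_mem [Module.Finite R P] [Module.Projective R P] (𝔞 : Ideal R)
    (δ : Module.Dual R P) (h : ∀ p, δ p ∈ 𝔞) :
    δ ∈ 𝔞 • (⊤ : Submodule R (Module.Dual R P)) := by
  classical
  obtain ⟨n, f, g, -, -, hfg⟩ := Module.Finite.exists_comp_eq_id_of_projective R P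
  have h1 : δ = ∑ k : Fin n, δ (f (Pi.single k 1)) • ((LinearMap.proj k : (Fin n → R) →ₗ[R] R) ∘ₗ g) := by
    apply LinearMap.ext
    intro p
    have h2 : p = f (g p) := by
      have := LinearMap.congr_fun hfg p
      exact this.symm
    conv_lhs => rw [h2]
    have h3 : g p = ∑ k : Fin n, (g p k) • (Pi.single k (1 : R) : Fin n → R) := by
      funext j
      simp [Finset.sum_apply, Pi.single_apply]
    conv_lhs => rw [h3]
    rw [map_sum, map_sum, LinearMap.sum_apply]
    refine Finset.sum_congr rfl (fun k _ => ?_)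
    simp only [map_smul, LinearMap.smul_apply,
      LinearMap.comp_apply, LinearMap.proj_apply, smul_eq_mul]
    ring
  rw [h1]
  refine Submodule.sum_mem _ (fun k _ => ?_)
  exact Submodule.smul_mem_smul (h _) Submodule.mem_top

theorem dualMap_surjective_of_fibrewise_injective [Module.Finite R P] [Module.Projective R P]
    [Module.Projective R Q] (u : P →ₗ[R] Q)
    (h : ∀ (𝔪 : Ideal R) [𝔪.IsMaximal], Function.Injective (u.baseChange (R ⧸ 𝔪))) :
    Function.Surjective u.dualMap := by
  rw [← LinearMap.range_eq_top]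
  apply eq_top_of_forall_maximal_sup_smul_eq_top
  intro 𝔪 h𝔪
  rw [eq_top_iff]
  intro lam _
  let _ : Field (R ⧸ 𝔪) := Ideal.Quotient.field 𝔪
  have hinj : Function.Injective (u.baseChange (R ⧸ 𝔪)) := h 𝔪
  obtain ⟨ρ, hρ⟩ := LinearMap.exists_leftInverse_of_injective (u.baseChange (R ⧸ 𝔪))
    (LinearMap.ker_eq_bot.mpr hinj)
  let ν : Q →ₗ[R] (R ⧸ 𝔪) :=
    ((Module.Dual.baseChange (R ⧸ 𝔪) lam).restrictScalars R) ∘ₗ (ρ.restrictScalars R) ∘ₗ
    (TensorProduct.mk R (R ⧸ 𝔪) Q 1)
  obtain ⟨μ, hμ⟩ := Module.projective_lifting_property (Algebra.linearMap R (R ⧸ 𝔪)) ν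
    Ideal.Quotient.mk_surjective
  have hν : ∀ p : P, ν (u p) = Ideal.Quotient.mk 𝔪 (lam p) := by
    intro p
    have h1 : ρ ((1 : R ⧸ 𝔪) ⊗ₜ[R] u p) = (1 : R ⧸ 𝔪) ⊗ₜ[R] p := by
      have := LinearMap.congr_fun hρ ((1 : R ⧸ 𝔪) ⊗ₜ[R] p)
      simpa using this
    show (Module.Dual.baseChange (R ⧸ 𝔪) lam) (ρ ((1 : R ⧸ 𝔪) ⊗ₜ[R] u p)) = _
    rw [h1, Module.Dual.baseChange_apply_tmul]
    rw [Algebra.smul_def, mul_one]
    rfl
  let δ : Module.Dual R P := μ ∘ₗ u - lam
  have hδ : ∀ p, δ p ∈ 𝔪 := by
    intro p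
    rw [← Ideal.Quotient.eq_zero_iff_mem]
    show Ideal.Quotient.mk 𝔪 (μ (u p) - lam p) = 0
    rw [map_sub, ← hν p, sub_eq_zero]
    exact LinearMap.congr_fun hμ (u p)
  have h2 : lam = u.dualMap μ - δ := by
    show lam = μ ∘ₗ u - (μ ∘ₗ u - lam)
    abel
  rw [h2]
  exact sub_mem (Submodule.mem_sup_left ⟨μ, rfl⟩)
    (Submodule.mem_sup_right (mem_smul_top_of_forall_mem 𝔪 δ hδ))

end DualSurj

/-- a faithfully flat finite ring map over a noetherian base has a module retraction. -/
theorem exists_retraction {R : Type u} [CommRing R] [IsNoetherianRing R] {A'' A : Type u}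
    [CommRing A''] [CommRing A] [Algebra R A''] [Algebra R A] [Module.Finite R A'']
    [Module.Finite R A] (f : A'' →ₐ[R] A) (hf : f.toRingHom.FaithfullyFlat) :
    ∃ σ : A →ₗ[R] A'', (∀ c a, σ (f c * a) = c * σ a) ∧ σ 1 = 1 := by
  let _ : Algebra A'' A := f.toRingHom.toAlgebra
  have hst : IsScalarTower R A'' A := IsScalarTower.of_algebraMap_eq (fun r => (f.commutes r).symm)
  have hff : Module.FaithfullyFlat A'' A := hf
  have hfin : Module.Finite A'' A := Module.Finite.of_restrictScalars_finite R A'' A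
  have hnoeth : IsNoetherianRing A'' := IsNoetherianRing.of_finite R A''
  have hfp : Module.FinitePresentation A'' A := Module.finitePresentation_of_finite A'' A
  have hproj : Module.Projective A'' A := Module.Flat.projective_of_finitePresentation
  let u : A'' →ₗ[A''] A := Algebra.linearMap A'' A
  have hsurj : Function.Surjective u.dualMap := by
    apply dualMap_surjective_of_fibrewise_injective
    intro 𝔫 h𝔫
    have key : ∀ z : (A'' ⧸ 𝔫) ⊗[A''] A'',
        TensorProduct.mk A'' A (A'' ⧸ 𝔫) 1 (TensorProduct.rid A'' (A'' ⧸ 𝔫) z) =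
          TensorProduct.comm A'' (A'' ⧸ 𝔫) A (u.baseChange (A'' ⧸ 𝔫) z) := by
      intro z
      induction z using TensorProduct.induction_on with
      | zero => simp
      | add x y hx hy => simp only [map_add, hx, hy]
      | tmul q c =>
        simp only [TensorProduct.rid_tmul, TensorProduct.mk_apply, LinearMap.baseChange_tmul,
          TensorProduct.comm_tmul, u, Algebra.linearMap_apply]
        rw [TensorProduct.tmul_smul, Algebra.algebraMap_eq_smul_one, TensorProduct.smul_tmul']
    intro x y hxy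
    apply (TensorProduct.rid A'' (A'' ⧸ 𝔫)).injective
    apply Module.FaithfullyFlat.tensorProduct_mk_injective (A := A'') (B := A) (A'' ⧸ 𝔫)
    rw [key, key, hxy]
  obtain ⟨σ₀, hσ₀⟩ := hsurj (LinearMap.id : A'' →ₗ[A''] A'')
  have h1 : ∀ c : A'', σ₀ (algebraMap A'' A c) = c := by
    intro c
    have := LinearMap.congr_fun hσ₀ c
    simpa [u] using this
  refine ⟨σ₀.restrictScalars R, ?_, ?_⟩
  · intro c a
    show σ₀ (algebraMap A'' A c * a) = c * σ₀ a
    rw [← Algebra.smul_def, map_smul, smul_eq_mul]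
  · show σ₀ 1 = 1
    have := h1 1
    rwa [map_one] at this


end Groth.Agent.Lib.Helper77.CartExact
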