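import Mathlib
import Groth.Agent.Lib.Helper77.MultMono

/-!
# Cartier dual of a short exact sequence, part 2 (helper77; for S15892)

For `f : A'' → A`, `g : A → A'` an exact sequence of commutative Hopf algebras and `σ : A → A''`
an `A''`-linear retraction of `f`: the comodule retraction `π : A' ⊗ A → A` of the left coaction
`λ = (g ⊗ id) ∘ Δ`,  `π (g b ⊗ a) = ∑ b₁ f σ (S b₂ a)`.
-/

set_option autoImplicit false
universe u
open TensorProduct

namespace Groth.Agent.Lib.Helper77.CartExact

section Hopf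

variable {R : Type u} [CommRing R] {A' A A'' : Type u} [CommRing A'] [HopfAlgebra R A']
  [CommRing A] [HopfAlgebra R A] [CommRing A''] [HopfAlgebra R A'']
  (f : A'' →ₐc[R] A) (g : A →ₐc[R] A') (σ : A →ₗ[R] A'')

/-- `f ∘ σ` -/
noncomputable def fs : A →ₗ[R] A := (f : A'' →ₐ[R] A).toLinearMap ∘ₗ σ

lemma fs_apply (a : A) : fs f σ a = f (σ a) := rfl

/-- `Ψ_a (x ⊗ y) = x * fσ (S y * a)` -/
noncomputable def Psi (a : A) : A ⊗[R] A →ₗ[R] A :=
  LinearMap.mul' R A ∘ₗ TensorProduct.map LinearMap.id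
    (fs f σ ∘ₗ LinearMap.mulRight R a ∘ₗ HopfAlgebra.antipode R)

@[simp] lemma Psi_tmul (a x y : A) :
    Psi f σ a (x ⊗ₜ[R] y) = x * f (σ (HopfAlgebra.antipode R y * a)) := by
  simp [Psi, fs]

/-- `π₀ (b ⊗ a) = ∑ b₁ * fσ (S b₂ * a)` -/
noncomputable def pi0 : A ⊗[R] A →ₗ[R] A :=
  LinearMap.mul' R A ∘ₗ
    LinearMap.lTensor A (fs f σ ∘ₗ LinearMap.mul' R A ∘ₗ
      LinearMap.rTensor A (HopfAlgebra.antipode R)) ∘ₗ
    (TensorProduct.assoc R A A A).toLinearMap ∘ₗ LinearMap.rTensor A Coalgebra.comul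

lemma pi0_tmul (b a : A) : pi0 f σ (b ⊗ₜ[R] a) = Psi f σ a (Coalgebra.comul b) := by
  simp only [pi0, LinearMap.coe_comp, LinearEquiv.coe_coe, Function.comp_apply,
    LinearMap.rTensor_tmul]
  generalize (Coalgebra.comul (R := R) b) = t
  induction t using TensorProduct.induction_on with
  | zero => simp
  | add x y hx hy => simp only [TensorProduct.add_tmul, map_add, hx, hy]
  | tmul x y => simp [fs]

lemma pi0_comul (hσ1 : σ 1 = 1) (a : A) : pi0 f σ (Coalgebra.comul a) = a := by
  simp only [pi0, LinearMap.coe_comp, LinearEquiv.coe_coe, Function.comp_apply]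
  rw [Coalgebra.coassoc_apply, ← LinearMap.comp_apply (LinearMap.lTensor A _),
    ← LinearMap.lTensor_comp]
  have h1 : (fs f σ ∘ₗ LinearMap.mul' R A ∘ₗ LinearMap.rTensor A (HopfAlgebra.antipode R)) ∘ₗ
      Coalgebra.comul = Algebra.linearMap R A ∘ₗ Coalgebra.counit := by
    rw [LinearMap.comp_assoc, LinearMap.comp_assoc, HopfAlgebra.mul_antipode_rTensor_comul]
    apply LinearMap.ext
    intro x
    simp only [LinearMap.coe_comp, Function.comp_apply, Algebra.linearMap_apply, fs_apply]
    rw [Algebra.algebraMap_eq_smul_one, map_smul, hσ1, map_smul, map_one]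
  rw [h1, LinearMap.lTensor_comp, LinearMap.comp_apply, Coalgebra.lTensor_counit_comul]
  simp

lemma pi0_one_tmul (a : A) : pi0 f σ (1 ⊗ₜ[R] a) = f (σ a) := by
  rw [pi0_tmul, Bialgebra.comul_one, Algebra.TensorProduct.one_def, Psi_tmul,
    HopfAlgebra.antipode_one, one_mul, one_mul]

lemma Psi_map_mul (hσ : ∀ c a, σ (f c * a) = c * σ a) (a : A) (u : A'' ⊗[R] A'')
    (w : A ⊗[R] A) :
    Psi f σ a (TensorProduct.map (f : A'' →ₐ[R] A).toLinearMap (f : A'' →ₐ[R] A).toLinearMap u * w) =
      f (LinearMap.mul' R A'' (LinearMap.lTensor A'' (HopfAlgebra.antipode R) u)) *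
        Psi f σ a w := by
  induction u using TensorProduct.induction_on with
  | zero => simp
  | add x y hx hy => simp only [map_add, add_mul, hx, hy]
  | tmul c' c'' =>
    induction w using TensorProduct.induction_on with
    | zero => simp
    | add x y hx hy => simp only [mul_add, map_add, hx, hy]
    | tmul x y =>
      simp only [TensorProduct.map_tmul, AlgHom.toLinearMap_apply,
        Algebra.TensorProduct.tmul_mul_tmul, Psi_tmul, LinearMap.lTensor_tmul,
        LinearMap.mul'_apply, map_mul]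
      have hcoe : ∀ c, (f : A'' →ₐ[R] A) c = f c := fun _ => rfl
      simp only [hcoe]
      rw [HopfAlgebra.antipode_mul_distrib, ← MultMono.map_antipode,
        mul_assoc (f (HopfAlgebra.antipode R c'')), hσ, map_mul]
      ring

lemma pi0_mul_tmul (hσ : ∀ c a, σ (f c * a) = c * σ a) (c : A'') (b a : A) :
    pi0 f σ ((f c * b) ⊗ₜ[R] a) = Coalgebra.counit (R := R) c • pi0 f σ (b ⊗ₜ[R] a) := by
  rw [pi0_tmul, pi0_tmul, Bialgebra.comul_mul]
  have h1 : Coalgebra.comul (R := R) (f c) =
      TensorProduct.map (f : A'' →ₐ[R] A).toLinearMap (f : A'' →ₐ[R] A).toLinearMap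
        (Coalgebra.comul (R := R) c) := (CoalgHomClass.map_comp_comul_apply f c).symm
  rw [h1, Psi_map_mul f σ hσ, HopfAlgebra.mul_antipode_lTensor_comul_apply,
    Algebra.algebraMap_eq_smul_one, map_smul, map_one, smul_mul_assoc, one_mul]

/-- the left coaction `λ = (g ⊗ id) ∘ Δ` as an algebra map. -/
noncomputable def lam : A →ₐ[R] A' ⊗[R] A :=
  (Algebra.TensorProduct.map (g : A →ₐ[R] A') (AlgHom.id R A)).comp (Bialgebra.comulAlgHom R A)

lemma lam_apply (a : A) :
    lam g a = LinearMap.rTensor A (g : A →ₐ[R] A').toLinearMap (Coalgebra.comul a) := by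
  simp only [lam, AlgHom.comp_apply, Bialgebra.comulAlgHom_apply]
  generalize (Coalgebra.comul (R := R) a) = t
  induction t using TensorProduct.induction_on with
  | zero => simp
  | add x y hx hy => simp only [map_add, hx, hy]
  | tmul x y => simp

lemma lam_f (hgf : ∀ c, g (f c) = algebraMap R A' (Coalgebra.counit (R := R) c)) (c : A'') :
    lam g (f c) = 1 ⊗ₜ[R] f c := by
  rw [lam_apply]
  have h1 : Coalgebra.comul (R := R) (f c) =
      TensorProduct.map (f : A'' →ₐ[R] A).toLinearMap (f : A'' →ₐ[R] A).toLinearMap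
        (Coalgebra.comul (R := R) c) := (CoalgHomClass.map_comp_comul_apply f c).symm
  rw [h1]
  have key : ∀ t : A'' ⊗[R] A'',
      LinearMap.rTensor A (g : A →ₐ[R] A').toLinearMap
        (TensorProduct.map (f : A'' →ₐ[R] A).toLinearMap (f : A'' →ₐ[R] A).toLinearMap t) =
      (1 : A') ⊗ₜ[R] f (TensorProduct.lid R A'' (LinearMap.rTensor A'' Coalgebra.counit t)) := by
    intro t
    induction t using TensorProduct.induction_on with
    | zero => simp
    | add x y hx hy => simp only [map_add, hx, hy, TensorProduct.tmul_add]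
    | tmul c₁ c₂ =>
      have hcoe : ∀ c, (f : A'' →ₐ[R] A) c = f c := fun _ => rfl
      have hcoe' : ∀ a, (g : A →ₐ[R] A') a = g a := fun _ => rfl
      simp only [TensorProduct.map_tmul, LinearMap.rTensor_tmul, AlgHom.toLinearMap_apply,
        TensorProduct.lid_tmul, hcoe, hcoe', hgf, map_smul]
      rw [Algebra.algebraMap_eq_smul_one, TensorProduct.smul_tmul]
  rw [key, Coalgebra.rTensor_counit_comul, TensorProduct.lid_tmul, one_smul]

lemma lam_Psi (hgf : ∀ c, g (f c) = algebraMap R A' (Coalgebra.counit (R := R) c)) (a : A)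
    (w : A ⊗[R] A) :
    lam g (Psi f σ a w) = TensorProduct.map (g : A →ₐ[R] A').toLinearMap (Psi f σ a)
      (TensorProduct.assoc R A A A (LinearMap.rTensor A Coalgebra.comul w)) := by
  induction w using TensorProduct.induction_on with
  | zero => simp
  | add x y hx hy => simp only [map_add, hx, hy]
  | tmul x y =>
    rw [Psi_tmul, map_mul, lam_f f g hgf, lam_apply, LinearMap.rTensor_tmul]
    generalize (Coalgebra.comul (R := R) x) = t
    induction t using TensorProduct.induction_on with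
    | zero => simp
    | add p q hp hq => simp only [map_add, add_mul, hp, hq, TensorProduct.add_tmul]
    | tmul p q => simp

lemma lam_pi0 (hgf : ∀ c, g (f c) = algebraMap R A' (Coalgebra.counit (R := R) c)) (b a : A) :
    lam g (pi0 f σ (b ⊗ₜ[R] a)) = TensorProduct.map (g : A →ₐ[R] A').toLinearMap
      (pi0 f σ ∘ₗ (TensorProduct.mk R A A).flip a) (Coalgebra.comul b) := by
  rw [pi0_tmul, lam_Psi f g σ hgf, Coalgebra.coassoc_apply]
  have h1 : pi0 f σ ∘ₗ (TensorProduct.mk R A A).flip a = Psi f σ a ∘ₗ Coalgebra.comul := by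
    apply LinearMap.ext
    intro b'
    simp only [LinearMap.coe_comp, Function.comp_apply, LinearMap.flip_apply,
      TensorProduct.mk_apply]
    exact pi0_tmul f σ b' a
  rw [h1]
  generalize (Coalgebra.comul (R := R) b) = t
  induction t using TensorProduct.induction_on with
  | zero => simp
  | add p q hp hq => simp only [map_add, hp, hq]
  | tmul p q => simp

lemma pi0_eq_zero_of_mem_ker (hσ : ∀ c a, σ (f c * a) = c * σ a)
    (hker : RingHom.ker (g : A →ₐ[R] A') =
      Ideal.map (f : A'' →ₐ[R] A) (RingHom.ker (Bialgebra.counitAlgHom R A'')))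
    (y : A) (hy : g y = 0) (a : A) : pi0 f σ (y ⊗ₜ[R] a) = 0 := by
  have hy' : y ∈ Ideal.map (f : A'' →ₐ[R] A) (RingHom.ker (Bialgebra.counitAlgHom R A'')) := by
    rw [← hker]
    exact hy
  clear hy
  have key : ∀ b a, pi0 f σ ((b * y) ⊗ₜ[R] a) = 0 := by
    unfold Ideal.map at hy'
    induction hy' using Submodule.span_induction with
    | mem y hy =>
      obtain ⟨c, hc, rfl⟩ := hy
      intro b a
      have hc' : Coalgebra.counit (R := R) c = 0 := hc
      have hcoe : (f : A'' →ₐ[R] A) c = f c := rfl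
      rw [hcoe, mul_comm, pi0_mul_tmul f σ hσ, hc', zero_smul]
    | zero => intro b a; simp
    | add x y _ _ hx hy =>
      intro b a
      rw [mul_add, TensorProduct.add_tmul, map_add, hx, hy, add_zero]
    | smul r x _ hx =>
      intro b a
      rw [smul_eq_mul, ← mul_assoc]
      exact hx (b * r) a
  have := key 1 a
  rwa [one_mul] at this

theorem exists_pi (hσ : ∀ c a, σ (f c * a) = c * σ a) (hg : Function.Surjective g)
    (hker : RingHom.ker (g : A →ₐ[R] A') =
      Ideal.map (f : A'' →ₐ[R] A) (RingHom.ker (Bialgebra.counitAlgHom R A''))) :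
    ∃ π : A' ⊗[R] A →ₗ[R] A, ∀ b a, π (g b ⊗ₜ[R] a) = pi0 f σ (b ⊗ₜ[R] a) := by
  let gL : A →ₗ[R] A' := (g : A →ₐ[R] A').toLinearMap
  have hgL : Function.Surjective gL := hg
  let p : A ⊗[R] A →ₗ[R] A' ⊗[R] A := LinearMap.rTensor A gL
  have hp : Function.Surjective p := LinearMap.rTensor_surjective A hgL
  have hex : Function.Exact (LinearMap.rTensor A (LinearMap.ker gL).subtype) p :=
    rTensor_exact A (LinearMap.exact_subtype_ker_map gL) hgL
  have hzero' : ∀ z', pi0 f σ (LinearMap.rTensor A (LinearMap.ker gL).subtype z') = 0 := by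
    intro z'
    induction z' using TensorProduct.induction_on with
    | zero => simp
    | add x y hx hy => rw [map_add, map_add, hx, hy, add_zero]
    | tmul y a =>
      rw [LinearMap.rTensor_tmul]
      exact pi0_eq_zero_of_mem_ker f g σ hσ hker y.1 y.2 a
  have hzero : ∀ z, p z = 0 → pi0 f σ z = 0 := by
    intro z hz
    obtain ⟨z', rfl⟩ := (hex z).mp hz
    exact hzero' z'
  refine ⟨(Submodule.liftQ (LinearMap.ker p) (pi0 f σ) (fun x hx => hzero x hx)) ∘ₗ
    (p.quotKerEquivOfSurjective hp).symm.toLinearMap, fun b a => ?_⟩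
  have h1 : (p.quotKerEquivOfSurjective hp).symm (g b ⊗ₜ[R] a) =
      Submodule.Quotient.mk (b ⊗ₜ[R] a) := by
    rw [LinearEquiv.symm_apply_eq]
    rfl
  simp only [LinearMap.comp_apply, LinearEquiv.coe_coe]
  rw [h1]
  rfl

lemma lam_pi (hgf : ∀ c, g (f c) = algebraMap R A' (Coalgebra.counit (R := R) c))
    (hg : Function.Surjective g) (π : A' ⊗[R] A →ₗ[R] A)
    (hπ : ∀ b a, π (g b ⊗ₜ[R] a) = pi0 f σ (b ⊗ₜ[R] a)) (x : A') (a : A) :
    lam g (π (x ⊗ₜ[R] a)) = LinearMap.lTensor A' π
      (TensorProduct.assoc R A' A' A (Coalgebra.comul x ⊗ₜ[R] a)) := by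
  obtain ⟨b, rfl⟩ := hg x
  rw [hπ, lam_pi0 f g σ hgf]
  have h1 : Coalgebra.comul (R := R) (g b) =
      TensorProduct.map (g : A →ₐ[R] A').toLinearMap (g : A →ₐ[R] A').toLinearMap
        (Coalgebra.comul (R := R) b) := (CoalgHomClass.map_comp_comul_apply g b).symm
  rw [h1]
  generalize (Coalgebra.comul (R := R) b) = t
  induction t using TensorProduct.induction_on with
  | zero => simp
  | add p q hp hq => simp only [map_add, hp, hq, TensorProduct.add_tmul]
  | tmul p q =>
    have hcoe : ∀ a, (g : A →ₐ[R] A') a = g a := fun _ => rfl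
    simp [hcoe, hπ]

end Hopf

end Groth.Agent.Lib.Helper77.CartExact
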