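import Mathlib
import Groth.Prelude.Def_CartDual2
import Groth.Agent.Lib.Helper77.CartExact2

/-!
# Cartier dual of a short exact sequence, part 3 (helper77; for S15892)

The dual side: the pairing `E : D A' ⊗ D A ≃ (A' ⊗ A)^*`, the multiplication map
`s ⊗ t ↦ gᵗ(s) * t` and its evaluation through the left coaction.
-/

set_option autoImplicit false
universe u
open TensorProduct CartDual

namespace Groth.Agent.Lib.Helper77.CartExact

section Dual

variable {R : Type u} [CommRing R] {A' A : Type u} [CommRing A'] [HopfAlgebra R A']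
  [CommRing A] [HopfAlgebra R A]
  [Module.Finite R A'] [Module.Projective R A'] [Module.Finite R A] [Module.Projective R A]
  (g : A →ₐc[R] A')

variable (R A' A) in
/-- `D A' ⊗ D A ≃ (A' ⊗ A)^*`. -/
noncomputable def E : D R A' ⊗[R] D R A ≃ₗ[R] Module.Dual R (A' ⊗[R] A) :=
  TensorProduct.congr (toDual R A') (toDual R A) ≪≫ₗ dualTensorEquiv R A' A

@[simp] lemma E_tmul (s : D R A') (t : D R A) (x : A') (a : A) :
    E R A' A (s ⊗ₜ[R] t) (x ⊗ₜ[R] a) = s x * t a := by
  simp [E, coe_apply]

/-- `s ⊗ t ↦ gᵗ(s) * t`. -/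
noncomputable def mulMap : D R A' ⊗[R] D R A →ₗ[R] D R A :=
  LinearMap.mul' R (D R A) ∘ₗ LinearMap.rTensor (D R A) (transpose R g : D R A' →ₐ[R] D R A).toLinearMap

@[simp] lemma mulMap_tmul (s : D R A') (t : D R A) :
    mulMap g (s ⊗ₜ[R] t) = transpose R g s * t := by
  simp [mulMap]

/-- (I1) -/
lemma mulMap_apply (w : D R A' ⊗[R] D R A) (a : A) :
    mulMap g w a = E R A' A w (lam g a) := by
  induction w using TensorProduct.induction_on with
  | zero => simp
  | add x y hx hy =>
    rw [map_add, map_add, LinearMap.add_apply, ← hx, ← hy]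
    rfl
  | tmul s t =>
    rw [mulMap_tmul, LinearMap.convMul_apply, lam_apply]
    generalize (Coalgebra.comul (R := R) a) = z
    induction z using TensorProduct.induction_on with
    | zero => simp
    | add p q hp hq => simp only [map_add, hp, hq]
    | tmul p q =>
      simp only [TensorProduct.map_tmul, LinearMap.mul'_apply, LinearMap.rTensor_tmul,
        AlgHom.toLinearMap_apply, E_tmul]
      rfl

/-- (I2) -/
lemma E_smul (s : D R A') (w : D R A' ⊗[R] D R A) (x : A') (a : A) :
    E R A' A (s • w) (x ⊗ₜ[R] a) =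
      TensorProduct.lid R R (TensorProduct.map s.ofConv (E R A' A w)
        (TensorProduct.assoc R A' A' A (Coalgebra.comul x ⊗ₜ[R] a))) := by
  induction w using TensorProduct.induction_on with
  | zero => simp
  | add p q hp hq =>
    rw [smul_add, map_add, LinearMap.add_apply, hp, hq, map_add, TensorProduct.map_add_right,
      LinearMap.add_apply, map_add]
  | tmul s' t' =>
    rw [TensorProduct.smul_tmul', smul_eq_mul, E_tmul, LinearMap.convMul_apply]
    generalize (Coalgebra.comul (R := R) x) = z
    induction z using TensorProduct.induction_on with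
    | zero => simp
    | add p q hp hq => simp only [map_add, add_mul, hp, hq, TensorProduct.add_tmul]
    | tmul p q =>
      simp only [TensorProduct.map_tmul, LinearMap.mul'_apply, TensorProduct.assoc_tmul,
        E_tmul, TensorProduct.lid_tmul, smul_eq_mul, mul_assoc]

/-- `s ⊗ t ↦ s(1) t`. -/
noncomputable def lidMap : D R A' ⊗[R] D R A →ₗ[R] D R A :=
  (TensorProduct.lid R (D R A)).toLinearMap ∘ₗ LinearMap.rTensor (D R A) (Coalgebra.counit (R := R) (A := D R A'))

/-- (I4) -/
lemma lidMap_apply (w : D R A' ⊗[R] D R A) (a : A) :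
    lidMap (A' := A') w a = E R A' A w (1 ⊗ₜ[R] a) := by
  induction w using TensorProduct.induction_on with
  | zero => simp
  | add x y hx hy =>
    rw [map_add, map_add, LinearMap.add_apply, ← hx, ← hy]
    rfl
  | tmul s t =>
    simp only [lidMap, LinearMap.coe_comp, LinearEquiv.coe_coe, Function.comp_apply,
      LinearMap.rTensor_tmul, TensorProduct.lid_tmul, E_tmul, coalgebra_counit_apply]
    rfl


variable [Coalgebra.IsCocomm R A'] [Coalgebra.IsCocomm R A]

/-- (I3) -/
lemma mulMap_sub_lidMap_mem (w : D R A' ⊗[R] D R A) :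
    mulMap g w - lidMap w ∈ Ideal.map (transpose R g : D R A' →ₐ[R] D R A)
      (RingHom.ker (Bialgebra.counitAlgHom R (D R A'))) := by
  induction w using TensorProduct.induction_on with
  | zero => simp
  | add x y hx hy =>
    rw [map_add, map_add, add_sub_add_comm]
    exact add_mem hx hy
  | tmul s t =>
    have h1 : mulMap g (s ⊗ₜ[R] t) - lidMap (s ⊗ₜ[R] t) =
        (transpose R g : D R A' →ₐ[R] D R A)
          (s - algebraMap R (D R A') (Coalgebra.counit (R := R) s)) * t := by
      rw [mulMap_tmul, map_sub, sub_mul, AlgHom.commutes, ← Algebra.smul_def]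
      simp [lidMap]
    rw [h1]
    refine Ideal.mul_mem_right _ _ (Ideal.mem_map_of_mem _ ?_)
    rw [RingHom.mem_ker, map_sub, Bialgebra.counitAlgHom_apply, Bialgebra.counitAlgHom_apply,
      Bialgebra.counit_algebraMap]
    simp

end Dual

end Groth.Agent.Lib.Helper77.CartExact
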