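import Mathlib

/-!
# Deformation rigidity of diagonalisable groups I: lifting freeness along a nilpotent ideal (helper77)
-/

set_option autoImplicit false
universe u
open TensorProduct WithConv

namespace Groth.Agent.Lib.Helper77.DefRigid

section Tor

variable {K : Type u} [CommRing K] (𝔞 : Ideal K)

/-- `a ⊗ x ↦ a • x`. -/
noncomputable def mult (X : Type u) [AddCommGroup X] [Module K X] : 𝔞 ⊗[K] X →ₗ[K] X :=
  (TensorProduct.lid K X).toLinearMap ∘ₗ LinearMap.rTensor X 𝔞.subtype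

@[simp] lemma mult_tmul (X : Type u) [AddCommGroup X] [Module K X] (a : 𝔞) (x : X) :
    mult 𝔞 X (a ⊗ₜ[K] x) = (a : K) • x := by
  simp [mult]

lemma mult_injective (X : Type u) [AddCommGroup X] [Module K X] [Module.Flat K X] :
    Function.Injective (mult 𝔞 X) := by
  have h := (Module.Flat.iff_rTensor_injective' (R := K) (M := X)).mp inferInstance 𝔞
  exact (TensorProduct.lid K X).injective.comp h

lemma exists_mult_eq {X : Type u} [AddCommGroup X] [Module K X] {x : X}
    (hx : x ∈ 𝔞 • (⊤ : Submodule K X)) : ∃ z, mult 𝔞 X z = x := by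
  refine Submodule.smul_induction_on hx ?_ ?_
  · intro a ha y _
    exact ⟨(⟨a, ha⟩ : 𝔞) ⊗ₜ[K] y, by simp⟩
  · rintro x y ⟨z, rfl⟩ ⟨z', rfl⟩
    exact ⟨z + z', map_add _ _ _⟩

/-- if `F ⧸ L` is flat then `L ∩ 𝔞 F = 𝔞 L`. -/
theorem mem_smul_of_mem_of_flat_quotient {F : Type u} [AddCommGroup F] [Module K F]
    (L : Submodule K F) [Module.Flat K (F ⧸ L)] {x : F} (hx : x ∈ L)
    (hxa : x ∈ 𝔞 • (⊤ : Submodule K F)) : x ∈ 𝔞 • L := by
  obtain ⟨z, rfl⟩ := exists_mult_eq 𝔞 hxa
  have hnat : ∀ w : 𝔞 ⊗[K] F, mult 𝔞 (F ⧸ L) (LinearMap.lTensor 𝔞 L.mkQ w) = L.mkQ (mult 𝔞 F w) := by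
    intro w
    induction w using TensorProduct.induction_on with
    | zero => simp
    | add p q hp hq => simp only [map_add, hp, hq]
    | tmul a y => simp
  have h1 : LinearMap.lTensor 𝔞 L.mkQ z = 0 := by
    apply mult_injective 𝔞 (F ⧸ L)
    rw [hnat, map_zero]
    exact (Submodule.Quotient.mk_eq_zero L).mpr hx
  have hex := lTensor_exact 𝔞 (LinearMap.exact_subtype_mkQ L) (Submodule.mkQ_surjective L)
  obtain ⟨s, rfl⟩ := (hex z).mp h1
  clear h1 hx hxa
  induction s using TensorProduct.induction_on with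
  | zero => simp
  | add p q hp hq =>
    rw [map_add, map_add]
    exact add_mem hp hq
  | tmul a l =>
    rw [LinearMap.lTensor_tmul, mult_tmul]
    exact Submodule.smul_mem_smul a.2 l.2

end Tor

section FreeLift

variable {K : Type u} [CommRing K] (𝔞 : Ideal K) {B : Type u} [AddCommGroup B] [Module K B]

lemma le_of_le_sup_smul_of_nilpotent (h𝔞 : IsNilpotent 𝔞) (N L : Submodule K B)
    (h : L ≤ N ⊔ 𝔞 • L) : L ≤ N := by
  obtain ⟨n, hn⟩ := h𝔞
  have key : ∀ k : ℕ, L ≤ N ⊔ (𝔞 ^ k) • L := by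
    intro k
    induction k with
    | zero => rw [pow_zero, Ideal.one_eq_top, Submodule.top_smul]; exact le_sup_right
    | succ k ih =>
      refine h.trans (sup_le le_sup_left ?_)
      calc 𝔞 • L ≤ 𝔞 • (N ⊔ (𝔞 ^ k) • L) := Submodule.smul_mono le_rfl ih
        _ = 𝔞 • N ⊔ 𝔞 • ((𝔞 ^ k) • L) := Submodule.smul_sup _ _ _
        _ ≤ N ⊔ (𝔞 ^ (k + 1)) • L := by
          refine sup_le_sup Submodule.smul_le_right ?_
          rw [← Submodule.mul_smul, pow_succ']
  have := key n
  rwa [hn, Ideal.zero_eq_bot, Submodule.bot_smul, sup_bot_eq] at this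

/-- a family in a flat module which is a basis modulo a nilpotent ideal is a basis. -/
theorem linearCombination_bijective_of_flat_of_nilpotent [Module.Flat K B] (h𝔞 : IsNilpotent 𝔞)
    {ι : Type u} (a : ι → B)
    (hspan : ∀ x : B, ∃ c : ι →₀ K, x - Finsupp.linearCombination K a c ∈ 𝔞 • (⊤ : Submodule K B))
    (hind : ∀ c : ι →₀ K, Finsupp.linearCombination K a c ∈ 𝔞 • (⊤ : Submodule K B) →
      ∀ i, c i ∈ 𝔞) :
    Function.Bijective (Finsupp.linearCombination K a) := by
  have hsurj : Function.Surjective (Finsupp.linearCombination K a) := by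
    rw [← LinearMap.range_eq_top, eq_top_iff]
    apply le_of_le_sup_smul_of_nilpotent 𝔞 h𝔞
    intro x _
    obtain ⟨c, hc⟩ := hspan x
    have : x = Finsupp.linearCombination K a c + (x - Finsupp.linearCombination K a c) := by abel
    rw [this]
    exact add_mem (Submodule.mem_sup_left ⟨c, rfl⟩) (Submodule.mem_sup_right hc)
  refine ⟨?_, hsurj⟩
  rw [← LinearMap.ker_eq_bot, eq_bot_iff]
  set φ := Finsupp.linearCombination K a with hφ
  have hflat : Module.Flat K ((ι →₀ K) ⧸ LinearMap.ker φ) :=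
    Module.Flat.of_linearEquiv (φ.quotKerEquivOfSurjective hsurj)
  apply le_of_le_sup_smul_of_nilpotent 𝔞 h𝔞
  intro c hc
  refine Submodule.mem_sup_right ?_
  apply mem_smul_of_mem_of_flat_quotient 𝔞 _ hc
  have hc0 : φ c = 0 := hc
  have hci : ∀ i, c i ∈ 𝔞 := hind c (by rw [hc0]; exact zero_mem _)
  rw [← Finsupp.sum_single c]
  refine Submodule.sum_mem _ (fun i _ => ?_)
  have : Finsupp.single i (c i) = (c i) • (Finsupp.single i (1 : K) : ι →₀ K) := by
    rw [Finsupp.smul_single, smul_eq_mul, mul_one]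
  rw [this]
  exact Submodule.smul_mem_smul (hci i) Submodule.mem_top

end FreeLift

end Groth.Agent.Lib.Helper77.DefRigid
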