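import Mathlib
import Groth.Agent.Lib.Helper77.DefRigid1

/-!
# Deformation rigidity II: group-like lifts via idempotent lifting in the dual convolution algebra (helper77)
-/

set_option autoImplicit false
universe u
open TensorProduct WithConv

namespace Groth.Agent.Lib.Helper77.DefRigid

section Op

variable {K : Type u} [CommRing K] {B : Type u} [AddCommGroup B] [Module K B] [Coalgebra K B]

/-- the operator `y ↦ ∑ l(y₁) y₂`. -/
noncomputable def Pop (l : B →ₗ[K] K) : B →ₗ[K] B :=
  (TensorProduct.lid K B).toLinearMap ∘ₗ LinearMap.rTensor B l ∘ₗ Coalgebra.comul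

lemma Pop_apply (l : B →ₗ[K] K) (y : B) :
    Pop l y = TensorProduct.lid K B (LinearMap.rTensor B l (Coalgebra.comul y)) := rfl

lemma Pop_comp (l m : WithConv (B →ₗ[K] K)) (y : B) :
    Pop l.ofConv (Pop m.ofConv y) = Pop (m * l).ofConv y := by
  have key : ∀ t : B ⊗[K] B,
      Pop l.ofConv (TensorProduct.lid K B (LinearMap.rTensor B m.ofConv t)) =
        TensorProduct.lid K B (LinearMap.rTensor B
          (LinearMap.mul' K K ∘ₗ TensorProduct.map m.ofConv l.ofConv)
          ((TensorProduct.assoc K B B B).symm (LinearMap.lTensor B Coalgebra.comul t))) := by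
    intro t
    induction t using TensorProduct.induction_on with
    | zero => simp
    | add p q hp hq => simp only [map_add, hp, hq]
    | tmul y z =>
      rw [LinearMap.rTensor_tmul, TensorProduct.lid_tmul, map_smul, Pop_apply,
        LinearMap.lTensor_tmul]
      generalize (Coalgebra.comul (R := K) z) = s
      induction s using TensorProduct.induction_on with
      | zero => simp
      | add p q hp hq => simp only [map_add, smul_add, hp, hq, TensorProduct.tmul_add]
      | tmul z₁ z₂ => simp [mul_smul]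
  rw [Pop_apply (m.ofConv), key, Coalgebra.coassoc_symm_apply, Pop_apply, LinearMap.convMul_def,
    ofConv_toConv, ← LinearMap.comp_apply (LinearMap.rTensor B _), ← LinearMap.rTensor_comp]
  rfl

lemma comul_Pop (l : B →ₗ[K] K) (y : B) :
    Coalgebra.comul (Pop l y) = LinearMap.rTensor B (Pop l) (Coalgebra.comul (R := K) y) := by
  have key : ∀ t : B ⊗[K] B,
      Coalgebra.comul (R := K) (TensorProduct.lid K B (LinearMap.rTensor B l t)) =
        LinearMap.rTensor B ((TensorProduct.lid K B).toLinearMap ∘ₗ LinearMap.rTensor B l)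
          ((TensorProduct.assoc K B B B).symm (LinearMap.lTensor B Coalgebra.comul t)) := by
    intro t
    induction t using TensorProduct.induction_on with
    | zero => simp
    | add p q hp hq => simp only [map_add, hp, hq]
    | tmul y z =>
      rw [LinearMap.rTensor_tmul, TensorProduct.lid_tmul, map_smul, LinearMap.lTensor_tmul]
      generalize (Coalgebra.comul (R := K) z) = s
      induction s using TensorProduct.induction_on with
      | zero => simp
      | add p q hp hq => simp only [map_add, smul_add, hp, hq, TensorProduct.tmul_add]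
      | tmul z₁ z₂ => simp [TensorProduct.smul_tmul']
  rw [Pop_apply, key, Coalgebra.coassoc_symm_apply, ← LinearMap.comp_apply (LinearMap.rTensor B _),
    ← LinearMap.rTensor_comp]
  rfl

end Op

section Small

variable {K : Type u} [CommRing K] (𝔞 : Ideal K)

lemma map_mem_smul_top {X Y : Type u} [AddCommGroup X] [Module K X] [AddCommGroup Y] [Module K Y]
    (l : X →ₗ[K] Y) {x : X} (hx : x ∈ 𝔞 • (⊤ : Submodule K X)) :
    l x ∈ 𝔞 • (⊤ : Submodule K Y) := by
  have := Submodule.mem_map_of_mem (f := l) hx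
  rw [Submodule.map_smul''] at this
  exact Submodule.smul_mono le_rfl le_top this

lemma map_mem_ideal {X : Type u} [AddCommGroup X] [Module K X]
    (l : X →ₗ[K] K) {x : X} (hx : x ∈ 𝔞 • (⊤ : Submodule K X)) : l x ∈ 𝔞 := by
  have := map_mem_smul_top 𝔞 l hx
  rwa [smul_eq_mul, Ideal.mul_top] at this

lemma map_quot_eq_zero {X : Type u} [AddCommGroup X] [Module K X]
    (l : X →ₗ[K] K ⧸ 𝔞) {x : X} (hx : x ∈ 𝔞 • (⊤ : Submodule K X)) : l x = 0 := by
  refine Submodule.smul_induction_on hx ?_ ?_
  · intro a ha y _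
    rw [map_smul, Algebra.smul_def, Ideal.Quotient.algebraMap_eq,
      Ideal.Quotient.eq_zero_iff_mem.mpr ha, zero_mul]
  · intro y z hy hz
    rw [map_add, hy, hz, add_zero]

end Small

section Main

variable {K : Type u} [CommRing K] (𝔞 : Ideal K) {B : Type u} [CommRing B] [Bialgebra K B]

/-- post-composition with `K → K ⧸ 𝔞` on the convolution algebras. -/
noncomputable def redHom : WithConv (B →ₗ[K] K) →+* WithConv (B →ₗ[K] K ⧸ 𝔞) where
  toFun l := toConv ((Ideal.Quotient.mkₐ K 𝔞).toLinearMap ∘ₗ l.ofConv)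
  map_one' := by
    apply WithConv.ext
    apply LinearMap.ext
    intro y
    simp [LinearMap.convOne_def]
  map_mul' l m := by
    apply WithConv.ext
    exact LinearMap.algHom_comp_convMul_distrib (Ideal.Quotient.mkₐ K 𝔞) l m
  map_zero' := by
    apply WithConv.ext
    simp
  map_add' l m := by
    apply WithConv.ext
    simp [LinearMap.comp_add]

lemma redHom_apply (l : WithConv (B →ₗ[K] K)) (y : B) :
    redHom 𝔞 l y = Ideal.Quotient.mk 𝔞 (l y) := rfl

lemma mem_ker_redHom_iff (l : WithConv (B →ₗ[K] K)) :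
    l ∈ RingHom.ker (redHom (B := B) 𝔞) ↔ ∀ y, l y ∈ 𝔞 := by
  rw [RingHom.mem_ker]
  constructor
  · intro h y
    rw [← Ideal.Quotient.eq_zero_iff_mem, ← redHom_apply, h]
    rfl
  · intro h
    apply WithConv.ext
    apply LinearMap.ext
    intro y
    exact Ideal.Quotient.eq_zero_iff_mem.mpr (h y)

lemma pow_apply_mem (l : WithConv (B →ₗ[K] K)) (hl : ∀ y, l y ∈ 𝔞) (k : ℕ) (y : B) :
    (l ^ k) y ∈ 𝔞 ^ k := by
  induction k generalizing y with
  | zero => simp
  | succ k ih =>
    rw [pow_succ l, (Coalgebra.Repr.arbitrary K y).convMul_apply, pow_succ 𝔞]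
    refine Ideal.sum_mem _ (fun i _ => ?_)
    exact Ideal.mul_mem_mul (ih _) (hl _)

lemma isNilpotent_of_mem_ker (h𝔞 : IsNilpotent 𝔞) (l : WithConv (B →ₗ[K] K))
    (hl : l ∈ RingHom.ker (redHom (B := B) 𝔞)) : IsNilpotent l := by
  obtain ⟨n, hn⟩ := h𝔞
  rw [mem_ker_redHom_iff] at hl
  refine ⟨n, ?_⟩
  apply WithConv.ext
  apply LinearMap.ext
  intro y
  have := pow_apply_mem 𝔞 l hl n y
  rw [hn] at this
  exact this

end Main

section Main2

variable {K : Type u} [CommRing K] (𝔞 : Ideal K) {B : Type u} [CommRing B] [Bialgebra K B]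
variable {M : Type u} (b : Module.Basis M K B)

/-- the coordinate functional is idempotent modulo `𝔞`. -/
lemma redHom_coord_idem [DecidableEq M]
    (hΔ : ∀ p, Coalgebra.comul (R := K) (b p) - b p ⊗ₜ[K] b p ∈ 𝔞 • (⊤ : Submodule K (B ⊗[K] B)))
    (m : M) : IsIdempotentElem (redHom (B := B) 𝔞 (toConv (b.coord m))) := by
  apply WithConv.ext
  apply b.ext
  intro p
  rw [LinearMap.convMul_apply]
  set l : B ⊗[K] B →ₗ[K] K ⧸ 𝔞 := LinearMap.mul' K (K ⧸ 𝔞) ∘ₗ
    TensorProduct.map (redHom (B := B) 𝔞 (toConv (b.coord m))).ofConv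
      (redHom (B := B) 𝔞 (toConv (b.coord m))).ofConv with hl
  have h1 : l (Coalgebra.comul (R := K) (b p)) = l (b p ⊗ₜ[K] b p) := by
    have := map_quot_eq_zero 𝔞 l (hΔ p)
    rwa [map_sub, sub_eq_zero] at this
  show l (Coalgebra.comul (R := K) (b p)) = _
  rw [h1, hl]
  simp only [LinearMap.coe_comp, Function.comp_apply, TensorProduct.map_tmul,
    LinearMap.mul'_apply]
  show redHom 𝔞 (toConv (b.coord m)) (b p) * redHom 𝔞 (toConv (b.coord m)) (b p) =
    redHom 𝔞 (toConv (b.coord m)) (b p)
  rw [redHom_apply]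
  show Ideal.Quotient.mk 𝔞 (b.coord m (b p)) * Ideal.Quotient.mk 𝔞 (b.coord m (b p)) = _
  rw [Module.Basis.coord_apply, Module.Basis.repr_self, Finsupp.single_apply]
  split_ifs <;> simp

/-- existence of group-like lifts. -/
theorem exists_isGroupLikeElem_lift (h𝔞 : IsNilpotent 𝔞)
    (hΔ : ∀ p, Coalgebra.comul (R := K) (b p) - b p ⊗ₜ[K] b p ∈ 𝔞 • (⊤ : Submodule K (B ⊗[K] B)))
    (hε : ∀ p, Coalgebra.counit (R := K) (b p) - 1 ∈ 𝔞) (m : M) :
    ∃ c : B, IsGroupLikeElem K c ∧ c - b m ∈ 𝔞 • (⊤ : Submodule K B) := by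
  classical
  -- the idempotent
  obtain ⟨e, he, hfe⟩ := exists_isIdempotentElem_eq_of_ker_isNilpotent (redHom (B := B) 𝔞)
    (fun l hl => isNilpotent_of_mem_ker 𝔞 h𝔞 l hl) (redHom 𝔞 (toConv (b.coord m)))
    ⟨_, rfl⟩ (redHom_coord_idem 𝔞 b hΔ m)
  have hfe' : ∀ y, e y - b.coord m y ∈ 𝔞 := by
    intro y
    rw [← Ideal.Quotient.eq_zero_iff_mem, map_sub, sub_eq_zero, ← redHom_apply, hfe]
    exact redHom_apply 𝔞 (toConv (b.coord m)) y
  set P : B →ₗ[K] B := Pop e.ofConv with hP
  have hPP : ∀ y, P (P y) = P y := by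
    intro y
    rw [hP, Pop_comp, he.eq]
  -- (C)
  have hC0 : ∀ p, P (b p) - (b.coord m (b p)) • b m ∈ 𝔞 • (⊤ : Submodule K B) := by
    intro p
    have h1 : P (b p) = e (b p) • b p + TensorProduct.lid K B (LinearMap.rTensor B e.ofConv
        (Coalgebra.comul (R := K) (b p) - b p ⊗ₜ[K] b p)) := by
      rw [map_sub, map_sub, LinearMap.rTensor_tmul, TensorProduct.lid_tmul]
      rw [hP, Pop_apply]
      abel
    have h2 : (b.coord m (b p)) • b m = (b.coord m (b p)) • b p := by
      rw [Module.Basis.coord_apply, Module.Basis.repr_self, Finsupp.single_apply]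
      split_ifs with h
      · rw [h]
      · rw [zero_smul, zero_smul]
    rw [h1, h2, add_sub_right_comm, ← sub_smul]
    refine add_mem (Submodule.smul_mem_smul (hfe' _) Submodule.mem_top) ?_
    exact map_mem_smul_top 𝔞 ((TensorProduct.lid K B).toLinearMap ∘ₗ LinearMap.rTensor B e.ofConv)
      (hΔ p)
  have hC : ∀ y, P y - (b.coord m y) • b m ∈ 𝔞 • (⊤ : Submodule K B) := by
    intro y
    let Ψ : B →ₗ[K] B := P - LinearMap.smulRight (b.coord m) (b m)
    have hΨ : ∀ y, Ψ y = P y - (b.coord m y) • b m := fun _ => rfl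
    rw [← hΨ, ← b.linearCombination_repr y, Finsupp.linearCombination_apply, map_finsuppSum]
    refine Submodule.sum_mem _ (fun p _ => ?_)
    show Ψ ((b.repr y p) • b p) ∈ _
    rw [map_smul, hΨ]
    exact Submodule.smul_mem _ _ (hC0 p)
  set g : B := P (b m) with hg
  have hgb : g - b m ∈ 𝔞 • (⊤ : Submodule K B) := by
    have := hC (b m)
    rwa [Module.Basis.coord_apply, Module.Basis.repr_self, Finsupp.single_eq_same, one_smul] at this
  -- (D)
  have hD : LinearMap.range P ≤ Submodule.span K {g} := by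
    apply le_of_le_sup_smul_of_nilpotent 𝔞 h𝔞
    rintro _ ⟨y, rfl⟩
    have h1 : P y = (b.coord m y) • g + P (P y - (b.coord m y) • b m) := by
      rw [map_sub, map_smul, hPP, hg]
      abel
    rw [h1]
    refine add_mem (Submodule.mem_sup_left (Submodule.smul_mem _ _ (Submodule.mem_span_singleton_self g)))
      (Submodule.mem_sup_right ?_)
    have h2 := Submodule.mem_map_of_mem (f := P) (hC y)
    rw [Submodule.map_smul'', Submodule.map_top] at h2
    exact h2
  -- (E)
  have hu1 : b.coord m g - 1 ∈ 𝔞 := by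
    have := map_mem_ideal 𝔞 (b.coord m) hgb
    rwa [map_sub, Module.Basis.coord_apply, Module.Basis.coord_apply, Module.Basis.repr_self,
      Finsupp.single_eq_same] at this
  have hnil : ∀ x ∈ 𝔞, IsNilpotent x := by
    intro x hx
    obtain ⟨n, hn⟩ := h𝔞
    exact ⟨n, by have := Ideal.pow_mem_pow hx n; rwa [hn] at this⟩
  have hu : IsUnit (b.coord m g) := by
    have h1 : b.coord m g = (b.coord m g - 1) + 1 := by ring
    rw [h1]
    exact (hnil _ hu1).isUnit_add_one
  obtain ⟨u, hu'⟩ := hu
  let μ : B →ₗ[K] K := (↑u⁻¹ : K) • b.coord m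
  have hμg : μ g = 1 := by
    show (↑u⁻¹ : K) * b.coord m g = 1
    rw [← hu', Units.inv_mul]
  let ν : B →ₗ[K] K := μ ∘ₗ P
  have hPν : ∀ y, P y = ν y • g := by
    intro y
    obtain ⟨κ, hκ⟩ := Submodule.mem_span_singleton.mp (hD ⟨y, rfl⟩)
    have : ν y = κ := by
      show μ (P y) = κ
      rw [← hκ, map_smul, hμg, smul_eq_mul, mul_one]
    rw [this, hκ]
  -- (F)
  let c : B := TensorProduct.lid K B (LinearMap.rTensor B ν (Coalgebra.comul (R := K) (b m)))
  have hF0 : ∀ t : B ⊗[K] B, LinearMap.rTensor B P t =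
      g ⊗ₜ[K] TensorProduct.lid K B (LinearMap.rTensor B ν t) := by
    intro t
    induction t using TensorProduct.induction_on with
    | zero => simp
    | add p q hp hq => simp only [map_add, hp, hq, TensorProduct.tmul_add]
    | tmul y z =>
      rw [LinearMap.rTensor_tmul, LinearMap.rTensor_tmul, TensorProduct.lid_tmul, hPν,
        TensorProduct.smul_tmul]
  have hF : Coalgebra.comul (R := K) g = g ⊗ₜ[K] c := by
    rw [hg, hP, comul_Pop, ← hP, hF0]
  -- (G)
  have hG1 : Coalgebra.comul (R := K) c = c ⊗ₜ[K] c := by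
    have h1 := Coalgebra.coassoc_apply (R := K) g
    rw [hF, LinearMap.rTensor_tmul, hF, TensorProduct.assoc_tmul, LinearMap.lTensor_tmul] at h1
    have h2 := congrArg (fun t => TensorProduct.lid K (B ⊗[K] B)
      (LinearMap.rTensor (B ⊗[K] B) μ t)) h1
    simp only [LinearMap.rTensor_tmul, TensorProduct.lid_tmul, hμg, one_smul] at h2
    exact h2.symm
  have hG2 : Coalgebra.counit (R := K) c = 1 := by
    have h1 := Coalgebra.lTensor_counit_comul (R := K) g
    rw [hF, LinearMap.lTensor_tmul] at h1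
    have h2 := congrArg (fun t => TensorProduct.lid K K (LinearMap.rTensor K μ t)) h1
    simp only [LinearMap.rTensor_tmul, TensorProduct.lid_tmul, hμg, one_smul] at h2
    exact h2
  -- (H)
  have hH : Coalgebra.counit (R := K) g • c = g := by
    have h1 := Coalgebra.rTensor_counit_comul (R := K) g
    rw [hF, LinearMap.rTensor_tmul] at h1
    have h2 := congrArg (TensorProduct.lid K B) h1
    rwa [TensorProduct.lid_tmul, TensorProduct.lid_tmul, one_smul] at h2
  have hεg : Coalgebra.counit (R := K) g - 1 ∈ 𝔞 := by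
    have h1 := map_mem_ideal 𝔞 (Coalgebra.counit (R := K) (A := B)) hgb
    rw [map_sub] at h1
    have h2 : Coalgebra.counit (R := K) g - 1 =
        (Coalgebra.counit (R := K) g - Coalgebra.counit (R := K) (b m)) +
          (Coalgebra.counit (R := K) (b m) - 1) := by ring
    rw [h2]
    exact add_mem h1 (hε m)
  refine ⟨c, ⟨hG2, hG1⟩, ?_⟩
  have h3 : c - b m = (g - b m) - (Coalgebra.counit (R := K) g - 1) • c := by
    rw [sub_smul, one_smul, hH]
    abel
  rw [h3]
  exact sub_mem hgb (Submodule.smul_mem_smul hεg Submodule.mem_top)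

end Main2

end Groth.Agent.Lib.Helper77.DefRigid
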