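import Mathlib
import Groth.Agent.Lib.Helper77.DefRigid2

/-!
# Deformation rigidity III: uniqueness of group-like lifts and assembly of the isomorphism with the group algebra (helper77)
-/

set_option autoImplicit false
universe u
open TensorProduct WithConv

namespace Groth.Agent.Lib.Helper77.DefRigid

section Main3

variable {K : Type u} [CommRing K] (𝔞 : Ideal K) {B : Type u} [CommRing B] [Bialgebra K B]
variable {M : Type u} (b : Module.Basis M K B)

lemma mul_mem_smul_top {x : B} (hx : x ∈ 𝔞 • (⊤ : Submodule K B)) (z : B) :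
    x * z ∈ 𝔞 • (⊤ : Submodule K B) :=
  map_mem_smul_top 𝔞 (LinearMap.mulRight K z) hx

/-- a family of lifts of a basis is a basis. -/
lemma lift_basis_bijective (h𝔞 : IsNilpotent 𝔞) (c : M → B)
    (hc : ∀ m, c m - b m ∈ 𝔞 • (⊤ : Submodule K B)) :
    Function.Bijective (Finsupp.linearCombination K c) := by
  have hfree : Module.Free K B := Module.Free.of_basis b
  have hflat : Module.Flat K B := Module.Flat.of_free
  have hdiff : ∀ κ : M →₀ K, Finsupp.linearCombination K c κ - Finsupp.linearCombination K b κ ∈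
      𝔞 • (⊤ : Submodule K B) := by
    intro κ
    rw [Finsupp.linearCombination_apply, Finsupp.linearCombination_apply, Finsupp.sum, Finsupp.sum,
      ← Finset.sum_sub_distrib]
    refine Submodule.sum_mem _ (fun p _ => ?_)
    rw [← smul_sub]
    exact Submodule.smul_mem _ _ (hc p)
  apply linearCombination_bijective_of_flat_of_nilpotent 𝔞 h𝔞
  · intro x
    refine ⟨b.repr x, ?_⟩
    have h1 : x - Finsupp.linearCombination K c (b.repr x) =
        -(Finsupp.linearCombination K c (b.repr x) - Finsupp.linearCombination K b (b.repr x)) := by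
      rw [b.linearCombination_repr]
      abel
    rw [h1]
    exact neg_mem (hdiff _)
  · intro κ hκ i
    have h1 : Finsupp.linearCombination K b κ ∈ 𝔞 • (⊤ : Submodule K B) := by
      have : Finsupp.linearCombination K b κ = Finsupp.linearCombination K c κ -
          (Finsupp.linearCombination K c κ - Finsupp.linearCombination K b κ) := by abel
      rw [this]
      exact sub_mem hκ (hdiff κ)
    have h2 := map_mem_ideal 𝔞 (b.coord i) h1
    rwa [Module.Basis.coord_apply, Module.Basis.repr_linearCombination] at h2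

/-- uniqueness of group-like lifts, given a basis of group-like elements. -/
lemma eq_of_isGroupLikeElem_of_sub_mem (h𝔞 : IsNilpotent 𝔞) (cB : Module.Basis M K B)
    (hgl : ∀ m, IsGroupLikeElem K (cB m)) {u : B} (hu : IsGroupLikeElem K u) (m₀ : M)
    (hum : u - cB m₀ ∈ 𝔞 • (⊤ : Submodule K B)) : u = cB m₀ := by
  classical
  have hidem : ∀ p, cB.repr u p * cB.repr u p = cB.repr u p := by
    intro p
    let l : B ⊗[K] B →ₗ[K] K := LinearMap.mul' K K ∘ₗ TensorProduct.map (cB.coord p) (cB.coord p)
    have h1 : l (Coalgebra.comul (R := K) u) = l (u ⊗ₜ[K] u) := by rw [hu.comul_eq_tmul_self]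
    have h2 : l (u ⊗ₜ[K] u) = cB.repr u p * cB.repr u p := by
      simp [l, Module.Basis.coord_apply]
    have h3 : l (Coalgebra.comul (R := K) u) = cB.repr u p := by
      conv_lhs => rw [← cB.linearCombination_repr u]
      rw [Finsupp.linearCombination_apply, Finsupp.sum, map_sum, map_sum]
      have h4 : ∀ r ∈ (cB.repr u).support, l (Coalgebra.comul (R := K) ((cB.repr u r) • cB r)) =
          if r = p then cB.repr u p else 0 := by
        intro r _
        rw [map_smul, (hgl r).comul_eq_tmul_self, map_smul]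
        simp only [l, LinearMap.coe_comp, Function.comp_apply, TensorProduct.map_tmul,
          LinearMap.mul'_apply, Module.Basis.coord_apply, Module.Basis.repr_self,
          Finsupp.single_apply, smul_eq_mul]
        split_ifs with h
        · rw [h]; ring
        · ring
      rw [Finset.sum_congr rfl h4, Finset.sum_ite_eq']
      split_ifs with h
      · rfl
      · exact (Finsupp.notMem_support_iff.mp h).symm
    rw [← h2, ← h1, h3]
  have hnil : ∀ x ∈ 𝔞, IsNilpotent x := by
    intro x hx
    obtain ⟨n, hn⟩ := h𝔞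
    exact ⟨n, by have := Ideal.pow_mem_pow hx n; rwa [hn] at this⟩
  have hzero : ∀ p, p ≠ m₀ → cB.repr u p = 0 := by
    intro p hp
    have h1 := map_mem_ideal 𝔞 (cB.coord p) hum
    rw [map_sub, Module.Basis.coord_apply, Module.Basis.coord_apply, Module.Basis.repr_self,
      Finsupp.single_eq_of_ne hp, sub_zero] at h1
    obtain ⟨n, hn⟩ := hnil _ h1
    have hi : IsIdempotentElem (cB.repr u p) := hidem p
    rcases n with _ | n
    · rw [pow_zero] at hn
      have : (cB.repr u p) = cB.repr u p * 1 := (mul_one _).symm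
      rw [this, hn, mul_zero]
    · rw [hi.pow_succ_eq] at hn
      exact hn
  have h5 : u = cB.repr u m₀ • cB m₀ := by
    conv_lhs => rw [← cB.linearCombination_repr u]
    rw [Finsupp.linearCombination_apply, Finsupp.sum]
    rw [Finset.sum_eq_single m₀]
    · intro p _ hp
      rw [hzero p hp, zero_smul]
    · intro h
      rw [Finsupp.notMem_support_iff.mp h, zero_smul]
  have h6 : cB.repr u m₀ = 1 := by
    have := hu.counit_eq_one
    rw [h5, map_smul, (hgl m₀).counit_eq_one, smul_eq_mul, mul_one] at this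
    exact this
  rw [h5, h6, one_smul]

/-- a basis of group-like elements, multiplicative in the index, gives an isomorphism with the
monoid algebra. -/
theorem nonempty_bialgEquiv_of_basis [Monoid M] (cB : Module.Basis M K B)
    (hgl : ∀ m, IsGroupLikeElem K (cB m)) (hmul : ∀ p q, cB (p * q) = cB p * cB q)
    (hone : cB 1 = 1) : Nonempty (B ≃ₐc[K] MonoidAlgebra K M) := by
  let γ : M →* B := { toFun := cB, map_one' := hone, map_mul' := hmul }
  let Φ₀ : MonoidAlgebra K M →ₐ[K] B := MonoidAlgebra.lift K B M γ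
  have hΦ₀ : ∀ m, Φ₀ (MonoidAlgebra.single m 1) = cB m := by
    intro m
    simp [Φ₀, γ]
  let Φ : MonoidAlgebra K M →ₐc[K] B := BialgHom.ofAlgHom Φ₀
    (by
      ext m
      simp only [AlgHom.coe_comp, Function.comp_apply, MonoidHom.coe_comp]
      rw [hΦ₀]
      simp [(hgl m).counit_eq_one])
    (by
      ext m
      simp only [AlgHom.coe_comp, Function.comp_apply, MonoidHom.coe_comp,
        Bialgebra.comulAlgHom_apply, MonoidAlgebra.comul_single,
        Algebra.TensorProduct.map_tmul, CommSemiring.comul_apply, TensorProduct.map_tmul]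
      rw [MonoidAlgebra.lsingle_apply, hΦ₀, (hgl m).comul_eq_tmul_self])
  have hΦ : ∀ m, Φ (MonoidAlgebra.single m 1) = cB m := hΦ₀
  let b₁ := MonoidAlgebra.basis M K
  have hlin : (Φ : MonoidAlgebra K M →ₗ[K] B) = (b₁.equiv cB (Equiv.refl _)).toLinearMap := by
    apply b₁.ext
    intro m
    rw [LinearEquiv.coe_coe, Module.Basis.equiv_apply]
    simp only [b₁, MonoidAlgebra.basis_apply, Equiv.refl_apply]
    exact hΦ m
  have hbij : Function.Bijective Φ := by
    have : (Φ : MonoidAlgebra K M → B) = (b₁.equiv cB (Equiv.refl _)) := by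
      ext z
      exact congrArg (fun f => f z) hlin
    rw [this]
    exact (b₁.equiv cB (Equiv.refl _)).bijective
  exact ⟨(BialgEquiv.ofBijective Φ hbij).symm⟩

/-- **Deformation rigidity, basis form.** -/
theorem nonempty_bialgEquiv_of_approx [Monoid M] (h𝔞 : IsNilpotent 𝔞)
    (hΔ : ∀ p, Coalgebra.comul (R := K) (b p) - b p ⊗ₜ[K] b p ∈ 𝔞 • (⊤ : Submodule K (B ⊗[K] B)))
    (hε : ∀ p, Coalgebra.counit (R := K) (b p) - 1 ∈ 𝔞)
    (hmul : ∀ p q, b p * b q - b (p * q) ∈ 𝔞 • (⊤ : Submodule K B))
    (hone : b 1 - 1 ∈ 𝔞 • (⊤ : Submodule K B)) :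
    Nonempty (B ≃ₐc[K] MonoidAlgebra K M) := by
  choose c hcgl hcb using exists_isGroupLikeElem_lift 𝔞 b h𝔞 hΔ hε
  have hbij := lift_basis_bijective 𝔞 b h𝔞 c hcb
  let cB : Module.Basis M K B :=
    Module.Basis.ofRepr (LinearEquiv.ofBijective (Finsupp.linearCombination K c) hbij).symm
  have hcB : ∀ m, cB m = c m := by
    intro m
    simp [cB, Module.Basis.apply_eq_iff]
  have hgl : ∀ m, IsGroupLikeElem K (cB m) := fun m => by rw [hcB]; exact hcgl m
  have hmul' : ∀ p q, cB (p * q) = cB p * cB q := by
    intro p q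
    symm
    apply eq_of_isGroupLikeElem_of_sub_mem 𝔞 h𝔞 cB hgl ((hgl p).mul (hgl q))
    rw [hcB, hcB, hcB]
    have h1 : c p * c q - c (p * q) = (c p - b p) * c q + (c q - b q) * b p +
        (b p * b q - b (p * q)) - (c (p * q) - b (p * q)) := by ring
    rw [h1]
    exact sub_mem (add_mem (add_mem (mul_mem_smul_top 𝔞 (hcb p) _) (mul_mem_smul_top 𝔞 (hcb q) _))
      (hmul p q)) (hcb _)
  have hone' : cB 1 = 1 := by
    symm
    apply eq_of_isGroupLikeElem_of_sub_mem 𝔞 h𝔞 cB hgl IsGroupLikeElem.one
    rw [hcB]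
    have h1 : (1 : B) - c 1 = -(c 1 - b 1) - (b 1 - 1) := by ring
    rw [h1]
    exact sub_mem (neg_mem (hcb 1)) hone
  exact nonempty_bialgEquiv_of_basis cB hgl hmul' hone'

end Main3

end Groth.Agent.Lib.Helper77.DefRigid
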