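import Mathlib
import Groth.Prelude.Def_SGA3b
import Groth.Agent.Lib.Helper77.MultMono
import Groth.Agent.Lib.Helper77.MultFin

/-!
# Rigidity of homomorphisms out of groups of multiplicative type over a local base (Hopf form)

helper77.  Used for S5245 (and S2985).

`TrivMod K A C φ 𝔠`: the bialgebra map `φ : C → A` is the trivial homomorphism modulo `𝔠 A`.

* diagonal case `A = K[M]`: the image of `φ` is graded, `⊕ 𝔞_m e_m`, and the coalgebra axiom forces
  `𝔞_m = 𝔞_m²`; hence trivial mod `𝔠` implies trivial mod `𝔠^k` for all `k`, and when `C` is of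
  finite type, trivial modulo a finitely generated idempotent ideal `𝔟 ⊆ 𝔠`.
* base change / faithfully flat descent of `TrivMod`.
* the torsion subgroups `ₙG` of a group of multiplicative type and of finite type are finite, and
  only `0` lies in all their ideals (`TorsFinite`, `TorsDense`).
* over a local base: finite type source: pass to `K'/𝔟`, still faithfully flat over the base;
  noetherian base: Krull's intersection theorem in the finite modules `A/Jₙ`.
-/

set_option autoImplicit false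
universe u
open TensorProduct WithConv

namespace Groth.Agent.Lib.Helper77.MultRigid

open SGA3b Groth.Agent.Lib.Helper77.MultMono Groth.Agent.Lib.Helper77.MultFin
open Groth.Agent.Lib.Helper77.VerschFV

/-- `φ` is the trivial homomorphism modulo the ideal `𝔠` of the base. -/
def TrivMod (K : Type u) [CommRing K] (A : Type u) [CommRing A] [HopfAlgebra K A]
    (C : Type u) [CommRing C] [HopfAlgebra K C] (φ : C →ₐc[K] A) (𝔠 : Ideal K) : Prop :=
  ∀ c : C, φ c - algebraMap K A (Coalgebra.counit c) ∈ Ideal.map (algebraMap K A) 𝔠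

theorem TrivMod.mono {K : Type u} [CommRing K] {A : Type u} [CommRing A] [HopfAlgebra K A]
    {C : Type u} [CommRing C] [HopfAlgebra K C] {φ : C →ₐc[K] A} {𝔠 𝔠' : Ideal K} (hle : 𝔠 ≤ 𝔠')
    (h : TrivMod K A C φ 𝔠) : TrivMod K A C φ 𝔠' :=
  fun c => Ideal.map_mono hle (h c)

section Coeff

variable {K : Type u} [CommRing K] {M : Type u} [CommGroup M]
  {C : Type u} [CommRing C] [HopfAlgebra K C]

open MonoidAlgebra

/-- membership in the extension of an ideal of `K` to `K[M]` is coefficientwise. -/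
lemma mem_map_algebraMap_iff (𝔠 : Ideal K) (x : MonoidAlgebra K M) :
    x ∈ Ideal.map (algebraMap K (MonoidAlgebra K M)) 𝔠 ↔ ∀ m, x.coeff m ∈ 𝔠 := by
  constructor
  · intro hx m
    have hle : Ideal.map (algebraMap K (MonoidAlgebra K M)) 𝔠 ≤
        RingHom.ker (MonoidAlgebra.mapRingHom M (Ideal.Quotient.mk 𝔠)) := by
      rw [Ideal.map_le_iff_le_comap]
      intro r hr
      rw [Ideal.mem_comap, RingHom.mem_ker, MonoidAlgebra.coe_algebraMap]
      simp only [Function.comp_apply, Algebra.algebraMap_self, RingHom.id_apply,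
        MonoidAlgebra.mapRingHom_single]
      rw [Ideal.Quotient.eq_zero_iff_mem.mpr hr, MonoidAlgebra.single_zero]
    have h1 := hle hx
    rw [RingHom.mem_ker] at h1
    have h2 := congrArg (fun y => y.coeff m) h1
    simp only [MonoidAlgebra.coeff_mapRingHom] at h2
    exact Ideal.Quotient.eq_zero_iff_mem.mp h2
  · intro h
    rw [← MonoidAlgebra.sum_coeff_single x, Finsupp.sum]
    apply Ideal.sum_mem
    intro m _
    have : single m (x.coeff m) = algebraMap K (MonoidAlgebra K M) (x.coeff m) * single m 1 := by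
      rw [MonoidAlgebra.coe_algebraMap]
      simp [MonoidAlgebra.single_mul_single]
    rw [this]
    exact Ideal.mul_mem_right _ _ (Ideal.mem_map_of_mem _ (h m))

/-- `x ⊗ y ↦ x_m y_m` -/
noncomputable def lam (m : M) : MonoidAlgebra K M ⊗[K] MonoidAlgebra K M →ₗ[K] K :=
  LinearMap.mul' K K ∘ₗ TensorProduct.map (coeffL K M m) (coeffL K M m)

lemma lam_tmul (m : M) (x y : MonoidAlgebra K M) :
    lam m (x ⊗ₜ[K] y) = x.coeff m * y.coeff m := by
  simp [lam, coeffL_apply]

/-- the coefficient ideals of the image of a bialgebra map are idempotent. -/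
lemma coeffIdeal_le_mul_self (φ : C →ₐc[K] MonoidAlgebra K M) (m : M) :
    coeffIdeal φ m ≤ coeffIdeal φ m * coeffIdeal φ m := by
  intro r hr
  rw [mem_coeffIdeal] at hr
  obtain ⟨c, hc⟩ := hr
  have hc' : φ c = single m r := hc
  have h1 : lam m (Coalgebra.comul (R := K) (single m r)) = r := by
    rw [MonoidAlgebra.comul_single]
    simp only [CommSemiring.comul_apply, TensorProduct.map_tmul, MonoidAlgebra.lsingle_apply]
    rw [lam_tmul]
    simp [MonoidAlgebra.coeff_single]
  rw [← h1, ← hc', ← CoalgHomClass.map_comp_comul_apply φ c]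
  generalize Coalgebra.comul (R := K) c = t
  induction t using TensorProduct.induction_on with
  | zero => rw [map_zero, map_zero]; exact zero_mem _
  | tmul c₁ c₂ =>
    rw [TensorProduct.map_tmul, lam_tmul]
    exact Ideal.mul_mem_mul (coeff_mem_coeffIdeal φ c₁ m) (coeff_mem_coeffIdeal φ c₂ m)
  | add x y hx hy => rw [map_add, map_add]; exact add_mem hx hy

lemma coeffIdeal_le_pow (φ : C →ₐc[K] MonoidAlgebra K M) (𝔫 : Ideal K) (m : M)
    (h : coeffIdeal φ m ≤ 𝔫) (k : ℕ) : coeffIdeal φ m ≤ 𝔫 ^ k := by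
  induction k with
  | zero => rw [pow_zero, Ideal.one_eq_top]; exact le_top
  | succ k ih =>
    rw [pow_succ]
    exact (coeffIdeal_le_mul_self φ m).trans (Ideal.mul_mono ih h)

lemma coeffIdeal_le_of_trivMod (φ : C →ₐc[K] MonoidAlgebra K M) (𝔠 : Ideal K)
    (h : TrivMod K (MonoidAlgebra K M) C φ 𝔠) (m : M) (hm : m ≠ 1) : coeffIdeal φ m ≤ 𝔠 := by
  classical
  intro r hr
  rw [mem_coeffIdeal] at hr
  obtain ⟨c, hc⟩ := hr
  have hc' : φ c = single m r := hc
  have h1 := (mem_map_algebraMap_iff 𝔠 _).mp (h c) m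
  rw [hc', MonoidAlgebra.coe_algebraMap] at h1
  simpa [MonoidAlgebra.coeff_single, Finsupp.single_apply, hm, Ne.symm hm] using h1

lemma trivMod_of_coeffIdeal_le (φ : C →ₐc[K] MonoidAlgebra K M) (𝔠 : Ideal K)
    (h : ∀ m, m ≠ 1 → coeffIdeal φ m ≤ 𝔠) : TrivMod K (MonoidAlgebra K M) C φ 𝔠 := by
  classical
  intro c
  have h0 : Coalgebra.counit (R := K) c = Coalgebra.counit (R := K) (φ c) :=
    (CoalgHomClass.counit_comp_apply φ c).symm
  rw [h0]
  have hb : ∀ m, (φ c).coeff m ∈ coeffIdeal φ m := coeff_mem_coeffIdeal φ c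
  generalize φ c = x at hb
  have key : x - algebraMap K (MonoidAlgebra K M) (Coalgebra.counit x) =
      ∑ m ∈ x.coeff.support, (single m (x.coeff m) - single 1 (x.coeff m)) := by
    conv_lhs => rw [← MonoidAlgebra.sum_coeff_single x, Finsupp.sum]
    rw [map_sum, map_sum, ← Finset.sum_sub_distrib]
    apply Finset.sum_congr rfl
    intro m _
    rw [MonoidAlgebra.counit_single, MonoidAlgebra.coe_algebraMap]
    simp
  rw [key]
  apply Ideal.sum_mem
  intro m _
  by_cases hm : m = 1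
  · subst hm; rw [sub_self]; exact zero_mem _
  · have hr : x.coeff m ∈ 𝔠 := h m hm (hb m)
    rw [mem_map_algebraMap_iff]
    intro n
    rw [MonoidAlgebra.coeff_sub, Finsupp.sub_apply, MonoidAlgebra.coeff_single,
      MonoidAlgebra.coeff_single, Finsupp.single_apply, Finsupp.single_apply]
    split_ifs <;> simp [hr]

/-- rigidity in the diagonal case. -/
theorem trivMod_pow_monoidAlgebra (φ : C →ₐc[K] MonoidAlgebra K M) (𝔠 : Ideal K)
    (h : TrivMod K (MonoidAlgebra K M) C φ 𝔠) (k : ℕ) :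
    TrivMod K (MonoidAlgebra K M) C φ (𝔠 ^ k) :=
  trivMod_of_coeffIdeal_le φ _ fun m hm =>
    coeffIdeal_le_pow φ 𝔠 m (coeffIdeal_le_of_trivMod φ 𝔠 h m hm) k

/-- if the coefficients (off the unit) of the images of a set of algebra generators lie in `𝔟`,
all off-unit coefficient ideals lie in `𝔟`. -/
lemma coeffIdeal_le_of_generators (φ : C →ₐc[K] MonoidAlgebra K M) (𝔟 : Ideal K) (t : Set C)
    (ht : Algebra.adjoin K t = ⊤) (h : ∀ c ∈ t, ∀ m, m ≠ 1 → (φ c).coeff m ∈ 𝔟) (m : M)
    (hm : m ≠ 1) : coeffIdeal φ m ≤ 𝔟 := by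
  classical
  let ρ : MonoidAlgebra K M →ₐ[K] MonoidAlgebra (K ⧸ 𝔟) M :=
    MonoidAlgebra.mapAlgHom M (Ideal.Quotient.mkₐ K 𝔟)
  let S : Subalgebra K (MonoidAlgebra K M) := (⊥ : Subalgebra K (MonoidAlgebra (K ⧸ 𝔟) M)).comap ρ
  have hS : (φ : C →ₐ[K] MonoidAlgebra K M).range ≤ S := by
    rw [← Algebra.map_top, ← ht, AlgHom.map_adjoin, Algebra.adjoin_le_iff]
    rintro _ ⟨c, hc, rfl⟩
    show ρ (φ c) ∈ (⊥ : Subalgebra K (MonoidAlgebra (K ⧸ 𝔟) M))
    rw [Algebra.mem_bot]
    refine ⟨(φ c).coeff 1, ?_⟩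
    apply MonoidAlgebra.ext
    apply Finsupp.ext
    intro n
    rw [MonoidAlgebra.coe_algebraMap]
    simp only [Function.comp_apply, MonoidAlgebra.coeff_single, Finsupp.single_apply, ρ,
      MonoidAlgebra.coeff_mapAlgHom]
    split_ifs with hn
    · subst hn; rfl
    · have := h c hc n (Ne.symm hn)
      exact (Ideal.Quotient.eq_zero_iff_mem.mpr this).symm
  intro r hr
  rw [mem_coeffIdeal] at hr
  have h1 := hS hr
  have h2 : ρ (single m r) ∈ (⊥ : Subalgebra K (MonoidAlgebra (K ⧸ 𝔟) M)) := h1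
  rw [Algebra.mem_bot] at h2
  obtain ⟨k, hk⟩ := h2
  have h3 := congrArg (fun y => y.coeff m) hk
  rw [MonoidAlgebra.coe_algebraMap] at h3
  simp only [Function.comp_apply, MonoidAlgebra.coeff_single, Finsupp.single_apply, ρ,
    MonoidAlgebra.coeff_mapAlgHom, if_neg (Ne.symm hm), if_pos rfl] at h3
  exact Ideal.Quotient.eq_zero_iff_mem.mp h3.symm

/-- in the diagonal case with source of finite type: a homomorphism trivial modulo `𝔫` is trivial
modulo a finitely generated idempotent ideal contained in `𝔫`. -/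
theorem exists_fg_idempotent_of_trivMod (hC : Algebra.FiniteType K C)
    (φ : C →ₐc[K] MonoidAlgebra K M) (𝔫 : Ideal K)
    (h : TrivMod K (MonoidAlgebra K M) C φ 𝔫) :
    ∃ 𝔟 : Ideal K, 𝔟.FG ∧ IsIdempotentElem 𝔟 ∧ 𝔟 ≤ 𝔫 ∧ TrivMod K (MonoidAlgebra K M) C φ 𝔟 := by
  classical
  obtain ⟨t, ht⟩ := hC.out
  let T : Finset K := t.biUnion (fun c => ((φ c).coeff.support.erase 1).image
    (fun m => (φ c).coeff m))
  have hT1 : ∀ c ∈ t, ∀ m, m ≠ 1 → (φ c).coeff m ∈ Ideal.span (T : Set K) := by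
    intro c hc m hm
    by_cases hms : m ∈ (φ c).coeff.support
    · apply Ideal.subset_span
      rw [Finset.mem_coe, Finset.mem_biUnion]
      exact ⟨c, hc, Finset.mem_image.mpr ⟨m, Finset.mem_erase.mpr ⟨hm, hms⟩, rfl⟩⟩
    · rw [Finsupp.notMem_support_iff.mp hms]
      exact zero_mem _
  have hT2 : ∀ r ∈ T, ∃ m, m ≠ 1 ∧ r ∈ coeffIdeal φ m := by
    intro r hr
    rw [Finset.mem_biUnion] at hr
    obtain ⟨c, _, hr⟩ := hr
    rw [Finset.mem_image] at hr
    obtain ⟨m, hm, rfl⟩ := hr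
    exact ⟨m, (Finset.mem_erase.mp hm).1, coeff_mem_coeffIdeal φ c m⟩
  have hle : ∀ m, m ≠ 1 → coeffIdeal φ m ≤ Ideal.span (T : Set K) :=
    coeffIdeal_le_of_generators φ _ (t : Set C) ht hT1
  refine ⟨Ideal.span (T : Set K), ⟨T, rfl⟩, ?_, ?_, trivMod_of_coeffIdeal_le φ _ hle⟩
  · apply le_antisymm Ideal.mul_le_right
    rw [Ideal.span_le]
    intro r hr
    obtain ⟨m, hm, hrm⟩ := hT2 r hr
    exact Ideal.mul_mono (hle m hm) (hle m hm) (coeffIdeal_le_mul_self φ m hrm)
  · rw [Ideal.span_le]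
    intro r hr
    obtain ⟨m, hm, hrm⟩ := hT2 r hr
    exact coeffIdeal_le_of_trivMod φ 𝔫 h m hm hrm

end Coeff

section BaseChange

variable (K : Type u) [CommRing K] {A : Type u} [CommRing A] [HopfAlgebra K A]
  {C : Type u} [CommRing C] [HopfAlgebra K C] (K' : Type u) [CommRing K'] [Algebra K K']

lemma one_tmul_mem_map (𝔠 : Ideal K) {x : A} (hx : x ∈ Ideal.map (algebraMap K A) 𝔠) :
    (1 : K') ⊗ₜ[K] x ∈ Ideal.map (algebraMap K' (K' ⊗[K] A)) (Ideal.map (algebraMap K K') 𝔠) := by
  have h1 : Ideal.map (Algebra.TensorProduct.includeRight : A →ₐ[K] K' ⊗[K] A).toRingHom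
      (Ideal.map (algebraMap K A) 𝔠) =
      Ideal.map (algebraMap K' (K' ⊗[K] A)) (Ideal.map (algebraMap K K') 𝔠) := by
    rw [Ideal.map_map, Ideal.map_map]
    congr 1
    ext r
    simp [Algebra.TensorProduct.algebraMap_apply]
  rw [← h1]
  exact Ideal.mem_map_of_mem _ hx

theorem TrivMod.baseChange (φ : C →ₐc[K] A) (𝔠 : Ideal K) (h : TrivMod K A C φ 𝔠) :
    TrivMod K' (K' ⊗[K] A) (K' ⊗[K] C) (bcHom K K' φ) (Ideal.map (algebraMap K K') 𝔠) := by
  intro c'
  induction c' using TensorProduct.induction_on with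
  | zero => simp
  | tmul k c =>
    have h1 : bcHom K K' φ (k ⊗ₜ[K] c) - algebraMap K' (K' ⊗[K] A) (Coalgebra.counit (k ⊗ₜ[K] c)) =
        (k ⊗ₜ[K] (1 : A)) * ((1 : K') ⊗ₜ[K] (φ c - algebraMap K A (Coalgebra.counit c))) := by
      rw [bcHom_tmul, TensorProduct.counit_tmul, Algebra.TensorProduct.tmul_mul_tmul, mul_one,
        one_mul, TensorProduct.tmul_sub, Algebra.TensorProduct.algebraMap_apply]
      congr 1
      simp [Algebra.algebraMap_eq_smul_one, TensorProduct.smul_tmul', TensorProduct.tmul_smul]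
    rw [h1]
    exact Ideal.mul_mem_left _ _ (one_tmul_mem_map K K' 𝔠 (h c))
  | add x y hx hy =>
    have : bcHom K K' φ (x + y) - algebraMap K' (K' ⊗[K] A) (Coalgebra.counit (x + y)) =
        (bcHom K K' φ x - algebraMap K' (K' ⊗[K] A) (Coalgebra.counit x)) +
        (bcHom K K' φ y - algebraMap K' (K' ⊗[K] A) (Coalgebra.counit y)) := by
      rw [map_add, map_add, map_add]; ring
    rw [this]
    exact add_mem hx hy

/-- faithfully flat descent of membership in an extended ideal. -/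
lemma mem_map_of_one_tmul_mem [Module.FaithfullyFlat K K'] (𝔠 : Ideal K) {x : A}
    (hx : (1 : K') ⊗ₜ[K] x ∈
      Ideal.map (algebraMap K' (K' ⊗[K] A)) (Ideal.map (algebraMap K K') 𝔠)) :
    x ∈ Ideal.map (algebraMap K A) 𝔠 := by
  set J := Ideal.map (algebraMap K A) 𝔠 with hJ
  let q : A →ₐ[K] A ⧸ J := Ideal.Quotient.mkₐ K J
  let g : K' ⊗[K] A →ₐ[K'] K' ⊗[K] (A ⧸ J) := Algebra.TensorProduct.map (AlgHom.id K' K') q
  have hle : Ideal.map (algebraMap K' (K' ⊗[K] A)) (Ideal.map (algebraMap K K') 𝔠) ≤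
      RingHom.ker g.toRingHom := by
    rw [Ideal.map_map, Ideal.map_le_iff_le_comap]
    intro r hr
    rw [Ideal.mem_comap, RingHom.mem_ker]
    have h1 : g.toRingHom (((algebraMap K' (K' ⊗[K] A)).comp (algebraMap K K')) r) =
        (1 : K') ⊗ₜ[K] q (algebraMap K A r) := by
      show g ((algebraMap K' (K' ⊗[K] A)) (algebraMap K K' r)) = _
      rw [Algebra.TensorProduct.algebraMap_apply]
      show (Algebra.TensorProduct.map (AlgHom.id K' K') q) ((algebraMap K K' r) ⊗ₜ[K] (1 : A)) = _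
      rw [Algebra.TensorProduct.map_tmul, AlgHom.commutes, map_one, AlgHom.id_apply,
        Algebra.algebraMap_eq_smul_one, Algebra.algebraMap_eq_smul_one, TensorProduct.smul_tmul]
    rw [h1]
    have h2 : q (algebraMap K A r) = 0 :=
      Ideal.Quotient.eq_zero_iff_mem.mpr (Ideal.mem_map_of_mem _ hr)
    rw [h2, TensorProduct.tmul_zero]
  have h3 := hle hx
  rw [RingHom.mem_ker] at h3
  have h4 : (1 : K') ⊗ₜ[K] q x = 0 := by
    have : g.toRingHom ((1 : K') ⊗ₜ[K] x) = (1 : K') ⊗ₜ[K] q x := by simp [g]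
    rw [← this, h3]
  rw [Module.FaithfullyFlat.one_tmul_eq_zero_iff] at h4
  exact Ideal.Quotient.eq_zero_iff_mem.mp h4

theorem TrivMod.descend [Module.FaithfullyFlat K K'] (φ : C →ₐc[K] A) (𝔠 : Ideal K)
    (h : TrivMod K' (K' ⊗[K] A) (K' ⊗[K] C) (bcHom K K' φ) (Ideal.map (algebraMap K K') 𝔠)) :
    TrivMod K A C φ 𝔠 := by
  intro c
  apply mem_map_of_one_tmul_mem K K' 𝔠
  have h1 := h ((1 : K') ⊗ₜ[K] c)
  have h2 : bcHom K K' φ ((1 : K') ⊗ₜ[K] c) -
      algebraMap K' (K' ⊗[K] A) (Coalgebra.counit ((1 : K') ⊗ₜ[K] c)) =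
      (1 : K') ⊗ₜ[K] (φ c - algebraMap K A (Coalgebra.counit c)) := by
    rw [bcHom_tmul, TensorProduct.counit_tmul, TensorProduct.tmul_sub,
      Algebra.TensorProduct.algebraMap_apply]
    congr 1
    simp [Algebra.algebraMap_eq_smul_one, TensorProduct.smul_tmul', TensorProduct.tmul_smul]
  rw [← h2]
  exact h1

end BaseChange

section Diag

variable {K : Type u} [CommRing K] {A : Type u} [CommRing A] [HopfAlgebra K A]
  {C : Type u} [CommRing C] [HopfAlgebra K C]

theorem TrivMod.comp_equiv {B : Type u} [CommRing B] [HopfAlgebra K B] (e : A ≃ₐc[K] B)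
    (φ : C →ₐc[K] A) (𝔠 : Ideal K) (h : TrivMod K A C φ 𝔠) :
    TrivMod K B C ((e : A →ₐc[K] B).comp φ) 𝔠 := by
  intro c
  have h1 : ((e : A →ₐc[K] B).comp φ) c - algebraMap K B (Coalgebra.counit c) =
      (e : A →ₐ[K] B) (φ c - algebraMap K A (Coalgebra.counit c)) := by
    rw [map_sub, AlgHom.commutes]
    rfl
  rw [h1]
  have h2 : Ideal.map (e : A →ₐ[K] B).toRingHom (Ideal.map (algebraMap K A) 𝔠) =
      Ideal.map (algebraMap K B) 𝔠 := by
    rw [Ideal.map_map]
    congr 1
    ext r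
    exact (e : A →ₐ[K] B).commutes r
  rw [← h2]
  exact Ideal.mem_map_of_mem _ (h c)

theorem TrivMod.of_comp_equiv {B : Type u} [CommRing B] [HopfAlgebra K B] (e : A ≃ₐc[K] B)
    (φ : C →ₐc[K] A) (𝔠 : Ideal K) (h : TrivMod K B C ((e : A →ₐc[K] B).comp φ) 𝔠) :
    TrivMod K A C φ 𝔠 := by
  have h3 := TrivMod.comp_equiv e.symm _ _ h
  intro c
  have h4 := h3 c
  have h5 : ((e.symm : B →ₐc[K] A).comp ((e : A →ₐc[K] B).comp φ)) c = φ c := by
    show e.symm (e (φ c)) = φ c
    exact e.symm_apply_apply _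
  rw [h5] at h4
  exact h4

theorem trivMod_pow_of_isDiag (hA : IsDiag K A) (φ : C →ₐc[K] A) (𝔠 : Ideal K)
    (h : TrivMod K A C φ 𝔠) (k : ℕ) : TrivMod K A C φ (𝔠 ^ k) := by
  obtain ⟨M, _, ⟨e⟩⟩ := hA
  have h1 := TrivMod.comp_equiv e φ 𝔠 h
  have h2 := trivMod_pow_monoidAlgebra _ 𝔠 h1 k
  have h3 := TrivMod.comp_equiv e.symm _ _ h2
  intro c
  have h4 := h3 c
  have h5 : ((e.symm : MonoidAlgebra K M →ₐc[K] A).comp ((e : A →ₐc[K] MonoidAlgebra K M).comp φ)) c
      = φ c := by
    show e.symm (e (φ c)) = φ c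
    exact e.symm_apply_apply _
  rw [h5] at h4
  exact h4

theorem trivMod_pow_of_isMultTypeConst (hA : IsMultTypeConst K A) (φ : C →ₐc[K] A) (𝔠 : Ideal K)
    (h : TrivMod K A C φ 𝔠) (k : ℕ) : TrivMod K A C φ (𝔠 ^ k) := by
  obtain ⟨K', _, _, hff, hdiag⟩ := hA
  have h1 := TrivMod.baseChange K K' φ 𝔠 h
  have h2 := trivMod_pow_of_isDiag hdiag _ _ h1 k
  rw [← Ideal.map_pow] at h2
  exact TrivMod.descend K K' φ _ h2

end Diag

section Local

variable {R : Type u} [CommRing R] [IsLocalRing R] {A : Type u} [CommRing A] [HopfAlgebra R A]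
  {C : Type u} [CommRing C] [HopfAlgebra R C]

lemma exists_isUnit_of_span_eq_top (s : Set R) (hs : Ideal.span s = ⊤) : ∃ f ∈ s, IsUnit f := by
  by_contra hcon
  have hcon : ∀ f ∈ s, ¬ IsUnit f := fun f hf hu => hcon ⟨f, hf, hu⟩
  have : Ideal.span s ≤ IsLocalRing.maximalIdeal R := by
    rw [Ideal.span_le]
    intro f hf
    exact (IsLocalRing.mem_maximalIdeal f).mpr (hcon f hf)
  rw [hs] at this
  exact (IsLocalRing.maximalIdeal.isMaximal R).ne_top (top_le_iff.mp this)

lemma faithfullyFlat_away_of_isUnit {f : R} (hf : IsUnit f) :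
    Module.FaithfullyFlat R (Localization.Away f) := by
  have : IsLocalization.Away f R := IsLocalization.away_of_isUnit_of_bijective R hf
    Function.bijective_id
  let e : R ≃ₐ[R] Localization.Away f := IsLocalization.algEquiv (Submonoid.powers f) R _
  exact Module.FaithfullyFlat.of_linearEquiv R R e.symm.toLinearEquiv

theorem trivMod_pow_of_isMultType_local (hA : IsMultType R A) (φ : C →ₐc[R] A) (𝔠 : Ideal R)
    (h : TrivMod R A C φ 𝔠) (k : ℕ) : TrivMod R A C φ (𝔠 ^ k) := by
  obtain ⟨s, hs, hloc⟩ := hA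
  obtain ⟨f, hf, hfu⟩ := exists_isUnit_of_span_eq_top s hs
  have := faithfullyFlat_away_of_isUnit hfu
  have h1 := TrivMod.baseChange R (Localization.Away f) φ 𝔠 h
  have h2 := trivMod_pow_of_isMultTypeConst (hloc f hf) _ _ h1 k
  rw [← Ideal.map_pow] at h2
  exact TrivMod.descend R (Localization.Away f) φ _ h2

end Local

section LocalFT

variable {K : Type u} [CommRing K] [IsLocalRing K] {A : Type u} [CommRing A] [HopfAlgebra K A]
  {C : Type u} [CommRing C] [HopfAlgebra K C]

/-- quotient by an ideal of `K'` kills the corresponding extended ideal after base change -/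
lemma one_tmul_eq_zero_of_mem {K' : Type u} [CommRing K'] [Algebra K K'] (𝔟 : Ideal K') {x : A}
    (hx : (1 : K') ⊗ₜ[K] x ∈ Ideal.map (algebraMap K' (K' ⊗[K] A)) 𝔟) :
    (1 : K' ⧸ 𝔟) ⊗ₜ[K] x = 0 := by
  let g : K' ⊗[K] A →ₐ[K] (K' ⧸ 𝔟) ⊗[K] A :=
    Algebra.TensorProduct.map (Ideal.Quotient.mkₐ K 𝔟) (AlgHom.id K A)
  have hle : Ideal.map (algebraMap K' (K' ⊗[K] A)) 𝔟 ≤ RingHom.ker g.toRingHom := by
    rw [Ideal.map_le_iff_le_comap]
    intro r hr
    rw [Ideal.mem_comap, RingHom.mem_ker, Algebra.TensorProduct.algebraMap_apply]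
    show (Algebra.TensorProduct.map (Ideal.Quotient.mkₐ K 𝔟) (AlgHom.id K A))
      ((algebraMap K' K' r) ⊗ₜ[K] (1 : A)) = 0
    rw [Algebra.TensorProduct.map_tmul]
    have : (Ideal.Quotient.mkₐ K 𝔟) (algebraMap K' K' r) = 0 :=
      Ideal.Quotient.eq_zero_iff_mem.mpr hr
    rw [this, TensorProduct.zero_tmul]
  have h1 := hle hx
  rw [RingHom.mem_ker] at h1
  have h2 : g.toRingHom ((1 : K') ⊗ₜ[K] x) = (1 : K' ⧸ 𝔟) ⊗ₜ[K] x := by
    show (Algebra.TensorProduct.map (Ideal.Quotient.mkₐ K 𝔟) (AlgHom.id K A))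
      ((1 : K') ⊗ₜ[K] x) = _
    rw [Algebra.TensorProduct.map_tmul, map_one, AlgHom.id_apply]
  rw [← h2, h1]

theorem trivMod_bot_of_isMultTypeConst_of_finiteType (hA : IsMultTypeConst K A)
    (hC : Algebra.FiniteType K C) (φ : C →ₐc[K] A)
    (h : TrivMod K A C φ (IsLocalRing.maximalIdeal K)) : TrivMod K A C φ ⊥ := by
  obtain ⟨K', _, _, hff, M, _, ⟨e⟩⟩ := hA
  set 𝔫 : Ideal K' := Ideal.map (algebraMap K K') (IsLocalRing.maximalIdeal K) with h𝔫
  let ψ : K' ⊗[K] C →ₐc[K'] MonoidAlgebra K' M :=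
    (e : K' ⊗[K] A →ₐc[K'] MonoidAlgebra K' M).comp (bcHom K K' φ)
  have hψ : TrivMod K' (MonoidAlgebra K' M) (K' ⊗[K] C) ψ 𝔫 :=
    TrivMod.comp_equiv e _ _ (TrivMod.baseChange K K' φ _ h)
  have hC' : Algebra.FiniteType K' (K' ⊗[K] C) := inferInstance
  obtain ⟨𝔟, hfg, hidem, hle, hψ𝔟⟩ := exists_fg_idempotent_of_trivMod hC' ψ 𝔫 hψ
  have hφ𝔟 : TrivMod K' (K' ⊗[K] A) (K' ⊗[K] C) (bcHom K K' φ) 𝔟 :=
    TrivMod.of_comp_equiv e _ _ hψ𝔟
  have hflat : Module.Flat K' (K' ⧸ 𝔟) := Ideal.Pure.of_isIdempotentElem hfg hidem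
  have hflatK : Module.Flat K (K' ⧸ 𝔟) := Module.Flat.trans K K' _
  have hff'' : Module.FaithfullyFlat K (K' ⧸ 𝔟) := by
    refine ⟨?_⟩
    intro 𝔭 h𝔭 htop
    have h𝔭' : 𝔭 = IsLocalRing.maximalIdeal K := IsLocalRing.eq_maximalIdeal h𝔭
    subst h𝔭'
    rw [Ideal.smul_top_eq_map] at htop
    have h1 : Ideal.map (algebraMap K (K' ⧸ 𝔟)) (IsLocalRing.maximalIdeal K) = ⊤ := by
      apply Submodule.restrictScalars_injective K
      rw [htop]
      rfl
    have h2 : Ideal.map (Ideal.Quotient.mk 𝔟) 𝔫 = ⊤ := by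
      rw [h𝔫, Ideal.map_map]
      exact h1
    have h3 : 𝔫 ⊔ 𝔟 = ⊤ := by
      have := Ideal.comap_map_of_surjective' (Ideal.Quotient.mk 𝔟) Ideal.Quotient.mk_surjective 𝔫
      rw [h2, Ideal.comap_top, Ideal.mk_ker] at this
      exact this.symm
    have h4 : 𝔫 = ⊤ := by
      rw [← h3]
      exact (sup_eq_left.mpr hle).symm
    have h5 := hff.submodule_ne_top (IsLocalRing.maximalIdeal.isMaximal K)
    apply h5
    rw [Ideal.smul_top_eq_map]
    show Submodule.restrictScalars K 𝔫 = ⊤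
    rw [h4]
    rfl
  intro c
  rw [Ideal.map_bot, Ideal.mem_bot]
  have h1 := hφ𝔟 ((1 : K') ⊗ₜ[K] c)
  have h2 : bcHom K K' φ ((1 : K') ⊗ₜ[K] c) -
      algebraMap K' (K' ⊗[K] A) (Coalgebra.counit ((1 : K') ⊗ₜ[K] c)) =
      (1 : K') ⊗ₜ[K] (φ c - algebraMap K A (Coalgebra.counit c)) := by
    rw [bcHom_tmul, TensorProduct.counit_tmul, TensorProduct.tmul_sub,
      Algebra.TensorProduct.algebraMap_apply]
    congr 1
    simp [Algebra.algebraMap_eq_smul_one, TensorProduct.smul_tmul', TensorProduct.tmul_smul]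
  rw [h2] at h1
  have h3 := one_tmul_eq_zero_of_mem 𝔟 h1
  exact (Module.FaithfullyFlat.one_tmul_eq_zero_iff K _ _).mp h3

end LocalFT

section Tors

variable {K : Type u} [CommRing K] {A : Type u} [CommRing A] [HopfAlgebra K A]
  {B : Type u} [CommRing B] [HopfAlgebra K B]

theorem powConv_comp_bialgHom (ρ : A →ₐc[K] B) (n : ℕ) :
    (powConv K B n).comp (ρ : A →ₐ[K] B) = (ρ : A →ₐ[K] B).comp (powConv K A n) := by
  have h1 := convPow_comp_bialgHom K A B ρ (toConv (AlgHom.id K B)) n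
  have h2 := Deligne.comp_convPow (ρ : A →ₐ[K] B) (toConv (AlgHom.id K A)) n
  have h3 : (toConv (AlgHom.id K B)).ofConv.comp (ρ : A →ₐ[K] B) =
      (ρ : A →ₐ[K] B).comp (toConv (AlgHom.id K A)).ofConv := rfl
  rw [h3, ← h2] at h1
  exact congrArg WithConv.ofConv h1

theorem map_torsionIdeal_le (ρ : A →ₐc[K] B) (n : ℕ) :
    Ideal.map (ρ : A →ₐ[K] B) (torsionIdeal K A n) ≤ torsionIdeal K B n := by
  unfold torsionIdeal
  rw [Ideal.map_mapₐ, ← powConv_comp_bialgHom ρ n, ← Ideal.map_mapₐ]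
  apply Ideal.map_mono
  rw [Ideal.map_le_iff_le_comap]
  intro a ha
  rw [Ideal.mem_comap, RingHom.mem_ker]
  rw [RingHom.mem_ker] at ha
  have h2 : Coalgebra.counit (R := K) (ρ a) = Coalgebra.counit (R := K) a :=
    CoalgHomClass.counit_comp_apply ρ a
  exact h2.trans ha

theorem map_torsionIdeal_equiv (e : A ≃ₐc[K] B) (n : ℕ) :
    Ideal.map ((e : A →ₐc[K] B) : A →ₐ[K] B) (torsionIdeal K A n) = torsionIdeal K B n := by
  apply le_antisymm (map_torsionIdeal_le (e : A →ₐc[K] B) n)
  have h1 := map_torsionIdeal_le (e.symm : B →ₐc[K] A) n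
  have h2 := Ideal.map_mono (f := ((e : A →ₐc[K] B) : A →ₐ[K] B)) h1
  rw [Ideal.map_mapₐ] at h2
  have h3 : ((e : A →ₐc[K] B) : A →ₐ[K] B).comp ((e.symm : B →ₐc[K] A) : B →ₐ[K] A) =
      AlgHom.id K B := by
    ext b
    exact e.apply_symm_apply b
  rw [h3] at h2
  have h4 : Ideal.map (AlgHom.id K B) (torsionIdeal K B n) = torsionIdeal K B n :=
    Ideal.map_id _
  rw [h4] at h2
  exact h2

end Tors

section TorsBC

variable (K : Type u) [CommRing K] (A : Type u) [CommRing A] [HopfAlgebra K A]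
  (K' : Type u) [CommRing K'] [Algebra K K']

lemma sub_counit_mem_map_includeRight (x : K' ⊗[K] A) :
    x - algebraMap K' (K' ⊗[K] A) (Coalgebra.counit x) ∈
      Ideal.map (Algebra.TensorProduct.includeRight : A →ₐ[K] K' ⊗[K] A)
        (RingHom.ker (Bialgebra.counitAlgHom K A)) := by
  induction x using TensorProduct.induction_on with
  | zero => simp
  | tmul k a =>
    have h1 : k ⊗ₜ[K] a - algebraMap K' (K' ⊗[K] A) (Coalgebra.counit (k ⊗ₜ[K] a)) =
        (k ⊗ₜ[K] (1 : A)) * ((1 : K') ⊗ₜ[K] (a - algebraMap K A (Coalgebra.counit a))) := by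
      rw [TensorProduct.counit_tmul, Algebra.TensorProduct.tmul_mul_tmul, mul_one,
        one_mul, TensorProduct.tmul_sub, Algebra.TensorProduct.algebraMap_apply]
      congr 1
      simp [Algebra.algebraMap_eq_smul_one, TensorProduct.smul_tmul', TensorProduct.tmul_smul]
    rw [h1]
    apply Ideal.mul_mem_left
    apply Ideal.mem_map_of_mem
    rw [RingHom.mem_ker, map_sub, AlgHom.commutes]
    simp
  | add x y hx hy =>
    have : (x + y) - algebraMap K' (K' ⊗[K] A) (Coalgebra.counit (x + y)) =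
        (x - algebraMap K' (K' ⊗[K] A) (Coalgebra.counit x)) +
        (y - algebraMap K' (K' ⊗[K] A) (Coalgebra.counit y)) := by
      rw [map_add, map_add]; ring
    rw [this]
    exact add_mem hx hy

theorem ker_counit_baseChange :
    RingHom.ker (Bialgebra.counitAlgHom K' (K' ⊗[K] A)) =
      Ideal.map (Algebra.TensorProduct.includeRight : A →ₐ[K] K' ⊗[K] A)
        (RingHom.ker (Bialgebra.counitAlgHom K A)) := by
  apply le_antisymm
  · intro x hx
    rw [RingHom.mem_ker] at hx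
    have h1 := sub_counit_mem_map_includeRight K A K' x
    have h2 : Coalgebra.counit (R := K') x = 0 := hx
    rw [h2, map_zero, sub_zero] at h1
    exact h1
  · rw [Ideal.map_le_iff_le_comap]
    intro a ha
    rw [RingHom.mem_ker] at ha
    rw [Ideal.mem_comap, RingHom.mem_ker]
    show Coalgebra.counit (R := K') ((1 : K') ⊗ₜ[K] a) = 0
    rw [TensorProduct.counit_tmul]
    have : Coalgebra.counit (R := K) a = 0 := ha
    rw [this, zero_smul]

theorem torsionIdeal_baseChange (n : ℕ) :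
    torsionIdeal K' (K' ⊗[K] A) n =
      Ideal.map (Algebra.TensorProduct.includeRight : A →ₐ[K] K' ⊗[K] A) (torsionIdeal K A n) := by
  unfold torsionIdeal
  rw [ker_counit_baseChange]
  show Ideal.map ((powConv K' (K' ⊗[K] A) n).restrictScalars K)
    (Ideal.map (Algebra.TensorProduct.includeRight : A →ₐ[K] K' ⊗[K] A) _) = _
  rw [Ideal.map_mapₐ, Ideal.map_mapₐ]
  congr 1
  ext a
  rw [powConv_baseChange]
  simp [bc]

end TorsBC

section MA

variable (K : Type u) [CommRing K] (M : Type u) [CommGroup M]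

open MonoidAlgebra

lemma single_pow_sub_one_mem_torsionIdeal (n : ℕ) (m : M) :
    (single (m ^ n) (1 : K) - 1 : MonoidAlgebra K M) ∈ torsionIdeal K (MonoidAlgebra K M) n := by
  have h1 : (single m (1 : K) - 1 : MonoidAlgebra K M) ∈
      RingHom.ker (Bialgebra.counitAlgHom K (MonoidAlgebra K M)) := by
    rw [RingHom.mem_ker, map_sub, map_one]
    show Coalgebra.counit (R := K) (single m (1 : K)) - 1 = 0
    rw [MonoidAlgebra.counit_single]
    simp
  have h2 := Ideal.mem_map_of_mem (powConv K (MonoidAlgebra K M) n) h1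
  rw [map_sub, map_one] at h2
  have h3 : powConv K (MonoidAlgebra K M) n (single m (1 : K)) = single (m ^ n) (1 : K) :=
    convPow_single K M n m
  rw [h3] at h2
  exact h2

/-- the subgroup of `n`-th powers -/
abbrev powSubgroup (n : ℕ) : Subgroup M := (powMonoidHom n : M →* M).range

lemma torsionIdeal_le_ker_mapDomain (n : ℕ) :
    torsionIdeal K (MonoidAlgebra K M) n ≤
      RingHom.ker ((MonoidAlgebra.mapDomainBialgHom K (QuotientGroup.mk' (powSubgroup M n)) :
        MonoidAlgebra K M →ₐc[K] MonoidAlgebra K (M ⧸ powSubgroup M n)) :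
        MonoidAlgebra K M →ₐ[K] MonoidAlgebra K (M ⧸ powSubgroup M n)) := by
  rcases subsingleton_or_nontrivial K with hK | hK
  · intro x _
    have : Subsingleton (MonoidAlgebra K (M ⧸ powSubgroup M n)) := Module.subsingleton K _
    rw [RingHom.mem_ker]
    exact Subsingleton.elim _ _
  have h1 := map_torsionIdeal_le (MonoidAlgebra.mapDomainBialgHom K
    (QuotientGroup.mk' (powSubgroup M n)) :
      MonoidAlgebra K M →ₐc[K] MonoidAlgebra K (M ⧸ powSubgroup M n)) n
  have h2 : torsionIdeal K (MonoidAlgebra K (M ⧸ powSubgroup M n)) n = ⊥ := by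
    rw [torsionIdeal_eq_bot_iff, killed_monoidAlgebra_iff]
    intro q
    obtain ⟨m, rfl⟩ := QuotientGroup.mk'_surjective (powSubgroup M n) q
    rw [← map_pow]
    exact (QuotientGroup.eq_one_iff _).mpr ⟨m, rfl⟩
  rw [h2, le_bot_iff, Ideal.map_eq_bot_iff_le_ker] at h1
  exact h1

lemma single_sub_single_mem_torsionIdeal (n : ℕ) (m m' : M)
    (h : (QuotientGroup.mk' (powSubgroup M n)) m = (QuotientGroup.mk' (powSubgroup M n)) m') :
    (single m (1 : K) - single m' 1 : MonoidAlgebra K M) ∈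
      torsionIdeal K (MonoidAlgebra K M) n := by
  have h1 : m'⁻¹ * m ∈ powSubgroup M n := QuotientGroup.eq.mp h.symm
  obtain ⟨g, hg⟩ := h1
  have hg' : g ^ n = m'⁻¹ * m := hg
  have h2 : (single m (1 : K) - single m' 1 : MonoidAlgebra K M) =
      single m' 1 * (single (g ^ n) (1 : K) - 1) := by
    rw [mul_sub, mul_one, MonoidAlgebra.single_mul_single, hg', mul_one, mul_inv_cancel_left]
  rw [h2]
  exact Ideal.mul_mem_left _ _ (single_pow_sub_one_mem_torsionIdeal K M n g)

theorem finite_quotient_torsionIdeal_monoidAlgebra [Group.FG M] {n : ℕ} (hn : 0 < n) :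
    Module.Finite K (MonoidAlgebra K M ⧸ torsionIdeal K (MonoidAlgebra K M) n) := by
  classical
  have htors : IsMulTorsion (M ⧸ powSubgroup M n) := by
    intro q
    obtain ⟨m, rfl⟩ := QuotientGroup.mk'_surjective (powSubgroup M n) q
    refine isOfFinOrder_iff_pow_eq_one.mpr ⟨n, hn, ?_⟩
    rw [← map_pow]
    exact (QuotientGroup.eq_one_iff _).mpr ⟨m, rfl⟩
  have hfin : Finite (M ⧸ powSubgroup M n) := CommGroup.finite_of_fg_isMulTorsion _ htors
  have := Fintype.ofFinite (M ⧸ powSubgroup M n)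
  let σ : M ⧸ powSubgroup M n → M := Function.surjInv (QuotientGroup.mk'_surjective _)
  have hσ : ∀ q, (QuotientGroup.mk' (powSubgroup M n)) (σ q) = q :=
    Function.surjInv_eq (QuotientGroup.mk'_surjective _)
  let J := torsionIdeal K (MonoidAlgebra K M) n
  let f : ((M ⧸ powSubgroup M n) →₀ K) →ₗ[K] (MonoidAlgebra K M ⧸ J) :=
    Finsupp.linearCombination K (fun q => Ideal.Quotient.mk J (single (σ q) (1 : K)))
  apply Module.Finite.of_surjective f
  intro y
  obtain ⟨x, rfl⟩ := Ideal.Quotient.mk_surjective y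
  induction x using MonoidAlgebra.induction_on with
  | of m =>
    refine ⟨Finsupp.single (QuotientGroup.mk' (powSubgroup M n) m) 1, ?_⟩
    rw [Finsupp.linearCombination_single, one_smul, MonoidAlgebra.of_apply]
    rw [Ideal.Quotient.eq]
    exact single_sub_single_mem_torsionIdeal K M n _ _ (hσ _)
  | add x y hx hy =>
    obtain ⟨a, ha⟩ := hx
    obtain ⟨b, hb⟩ := hy
    exact ⟨a + b, by rw [map_add, ha, hb, map_add]⟩
  | smul r x hx =>
    obtain ⟨a, ha⟩ := hx
    refine ⟨r • a, ?_⟩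
    rw [map_smul, ha]
    rfl

lemma exists_pos_notMem_powSubgroup [Group.FG M] (g : M) (hg : g ≠ 1) :
    ∃ n : ℕ, 0 < n ∧ g ∉ powSubgroup M n := by
  obtain ⟨ι, j, _, _, p, hp, e, ⟨φ⟩⟩ := CommGroup.equiv_free_prod_prod_multiplicative_zmod M
  have hφg : φ g ≠ 1 := fun h => hg (φ.injective (h.trans (map_one φ).symm))
  by_cases ha : (φ g).1 = 1
  · -- torsion part nontrivial
    have hb : (φ g).2 ≠ 1 := by
      intro hb
      exact hφg (Prod.ext ha hb)
    obtain ⟨i, hi⟩ : ∃ i, (φ g).2 i ≠ 1 := by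
      by_contra hcon
      apply hb
      funext i
      by_contra h
      exact hcon ⟨i, h⟩
    refine ⟨p i ^ e i, pow_pos (hp i).pos _, ?_⟩
    rintro ⟨h, hh⟩
    apply hi
    have h1 : φ g = (φ h) ^ (p i ^ e i) := by
      rw [← map_pow]
      exact congrArg φ hh.symm
    rw [h1]
    show ((φ h).2 i) ^ (p i ^ e i) = 1
    apply Multiplicative.toAdd.injective
    rw [toAdd_pow, toAdd_one, nsmul_eq_mul, ZMod.natCast_self, zero_mul]
  · obtain ⟨k, hk⟩ : ∃ k, (φ g).1 k ≠ 1 := by
      by_contra hcon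
      apply ha
      funext k
      by_contra h
      exact hcon ⟨k, h⟩
    obtain ⟨z, hz⟩ : ∃ z : ℤ, z = Multiplicative.toAdd ((φ g).1 k) := ⟨_, rfl⟩
    have hz0 : z ≠ 0 := by
      intro h0
      apply hk
      apply Multiplicative.toAdd.injective
      rw [← hz, h0, toAdd_one]
    obtain ⟨N, hN⟩ : ∃ N : ℕ, N = z.natAbs := ⟨_, rfl⟩
    have hNpos : 0 < N := by rw [hN]; exact Int.natAbs_pos.mpr hz0
    refine ⟨2 * N, by positivity, ?_⟩
    rintro ⟨h, hh⟩
    have h1 : φ g = (φ h) ^ (2 * N) := by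
      rw [← map_pow]
      exact congrArg φ hh.symm
    have h2 : z = (2 * N : ℕ) • Multiplicative.toAdd ((φ h).1 k) := by
      rw [hz, h1]
      show Multiplicative.toAdd (((φ h).1 k) ^ (2 * N)) = _
      rw [toAdd_pow]
    rw [nsmul_eq_mul] at h2
    have h3 : ((2 * N : ℕ) : ℤ) ∣ z := ⟨_, h2⟩
    have h4 := Int.natAbs_dvd_natAbs.mpr h3
    rw [Int.natAbs_natCast, ← hN] at h4
    have h7 := Nat.le_of_dvd hNpos h4
    omega

theorem eq_zero_of_forall_mem_torsionIdeal [Group.FG M] (x : MonoidAlgebra K M)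
    (h : ∀ n : ℕ, 0 < n → x ∈ torsionIdeal K (MonoidAlgebra K M) n) : x = 0 := by
  classical
  have hex : ∀ d : M, d ≠ 1 → ∃ n, 0 < n ∧ d ∉ powSubgroup M n :=
    exists_pos_notMem_powSubgroup M
  choose! N hNpos hN using hex
  let F := x.coeff.support
  let D : Finset M := ((F ×ˢ F).image (fun p => p.2⁻¹ * p.1)).erase 1
  let n := ∏ d ∈ D, N d
  have hn : 0 < n := Finset.prod_pos (fun d hd => hNpos d (Finset.ne_of_mem_erase hd))
  have hinj : Set.InjOn (QuotientGroup.mk' (powSubgroup M n)) (F : Set M) := by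
    intro m hm m' hm' heq
    by_contra hne
    have hne1 : m'⁻¹ * m ≠ 1 := by
      intro h1
      apply hne
      have := congrArg (fun t => m' * t) h1
      simpa using this
    have hd : m'⁻¹ * m ∈ D := by
      apply Finset.mem_erase.mpr
      refine ⟨hne1, Finset.mem_image.mpr ⟨(m, m'), ?_, rfl⟩⟩
      exact Finset.mem_product.mpr ⟨hm, hm'⟩
    have h1 : m'⁻¹ * m ∈ powSubgroup M n := QuotientGroup.eq.mp heq.symm
    obtain ⟨g, hg⟩ := h1
    apply hN (m'⁻¹ * m) hne1
    obtain ⟨k, hk⟩ := Finset.dvd_prod_of_mem N hd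
    refine ⟨g ^ k, ?_⟩
    have hg' : g ^ n = m'⁻¹ * m := hg
    show (g ^ k) ^ (N (m'⁻¹ * m)) = m'⁻¹ * m
    rw [← pow_mul, mul_comm, ← hk]
    exact hg'
  have h0 := torsionIdeal_le_ker_mapDomain K M n (h n hn)
  rw [RingHom.mem_ker] at h0
  have h1 : Finsupp.mapDomain (QuotientGroup.mk' (powSubgroup M n)) x.coeff = 0 := by
    have := congrArg MonoidAlgebra.coeff h0
    simpa using this
  have h2 := Finsupp.mapDomain_injOn (F : Set M) hinj (show x.coeff ∈ {w : M →₀ K | (w.support : Set M) ⊆ F} from Set.Subset.refl _)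
    (show (0 : M →₀ K) ∈ {w : M →₀ K | (w.support : Set M) ⊆ F} by simp)
    (h1.trans Finsupp.mapDomain_zero.symm)
  exact MonoidAlgebra.coeff_eq_zero.mp h2

end MA

/-- density of the torsion subgroups (weak form): only `0` vanishes on all `ₙG`. -/
def TorsDense (K : Type u) [CommRing K] (A : Type u) [CommRing A] [HopfAlgebra K A] : Prop :=
  ∀ x : A, (∀ n : ℕ, 0 < n → x ∈ torsionIdeal K A n) → x = 0

/-- the torsion subgroups are finite -/
def TorsFinite (K : Type u) [CommRing K] (A : Type u) [CommRing A] [HopfAlgebra K A] : Prop :=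
  ∀ n : ℕ, 0 < n → Module.Finite K (A ⧸ torsionIdeal K A n)

section Assemble

variable {K : Type u} [CommRing K] {A : Type u} [CommRing A] [HopfAlgebra K A]

theorem torsFinite_and_torsDense_of_isDiag (hA : IsDiag K A) (hft : Algebra.FiniteType K A) :
    TorsFinite K A ∧ TorsDense K A := by
  rcases subsingleton_or_nontrivial K with hK | hK
  · have : Subsingleton A := Module.subsingleton K A
    refine ⟨fun n _ => ?_, fun x _ => Subsingleton.elim _ _⟩
    have : Subsingleton (A ⧸ torsionIdeal K A n) :=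
      Function.Surjective.subsingleton Ideal.Quotient.mk_surjective
    exact Module.Finite.of_finite
  obtain ⟨M, _, ⟨e⟩⟩ := hA
  have hft' : Algebra.FiniteType K (MonoidAlgebra K M) :=
    Algebra.FiniteType.equiv hft (e : A ≃ₐ[K] MonoidAlgebra K M)
  have hfg : Group.FG M := MonoidAlgebra.finiteType_iff_group_fg.mp hft'
  constructor
  · intro n hn
    have hfin := finite_quotient_torsionIdeal_monoidAlgebra K M hn
    have hle : torsionIdeal K (MonoidAlgebra K M) n ≤
        (torsionIdeal K A n).comap ((e.symm : MonoidAlgebra K M →ₐc[K] A) :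
          MonoidAlgebra K M →ₐ[K] A) :=
      Ideal.map_le_iff_le_comap.mp (map_torsionIdeal_le (e.symm : MonoidAlgebra K M →ₐc[K] A) n)
    let g : (MonoidAlgebra K M ⧸ torsionIdeal K (MonoidAlgebra K M) n) →ₐ[K]
        (A ⧸ torsionIdeal K A n) :=
      Ideal.quotientMapₐ (torsionIdeal K A n)
        ((e.symm : MonoidAlgebra K M →ₐc[K] A) : MonoidAlgebra K M →ₐ[K] A) hle
    apply Module.Finite.of_surjective g.toLinearMap
    exact Ideal.quotientMap_surjective (H := hle) e.symm.surjective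
  · intro x hx
    have h1 : ∀ n : ℕ, 0 < n → e x ∈ torsionIdeal K (MonoidAlgebra K M) n := by
      intro n hn
      exact map_torsionIdeal_le (e : A →ₐc[K] MonoidAlgebra K M) n
        (Ideal.mem_map_of_mem _ (hx n hn))
    have h2 := eq_zero_of_forall_mem_torsionIdeal K M (e x) h1
    exact e.injective (h2.trans (map_zero e).symm)

theorem torsFinite_descend (K' : Type u) [CommRing K'] [Algebra K K'] [Module.FaithfullyFlat K K']
    (h : TorsFinite K' (K' ⊗[K] A)) : TorsFinite K A := by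
  intro n hn
  have hfin := h n hn
  let g : K' ⊗[K] A →ₐ[K'] K' ⊗[K] (A ⧸ torsionIdeal K A n) :=
    Algebra.TensorProduct.map (AlgHom.id K' K') (Ideal.Quotient.mkₐ K (torsionIdeal K A n))
  have hker : ∀ y ∈ torsionIdeal K' (K' ⊗[K] A) n, g y = 0 := by
    intro y hy
    rw [torsionIdeal_baseChange] at hy
    have hle : Ideal.map (Algebra.TensorProduct.includeRight : A →ₐ[K] K' ⊗[K] A)
        (torsionIdeal K A n) ≤ RingHom.ker g := by
      rw [Ideal.map_le_iff_le_comap]
      intro a ha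
      rw [Ideal.mem_comap, RingHom.mem_ker]
      show (Algebra.TensorProduct.map (AlgHom.id K' K')
        (Ideal.Quotient.mkₐ K (torsionIdeal K A n))) ((1 : K') ⊗ₜ[K] a) = 0
      rw [Algebra.TensorProduct.map_tmul]
      have : (Ideal.Quotient.mkₐ K (torsionIdeal K A n)) a = 0 :=
        Ideal.Quotient.eq_zero_iff_mem.mpr ha
      rw [this, TensorProduct.tmul_zero]
    exact hle hy
  let gbar : ((K' ⊗[K] A) ⧸ torsionIdeal K' (K' ⊗[K] A) n) →ₐ[K']
      K' ⊗[K] (A ⧸ torsionIdeal K A n) := Ideal.Quotient.liftₐ _ g hker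
  have hgs : Function.Surjective g := by
    have h1 : Function.Surjective (LinearMap.lTensor K'
        (Ideal.Quotient.mkₐ K (torsionIdeal K A n)).toLinearMap) :=
      LinearMap.lTensor_surjective K' Ideal.Quotient.mk_surjective
    have h2 : ∀ z : K' ⊗[K] A, g z = (LinearMap.lTensor K'
        (Ideal.Quotient.mkₐ K (torsionIdeal K A n)).toLinearMap) z := by
      intro z
      induction z using TensorProduct.induction_on with
      | zero => simp
      | tmul k a => rfl
      | add z w hz hw => rw [map_add, map_add, hz, hw]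
    intro y
    obtain ⟨z, hz⟩ := h1 y
    exact ⟨z, (h2 z).trans hz⟩
  have hsurj : Function.Surjective gbar :=
    Ideal.Quotient.lift_surjective_of_surjective _ _ hgs
  have : Module.Finite K' (K' ⊗[K] (A ⧸ torsionIdeal K A n)) :=
    Module.Finite.of_surjective gbar.toLinearMap hsurj
  exact Module.Finite.of_finite_tensorProduct_of_faithfullyFlat K'

theorem torsDense_descend (K' : Type u) [CommRing K'] [Algebra K K'] [Module.FaithfullyFlat K K']
    (h : TorsDense K' (K' ⊗[K] A)) : TorsDense K A := by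
  intro x hx
  have h1 : (1 : K') ⊗ₜ[K] x = 0 := by
    apply h
    intro n hn
    rw [torsionIdeal_baseChange]
    exact Ideal.mem_map_of_mem _ (hx n hn)
  exact (Module.FaithfullyFlat.one_tmul_eq_zero_iff K _ _).mp h1

theorem torsFinite_and_torsDense_of_isMultTypeConst (hA : IsMultTypeConst K A)
    (hft : Algebra.FiniteType K A) : TorsFinite K A ∧ TorsDense K A := by
  obtain ⟨K', _, _, hff, hdiag⟩ := hA
  have h := torsFinite_and_torsDense_of_isDiag hdiag inferInstance
  exact ⟨torsFinite_descend K' h.1, torsDense_descend K' h.2⟩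

end Assemble


section Final

variable {R : Type u} [CommRing R] [IsLocalRing R] {A : Type u} [CommRing A] [HopfAlgebra R A]
  {C : Type u} [CommRing C] [HopfAlgebra R C]

/-- localising a local ring at a unit: still local, and the maximal ideal extends into the maximal
ideal. -/
lemma isLocalRing_away_of_isUnit {f : R} (hf : IsUnit f) :
    ∃ _ : IsLocalRing (Localization.Away f),
      Ideal.map (algebraMap R (Localization.Away f)) (IsLocalRing.maximalIdeal R) ≤
        IsLocalRing.maximalIdeal (Localization.Away f) := by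
  have : IsLocalization.Away f R := IsLocalization.away_of_isUnit_of_bijective R hf
    Function.bijective_id
  let e : R ≃ₐ[R] Localization.Away f := IsLocalization.algEquiv (Submonoid.powers f) R _
  have hloc : IsLocalRing (Localization.Away f) := e.toRingEquiv.isLocalRing
  refine ⟨hloc, ?_⟩
  rw [Ideal.map_le_iff_le_comap]
  intro r hr
  rw [Ideal.mem_comap, IsLocalRing.mem_maximalIdeal, mem_nonunits_iff]
  rw [IsLocalRing.mem_maximalIdeal, mem_nonunits_iff] at hr
  intro hu
  apply hr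
  have h1 : algebraMap R (Localization.Away f) r = e r := (e.commutes r).symm
  rw [h1] at hu
  have h2 := hu.map e.symm
  rwa [e.symm_apply_apply] at h2

theorem trivMod_bot_of_isMultType_of_finiteType (hA : IsMultType R A)
    (hC : Algebra.FiniteType R C) (φ : C →ₐc[R] A)
    (h : TrivMod R A C φ (IsLocalRing.maximalIdeal R)) : TrivMod R A C φ ⊥ := by
  obtain ⟨s, hs, hloc⟩ := hA
  obtain ⟨f, hf, hfu⟩ := exists_isUnit_of_span_eq_top s hs
  have hff := faithfullyFlat_away_of_isUnit hfu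
  obtain ⟨hlocal, hle⟩ := isLocalRing_away_of_isUnit hfu
  have h1 := (TrivMod.baseChange R (Localization.Away f) φ _ h).mono hle
  have h2 := trivMod_bot_of_isMultTypeConst_of_finiteType (hloc f hf) inferInstance _ h1
  apply TrivMod.descend R (Localization.Away f) φ ⊥
  rw [Ideal.map_bot]
  exact h2

theorem torsFinite_and_torsDense_of_isMultType_local (hA : IsMultType R A)
    (hft : Algebra.FiniteType R A) : TorsFinite R A ∧ TorsDense R A := by
  obtain ⟨s, hs, hloc⟩ := hA
  obtain ⟨f, hf, hfu⟩ := exists_isUnit_of_span_eq_top s hs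
  have hff := faithfullyFlat_away_of_isUnit hfu
  have h := torsFinite_and_torsDense_of_isMultTypeConst (hloc f hf) inferInstance
  exact ⟨torsFinite_descend (Localization.Away f) h.1, torsDense_descend (Localization.Away f) h.2⟩

/-- Krull: an element of `A` lying in `𝔪^k A` for all `k` lies in every ideal with finite quotient. -/
lemma mem_of_forall_mem_map_pow [IsNoetherianRing R] (J : Ideal A) [Module.Finite R (A ⧸ J)] (x : A)
    (hx : ∀ k : ℕ, x ∈ Ideal.map (algebraMap R A) (IsLocalRing.maximalIdeal R ^ k)) : x ∈ J := by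
  have hkrull := Ideal.iInf_pow_smul_eq_bot_of_isLocalRing (R := R) (M := A ⧸ J)
    (IsLocalRing.maximalIdeal R) (IsLocalRing.maximalIdeal.isMaximal R).ne_top
  have hmem : Ideal.Quotient.mk J x ∈
      (⨅ i : ℕ, IsLocalRing.maximalIdeal R ^ i • ⊤ : Submodule R (A ⧸ J)) := by
    rw [Submodule.mem_iInf]
    intro k
    have h1 : x ∈ (IsLocalRing.maximalIdeal R ^ k • ⊤ : Submodule R A) := by
      rw [Ideal.smul_top_eq_map]
      exact hx k
    have h2 := Submodule.mem_map_of_mem (f := (Ideal.Quotient.mkₐ R J).toLinearMap) h1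
    rw [Submodule.map_smul''] at h2
    exact Submodule.smul_mono le_rfl le_top h2
  rw [hkrull] at hmem
  exact Ideal.Quotient.eq_zero_iff_mem.mp hmem

theorem trivMod_bot_of_isMultType_of_noetherian [IsNoetherianRing R] (hA : IsMultType R A)
    (hft : Algebra.FiniteType R A) (φ : C →ₐc[R] A)
    (h : TrivMod R A C φ (IsLocalRing.maximalIdeal R)) : TrivMod R A C φ ⊥ := by
  obtain ⟨hfin, hdense⟩ := torsFinite_and_torsDense_of_isMultType_local hA hft
  intro c
  rw [Ideal.map_bot, Ideal.mem_bot]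
  apply hdense
  intro n hn
  have := hfin n hn
  apply mem_of_forall_mem_map_pow (R := R)
  intro k
  exact trivMod_pow_of_isMultType_local hA φ _ h k c

/-- **Main theorem**: a homomorphism from a group of multiplicative type and of finite type over a
local base, trivial on the closed fibre, is trivial. -/
theorem main (hft : Algebra.FiniteType R A) (hH : IsMultType R A)
    (hC : IsNoetherianRing R ∨ Algebra.FinitePresentation R C) (φ : C →ₐc[R] A)
    (hs : ∀ c : C, φ c - algebraMap R A (Coalgebra.counit c) ∈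
      Ideal.map (algebraMap R A) (IsLocalRing.maximalIdeal R)) :
    ∀ c : C, φ c = algebraMap R A (Coalgebra.counit c) := by
  have hbot : TrivMod R A C φ ⊥ := by
    rcases hC with hC | hC
    · exact trivMod_bot_of_isMultType_of_noetherian hH hft φ hs
    · exact trivMod_bot_of_isMultType_of_finiteType hH Algebra.FiniteType.of_finitePresentation φ hs
  intro c
  have := hbot c
  rw [Ideal.map_bot, Ideal.mem_bot] at this
  exact sub_eq_zero.mp this

end Final

end Groth.Agent.Lib.Helper77.MultRigid
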