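import Mathlib
import Groth.Prelude.Def_SGA3b
import Groth.Agent.Lib.Helper77.MultBC
import Groth.Agent.Lib.Helper77.MultRigid

/-!
# Lifting group-like elements through nil ideals (groups of multiplicative type, Hopf form)

helper77.  For a group of multiplicative type `Spec B` over `K` and a nil ideal `𝔞` of `K`:
* `eq_of_isMultType`: two group-like elements of `B` congruent modulo `𝔞 B` are equal;
* `exists_lift_of_isMultType`: an element of `B` which is group-like modulo `𝔞` (`GLMod`) is congruent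
  modulo `𝔞 B` to a group-like element.
Proof: in a chart `K'[M]` the coefficients of a group-like element are complete orthogonal
idempotents, which lift uniquely through nil ideals; then faithfully flat descent (the two
pull-backs to `K' ⊗ K'` agree by uniqueness) and Zariski gluing by a partition of unity.
-/

set_option autoImplicit false
universe u
open TensorProduct

namespace Groth.Agent.Lib.Helper77.GLLift

open SGA3b Groth.Agent.Lib.Helper77.MultMono Groth.Agent.Lib.Helper77.MultBC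

section Ideals

variable (K : Type u) [CommRing K] (K' : Type u) [CommRing K'] [Algebra K K']
  {Y : Type u} [CommRing Y] [Algebra K Y]

/-- the extension of an ideal of the base to an algebra. -/
abbrev extI (𝔞 : Ideal K) (Y : Type u) [CommRing Y] [Algebra K Y] : Ideal Y :=
  Ideal.map (algebraMap K Y) 𝔞

lemma nil_map {𝔞 : Ideal K} (h𝔞 : ∀ x ∈ 𝔞, IsNilpotent x) :
    ∀ x ∈ Ideal.map (algebraMap K K') 𝔞, IsNilpotent x := by
  have h1 : Ideal.map (algebraMap K K') 𝔞 ≤ nilradical K' := by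
    rw [Ideal.map_le_iff_le_comap]
    intro x hx
    rw [Ideal.mem_comap, mem_nilradical]
    exact (h𝔞 x hx).map _
  intro x hx
  exact mem_nilradical.mp (h1 hx)

lemma one_tmul_mem (𝔞 : Ideal K) {y : Y} (hy : y ∈ extI K 𝔞 Y) :
    (1 : K') ⊗ₜ[K] y ∈ extI K' (Ideal.map (algebraMap K K') 𝔞) (K' ⊗[K] Y) := by
  have h1 : Ideal.map (Algebra.TensorProduct.includeRight : Y →ₐ[K] K' ⊗[K] Y).toRingHom
      (Ideal.map (algebraMap K Y) 𝔞) =
      Ideal.map (algebraMap K' (K' ⊗[K] Y)) (Ideal.map (algebraMap K K') 𝔞) := by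
    rw [Ideal.map_map, Ideal.map_map]
    congr 1
    ext r
    simp [Algebra.TensorProduct.algebraMap_apply]
  show _ ∈ Ideal.map (algebraMap K' (K' ⊗[K] Y)) (Ideal.map (algebraMap K K') 𝔞)
  rw [← h1]
  exact Ideal.mem_map_of_mem _ hy

/-- algebra maps preserve extended ideals. -/
lemma algHom_mem {Y' : Type u} [CommRing Y'] [Algebra K Y'] (g : Y →ₐ[K] Y') (𝔞 : Ideal K) {y : Y}
    (hy : y ∈ extI K 𝔞 Y) : g y ∈ extI K 𝔞 Y' := by
  have h1 : Ideal.map g.toRingHom (Ideal.map (algebraMap K Y) 𝔞) = Ideal.map (algebraMap K Y') 𝔞 := by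
    rw [Ideal.map_map]
    congr 1
    ext r
    simp
  show _ ∈ Ideal.map (algebraMap K Y') 𝔞
  rw [← h1]
  exact Ideal.mem_map_of_mem _ hy

/-- linear functionals map extended ideals into the ideal. -/
lemma linearMap_mem (l : Y →ₗ[K] K) (𝔞 : Ideal K) {y : Y} (hy : y ∈ extI K 𝔞 Y) : l y ∈ 𝔞 := by
  have h1 : y ∈ (𝔞 • (⊤ : Submodule K Y)) := by
    rw [Ideal.smul_top_eq_map]
    exact hy
  refine Submodule.smul_induction_on h1 ?_ ?_
  · intro r hr n _
    rw [map_smul, smul_eq_mul]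
    exact Ideal.mul_mem_right _ _ hr
  · intro x y hx hy
    rw [map_add]
    exact add_mem hx hy

/-- membership in an extended ideal is tested after tensoring with the quotient. -/
lemma one_tmul_eq_zero_iff (𝔞 : Ideal K) (y : Y) :
    (1 : K ⧸ 𝔞) ⊗ₜ[K] y = 0 ↔ y ∈ extI K 𝔞 Y := by
  rw [← (TensorProduct.quotTensorEquivQuotSMul Y 𝔞).map_eq_zero_iff,
    TensorProduct.quotTensorEquivQuotSMul_mk_one_tmul, Submodule.Quotient.mk_eq_zero,
    Ideal.smul_top_eq_map]
  rfl

/-- faithfully flat descent of membership in an extended ideal. -/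
lemma mem_of_one_tmul_mem [Module.FaithfullyFlat K K'] (𝔞 : Ideal K) {x : Y}
    (hx : (1 : K') ⊗ₜ[K] x ∈ extI K' (Ideal.map (algebraMap K K') 𝔞) (K' ⊗[K] Y)) :
    x ∈ extI K 𝔞 Y := by
  set J := Ideal.map (algebraMap K Y) 𝔞 with hJ
  let q : Y →ₐ[K] Y ⧸ J := Ideal.Quotient.mkₐ K J
  let g : K' ⊗[K] Y →ₐ[K'] K' ⊗[K] (Y ⧸ J) := Algebra.TensorProduct.map (AlgHom.id K' K') q
  have hle : Ideal.map (algebraMap K' (K' ⊗[K] Y)) (Ideal.map (algebraMap K K') 𝔞) ≤
      RingHom.ker g.toRingHom := by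
    rw [Ideal.map_map, Ideal.map_le_iff_le_comap]
    intro r hr
    rw [Ideal.mem_comap, RingHom.mem_ker]
    have h1 : g.toRingHom (((algebraMap K' (K' ⊗[K] Y)).comp (algebraMap K K')) r) =
        (1 : K') ⊗ₜ[K] q (algebraMap K Y r) := by
      show g ((algebraMap K' (K' ⊗[K] Y)) (algebraMap K K' r)) = _
      rw [Algebra.TensorProduct.algebraMap_apply]
      show (Algebra.TensorProduct.map (AlgHom.id K' K') q) ((algebraMap K K' r) ⊗ₜ[K] (1 : Y)) = _
      rw [Algebra.TensorProduct.map_tmul, AlgHom.commutes, map_one, AlgHom.id_apply,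
        Algebra.algebraMap_eq_smul_one, Algebra.algebraMap_eq_smul_one, TensorProduct.smul_tmul]
    rw [h1]
    have h2 : q (algebraMap K Y r) = 0 :=
      Ideal.Quotient.eq_zero_iff_mem.mpr (Ideal.mem_map_of_mem _ hr)
    rw [h2, TensorProduct.tmul_zero]
  have h3 := hle hx
  rw [RingHom.mem_ker] at h3
  have h4 : (1 : K') ⊗ₜ[K] q x = 0 := by
    have : g.toRingHom ((1 : K') ⊗ₜ[K] x) = (1 : K') ⊗ₜ[K] q x := by simp [g]
    rw [← this, h3]
  rw [Module.FaithfullyFlat.one_tmul_eq_zero_iff] at h4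
  exact Ideal.Quotient.eq_zero_iff_mem.mp h4

/-- linear maps between algebras preserve extended ideals. -/
lemma linearMap_mem' {Z : Type u} [CommRing Z] [Algebra K Z] (l : Y →ₗ[K] Z) (𝔞 : Ideal K) {y : Y}
    (hy : y ∈ extI K 𝔞 Y) : l y ∈ extI K 𝔞 Z := by
  have h1 : y ∈ (𝔞 • (⊤ : Submodule K Y)) := by
    rw [Ideal.smul_top_eq_map]
    exact hy
  have h2 : l y ∈ (𝔞 • (⊤ : Submodule K Z)) := by
    refine Submodule.smul_induction_on h1 ?_ ?_
    · intro r hr n _
      rw [map_smul]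
      exact Submodule.smul_mem_smul hr Submodule.mem_top
    · intro x y hx hy
      rw [map_add]
      exact add_mem hx hy
  rw [Ideal.smul_top_eq_map] at h2
  exact h2

lemma extI_tower {Z : Type u} [CommRing Z] [Algebra K Z] [Algebra K' Z] [IsScalarTower K K' Z]
    (𝔞 : Ideal K) : extI K' (Ideal.map (algebraMap K K') 𝔞) Z = extI K 𝔞 Z := by
  show Ideal.map (algebraMap K' Z) (Ideal.map (algebraMap K K') 𝔞) = Ideal.map (algebraMap K Z) 𝔞
  rw [Ideal.map_map, ← IsScalarTower.algebraMap_eq]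

end Ideals

section GLModSec

variable {K : Type u} [CommRing K] {B : Type u} [CommRing B] [HopfAlgebra K B]

/-- group-like modulo an ideal of the base. -/
def GLMod (𝔞 : Ideal K) (x : B) : Prop :=
  Coalgebra.counit (R := K) x - 1 ∈ 𝔞 ∧
    Coalgebra.comul (R := K) x - x ⊗ₜ[K] x ∈ extI K 𝔞 (B ⊗[K] B)

lemma GLMod.of_isGroupLikeElem (𝔞 : Ideal K) {x : B} (hx : IsGroupLikeElem K x) : GLMod 𝔞 x := by
  refine ⟨?_, ?_⟩
  · rw [hx.counit_eq_one, sub_self]; exact zero_mem _
  · rw [hx.comul_eq_tmul_self, sub_self]; exact zero_mem _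

lemma tmul_sub_tmul_mem {𝔞 : Ideal K} {x y : B} (hxy : x - y ∈ extI K 𝔞 B) :
    x ⊗ₜ[K] x - y ⊗ₜ[K] y ∈ extI K 𝔞 (B ⊗[K] B) := by
  have h1 : x ⊗ₜ[K] x - y ⊗ₜ[K] y =
      (Algebra.TensorProduct.includeLeft : B →ₐ[K] B ⊗[K] B) (x - y) * ((1 : B) ⊗ₜ[K] x) +
      (y ⊗ₜ[K] (1 : B)) * (Algebra.TensorProduct.includeRight : B →ₐ[K] B ⊗[K] B) (x - y) := by
    rw [Algebra.TensorProduct.includeLeft_apply, Algebra.TensorProduct.includeRight_apply,
      Algebra.TensorProduct.tmul_mul_tmul, Algebra.TensorProduct.tmul_mul_tmul, mul_one, one_mul,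
      mul_one, one_mul, TensorProduct.sub_tmul, TensorProduct.tmul_sub]
    abel
  rw [h1]
  exact add_mem (Ideal.mul_mem_right _ _ (algHom_mem K _ 𝔞 hxy))
    (Ideal.mul_mem_left _ _ (algHom_mem K _ 𝔞 hxy))

lemma GLMod.congr {𝔞 : Ideal K} {x y : B} (hx : GLMod 𝔞 x) (hxy : x - y ∈ extI K 𝔞 B) :
    GLMod 𝔞 y := by
  refine ⟨?_, ?_⟩
  · have h1 : Coalgebra.counit (R := K) y - 1 =
        (Coalgebra.counit (R := K) x - 1) - (Coalgebra.counit (R := K) : B →ₗ[K] K) (x - y) := by
      rw [map_sub]; ring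
    rw [h1]
    exact sub_mem hx.1 (linearMap_mem K _ 𝔞 hxy)
  · have h1 : Coalgebra.comul (R := K) y - y ⊗ₜ[K] y =
        (Coalgebra.comul (R := K) x - x ⊗ₜ[K] x) - (Bialgebra.comulAlgHom K B) (x - y) +
          (x ⊗ₜ[K] x - y ⊗ₜ[K] y) := by
      rw [map_sub, Bialgebra.comulAlgHom_apply, Bialgebra.comulAlgHom_apply]; abel
    rw [h1]
    exact add_mem (sub_mem hx.2 (algHom_mem K _ 𝔞 hxy)) (tmul_sub_tmul_mem hxy)

lemma GLMod.map {B' : Type u} [CommRing B'] [HopfAlgebra K B'] (φ : B →ₐc[K] B') {𝔞 : Ideal K}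
    {x : B} (hx : GLMod 𝔞 x) : GLMod 𝔞 (φ x) := by
  refine ⟨?_, ?_⟩
  · have : Coalgebra.counit (R := K) (φ x) = Coalgebra.counit (R := K) x :=
      CoalgHomClass.counit_comp_apply φ x
    rw [this]
    exact hx.1
  · have h1 : Coalgebra.comul (R := K) (φ x) =
        (Algebra.TensorProduct.map (φ : B →ₐ[K] B') (φ : B →ₐ[K] B'))
          (Coalgebra.comul (R := K) x) :=
      (CoalgHomClass.map_comp_comul_apply φ x).symm
    have h2 : φ x ⊗ₜ[K] φ x =
        (Algebra.TensorProduct.map (φ : B →ₐ[K] B') (φ : B →ₐ[K] B')) (x ⊗ₜ[K] x) := by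
      rw [Algebra.TensorProduct.map_tmul]; rfl
    rw [h1, h2, ← map_sub]
    exact algHom_mem K _ 𝔞 hx.2

variable (K' : Type u) [CommRing K'] [Algebra K K']

lemma GLMod.baseChange {𝔞 : Ideal K} {x : B} (hx : GLMod 𝔞 x) :
    GLMod (Ideal.map (algebraMap K K') 𝔞) ((1 : K') ⊗ₜ[K] x) := by
  refine ⟨?_, ?_⟩
  · rw [TensorProduct.counit_tmul]
    simp only [Bialgebra.counit_one]
    have : Coalgebra.counit (R := K) x • (1 : K') - 1 =
        algebraMap K K' (Coalgebra.counit (R := K) x - 1) := by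
      rw [map_sub, map_one, Algebra.algebraMap_eq_smul_one]
    rw [this]
    exact Ideal.mem_map_of_mem _ hx.1
  · rw [comul_one_tmul]
    have h2 : ((1 : K') ⊗ₜ[K] x) ⊗ₜ[K'] ((1 : K') ⊗ₜ[K] x) =
        TensorProduct.AlgebraTensorModule.distribBaseChange K K' B B
          ((1 : K') ⊗ₜ[K] (x ⊗ₜ[K] x)) := by
      simp
    rw [h2, ← map_sub, ← TensorProduct.tmul_sub]
    let l : B ⊗[K] B →ₗ[K] (K' ⊗[K] B) ⊗[K'] (K' ⊗[K] B) :=
      ((TensorProduct.AlgebraTensorModule.distribBaseChange K K' B B).toLinearMap.restrictScalars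
        K).comp (TensorProduct.mk K K' (B ⊗[K] B) 1)
    have h3 := linearMap_mem' K l 𝔞 hx.2
    rw [extI_tower]
    exact h3

/-- an element whose reduction modulo `𝔞` is group-like. -/
lemma GLMod.of_quot {𝔞 : Ideal K} {x : B}
    (h : IsGroupLikeElem (K ⧸ 𝔞) ((1 : K ⧸ 𝔞) ⊗ₜ[K] x)) : GLMod 𝔞 x := by
  refine ⟨?_, ?_⟩
  · have h1 := h.counit_eq_one
    rw [TensorProduct.counit_tmul] at h1
    simp only [Bialgebra.counit_one] at h1
    rw [← Ideal.Quotient.eq_zero_iff_mem, map_sub, map_one, sub_eq_zero]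
    rw [← h1, Algebra.smul_def, mul_one]
    rfl
  · have h1 := h.comul_eq_tmul_self
    rw [comul_one_tmul] at h1
    have h2 : ((1 : K ⧸ 𝔞) ⊗ₜ[K] x) ⊗ₜ[K ⧸ 𝔞] ((1 : K ⧸ 𝔞) ⊗ₜ[K] x) =
        TensorProduct.AlgebraTensorModule.distribBaseChange K (K ⧸ 𝔞) B B
          ((1 : K ⧸ 𝔞) ⊗ₜ[K] (x ⊗ₜ[K] x)) := by
      simp
    rw [h2] at h1
    have h3 := (TensorProduct.AlgebraTensorModule.distribBaseChange K (K ⧸ 𝔞) B B).injective h1
    rw [← one_tmul_eq_zero_iff, TensorProduct.tmul_sub, h3, sub_self]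

end GLModSec

section UniqDiag

variable {K : Type u} [CommRing K] {M : Type u} [CommGroup M]

open Groth.Agent.Lib.Helper77.DiagSub Groth.Agent.Lib.Helper77.MultRigid

/-- a group-like element of a group algebra congruent to `1` modulo a nil ideal is `1`. -/
theorem eq_one_of_isGroupLikeElem_monoidAlgebra {𝔞 : Ideal K} (h𝔞 : ∀ x ∈ 𝔞, IsNilpotent x)
    {w : MonoidAlgebra K M} (hw : IsGroupLikeElem K w)
    (h1 : w - 1 ∈ extI K 𝔞 (MonoidAlgebra K M)) : w = 1 := by
  classical
  rw [mem_map_algebraMap_iff] at h1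
  apply MonoidAlgebra.ext
  apply Finsupp.ext
  intro m
  have hm := h1 m
  simp only [MonoidAlgebra.coeff_sub, Finsupp.sub_apply, MonoidAlgebra.one_def,
    MonoidAlgebra.coeff_single, Finsupp.single_apply] at hm
  simp only [MonoidAlgebra.one_def, MonoidAlgebra.coeff_single, Finsupp.single_apply]
  have hid := isIdempotentElem_coeff_of_isGroupLikeElem hw m
  by_cases h : 1 = m
  · rw [if_pos h] at hm ⊢
    have h2 : IsIdempotentElem (1 - w.coeff m) := hid.one_sub
    have h3 : IsNilpotent (1 - w.coeff m) := by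
      have : 1 - w.coeff m = -(w.coeff m - 1) := by ring
      rw [this]
      exact (h𝔞 _ hm).neg
    have h4 := h2.eq_zero_of_isNilpotent h3
    exact (sub_eq_zero.mp h4).symm
  · rw [if_neg h] at hm ⊢
    rw [sub_zero] at hm
    exact hid.eq_zero_of_isNilpotent (h𝔞 _ hm)

end UniqDiag

section EqOfEqOne

variable {K : Type u} [CommRing K] {B : Type u} [CommRing B] [HopfAlgebra K B] {𝔞 : Ideal K}

lemma eq_of_eq_one (H : ∀ w : B, IsGroupLikeElem K w → w - 1 ∈ extI K 𝔞 B → w = 1) {x y : B}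
    (hx : IsGroupLikeElem K x) (hy : IsGroupLikeElem K y) (h1 : x - y ∈ extI K 𝔞 B) : x = y := by
  have h2 : x * HopfAlgebra.antipode K y - 1 = (x - y) * HopfAlgebra.antipode K y := by
    rw [sub_mul, hy.mul_antipode_cancel]
  have h3 := H _ (hx.mul hy.antipode) (by rw [h2]; exact Ideal.mul_mem_right _ _ h1)
  calc x = x * (HopfAlgebra.antipode K y * y) := by rw [hy.antipode_mul_cancel, mul_one]
    _ = (x * HopfAlgebra.antipode K y) * y := by ring
    _ = y := by rw [h3, one_mul]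

end EqOfEqOne

section Uniq

variable {K : Type u} [CommRing K] {B : Type u} [CommRing B] [HopfAlgebra K B]
  {𝔞 : Ideal K} (h𝔞 : ∀ x ∈ 𝔞, IsNilpotent x)
include h𝔞

theorem eq_one_of_isDiag (hB : IsDiag K B) {w : B} (hw : IsGroupLikeElem K w)
    (h1 : w - 1 ∈ extI K 𝔞 B) : w = 1 := by
  obtain ⟨M, _, ⟨ε⟩⟩ := hB
  have h2 : ε w - 1 ∈ extI K 𝔞 (MonoidAlgebra K M) := by
    have := algHom_mem K ((ε : B →ₐc[K] MonoidAlgebra K M) : B →ₐ[K] MonoidAlgebra K M) 𝔞 h1
    rwa [map_sub, map_one] at this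
  have h3 := eq_one_of_isGroupLikeElem_monoidAlgebra h𝔞 (hw.map ε) h2
  have h4 : ε w = ε 1 := by rw [h3, map_one]
  exact ε.injective h4

theorem eq_one_of_isMultTypeConst (hB : IsMultTypeConst K B) {w : B} (hw : IsGroupLikeElem K w)
    (h1 : w - 1 ∈ extI K 𝔞 B) : w = 1 := by
  obtain ⟨K', _, _, hff, hd⟩ := hB
  have h2 : (1 : K') ⊗ₜ[K] w - 1 ∈ extI K' (Ideal.map (algebraMap K K') 𝔞) (K' ⊗[K] B) := by
    have := one_tmul_mem K K' 𝔞 h1
    rwa [TensorProduct.tmul_sub, ← Algebra.TensorProduct.one_def] at this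
  have h3 := eq_one_of_isDiag (nil_map K K' h𝔞) hd
    (Groth.Agent.Lib.Helper77.DiagSub.isGroupLikeElem_one_tmul K K' hw) h2
  apply Groth.Agent.Lib.Helper77.MultFin.one_tmul_injective K B K'
  show (1 : K') ⊗ₜ[K] w = (1 : K') ⊗ₜ[K] (1 : B)
  rw [h3, Algebra.TensorProduct.one_def]

theorem eq_one_of_isMultType (hB : IsMultType K B) {w : B} (hw : IsGroupLikeElem K w)
    (h1 : w - 1 ∈ extI K 𝔞 B) : w = 1 := by
  obtain ⟨s, hs, hch⟩ := hB
  rw [← sub_eq_zero]
  apply Module.eq_zero_of_isLocalized_span s hs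
    (fun r => Localization.Away r.1 ⊗[K] B)
    (fun r => TensorProduct.mk K (Localization.Away r.1) B 1)
  intro r
  show (1 : Localization.Away r.1) ⊗ₜ[K] (w - 1) = 0
  have h2 : (1 : Localization.Away r.1) ⊗ₜ[K] w - 1 ∈
      extI (Localization.Away r.1) (Ideal.map (algebraMap K (Localization.Away r.1)) 𝔞)
        (Localization.Away r.1 ⊗[K] B) := by
    have := one_tmul_mem K (Localization.Away r.1) 𝔞 h1
    rwa [TensorProduct.tmul_sub, ← Algebra.TensorProduct.one_def] at this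
  have h3 := eq_one_of_isMultTypeConst (nil_map K (Localization.Away r.1) h𝔞) (hch r.1 r.2)
    (Groth.Agent.Lib.Helper77.DiagSub.isGroupLikeElem_one_tmul K (Localization.Away r.1) hw) h2
  rw [TensorProduct.tmul_sub, h3, Algebra.TensorProduct.one_def, sub_self]

/-- the uniqueness of group-like liftings: two group-like elements of a group of multiplicative
type congruent modulo a nil ideal are equal. -/
theorem eq_of_isMultType (hB : IsMultType K B) {x y : B} (hx : IsGroupLikeElem K x)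
    (hy : IsGroupLikeElem K y) (h1 : x - y ∈ extI K 𝔞 B) : x = y := by
  have h2 : x * HopfAlgebra.antipode K y - 1 = (x - y) * HopfAlgebra.antipode K y := by
    rw [sub_mul, hy.mul_antipode_cancel]
  have h3 := eq_one_of_isMultType h𝔞 hB (hx.mul hy.antipode)
    (by rw [h2]; exact Ideal.mul_mem_right _ _ h1)
  calc x = x * (HopfAlgebra.antipode K y * y) := by rw [hy.antipode_mul_cancel, mul_one]
    _ = (x * HopfAlgebra.antipode K y) * y := by ring
    _ = y := by rw [h3, one_mul]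

end Uniq

section SumSmul

variable {K : Type u} [CommRing K] {B : Type u} [CommRing B] [HopfAlgebra K B]

/-- a combination of group-like elements with complete orthogonal idempotent coefficients is
group-like. -/
theorem isGroupLikeElem_sum_smul {ι : Type*} [Fintype ι] {e : ι → K}
    (he : CompleteOrthogonalIdempotents e) {g : ι → B} (hg : ∀ i, IsGroupLikeElem K (g i)) :
    IsGroupLikeElem K (∑ i, e i • g i) where
  counit_eq_one := by
    rw [map_sum]
    simp only [map_smul, (hg _).counit_eq_one, smul_eq_mul, mul_one]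
    exact he.complete
  comul_eq_tmul_self := by
    classical
    rw [map_sum, TensorProduct.sum_tmul]
    refine Finset.sum_congr rfl (fun i _ => ?_)
    rw [TensorProduct.tmul_sum, map_smul, (hg i).comul_eq_tmul_self]
    rw [Finset.sum_eq_single i]
    · rw [TensorProduct.smul_tmul_smul, (he.idem i).eq]
    · intro j _ hji
      rw [TensorProduct.smul_tmul_smul, he.ortho hji.symm, zero_smul]
    · intro h; exact absurd (Finset.mem_univ i) h

end SumSmul

section ExistDiag

variable {K : Type u} [CommRing K] {M : Type u} [CommGroup M]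

open Groth.Agent.Lib.Helper77.DiagSub Groth.Agent.Lib.Helper77.MultRigid

/-- lifting group-like elements modulo a nil ideal, in a group algebra. -/
theorem exists_lift_monoidAlgebra {𝔞 : Ideal K} (h𝔞 : ∀ x ∈ 𝔞, IsNilpotent x)
    {y : MonoidAlgebra K M} (hy : GLMod 𝔞 y) :
    ∃ y' : MonoidAlgebra K M, IsGroupLikeElem K y' ∧ y' - y ∈ extI K 𝔞 (MonoidAlgebra K M) := by
  classical
  set S : Finset M := y.coeff.support with hS
  -- congruences satisfied by the coefficients
  have ha : ∀ m n : M, y.coeff m * y.coeff n - (if m = n then y.coeff m else 0) ∈ 𝔞 := by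
    intro m n
    have h1 := linearMap_mem K (lam2 m n) 𝔞 hy.2
    rw [map_sub, lam2_comul, lam2_tmul] at h1
    have : y.coeff m * y.coeff n - (if m = n then y.coeff m else 0) =
        -((if m = n then y.coeff m else 0) - y.coeff m * y.coeff n) := by ring
    rw [this]
    exact neg_mem h1
  have hb : ∑ m ∈ S, y.coeff m - 1 ∈ 𝔞 := by
    have h1 : Coalgebra.counit (R := K) y = ∑ m ∈ S, y.coeff m := by
      conv_lhs => rw [← MonoidAlgebra.sum_coeff_single y, Finsupp.sum, map_sum]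
      refine Finset.sum_congr rfl (fun m _ => ?_)
      rw [MonoidAlgebra.counit_single]
      rfl
    rw [← h1]
    exact hy.1
  -- the reductions form a complete orthogonal system
  let ebar : S → K ⧸ 𝔞 := fun i => Ideal.Quotient.mk 𝔞 (y.coeff i.1)
  have hebar : CompleteOrthogonalIdempotents ebar := by
    refine ⟨(OrthogonalIdempotents.iff_mul_eq).mpr ?_, ?_⟩
    · intro i j
      have h1 := ha i.1 j.1
      rw [← Ideal.Quotient.eq_zero_iff_mem, map_sub, map_mul, sub_eq_zero] at h1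
      show Ideal.Quotient.mk 𝔞 (y.coeff i.1) * Ideal.Quotient.mk 𝔞 (y.coeff j.1) = _
      rw [h1]
      by_cases hij : i = j
      · rw [if_pos hij, if_pos (congrArg Subtype.val hij)]
      · rw [if_neg hij, if_neg (fun h => hij (Subtype.ext h)), map_zero]
    · have h1 := hb
      rw [← Ideal.Quotient.eq_zero_iff_mem, map_sub, map_one, sub_eq_zero, map_sum] at h1
      rw [← h1]
      exact (Finset.sum_coe_sort S (fun m => Ideal.Quotient.mk 𝔞 (y.coeff m)))
  obtain ⟨e', he', hcomp⟩ := CompleteOrthogonalIdempotents.lift_of_isNilpotent_ker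
    (Ideal.Quotient.mk 𝔞) (by
      intro x hx
      rw [Ideal.mk_ker] at hx
      exact h𝔞 x hx) hebar (fun i => ⟨y.coeff i.1, rfl⟩)
  refine ⟨∑ i : S, e' i • MonoidAlgebra.single i.1 (1 : K), ?_, ?_⟩
  · exact isGroupLikeElem_sum_smul he' (fun i => MonoidAlgebra.isGroupLikeElem_single_one i.1)
  · rw [mem_map_algebraMap_iff]
    intro m
    rw [MonoidAlgebra.coeff_sub, Finsupp.sub_apply, MonoidAlgebra.coeff_sum, Finsupp.finsetSum_apply]
    by_cases hm : m ∈ S
    · rw [Finset.sum_eq_single (⟨m, hm⟩ : S)]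
      · rw [MonoidAlgebra.coeff_smul, Finsupp.smul_apply, MonoidAlgebra.coeff_single,
          Finsupp.single_eq_same, smul_eq_mul, mul_one]
        have h1 := congrFun hcomp ⟨m, hm⟩
        simp only [Function.comp_apply, ebar] at h1
        rw [← Ideal.Quotient.eq_zero_iff_mem, map_sub, h1, sub_self]
      · intro j _ hj
        rw [MonoidAlgebra.coeff_smul, Finsupp.smul_apply, MonoidAlgebra.coeff_single,
          Finsupp.single_eq_of_ne, smul_zero]
        intro h
        exact hj (Subtype.ext h.symm)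
      · intro h; exact absurd (Finset.mem_univ _) h
    · have h0 : y.coeff m = 0 := Finsupp.notMem_support_iff.mp hm
      rw [Finset.sum_eq_zero, h0, sub_zero]
      · exact zero_mem _
      · intro j _
        rw [MonoidAlgebra.coeff_smul, Finsupp.smul_apply, MonoidAlgebra.coeff_single,
          Finsupp.single_eq_of_ne, smul_zero]
        intro h
        exact hm (h ▸ j.2)

end ExistDiag

section Exist

variable {K : Type u} [CommRing K] {B : Type u} [CommRing B] [HopfAlgebra K B]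
  {𝔞 : Ideal K} (h𝔞 : ∀ x ∈ 𝔞, IsNilpotent x)
include h𝔞

theorem exists_lift_of_isDiag (hB : IsDiag K B) {x : B} (hx : GLMod 𝔞 x) :
    ∃ x' : B, IsGroupLikeElem K x' ∧ x' - x ∈ extI K 𝔞 B := by
  obtain ⟨M, _, ⟨ε⟩⟩ := hB
  obtain ⟨y', hy', hyx⟩ := exists_lift_monoidAlgebra h𝔞 (hx.map (ε : B →ₐc[K] MonoidAlgebra K M))
  refine ⟨ε.symm y', hy'.map ε.symm, ?_⟩
  have h1 := algHom_mem K ((ε.symm : MonoidAlgebra K M →ₐc[K] B) : MonoidAlgebra K M →ₐ[K] B) 𝔞 hyx
  have h2 : ((ε.symm : MonoidAlgebra K M →ₐc[K] B) : MonoidAlgebra K M →ₐ[K] B)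
      (y' - (ε : B →ₐc[K] MonoidAlgebra K M) x) = ε.symm y' - x := by
    rw [map_sub]
    congr 1
    exact ε.symm_apply_apply x
  rwa [h2] at h1

omit h𝔞 in
lemma map_eq_rTensor {K' K'' : Type u} [CommRing K'] [Algebra K K'] [CommRing K''] [Algebra K K'']
    (i : K' →ₐ[K] K'') (z : K' ⊗[K] B) :
    Algebra.TensorProduct.map i (AlgHom.id K B) z = LinearMap.rTensor B i.toLinearMap z := by
  induction z using TensorProduct.induction_on with
  | zero => simp
  | tmul k b => rfl
  | add x y hx hy => rw [map_add, map_add, hx, hy]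

theorem exists_lift_of_isMultTypeConst (hB : IsMultTypeConst K B) {x : B} (hx : GLMod 𝔞 x) :
    ∃ x' : B, IsGroupLikeElem K x' ∧ x' - x ∈ extI K 𝔞 B := by
  obtain ⟨K', _, _, hff, hd⟩ := hB
  obtain ⟨y', hy', hy'x⟩ := exists_lift_of_isDiag (nil_map K K' h𝔞) hd (hx.baseChange K')
  rw [extI_tower] at hy'x
  -- the two pull-backs to `K' ⊗ K'`
  have key : ∀ i : K' →ₐ[K] K' ⊗[K] K',
      Algebra.TensorProduct.map i (AlgHom.id K B) y' - (1 : K' ⊗[K] K') ⊗ₜ[K] x ∈
        extI (K' ⊗[K] K') (Ideal.map (algebraMap K (K' ⊗[K] K')) 𝔞) ((K' ⊗[K] K') ⊗[K] B) := by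
    intro i
    have h1 := algHom_mem K (Algebra.TensorProduct.map i (AlgHom.id K B)) 𝔞 hy'x
    rw [map_sub, Algebra.TensorProduct.map_tmul, map_one, AlgHom.id_apply] at h1
    rw [extI_tower]
    exact h1
  have hd'' : IsDiag (K' ⊗[K] K') ((K' ⊗[K] K') ⊗[K] B) := isDiag_tower K' (K' ⊗[K] K') hd
  have heq : Algebra.TensorProduct.map (Algebra.TensorProduct.includeLeft : K' →ₐ[K] K' ⊗[K] K')
        (AlgHom.id K B) y' =
      Algebra.TensorProduct.map (Algebra.TensorProduct.includeRight : K' →ₐ[K] K' ⊗[K] K')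
        (AlgHom.id K B) y' := by
    apply eq_of_eq_one (𝔞 := Ideal.map (algebraMap K (K' ⊗[K] K')) 𝔞)
      (fun w hw hw1 => eq_one_of_isDiag (nil_map K (K' ⊗[K] K') h𝔞) hd'' hw hw1)
      (isGroupLikeElem_map _ hy') (isGroupLikeElem_map _ hy')
    have := sub_mem (key Algebra.TensorProduct.includeLeft) (key Algebra.TensorProduct.includeRight)
    rwa [sub_sub_sub_cancel_right] at this
  rw [map_eq_rTensor, map_eq_rTensor] at heq
  obtain ⟨x₀, hx₀⟩ := exists_eq_one_tmul_of_rTensor_eq K K' B y' heq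
  subst hx₀
  refine ⟨x₀, isGroupLikeElem_of_one_tmul K K' B hy', ?_⟩
  apply mem_of_one_tmul_mem K K' 𝔞
  rw [TensorProduct.tmul_sub, extI_tower]
  exact hy'x

end Exist

section Glue

variable {K : Type u} [CommRing K] {N : Type u} [AddCommGroup N] [Module K N]

/-- gluing by a partition of unity. -/
theorem exists_glue (t : Finset K) (ht : Ideal.span (t : Set K) = ⊤) (n : ℕ) (a : K → N)
    (h : ∀ f ∈ t, ∀ f' ∈ t, f' ^ n • a f = f ^ n • a f') :
    ∃ y : N, ∀ f ∈ t, f ^ n • y = a f := by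
  have h1 : Ideal.span ((fun x => x ^ n) '' (t : Set K)) = ⊤ := Ideal.span_pow_eq_top _ ht n
  have h2 : (1 : K) ∈ Submodule.span K ((fun x => x ^ n) '' (t : Set K)) := by
    have : (1 : K) ∈ Ideal.span ((fun x => x ^ n) '' (t : Set K)) := by rw [h1]; trivial
    exact this
  obtain ⟨c, hc⟩ := (Submodule.mem_span_image_finset_iff_exists_fun' K).mp h2
  refine ⟨∑ f ∈ t, c f • a f, fun f' hf' => ?_⟩
  rw [Finset.smul_sum]
  have h3 : ∀ f ∈ t, f' ^ n • c f • a f = (c f • f ^ n) • a f' := by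
    intro f hf
    rw [smul_comm, h f hf f' hf', smul_assoc]
  rw [Finset.sum_congr rfl h3, ← Finset.sum_smul, hc, one_smul]

/-- an element vanishing on a Zariski cover is zero. -/
theorem eq_zero_of_forall_one_tmul_eq_zero (t : Set K) (ht : Ideal.span t = ⊤) (z : N)
    (h : ∀ f ∈ t, (1 : Localization.Away f) ⊗ₜ[K] z = 0) : z = 0 := by
  apply Module.eq_zero_of_isLocalized_span t ht
    (fun r => Localization.Away r.1 ⊗[K] N)
    (fun r => TensorProduct.mk K (Localization.Away r.1) N 1)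
  intro r
  exact h r.1 r.2

end Glue

section LocalAlg

variable {K : Type u} [CommRing K] {Y : Type u} [CommRing Y] [Algebra K Y]

/-- membership in an extended ideal is local on the base. -/
theorem mem_of_forall_one_tmul_mem (t : Set K) (ht : Ideal.span t = ⊤) (𝔞 : Ideal K) {x : Y}
    (hx : ∀ f ∈ t, (1 : Localization.Away f) ⊗ₜ[K] x ∈
      extI (Localization.Away f) (Ideal.map (algebraMap K (Localization.Away f)) 𝔞)
        (Localization.Away f ⊗[K] Y)) :
    x ∈ extI K 𝔞 Y := by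
  set J := Ideal.map (algebraMap K Y) 𝔞 with hJ
  let q : Y →ₐ[K] Y ⧸ J := Ideal.Quotient.mkₐ K J
  have h0 : q x = 0 := by
    apply eq_zero_of_forall_one_tmul_eq_zero t ht
    intro f hf
    let K' := Localization.Away f
    let g : K' ⊗[K] Y →ₐ[K'] K' ⊗[K] (Y ⧸ J) := Algebra.TensorProduct.map (AlgHom.id K' K') q
    have hle : Ideal.map (algebraMap K' (K' ⊗[K] Y)) (Ideal.map (algebraMap K K') 𝔞) ≤
        RingHom.ker g.toRingHom := by
      rw [Ideal.map_map, Ideal.map_le_iff_le_comap]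
      intro r hr
      rw [Ideal.mem_comap, RingHom.mem_ker]
      have h1 : g.toRingHom (((algebraMap K' (K' ⊗[K] Y)).comp (algebraMap K K')) r) =
          (1 : K') ⊗ₜ[K] q (algebraMap K Y r) := by
        show g ((algebraMap K' (K' ⊗[K] Y)) (algebraMap K K' r)) = _
        rw [Algebra.TensorProduct.algebraMap_apply]
        show (Algebra.TensorProduct.map (AlgHom.id K' K') q) ((algebraMap K K' r) ⊗ₜ[K] (1 : Y)) = _
        rw [Algebra.TensorProduct.map_tmul, AlgHom.commutes, map_one, AlgHom.id_apply,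
          Algebra.algebraMap_eq_smul_one, Algebra.algebraMap_eq_smul_one, TensorProduct.smul_tmul]
      rw [h1]
      have h2 : q (algebraMap K Y r) = 0 :=
        Ideal.Quotient.eq_zero_iff_mem.mpr (Ideal.mem_map_of_mem _ hr)
      rw [h2, TensorProduct.tmul_zero]
    have h3 := hle (hx f hf)
    rw [RingHom.mem_ker] at h3
    have : g.toRingHom ((1 : K') ⊗ₜ[K] x) = (1 : K') ⊗ₜ[K] q x := by simp [g]
    rw [← this, h3]
  exact Ideal.Quotient.eq_zero_iff_mem.mp h0

end LocalAlg

section LocalGL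

variable {K : Type u} [CommRing K] {B : Type u} [CommRing B] [HopfAlgebra K B]

/-- group-likeness is local on the base. -/
theorem isGroupLikeElem_of_forall_one_tmul (t : Set K) (ht : Ideal.span t = ⊤) {b : B}
    (h : ∀ f ∈ t, IsGroupLikeElem (Localization.Away f) ((1 : Localization.Away f) ⊗ₜ[K] b)) :
    IsGroupLikeElem K b where
  counit_eq_one := by
    rw [← sub_eq_zero]
    apply Module.eq_zero_of_isLocalized_span t ht (fun r => Localization.Away r.1)
      (fun r => Algebra.linearMap K (Localization.Away r.1))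
    intro r
    have h1 := (h r.1 r.2).counit_eq_one
    rw [TensorProduct.counit_tmul] at h1
    simp only [Bialgebra.counit_one] at h1
    show algebraMap K (Localization.Away r.1) (Coalgebra.counit b - 1) = 0
    rw [map_sub, map_one, sub_eq_zero, Algebra.algebraMap_eq_smul_one]
    exact h1
  comul_eq_tmul_self := by
    rw [← sub_eq_zero]
    apply eq_zero_of_forall_one_tmul_eq_zero t ht
    intro f hf
    have h1 := (h f hf).comul_eq_tmul_self
    rw [comul_one_tmul] at h1
    have h2 : ((1 : Localization.Away f) ⊗ₜ[K] b) ⊗ₜ[Localization.Away f]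
        ((1 : Localization.Away f) ⊗ₜ[K] b) =
        TensorProduct.AlgebraTensorModule.distribBaseChange K (Localization.Away f) B B
          ((1 : Localization.Away f) ⊗ₜ[K] (b ⊗ₜ[K] b)) := by
      simp
    rw [h2] at h1
    have h3 := (TensorProduct.AlgebraTensorModule.distribBaseChange K
      (Localization.Away f) B B).injective h1
    rw [TensorProduct.tmul_sub, h3, sub_self]

end LocalGL

section SmulAux

variable {K : Type u} [CommRing K] {N : Type u} [AddCommGroup N] [Module K N]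

lemma smul_aux1 (f f' : K) (N₀ k₀ : ℕ) (u v : N) :
    f' ^ (N₀ + k₀) • (f ^ k₀ • u) - f ^ (N₀ + k₀) • (f' ^ k₀ • v) =
      (f * f') ^ k₀ • (f' ^ N₀ • u - f ^ N₀ • v) := by
  rw [smul_sub, ← mul_smul, ← mul_smul, ← mul_smul, ← mul_smul]
  congr 2 <;> ring

lemma smul_aux2 (c : K) {k k₀ : ℕ} (hle : k ≤ k₀) (z : N) :
    c ^ k₀ • z = c ^ (k₀ - k) • (c ^ k • z) := by
  rw [← mul_smul, ← pow_add, Nat.sub_add_cancel hle]

end SmulAux

section Zariski

variable {K : Type u} [CommRing K] {B : Type u} [CommRing B] [HopfAlgebra K B]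
  {𝔞 : Ideal K} (h𝔞 : ∀ x ∈ 𝔞, IsNilpotent x)

/-- the comparison map to the localisation at a multiple. -/
noncomputable def awayHom (f g : K) (h : f ∣ g) : Localization.Away f →ₐ[K] Localization.Away g :=
  IsLocalization.liftAlgHom (M := Submonoid.powers f) (f := Algebra.ofId K (Localization.Away g)) (by
    rintro ⟨_, n, rfl⟩
    obtain ⟨c, rfl⟩ := h
    have h1 : IsUnit (algebraMap K (Localization.Away (f * c)) (f * c)) :=
      IsLocalization.Away.algebraMap_isUnit (f * c)
    rw [map_mul] at h1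
    have h2 : IsUnit (algebraMap K (Localization.Away (f * c)) f) := isUnit_of_mul_isUnit_left h1
    show IsUnit (algebraMap K (Localization.Away (f * c)) (f ^ n))
    rw [map_pow]
    exact h2.pow n)

include h𝔞 in
lemma compat (x : B) (f f' : K)
    (hch : IsMultTypeConst (Localization.Away f) (Localization.Away f ⊗[K] B))
    {y : Localization.Away f ⊗[K] B} {y' : Localization.Away f' ⊗[K] B}
    (hy : IsGroupLikeElem (Localization.Away f) y) (hy' : IsGroupLikeElem (Localization.Away f') y')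
    (hyx : y - (1 : Localization.Away f) ⊗ₜ[K] x ∈ extI K 𝔞 (Localization.Away f ⊗[K] B))
    (hy'x : y' - (1 : Localization.Away f') ⊗ₜ[K] x ∈ extI K 𝔞 (Localization.Away f' ⊗[K] B))
    {n n' : ℕ} {a a' : B} (ha : f ^ n • y = (1 : Localization.Away f) ⊗ₜ[K] a)
    (ha' : f' ^ n' • y' = (1 : Localization.Away f') ⊗ₜ[K] a') :
    ∃ k : ℕ, (f * f') ^ k • (f' ^ n' • a - f ^ n • a') = 0 := by
  let T := Localization.Away (f * f')
  let i : Localization.Away f →ₐ[K] T := awayHom f (f * f') (dvd_mul_right f f')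
  let i' : Localization.Away f' →ₐ[K] T := awayHom f' (f * f') (dvd_mul_left f' f)
  let D := Algebra.TensorProduct.map i (AlgHom.id K B)
  let D' := Algebra.TensorProduct.map i' (AlgHom.id K B)
  have hD : IsGroupLikeElem T (D y) := isGroupLikeElem_map i hy
  have hD' : IsGroupLikeElem T (D' y') := isGroupLikeElem_map i' hy'
  have hDx : D y - (1 : T) ⊗ₜ[K] x ∈ extI K 𝔞 (T ⊗[K] B) := by
    have := algHom_mem K D 𝔞 hyx
    rwa [map_sub, Algebra.TensorProduct.map_tmul, map_one, AlgHom.id_apply] at this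
  have hD'x : D' y' - (1 : T) ⊗ₜ[K] x ∈ extI K 𝔞 (T ⊗[K] B) := by
    have := algHom_mem K D' 𝔞 hy'x
    rwa [map_sub, Algebra.TensorProduct.map_tmul, map_one, AlgHom.id_apply] at this
  have hT : IsMultTypeConst T (T ⊗[K] B) := by
    let _ : Algebra (Localization.Away f) T := i.toRingHom.toAlgebra
    have : IsScalarTower K (Localization.Away f) T :=
      IsScalarTower.of_algebraMap_eq (fun x => (i.commutes x).symm)
    exact isMultTypeConst_tower (Localization.Away f) T hch
  have heq : D y = D' y' := by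
    apply eq_of_eq_one (𝔞 := Ideal.map (algebraMap K T) 𝔞)
      (fun w hw hw1 => eq_one_of_isMultTypeConst (nil_map K T h𝔞) hT hw hw1) hD hD'
    rw [extI_tower]
    have := sub_mem hDx hD'x
    rwa [sub_sub_sub_cancel_right] at this
  have h1 : (1 : T) ⊗ₜ[K] a = f ^ n • D y := by
    rw [← map_smul, ha, Algebra.TensorProduct.map_tmul, map_one, AlgHom.id_apply]
  have h1' : (1 : T) ⊗ₜ[K] a' = f' ^ n' • D' y' := by
    rw [← map_smul, ha', Algebra.TensorProduct.map_tmul, map_one, AlgHom.id_apply]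
  have h2 : (1 : T) ⊗ₜ[K] (f' ^ n' • a - f ^ n • a') = 0 := by
    rw [TensorProduct.tmul_sub, TensorProduct.tmul_smul, TensorProduct.tmul_smul, h1, h1', heq,
      smul_comm, sub_self]
  have h3 := (IsLocalizedModule.eq_zero_iff (Submonoid.powers (f * f'))
    (TensorProduct.mk K T B 1)).mp h2
  obtain ⟨⟨_, k, rfl⟩, hk⟩ := h3
  exact ⟨k, hk⟩

include h𝔞 in
/-- **Lifting of group-like elements**: in a group of multiplicative type, an element which is
group-like modulo a nil ideal of the base is congruent to a group-like element. -/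
theorem exists_lift_of_isMultType (hB : IsMultType K B) {x : B} (hx : GLMod 𝔞 x) :
    ∃ x' : B, IsGroupLikeElem K x' ∧ x' - x ∈ extI K 𝔞 B := by
  classical
  obtain ⟨s, hs, hch⟩ := hB
  obtain ⟨t, hts, ht⟩ := (Ideal.span_eq_top_iff_finite s).mp hs
  -- local lifts
  have hloc : ∀ f : K, f ∈ t → ∃ y : Localization.Away f ⊗[K] B,
      IsGroupLikeElem (Localization.Away f) y ∧
        y - (1 : Localization.Away f) ⊗ₜ[K] x ∈ extI K 𝔞 (Localization.Away f ⊗[K] B) := by
    intro f hf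
    obtain ⟨y, hy, hyx⟩ := exists_lift_of_isMultTypeConst (nil_map K _ h𝔞) (hch f (hts hf))
      (hx.baseChange (Localization.Away f))
    rw [extI_tower] at hyx
    exact ⟨y, hy, hyx⟩
  choose! y hy hyx using hloc
  -- numerators
  have hnum : ∀ f ∈ t, ∃ (n : ℕ) (a : B), f ^ n • y f = (1 : Localization.Away f) ⊗ₜ[K] a := by
    intro f hf
    obtain ⟨⟨a, ⟨_, n, rfl⟩⟩, h⟩ := IsLocalizedModule.surj (Submonoid.powers f)
      (TensorProduct.mk K (Localization.Away f) B 1) (y f)
    exact ⟨n, a, h⟩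
  choose! n a hna using hnum
  -- a uniform exponent
  let N₀ := t.sup n
  let a₁ : K → B := fun f => f ^ (N₀ - n f) • a f
  have ha₁ : ∀ f ∈ t, f ^ N₀ • y f = (1 : Localization.Away f) ⊗ₜ[K] a₁ f := by
    intro f hf
    calc f ^ N₀ • y f = f ^ (N₀ - n f) • (f ^ n f • y f) := by
          rw [← mul_smul, ← pow_add, Nat.sub_add_cancel (Finset.le_sup hf)]
      _ = (1 : Localization.Away f) ⊗ₜ[K] a₁ f := by
          rw [hna f hf, ← TensorProduct.tmul_smul]
  -- compatibility on overlaps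
  have hpair : ∀ f ∈ t, ∀ f' ∈ t, ∃ k : ℕ,
      (f * f') ^ k • (f' ^ N₀ • a₁ f - f ^ N₀ • a₁ f') = 0 := fun f hf f' hf' =>
    compat h𝔞 x f f' (hch f (hts hf)) (hy f hf) (hy f' hf') (hyx f hf) (hyx f' hf')
      (ha₁ f hf) (ha₁ f' hf')
  choose! k hk using hpair
  let k₀ := (t ×ˢ t).sup (fun p => k p.1 p.2)
  let a₂ : K → B := fun f => f ^ k₀ • a₁ f
  let N := N₀ + k₀
  have hcompat : ∀ f ∈ t, ∀ f' ∈ t, f' ^ N • a₂ f = f ^ N • a₂ f' := by
    intro f hf f' hf'
    have hle : k f f' ≤ k₀ :=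
      Finset.le_sup (f := fun p : K × K => k p.1 p.2) (Finset.mk_mem_product hf hf')
    have h1 : f' ^ N • a₂ f - f ^ N • a₂ f' =
        (f * f') ^ k₀ • (f' ^ N₀ • a₁ f - f ^ N₀ • a₁ f') := smul_aux1 f f' N₀ k₀ (a₁ f) (a₁ f')
    rw [smul_aux2 (f * f') hle] at h1
    rw [hk f hf f' hf', smul_zero] at h1
    exact sub_eq_zero.mp h1
  obtain ⟨y₀, hy₀⟩ := exists_glue t ht N a₂ hcompat
  have hy₀' : ∀ f ∈ t, (1 : Localization.Away f) ⊗ₜ[K] y₀ = y f := by
    intro f hf
    have h1 : f ^ N • ((1 : Localization.Away f) ⊗ₜ[K] y₀) = f ^ N • y f := by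
      rw [← TensorProduct.tmul_smul, hy₀ f hf]
      show (1 : Localization.Away f) ⊗ₜ[K] (f ^ k₀ • a₁ f) = _
      rw [TensorProduct.tmul_smul, ← ha₁ f hf, ← mul_smul, ← pow_add, add_comm]
    exact IsLocalizedModule.smul_injective (TensorProduct.mk K (Localization.Away f) B 1)
      (⟨f ^ N, N, rfl⟩ : Submonoid.powers f) h1
  refine ⟨y₀, isGroupLikeElem_of_forall_one_tmul (t : Set K) ht
    (fun f hf => by rw [hy₀' f hf]; exact hy f hf), ?_⟩
  apply mem_of_forall_one_tmul_mem (t : Set K) ht 𝔞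
  intro f hf
  rw [TensorProduct.tmul_sub, hy₀' f hf, extI_tower]
  exact hyx f hf

end Zariski

end Groth.Agent.Lib.Helper77.GLLift
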