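import Mathlib
import Groth.Prelude.Def_SGA3b
import Groth.Agent.Lib.Helper77.GLLift

/-!
# A group of multiplicative type which is diagonalisable modulo a nil ideal is diagonalisable

helper77 (S2970, SGA3 X 2.1 in Hopf form).  The characters of the reduction lift uniquely to
group-like elements (`GLLift`), giving `θ : R[M] → A`; `θ` is bijective because it is so in every
chart, where it is a homomorphism of diagonalisable groups which is an isomorphism modulo a nil
ideal (`bijective_of_bijective_mod`).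
-/

set_option autoImplicit false
universe u
open TensorProduct

namespace Groth.Agent.Lib.Helper77.DiagNil

open SGA3b Groth.Agent.Lib.Helper77.MultMono Groth.Agent.Lib.Helper77.MultBC
  Groth.Agent.Lib.Helper77.GLLift

section Quot

variable {K : Type u} [CommRing K] (𝔞 : Ideal K) {Y : Type u} [AddCommGroup Y] [Module K Y]

lemma exists_one_tmul_eq (z : (K ⧸ 𝔞) ⊗[K] Y) : ∃ y : Y, (1 : K ⧸ 𝔞) ⊗ₜ[K] y = z := by
  induction z using TensorProduct.induction_on with
  | zero => exact ⟨0, by simp⟩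
  | tmul k y =>
    obtain ⟨r, rfl⟩ := Ideal.Quotient.mk_surjective k
    refine ⟨r • y, ?_⟩
    rw [TensorProduct.tmul_smul, TensorProduct.smul_tmul', Algebra.smul_def, mul_one]
    rfl
  | add a b ha hb =>
    obtain ⟨x, rfl⟩ := ha
    obtain ⟨y, rfl⟩ := hb
    exact ⟨x + y, TensorProduct.tmul_add _ _ _⟩

end Quot

section Surj

variable {K : Type u} [CommRing K] {𝔞 : Ideal K} (h𝔞 : ∀ x ∈ 𝔞, IsNilpotent x)
  {X₁ : Type u} [CommRing X₁] [HopfAlgebra K X₁] {X₂ : Type u} [CommRing X₂] [HopfAlgebra K X₂]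

include h𝔞 in
/-- a group-like element of `X₂` is the image of a group-like element of `X₁`. -/
lemma exists_groupLike_preimage (h₁ : IsDiag K X₁) (h₂ : IsDiag K X₂) (θ : X₁ →ₐc[K] X₂)
    (hθ : Function.Bijective (bcHom K (K ⧸ 𝔞) θ)) {y : X₂} (hy : IsGroupLikeElem K y) :
    ∃ x : X₁, IsGroupLikeElem K x ∧ θ x = y := by
  let E : (K ⧸ 𝔞) ⊗[K] X₁ ≃ₐc[K ⧸ 𝔞] (K ⧸ 𝔞) ⊗[K] X₂ := BialgEquiv.ofBijective _ hθ
  have hz : IsGroupLikeElem (K ⧸ 𝔞) (E.symm ((1 : K ⧸ 𝔞) ⊗ₜ[K] y)) :=
    (Groth.Agent.Lib.Helper77.DiagSub.isGroupLikeElem_one_tmul K (K ⧸ 𝔞) hy).map E.symm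
  obtain ⟨x, hx⟩ := exists_one_tmul_eq 𝔞 (E.symm ((1 : K ⧸ 𝔞) ⊗ₜ[K] y))
  rw [← hx] at hz
  obtain ⟨x', hx', hx'x⟩ := exists_lift_of_isDiag h𝔞 h₁ (GLMod.of_quot hz)
  refine ⟨x', hx', ?_⟩
  have h1 : (1 : K ⧸ 𝔞) ⊗ₜ[K] x' = (1 : K ⧸ 𝔞) ⊗ₜ[K] x := by
    rw [← sub_eq_zero, ← TensorProduct.tmul_sub, one_tmul_eq_zero_iff]
    exact hx'x
  have h2 : (1 : K ⧸ 𝔞) ⊗ₜ[K] θ x' = (1 : K ⧸ 𝔞) ⊗ₜ[K] y := by
    have h3 : (1 : K ⧸ 𝔞) ⊗ₜ[K] θ x' = E ((1 : K ⧸ 𝔞) ⊗ₜ[K] x') := rfl
    rw [h3, h1, hx]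
    exact E.apply_symm_apply _
  apply eq_of_eq_one (𝔞 := 𝔞) (fun w hw hw1 => eq_one_of_isDiag h𝔞 h₂ hw hw1) (hx'.map θ) hy
  rw [← one_tmul_eq_zero_iff, TensorProduct.tmul_sub, h2, sub_self]

include h𝔞 in
theorem surjective_of_bijective_mod (h₁ : IsDiag K X₁) (h₂ : IsDiag K X₂) (θ : X₁ →ₐc[K] X₂)
    (hθ : Function.Bijective (bcHom K (K ⧸ 𝔞) θ)) : Function.Surjective θ := by
  obtain ⟨M', _, ⟨ε₂⟩⟩ := id h₂
  have key : ∀ z : MonoidAlgebra K M', ε₂.symm z ∈ LinearMap.range (θ : X₁ →ₗ[K] X₂) := by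
    intro z
    have hz : z ∈ Submodule.span K {a : MonoidAlgebra K M' | IsGroupLikeElem K a} := by
      rw [MonoidAlgebra.span_isGroupLikeElem]; trivial
    induction hz using Submodule.span_induction with
    | mem g hg =>
      obtain ⟨x, _, hx⟩ := exists_groupLike_preimage h𝔞 h₁ h₂ θ hθ (hg.map ε₂.symm)
      exact ⟨x, hx⟩
    | zero => rw [map_zero]; exact zero_mem _
    | add a b _ _ ha hb => rw [map_add]; exact add_mem ha hb
    | smul r a _ ha =>
      have : ε₂.symm (r • a) = r • ε₂.symm a := map_smul ε₂.symm r a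
      rw [this]; exact Submodule.smul_mem _ _ ha
  intro y
  obtain ⟨x, hx⟩ := key (ε₂ y)
  refine ⟨x, ?_⟩
  have : ε₂.symm (ε₂ y) = y := ε₂.symm_apply_apply y
  rw [← this]
  exact hx

end Surj

section Inj

variable {K : Type u} [CommRing K] {𝔞 : Ideal K} (h𝔞 : ∀ x ∈ 𝔞, IsNilpotent x)
  {M : Type u} [CommGroup M] {M' : Type u} [CommGroup M']

open Groth.Agent.Lib.Helper77.DiagSub Groth.Agent.Lib.Helper77.MultRigid

lemma counit_eq_sum_coeff (y : MonoidAlgebra K M) :
    Coalgebra.counit (R := K) y = ∑ m ∈ y.coeff.support, y.coeff m := by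
  conv_lhs => rw [← MonoidAlgebra.sum_coeff_single y, Finsupp.sum, map_sum]
  refine Finset.sum_congr rfl (fun m _ => ?_)
  rw [MonoidAlgebra.counit_single]
  rfl

include h𝔞 in
theorem injective_monoidAlgebra (θ' : MonoidAlgebra K M →ₐc[K] MonoidAlgebra K M')
    (hmod : ∀ x, θ' x ∈ extI K 𝔞 (MonoidAlgebra K M') → x ∈ extI K 𝔞 (MonoidAlgebra K M)) :
    Function.Injective θ' := by
  classical
  have hw : ∀ m : M, IsGroupLikeElem K (θ' (MonoidAlgebra.single m 1)) :=
    fun m => (MonoidAlgebra.isGroupLikeElem_single_one m).map θ'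
  -- images of distinct characters are disjoint
  have hA : ∀ m n : M, m ≠ n → ∀ m' : M',
      (θ' (MonoidAlgebra.single m 1)).coeff m' * (θ' (MonoidAlgebra.single n 1)).coeff m' = 0 := by
    intro m n hmn m'
    set c := (θ' (MonoidAlgebra.single m 1)).coeff m' * (θ' (MonoidAlgebra.single n 1)).coeff m'
      with hc
    have hcid : IsIdempotentElem c :=
      (isIdempotentElem_coeff_of_isGroupLikeElem (hw m) m').mul
        (isIdempotentElem_coeff_of_isGroupLikeElem (hw n) m')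
    have h1 : ∀ (a b : M), c • θ' (MonoidAlgebra.single a 1) = c • MonoidAlgebra.single m' 1 →
        c • θ' (MonoidAlgebra.single b 1) = c • MonoidAlgebra.single m' 1 →
        c • (MonoidAlgebra.single a (1 : K) - MonoidAlgebra.single b 1) ∈
          extI K 𝔞 (MonoidAlgebra K M) := by
      intro a b ha hb
      apply hmod
      rw [map_smul, map_sub, smul_sub, ha, hb, sub_self]
      exact zero_mem _
    have h2 : ∀ (a : M) (r : K), c = r * (θ' (MonoidAlgebra.single a 1)).coeff m' →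
        c • θ' (MonoidAlgebra.single a 1) = c • MonoidAlgebra.single m' 1 := by
      intro a r hr
      apply MonoidAlgebra.ext
      apply Finsupp.ext
      intro p
      rw [MonoidAlgebra.coeff_smul, MonoidAlgebra.coeff_smul, Finsupp.smul_apply,
        Finsupp.smul_apply, MonoidAlgebra.coeff_single, Finsupp.single_apply, smul_eq_mul,
        smul_eq_mul, hr, mul_assoc, coeff_mul_coeff_of_isGroupLikeElem (hw a) m' p]
      split_ifs <;> simp
    have h3 := h1 m n (h2 m ((θ' (MonoidAlgebra.single n 1)).coeff m') (by rw [hc]; ring))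
      (h2 n ((θ' (MonoidAlgebra.single m 1)).coeff m') hc)
    rw [mem_map_algebraMap_iff] at h3
    have h4 := h3 m
    rw [MonoidAlgebra.coeff_smul, Finsupp.smul_apply, MonoidAlgebra.coeff_sub, Finsupp.sub_apply,
      MonoidAlgebra.coeff_single, MonoidAlgebra.coeff_single, Finsupp.single_eq_same,
      Finsupp.single_eq_of_ne (fun h => hmn h), sub_zero, smul_eq_mul, mul_one] at h4
    exact hcid.eq_zero_of_isNilpotent (h𝔞 c h4)
  rw [injective_iff_map_eq_zero]
  intro x hx
  apply MonoidAlgebra.ext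
  apply Finsupp.ext
  intro n
  rw [MonoidAlgebra.coeff_zero, Finsupp.zero_apply]
  have hxs : x = ∑ m ∈ x.coeff.support, x.coeff m • MonoidAlgebra.single m (1 : K) := by
    conv_lhs => rw [← MonoidAlgebra.sum_coeff_single x, Finsupp.sum]
    refine Finset.sum_congr rfl (fun m _ => ?_)
    rw [MonoidAlgebra.smul_single, smul_eq_mul, mul_one]
  have h1 : ∑ m ∈ x.coeff.support, x.coeff m • θ' (MonoidAlgebra.single m 1) = 0 := by
    rw [← hx]
    conv_rhs => rw [hxs]
    rw [map_sum]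
    refine Finset.sum_congr rfl (fun m _ => ?_)
    rw [map_smul]
  by_cases hn : n ∈ x.coeff.support
  · -- `x_n * e_{n,m'} = 0` for all `m'`
    have h2 : ∀ m' : M', x.coeff n * (θ' (MonoidAlgebra.single n 1)).coeff m' = 0 := by
      intro m'
      have h3 := congrArg (fun y : MonoidAlgebra K M' => y.coeff m') h1
      simp only [MonoidAlgebra.coeff_sum, Finsupp.finsetSum_apply, MonoidAlgebra.coeff_smul,
        Finsupp.smul_apply, smul_eq_mul, MonoidAlgebra.coeff_zero, Finsupp.zero_apply] at h3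
      have h4 := congrArg (fun r => r * (θ' (MonoidAlgebra.single n 1)).coeff m') h3
      simp only [Finset.sum_mul, zero_mul] at h4
      rw [Finset.sum_eq_single n] at h4
      · rw [mul_assoc, (isIdempotentElem_coeff_of_isGroupLikeElem (hw n) m').eq] at h4
        exact h4
      · intro m _ hmn
        rw [mul_assoc, hA m n hmn m', mul_zero]
      · intro h; exact absurd hn h
    have h5 := (hw n).counit_eq_one
    rw [counit_eq_sum_coeff] at h5
    calc x.coeff n = x.coeff n * 1 := (mul_one _).symm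
      _ = ∑ m' ∈ (θ' (MonoidAlgebra.single n 1)).coeff.support,
            x.coeff n * (θ' (MonoidAlgebra.single n 1)).coeff m' := by
          rw [← Finset.mul_sum, h5]
      _ = 0 := Finset.sum_eq_zero (fun m' _ => h2 m')
  · exact Finsupp.notMem_support_iff.mp hn

end Inj

section PropB

variable {K : Type u} [CommRing K] {𝔞 : Ideal K} (h𝔞 : ∀ x ∈ 𝔞, IsNilpotent x)
  {X₁ : Type u} [CommRing X₁] [HopfAlgebra K X₁] {X₂ : Type u} [CommRing X₂] [HopfAlgebra K X₂]

include h𝔞 in
theorem injective_of_bijective_mod (h₁ : IsDiag K X₁) (h₂ : IsDiag K X₂) (θ : X₁ →ₐc[K] X₂)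
    (hθ : Function.Bijective (bcHom K (K ⧸ 𝔞) θ)) : Function.Injective θ := by
  obtain ⟨M, _, ⟨ε₁⟩⟩ := h₁
  obtain ⟨M', _, ⟨ε₂⟩⟩ := h₂
  have hmod : ∀ x, θ x ∈ extI K 𝔞 X₂ → x ∈ extI K 𝔞 X₁ := by
    intro x hx
    rw [← one_tmul_eq_zero_iff] at hx ⊢
    have h1 : bcHom K (K ⧸ 𝔞) θ ((1 : K ⧸ 𝔞) ⊗ₜ[K] x) = 0 := hx
    exact hθ.injective (h1.trans (map_zero _).symm)
  let θ' : MonoidAlgebra K M →ₐc[K] MonoidAlgebra K M' :=
    ((ε₂ : X₂ →ₐc[K] MonoidAlgebra K M').comp θ).comp (ε₁.symm : MonoidAlgebra K M →ₐc[K] X₁)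
  have hθ' : ∀ x, θ' x = ε₂ (θ (ε₁.symm x)) := fun x => rfl
  have hinj := injective_monoidAlgebra h𝔞 θ' (by
    intro x hx
    have h1 : θ (ε₁.symm x) ∈ extI K 𝔞 X₂ := by
      have h2 := algHom_mem K ((ε₂.symm : MonoidAlgebra K M' →ₐc[K] X₂) :
        MonoidAlgebra K M' →ₐ[K] X₂) 𝔞 hx
      have h3 : ((ε₂.symm : MonoidAlgebra K M' →ₐc[K] X₂) : MonoidAlgebra K M' →ₐ[K] X₂) (θ' x) =
          θ (ε₁.symm x) := by
        rw [hθ']
        exact ε₂.symm_apply_apply _
      rwa [h3] at h2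
    have h2 := hmod _ h1
    have h3 := algHom_mem K ((ε₁ : X₁ →ₐc[K] MonoidAlgebra K M) : X₁ →ₐ[K] MonoidAlgebra K M) 𝔞 h2
    have h4 : ((ε₁ : X₁ →ₐc[K] MonoidAlgebra K M) : X₁ →ₐ[K] MonoidAlgebra K M) (ε₁.symm x) = x :=
      ε₁.apply_symm_apply x
    rwa [h4] at h3)
  intro a b hab
  have h1 : θ' (ε₁ a) = θ' (ε₁ b) := by
    rw [hθ', hθ']
    have ha : ε₁.symm (ε₁ a) = a := ε₁.symm_apply_apply a
    have hb : ε₁.symm (ε₁ b) = b := ε₁.symm_apply_apply b
    rw [ha, hb, hab]
  exact ε₁.injective (hinj h1)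

include h𝔞 in
/-- a homomorphism between diagonalisable groups which is an isomorphism modulo a nil ideal is
an isomorphism. -/
theorem bijective_of_bijective_mod (h₁ : IsDiag K X₁) (h₂ : IsDiag K X₂) (θ : X₁ →ₐc[K] X₂)
    (hθ : Function.Bijective (bcHom K (K ⧸ 𝔞) θ)) : Function.Bijective θ :=
  ⟨injective_of_bijective_mod h𝔞 h₁ h₂ θ hθ, surjective_of_bijective_mod h𝔞 h₁ h₂ θ hθ⟩

end PropB

section Nat2

variable (K : Type u) [CommRing K] (T : Type u) [CommRing T] [Algebra K T]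
  (T' : Type u) [CommRing T'] [Algebra K T'] [Algebra T T'] [IsScalarTower K T T']
  {A : Type u} [CommRing A] [HopfAlgebra K A] {C : Type u} [CommRing C] [HopfAlgebra K C]

lemma bcHom_bcHom_bijective (φ : C →ₐc[K] A) (h : Function.Bijective (bcHom K T' φ)) :
    Function.Bijective (bcHom T T' (bcHom K T φ)) := by
  have h2 : (bcHom T T' (bcHom K T φ) : T' ⊗[T] (T ⊗[K] C) → T' ⊗[T] (T ⊗[K] A)) =
      (cancelBC K T T' A).symm ∘ (bcHom K T' φ) ∘ (cancelBC K T T' C) := by
    funext x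
    simp only [Function.comp_apply]
    rw [← cancelBC_bcHom]
    exact ((cancelBC K T T' A).symm_apply_apply _).symm
  rw [h2]
  exact (cancelBC K T T' A).symm.bijective.comp (h.comp (cancelBC K T T' C).bijective)

end Nat2

section Desc

variable (K : Type u) [CommRing K] (K' : Type u) [CommRing K'] [Algebra K K']
  {A : Type u} [CommRing A] [HopfAlgebra K A] {C : Type u} [CommRing C] [HopfAlgebra K C]

theorem injective_of_bcHom_injective [Module.FaithfullyFlat K K'] (φ : C →ₐc[K] A)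
    (h : Function.Injective (bcHom K K' φ)) : Function.Injective φ := by
  rw [injective_iff_map_eq_zero]
  intro x hx
  have h1 : bcHom K K' φ ((1 : K') ⊗ₜ[K] x) = 0 := by
    rw [bcHom_tmul, hx, TensorProduct.tmul_zero]
  have h2 := h (h1.trans (map_zero _).symm)
  exact (Module.FaithfullyFlat.one_tmul_eq_zero_iff (R := K) (A := K') (M := C) x).mp h2

theorem injective_of_localizations (φ : C →ₐc[K] A) (s : Set K) (hs : Ideal.span s = ⊤)
    (h : ∀ f ∈ s, Function.Injective (bcHom K (Localization.Away f) φ)) :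
    Function.Injective φ := by
  rw [injective_iff_map_eq_zero]
  intro x hx
  apply eq_zero_of_forall_one_tmul_eq_zero s hs
  intro f hf
  have h1 : bcHom K (Localization.Away f) φ ((1 : Localization.Away f) ⊗ₜ[K] x) = 0 := by
    rw [bcHom_tmul, hx, TensorProduct.tmul_zero]
  exact h f hf (h1.trans (map_zero _).symm)

end Desc

section Main

variable (R : Type u) [CommRing R] (A : Type u) [CommRing A] [HopfAlgebra R A] (I : Ideal R)

/-- **SGA3 X 2.1 (affine form)**: a group of multiplicative type which is diagonalisable modulo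
a nil ideal is diagonalisable. -/
theorem main (hI : ∀ x ∈ I, IsNilpotent x) (h : IsMultType R A)
    (h0 : IsDiag (R ⧸ I) ((R ⧸ I) ⊗[R] A)) : IsDiag R A := by
  obtain ⟨M, _, ⟨ε⟩⟩ := h0
  -- group-like lifts of the characters
  have hex : ∀ m : M, ∃ u : A, IsGroupLikeElem R u ∧
      (1 : R ⧸ I) ⊗ₜ[R] u = ε.symm (MonoidAlgebra.single m 1) := by
    intro m
    have hz : IsGroupLikeElem (R ⧸ I) (ε.symm (MonoidAlgebra.single m (1 : R ⧸ I))) :=
      (MonoidAlgebra.isGroupLikeElem_single_one m).map ε.symm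
    obtain ⟨x, hx⟩ := exists_one_tmul_eq I (ε.symm (MonoidAlgebra.single m (1 : R ⧸ I)))
    rw [← hx] at hz
    obtain ⟨u, hu, hux⟩ := exists_lift_of_isMultType hI h (GLMod.of_quot hz)
    refine ⟨u, hu, ?_⟩
    rw [← hx, ← sub_eq_zero, ← TensorProduct.tmul_sub, one_tmul_eq_zero_iff]
    exact hux
  choose u hu hu1 using hex
  have hmul : ∀ m n, u (m * n) = u m * u n := by
    intro m n
    apply eq_of_isMultType hI h (hu _) ((hu m).mul (hu n))
    rw [← one_tmul_eq_zero_iff, TensorProduct.tmul_sub, sub_eq_zero, hu1]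
    have h1 : (1 : R ⧸ I) ⊗ₜ[R] (u m * u n) =
        ((1 : R ⧸ I) ⊗ₜ[R] u m) * ((1 : R ⧸ I) ⊗ₜ[R] u n) := by
      rw [Algebra.TensorProduct.tmul_mul_tmul, one_mul]
    rw [h1, hu1, hu1, ← map_mul, MonoidAlgebra.single_mul_single, one_mul]
  have hone : u 1 = 1 := by
    apply eq_of_isMultType hI h (hu 1) (IsGroupLikeElem.one (R := R) (A := A))
    rw [← one_tmul_eq_zero_iff, TensorProduct.tmul_sub, sub_eq_zero, hu1, ← MonoidAlgebra.one_def,
      map_one, Algebra.TensorProduct.one_def]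
  let uG : M →* GroupLike R A :=
    { toFun := fun m => ⟨u m, hu m⟩
      map_one' := GroupLike.ext hone
      map_mul' := fun m n => GroupLike.ext (hmul m n) }
  let θ : MonoidAlgebra R M →ₐc[R] A :=
    (MonoidAlgebra.liftGroupLikeBialgHom (R := R) (A := A)).comp (MonoidAlgebra.mapDomainBialgHom R uG)
  have hθ : ∀ m, θ (MonoidAlgebra.single m 1) = u m := by
    intro m
    simp [θ, uG]
  -- `θ` is an isomorphism modulo `I`
  have hA : Function.Bijective (bcHom R (R ⧸ I) θ) := by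
    have key1 : ∀ p : MonoidAlgebra R M, ε (bcHom R (R ⧸ I) θ ((1 : R ⧸ I) ⊗ₜ[R] p)) =
        monoidAlgebraBC R (R ⧸ I) M ((1 : R ⧸ I) ⊗ₜ[R] p) := by
      intro p
      induction p using MonoidAlgebra.induction_on with
      | of m =>
        rw [MonoidAlgebra.of_apply, bcHom_tmul, hθ, hu1, monoidAlgebraBC_tmul_single, one_smul]
        exact ε.apply_symm_apply _
      | add p q hp hq =>
        rw [TensorProduct.tmul_add, map_add, map_add, map_add, hp, hq]
      | smul r p hp =>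
        have hr : (1 : R ⧸ I) ⊗ₜ[R] (r • p) =
            (algebraMap R (R ⧸ I) r) • ((1 : R ⧸ I) ⊗ₜ[R] p) := by
          rw [TensorProduct.smul_tmul', smul_eq_mul, mul_one, Algebra.algebraMap_eq_smul_one,
            TensorProduct.smul_tmul]
        rw [hr, map_smul, map_smul, map_smul, hp]
    have key : ∀ w, ε (bcHom R (R ⧸ I) θ w) = monoidAlgebraBC R (R ⧸ I) M w := by
      intro w
      induction w using TensorProduct.induction_on with
      | zero => simp
      | tmul k p =>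
        have hk : k ⊗ₜ[R] p = k • ((1 : R ⧸ I) ⊗ₜ[R] p) := by
          rw [TensorProduct.smul_tmul', smul_eq_mul, mul_one]
        rw [hk, map_smul, map_smul, map_smul, key1]
      | add x y hx hy => rw [map_add, map_add, map_add, hx, hy]
    have h1 : (bcHom R (R ⧸ I) θ : (R ⧸ I) ⊗[R] MonoidAlgebra R M → (R ⧸ I) ⊗[R] A) =
        ε.symm ∘ (monoidAlgebraBC R (R ⧸ I) M) := by
      funext w
      rw [Function.comp_apply, ← key w]
      exact (ε.symm_apply_apply _).symm
    rw [h1]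
    exact ε.symm.bijective.comp (monoidAlgebraBC R (R ⧸ I) M).bijective
  -- local bijectivity
  obtain ⟨s, hs, hch⟩ := h
  have hloc : ∀ f ∈ s, Function.Bijective (bcHom R (Localization.Away f) θ) := by
    intro f hf
    obtain ⟨K', _, _, hff, hd⟩ := hch f hf
    let _ : Algebra R K' :=
      ((algebraMap (Localization.Away f) K').comp (algebraMap R (Localization.Away f))).toAlgebra
    have : IsScalarTower R (Localization.Away f) K' :=
      IsScalarTower.of_algebraMap_eq (fun x => rfl)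
    have hd' : IsDiag K' (K' ⊗[R] A) :=
      isDiag_of_equiv (cancelBC R (Localization.Away f) K' A) hd
    have hd₁ : IsDiag K' (K' ⊗[R] MonoidAlgebra R M) :=
      isDiag_baseChange K' ⟨M, inferInstance, ⟨BialgEquiv.refl R _⟩⟩
    have h1 : Function.Bijective (bcHom R (K' ⧸ Ideal.map (algebraMap R K') I) θ) :=
      bcHom_bijective_tower R (R ⧸ I) (K' ⧸ Ideal.map (algebraMap R K') I) θ hA
    have h2 := bcHom_bcHom_bijective R K' (K' ⧸ Ideal.map (algebraMap R K') I) θ h1
    have h3 := bijective_of_bijective_mod (nil_map R K' hI) hd₁ hd' (bcHom R K' θ) h2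
    have h4 := bcHom_bcHom_bijective R (Localization.Away f) K' θ h3
    exact ⟨injective_of_bcHom_injective _ K' _ h4.1, surjective_of_bcHom_surjective _ K' _ h4.2⟩
  have hbij : Function.Bijective θ :=
    ⟨injective_of_localizations R θ s hs (fun f hf => (hloc f hf).1),
      surjective_of_localizations R θ s hs (fun f hf => (hloc f hf).2)⟩
  exact ⟨M, inferInstance, ⟨(BialgEquiv.ofBijective θ hbij).symm⟩⟩

end Main

end Groth.Agent.Lib.Helper77.DiagNil
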