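import Mathlib
import Groth.Prelude.Def_SGA3b
import Groth.Agent.Lib.Helper77.MultBC
import Groth.Agent.Lib.Helper77.GLLift
import Groth.Agent.Lib.Helper77.DiagNil

set_option autoImplicit false
set_option linter.style.haveILetI false
universe u

open TensorProduct SGA3b

namespace Groth.Agent.Lib.Helper77.IsoTriv6

open Groth.Agent.Lib.Helper77.MultBC

section BC

variable {R : Type u} [CommRing R] (A : Type u) [CommRing A] [HopfAlgebra R A]
  (T : Type u) [CommRing T] [Algebra R T]

/-- groups of multiplicative type are stable under base change. -/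
theorem isMultType_baseChange (h : IsMultType R A) : IsMultType T (T ⊗[R] A) := by
  obtain ⟨s, hs, hloc⟩ := h
  refine ⟨algebraMap R T '' s, ?_, ?_⟩
  · rw [← Ideal.map_span, hs, Ideal.map_top]
  · rintro _ ⟨f, hf, rfl⟩
    letI : Algebra (Localization.Away f) (Localization.Away (algebraMap R T f)) :=
      (Localization.awayMap (algebraMap R T) f).toAlgebra
    haveI : IsScalarTower R (Localization.Away f) (Localization.Away (algebraMap R T f)) := by
      apply IsScalarTower.of_algebraMap_eq
      intro x
      change _ = Localization.awayMap (algebraMap R T) f (algebraMap R (Localization.Away f) x)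
      rw [Localization.awayMap, IsLocalization.Away.map, IsLocalization.map_eq]
      rfl
    have h2 : IsMultTypeConst (Localization.Away (algebraMap R T f))
        (Localization.Away (algebraMap R T f) ⊗[R] A) :=
      isMultTypeConst_tower (Localization.Away f) _ (hloc f hf)
    exact isMultTypeConst_of_equiv
      (cancelBC R T (Localization.Away (algebraMap R T f)) A).symm h2

end BC

section Nil

variable (R' : Type u) [CommRing R'] (H : Type u) [CommRing H] [HopfAlgebra R' H]
  (S : Type u) [CommRing S] [Algebra R' S]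

/-- `DiagNil.main` for a surjection with nil kernel instead of a quotient by a nil ideal. -/
theorem isDiag_of_surjective_nil (hsurj : Function.Surjective (algebraMap R' S))
    (hnil : ∀ x ∈ RingHom.ker (algebraMap R' S), IsNilpotent x)
    (h : IsMultType R' H) (h0 : IsDiag S (S ⊗[R'] H)) : IsDiag R' H := by
  let e : (R' ⧸ RingHom.ker (algebraMap R' S)) ≃ₐ[R'] S :=
    Ideal.quotientKerAlgEquivOfSurjective (f := Algebra.ofId R' S) hsurj
  letI : Algebra S (R' ⧸ RingHom.ker (algebraMap R' S)) := e.symm.toAlgHom.toRingHom.toAlgebra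
  haveI : IsScalarTower R' S (R' ⧸ RingHom.ker (algebraMap R' S)) :=
    IsScalarTower.of_algebraMap_eq (fun x => (e.symm.commutes x).symm)
  have h1 : IsDiag (R' ⧸ RingHom.ker (algebraMap R' S))
      ((R' ⧸ RingHom.ker (algebraMap R' S)) ⊗[R'] H) :=
    isDiag_tower S _ h0
  exact DiagNil.main R' H _ hnil h h1

end Nil

section Lift

variable {R : Type u} [CommRing R] (A : Type u) [CommRing A] [HopfAlgebra R A]
  (R' : Type u) [CommRing R'] [Algebra R R'] (R₀' : Type u) [CommRing R₀'] [Algebra R R₀']

/-- diagonalisability lifts along a surjection of base rings with nil kernel. -/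
theorem isDiag_lift (ψ : R' →ₐ[R] R₀') (hsurj : Function.Surjective ψ)
    (hnil : ∀ x ∈ RingHom.ker ψ, IsNilpotent x) (h : IsMultType R A)
    (hd : IsDiag R₀' (R₀' ⊗[R] A)) : IsDiag R' (R' ⊗[R] A) := by
  letI : Algebra R' R₀' := ψ.toRingHom.toAlgebra
  haveI : IsScalarTower R R' R₀' := IsScalarTower.of_algebraMap_eq (fun x => (ψ.commutes x).symm)
  have h0 : IsDiag R₀' (R₀' ⊗[R'] (R' ⊗[R] A)) := isDiag_of_equiv (cancelBC R R' R₀' A).symm hd
  exact isDiag_of_surjective_nil R' (R' ⊗[R] A) R₀' hsurj hnil (isMultType_baseChange A R' h) h0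

end Lift

section FF

variable {K : Type u} [CommRing K] {K₀ : Type u} [CommRing K₀] (π : K →+* K₀)
  (R' : Type u) [CommRing R'] [Algebra K R'] (R₀' : Type u) [CommRing R₀'] [Algebra K₀ R₀']

/-- faithful flatness lifts along surjections with nil kernel. -/
theorem faithfullyFlat_of_lift [Module.Flat K R'] [Module.FaithfullyFlat K₀ R₀']
    (hπ : Function.Surjective π) (hnil : ∀ x ∈ RingHom.ker π, IsNilpotent x)
    (ψ : R' →+* R₀') (hψ : ∀ x, ψ (algebraMap K R' x) = algebraMap K₀ R₀' (π x)) :
    Module.FaithfullyFlat K R' := by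
  refine ⟨?_⟩
  intro m hm htop
  have hker : RingHom.ker π ≤ m := by
    intro x hx
    obtain ⟨n, hn⟩ := hnil x hx
    exact hm.isPrime.mem_of_pow_mem n (by rw [hn]; exact m.zero_mem)
  have hmax : (m.map π).IsMaximal := by
    rcases Ideal.map_eq_top_or_isMaximal_of_surjective π hπ hm with h | h
    · exfalso
      have h1 : Ideal.comap π (Ideal.map π m) = m := by
        rw [Ideal.comap_map_of_surjective π hπ, sup_eq_left]
        exact hker
      rw [h, Ideal.comap_top] at h1
      exact hm.ne_top h1.symm
    · exact h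
  apply Module.FaithfullyFlat.submodule_ne_top (R := K₀) (M := R₀') hmax
  rw [Ideal.smul_top_eq_map, Submodule.restrictScalars_eq_top_iff, Ideal.eq_top_iff_one] at htop ⊢
  have h2 : ∀ y ∈ Ideal.map (algebraMap K R') m, ψ y ∈ Ideal.map (algebraMap K₀ R₀') (m.map π) := by
    intro y hy
    refine Submodule.span_induction (p := fun y _ => ψ y ∈ Ideal.map (algebraMap K₀ R₀') (m.map π))
      ?_ ?_ ?_ ?_ hy
    · rintro _ ⟨a, ha, rfl⟩
      rw [hψ]
      exact Ideal.mem_map_of_mem _ (Ideal.mem_map_of_mem _ ha)
    · rw [map_zero]; exact Ideal.zero_mem _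
    · intro x y _ _ hx hy
      rw [map_add]; exact Ideal.add_mem _ hx hy
    · intro a x _ hx
      rw [smul_eq_mul, map_mul]; exact Ideal.mul_mem_left _ _ hx
  have := h2 1 htop
  rwa [map_one] at this

end FF

end Groth.Agent.Lib.Helper77.IsoTriv6
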