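import Mathlib
import Groth.Agent.Lib.Helper77.MultRigid

/-!
# The `n`-torsion subgroup of a group of multiplicative type

`A/Jₙ` is of multiplicative type and finite: in a chart `R'[M]` the quotient by the torsion ideal is
`R'[M/nM]`, and two surjective bialgebra maps with the same kernel have isomorphic targets.
-/

set_option autoImplicit false
universe u
open TensorProduct

namespace Groth.Agent.Lib.Helper77.MultTors
open SGA3b Groth.Agent.Lib.Helper77.MultMono Groth.Agent.Lib.Helper77.MultRigid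


section TwoSurj

variable {K : Type u} [CommRing K] {X Y Z : Type u} [CommRing X] [CommRing Y] [CommRing Z]
  [Bialgebra K X] [Bialgebra K Y] [Bialgebra K Z]

/-- two surjective bialgebra maps with the same kernel have isomorphic targets. -/
theorem nonempty_bialgEquiv_of_surjective_of_ker_eq (p : X →ₐc[K] Y) (q : X →ₐc[K] Z)
    (hp : Function.Surjective p) (hq : Function.Surjective q)
    (hker : RingHom.ker (p : X →ₐ[K] Y) = RingHom.ker (q : X →ₐ[K] Z)) :
    Nonempty (Y ≃ₐc[K] Z) := by
  let e₁ : (X ⧸ RingHom.ker (p : X →ₐ[K] Y)) ≃ₐ[K] Y :=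
    Ideal.quotientKerAlgEquivOfSurjective (f := (p : X →ₐ[K] Y)) hp
  let e₂ : (X ⧸ RingHom.ker (q : X →ₐ[K] Z)) ≃ₐ[K] Z :=
    Ideal.quotientKerAlgEquivOfSurjective (f := (q : X →ₐ[K] Z)) hq
  let e₀ : (X ⧸ RingHom.ker (p : X →ₐ[K] Y)) ≃ₐ[K] (X ⧸ RingHom.ker (q : X →ₐ[K] Z)) :=
    Ideal.quotientEquivAlgOfEq K hker
  let E : Y ≃ₐ[K] Z := e₁.symm.trans (e₀.trans e₂)
  have hE : ∀ x : X, E (p x) = q x := by
    intro x
    have h1 : e₁ (Ideal.Quotient.mk _ x) = p x := rfl
    have h2 : e₁.symm (p x) = Ideal.Quotient.mk _ x := by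
      rw [← h1, e₁.symm_apply_apply]
    show e₂ (e₀ (e₁.symm (p x))) = q x
    rw [h2]
    rfl
  have hEcomp : (E : Y →ₐ[K] Z).comp (p : X →ₐ[K] Y) = (q : X →ₐ[K] Z) := by
    ext x
    exact hE x
  refine ⟨BialgEquiv.ofAlgEquiv E ?_ ?_⟩
  · apply AlgHom.ext
    intro y
    obtain ⟨x, rfl⟩ := hp y
    show Coalgebra.counit (R := K) (E (p x)) = Coalgebra.counit (R := K) (p x)
    rw [hE, CoalgHomClass.counit_comp_apply, CoalgHomClass.counit_comp_apply]
  · apply AlgHom.ext
    intro y
    obtain ⟨x, rfl⟩ := hp y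
    show (Algebra.TensorProduct.map (E : Y →ₐ[K] Z) (E : Y →ₐ[K] Z))
      (Coalgebra.comul (R := K) (p x)) = Coalgebra.comul (R := K) (E (p x))
    rw [hE, ← CoalgHomClass.map_comp_comul_apply q x, ← CoalgHomClass.map_comp_comul_apply p x]
    generalize Coalgebra.comul (R := K) x = t
    induction t using TensorProduct.induction_on with
    | zero => simp
    | tmul a b =>
      rw [TensorProduct.map_tmul, TensorProduct.map_tmul, Algebra.TensorProduct.map_tmul]
      show E (p a) ⊗ₜ[K] E (p b) = _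
      rw [hE, hE]
      rfl
    | add a b ha hb => rw [map_add, map_add, map_add, ha, hb]

end TwoSurj



section KerBC

variable (K : Type u) [CommRing K] {A : Type u} [CommRing A] [HopfAlgebra K A]
  {C : Type u} [CommRing C] [HopfAlgebra K C] (K' : Type u) [CommRing K'] [Algebra K K']

lemma bcHom_surjective (φ : C →ₐc[K] A) (hφ : Function.Surjective φ) :
    Function.Surjective (bcHom K K' φ) := by
  intro y
  obtain ⟨z, hz⟩ := LinearMap.lTensor_surjective K' (g := (φ : C →ₗ[K] A)) hφ y
  exact ⟨z, (bcHom_apply K K' φ z).trans hz⟩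

/-- kernel of the base change of a surjective bialgebra map. -/
lemma ker_bcHom (φ : C →ₐc[K] A) (hφ : Function.Surjective φ) :
    RingHom.ker (bcHom K K' φ : K' ⊗[K] C →ₐ[K'] K' ⊗[K] A) =
      Ideal.map (Algebra.TensorProduct.includeRight : C →ₐ[K] K' ⊗[K] C)
        (RingHom.ker (φ : C →ₐ[K] A)) := by
  rw [← Algebra.TensorProduct.lTensor_ker (A := K') (φ : C →ₐ[K] A) hφ]
  have h : ∀ x, (bcHom K K' φ) x =
      (Algebra.TensorProduct.map (AlgHom.id K K') (φ : C →ₐ[K] A)) x := by
    intro x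
    induction x using TensorProduct.induction_on with
    | zero => simp
    | tmul k c => rfl
    | add x y hx hy => rw [map_add, map_add, hx, hy]
  ext x
  rw [RingHom.mem_ker, RingHom.mem_ker]
  show (bcHom K K' φ) x = 0 ↔ _
  rw [h]

end KerBC

section MA

variable (K : Type u) [CommRing K] (M : Type u) [CommGroup M]

open MonoidAlgebra

lemma ker_mapDomain_le_torsionIdeal (n : ℕ) :
    RingHom.ker ((MonoidAlgebra.mapDomainBialgHom K (QuotientGroup.mk' (powSubgroup M n)) :
        MonoidAlgebra K M →ₐc[K] MonoidAlgebra K (M ⧸ powSubgroup M n)) :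
        MonoidAlgebra K M →ₐ[K] MonoidAlgebra K (M ⧸ powSubgroup M n)) ≤
      torsionIdeal K (MonoidAlgebra K M) n := by
  classical
  intro x hx
  let σ : M ⧸ powSubgroup M n → M := Function.surjInv (QuotientGroup.mk'_surjective _)
  have hσ : ∀ q, (QuotientGroup.mk' (powSubgroup M n)) (σ q) = q :=
    Function.surjInv_eq (QuotientGroup.mk'_surjective _)
  let J := torsionIdeal K (MonoidAlgebra K M) n
  let L : MonoidAlgebra K (M ⧸ powSubgroup M n) →ₗ[K] (MonoidAlgebra K M ⧸ J) :=
    (Finsupp.linearCombination K (fun q => Ideal.Quotient.mk J (single (σ q) (1 : K)))) ∘ₗ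
      (MonoidAlgebra.coeffLinearEquiv K).toLinearMap
  have hL : ∀ y : MonoidAlgebra K M,
      L ((MonoidAlgebra.mapDomainBialgHom K (QuotientGroup.mk' (powSubgroup M n)) :
        MonoidAlgebra K M →ₐc[K] MonoidAlgebra K (M ⧸ powSubgroup M n)) y) =
        Ideal.Quotient.mk J y := by
    intro y
    induction y using MonoidAlgebra.induction_on with
    | of m =>
      rw [MonoidAlgebra.of_apply]
      have h1 : (MonoidAlgebra.mapDomainBialgHom K (QuotientGroup.mk' (powSubgroup M n)) :
          MonoidAlgebra K M →ₐc[K] MonoidAlgebra K (M ⧸ powSubgroup M n)) (single m (1 : K)) =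
          single ((QuotientGroup.mk' (powSubgroup M n)) m) 1 := by
        simp
      rw [h1]
      show Finsupp.linearCombination K _ (Finsupp.single _ (1 : K)) = _
      rw [Finsupp.linearCombination_single, one_smul, Ideal.Quotient.eq]
      exact single_sub_single_mem_torsionIdeal K M n _ _ (hσ _)
    | add y z hy hz => rw [map_add, map_add, hy, hz, map_add]
    | smul r y hy =>
      rw [map_smul, map_smul, hy]
      rfl
  have hx' : (MonoidAlgebra.mapDomainBialgHom K (QuotientGroup.mk' (powSubgroup M n)) :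
      MonoidAlgebra K M →ₐc[K] MonoidAlgebra K (M ⧸ powSubgroup M n)) x = 0 := hx
  have h2 := hL x
  rw [hx', map_zero] at h2
  exact Ideal.Quotient.eq_zero_iff_mem.mp h2.symm

theorem ker_mapDomain_eq_torsionIdeal (n : ℕ) :
    RingHom.ker ((MonoidAlgebra.mapDomainBialgHom K (QuotientGroup.mk' (powSubgroup M n)) :
        MonoidAlgebra K M →ₐc[K] MonoidAlgebra K (M ⧸ powSubgroup M n)) :
        MonoidAlgebra K M →ₐ[K] MonoidAlgebra K (M ⧸ powSubgroup M n)) =
      torsionIdeal K (MonoidAlgebra K M) n :=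
  le_antisymm (ker_mapDomain_le_torsionIdeal K M n) (torsionIdeal_le_ker_mapDomain K M n)

lemma mapDomain_mk_surjective (n : ℕ) :
    Function.Surjective (MonoidAlgebra.mapDomainBialgHom K (QuotientGroup.mk' (powSubgroup M n)) :
        MonoidAlgebra K M →ₐc[K] MonoidAlgebra K (M ⧸ powSubgroup M n)) := by
  intro y
  induction y using MonoidAlgebra.induction_on with
  | of q =>
    obtain ⟨m, rfl⟩ := QuotientGroup.mk'_surjective (powSubgroup M n) q
    refine ⟨single m 1, ?_⟩
    rw [MonoidAlgebra.of_apply]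
    simp
  | add y z hy hz =>
    obtain ⟨a, ha⟩ := hy
    obtain ⟨b, hb⟩ := hz
    exact ⟨a + b, by rw [map_add, ha, hb]⟩
  | smul r y hy =>
    obtain ⟨a, ha⟩ := hy
    exact ⟨r • a, by rw [map_smul, ha]⟩

end MA

section Chart

variable {K : Type u} [CommRing K]

/-- a quotient of a diagonalisable group by its `n`-torsion ideal is diagonalisable. -/
theorem isDiag_of_surjective_of_ker_eq_torsionIdeal {X Y : Type u} [CommRing X] [HopfAlgebra K X]
    [CommRing Y] [HopfAlgebra K Y] (hX : IsDiag K X) (n : ℕ) (p : X →ₐc[K] Y)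
    (hp : Function.Surjective p) (hker : RingHom.ker (p : X →ₐ[K] Y) = torsionIdeal K X n) :
    IsDiag K Y := by
  obtain ⟨M, _, ⟨ε⟩⟩ := hX
  let q : X →ₐc[K] MonoidAlgebra K (M ⧸ powSubgroup M n) :=
    (MonoidAlgebra.mapDomainBialgHom K (QuotientGroup.mk' (powSubgroup M n)) :
      MonoidAlgebra K M →ₐc[K] MonoidAlgebra K (M ⧸ powSubgroup M n)).comp
      (ε : X →ₐc[K] MonoidAlgebra K M)
  have hq : Function.Surjective q := (mapDomain_mk_surjective K M n).comp ε.surjective
  have hkq : RingHom.ker (q : X →ₐ[K] MonoidAlgebra K (M ⧸ powSubgroup M n)) =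
      torsionIdeal K X n := by
    ext x
    have h0 : x ∈ RingHom.ker (q : X →ₐ[K] MonoidAlgebra K (M ⧸ powSubgroup M n)) ↔
        ε x ∈ RingHom.ker ((MonoidAlgebra.mapDomainBialgHom K
          (QuotientGroup.mk' (powSubgroup M n)) :
          MonoidAlgebra K M →ₐc[K] MonoidAlgebra K (M ⧸ powSubgroup M n)) :
          MonoidAlgebra K M →ₐ[K] MonoidAlgebra K (M ⧸ powSubgroup M n)) := Iff.rfl
    rw [h0, ker_mapDomain_eq_torsionIdeal]
    constructor
    · intro h
      have h1 := Ideal.mem_map_of_mem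
        ((ε.symm : MonoidAlgebra K M →ₐc[K] X) : MonoidAlgebra K M →ₐ[K] X) h
      rw [map_torsionIdeal_equiv ε.symm n] at h1
      have h2 : ((ε.symm : MonoidAlgebra K M →ₐc[K] X) : MonoidAlgebra K M →ₐ[K] X) (ε x) = x :=
        ε.symm_apply_apply x
      rwa [h2] at h1
    · intro h
      rw [← map_torsionIdeal_equiv ε n]
      exact Ideal.mem_map_of_mem ((ε : X →ₐc[K] MonoidAlgebra K M) : X →ₐ[K] MonoidAlgebra K M) h
  obtain ⟨E⟩ := nonempty_bialgEquiv_of_surjective_of_ker_eq p q hp hq (hker.trans hkq.symm)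
  exact ⟨M ⧸ powSubgroup M n, inferInstance, ⟨E⟩⟩

variable (K) (L : Type u) [CommRing L] [Algebra K L] (A : Type u) [CommRing A] [HopfAlgebra K A]

lemma ker_mkBialgHom (J : Ideal A) [J.IsHopfIdeal K] :
    RingHom.ker ((Bialgebra.Quotient.mkBialgHom J : A →ₐc[K] A ⧸ J) : A →ₐ[K] A ⧸ J) = J := by
  ext a
  rw [RingHom.mem_ker]
  exact Ideal.Quotient.eq_zero_iff_mem

theorem isMultTypeConst_baseChange_quotient_torsionIdeal
    (hA : IsMultTypeConst L (L ⊗[K] A)) (n : ℕ) (J : Ideal A) [J.IsHopfIdeal K]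
    (hJ : J = torsionIdeal K A n) : IsMultTypeConst L (L ⊗[K] (A ⧸ J)) := by
  obtain ⟨L', _, _, hff, hdiag⟩ := hA
  refine ⟨L', inferInstance, inferInstance, hff, ?_⟩
  let π : A →ₐc[K] A ⧸ J := Bialgebra.Quotient.mkBialgHom J
  have hπ : Function.Surjective π := Ideal.Quotient.mk_surjective
  have h1 := bcHom_surjective K L π hπ
  apply isDiag_of_surjective_of_ker_eq_torsionIdeal hdiag n (bcHom L L' (bcHom K L π))
    (bcHom_surjective L L' _ h1)
  rw [ker_bcHom L L' _ h1, ker_bcHom K L π hπ, ker_mkBialgHom, hJ, torsionIdeal_baseChange,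
    torsionIdeal_baseChange]

theorem finite_baseChange_quotient_torsionIdeal (h : TorsFinite L (L ⊗[K] A)) (n : ℕ)
    (hn : 0 < n) : Module.Finite L (L ⊗[K] (A ⧸ torsionIdeal K A n)) := by
  have hfin := h n hn
  let g : L ⊗[K] A →ₐ[L] L ⊗[K] (A ⧸ torsionIdeal K A n) :=
    Algebra.TensorProduct.map (AlgHom.id L L) (Ideal.Quotient.mkₐ K (torsionIdeal K A n))
  have hker : ∀ y ∈ torsionIdeal L (L ⊗[K] A) n, g y = 0 := by
    intro y hy
    rw [torsionIdeal_baseChange] at hy
    have hle : Ideal.map (Algebra.TensorProduct.includeRight : A →ₐ[K] L ⊗[K] A)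
        (torsionIdeal K A n) ≤ RingHom.ker g := by
      rw [Ideal.map_le_iff_le_comap]
      intro a ha
      rw [Ideal.mem_comap, RingHom.mem_ker]
      show (Algebra.TensorProduct.map (AlgHom.id L L)
        (Ideal.Quotient.mkₐ K (torsionIdeal K A n))) ((1 : L) ⊗ₜ[K] a) = 0
      rw [Algebra.TensorProduct.map_tmul]
      have : (Ideal.Quotient.mkₐ K (torsionIdeal K A n)) a = 0 :=
        Ideal.Quotient.eq_zero_iff_mem.mpr ha
      rw [this, TensorProduct.tmul_zero]
    exact hle hy
  let gbar : ((L ⊗[K] A) ⧸ torsionIdeal L (L ⊗[K] A) n) →ₐ[L]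
      L ⊗[K] (A ⧸ torsionIdeal K A n) := Ideal.Quotient.liftₐ _ g hker
  have hgs : Function.Surjective g := by
    have h1 : Function.Surjective (LinearMap.lTensor L
        (Ideal.Quotient.mkₐ K (torsionIdeal K A n)).toLinearMap) :=
      LinearMap.lTensor_surjective L Ideal.Quotient.mk_surjective
    have h2 : ∀ z : L ⊗[K] A, g z = (LinearMap.lTensor L
        (Ideal.Quotient.mkₐ K (torsionIdeal K A n)).toLinearMap) z := by
      intro z
      induction z using TensorProduct.induction_on with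
      | zero => simp
      | tmul k a => rfl
      | add z w hz hw => rw [map_add, map_add, hz, hw]
    intro y
    obtain ⟨z, hz⟩ := h1 y
    exact ⟨z, (h2 z).trans hz⟩
  have hsurj : Function.Surjective gbar :=
    Ideal.Quotient.lift_surjective_of_surjective _ _ hgs
  exact Module.Finite.of_surjective gbar.toLinearMap hsurj

end Chart

section Main

variable {R : Type u} [CommRing R] {A : Type u} [CommRing A] [HopfAlgebra R A]

theorem main (hft : Algebra.FiniteType R A) (h : IsMultType R A) (n : ℕ) (hn : 0 < n)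
    (J : Ideal A) [J.IsHopfIdeal R] (hJ : J = torsionIdeal R A n) :
    IsMultType R (A ⧸ J) ∧ Module.Finite R (A ⧸ J) := by
  obtain ⟨s, hs, hloc⟩ := h
  constructor
  · exact ⟨s, hs, fun f hf => isMultTypeConst_baseChange_quotient_torsionIdeal R
      (Localization.Away f) A (hloc f hf) n J hJ⟩
  · subst hJ
    apply Module.Finite.of_localizationSpan' s hs
      (Rₚ := fun g => Localization.Away g.1)
      (fun g => TensorProduct.mk R (Localization.Away g.1) (A ⧸ torsionIdeal R A n) 1)
    intro g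
    have h1 := (torsFinite_and_torsDense_of_isMultTypeConst (hloc g.1 g.2) inferInstance).1
    exact finite_baseChange_quotient_torsionIdeal R (Localization.Away g.1) A h1 n hn

end Main

end Groth.Agent.Lib.Helper77.MultTors
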