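import Mathlib
import Groth.Prelude.Def_SGA3b
import Groth.Agent.Lib.Helper77.DiagNil
import Groth.Agent.Lib.Helper77.MultTors

/-!
# Kernels of homomorphisms of diagonalisable groups (helper77)

Typed diagonalisability `IsDiagOf Q K B`, kernels of `K[M] → K[M/H]`, the predicate `IsKer`,
computation of the kernel as a quotient group algebra on pieces of a clopen partition.
-/

set_option autoImplicit false
universe u
open TensorProduct

namespace Groth.Agent.Lib.Helper77.MultKer

open SGA3b Groth.Agent.Lib.Helper77.MultMono Groth.Agent.Lib.Helper77.MultBC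
  Groth.Agent.Lib.Helper77.MultRigid Groth.Agent.Lib.Helper77.MultTors
  Groth.Agent.Lib.Helper77.GLLift Groth.Agent.Lib.Helper77.DiagNil

section Typed

variable (Q : Type u) [CommGroup Q] (K : Type u) [CommRing K] (B : Type u) [CommRing B]
  [HopfAlgebra K B]

/-- diagonalisable of a given type. -/
def IsDiagOf : Prop := Nonempty (B ≃ₐc[K] MonoidAlgebra K Q)

variable {Q K B}

lemma IsDiagOf.isDiag (h : IsDiagOf Q K B) : IsDiag K B := ⟨Q, inferInstance, h⟩

lemma isDiagOf_of_equiv {B' : Type u} [CommRing B'] [HopfAlgebra K B'] (e : B ≃ₐc[K] B')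
    (h : IsDiagOf Q K B) : IsDiagOf Q K B' := by
  obtain ⟨ε⟩ := h
  exact ⟨e.symm.trans ε⟩

lemma isDiagOf_congr {Q' : Type u} [CommGroup Q'] (e : Q ≃* Q') (h : IsDiagOf Q K B) :
    IsDiagOf Q' K B := by
  obtain ⟨ε⟩ := h
  exact ⟨ε.trans (MonoidAlgebra.domCongrBialgEquiv K K e)⟩

variable (T : Type u) [CommRing T] [Algebra K T]

lemma isDiagOf_baseChange (h : IsDiagOf Q K B) : IsDiagOf Q T (T ⊗[K] B) := by
  obtain ⟨ε⟩ := h
  exact ⟨(bcEquiv K T ε).trans (monoidAlgebraBC K T Q)⟩

variable (T' : Type u) [CommRing T'] [Algebra K T'] [Algebra T T'] [IsScalarTower K T T']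

lemma isDiagOf_tower (h : IsDiagOf Q T (T ⊗[K] B)) : IsDiagOf Q T' (T' ⊗[K] B) :=
  isDiagOf_of_equiv (cancelBC K T T' B) (isDiagOf_baseChange T' h)

variable (Q K B) in
lemma isDiagOf_of_subsingleton [Subsingleton K] : IsDiagOf Q K B := by
  have : Subsingleton B := Module.subsingleton K B
  have : Subsingleton (MonoidAlgebra K Q) := Module.subsingleton K _
  refine ⟨BialgEquiv.ofBijective
    ((Bialgebra.unitBialgHom K (MonoidAlgebra K Q)).comp (Bialgebra.counitBialgHom K B)) ⟨?_, ?_⟩⟩
  · intro a b _; exact Subsingleton.elim a b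
  · intro y; exact ⟨0, Subsingleton.elim _ _⟩

end Typed

section KerQuot

variable (L : Type u) [CommRing L] (M : Type u) [CommGroup M]

open MonoidAlgebra

/-- the ideal generated by the `g - 1`, `g ∈ S`. -/
noncomputable def subOneIdeal (S : Set M) : Ideal (MonoidAlgebra L M) :=
  Ideal.span ((fun g => single g (1 : L) - 1) '' S)

lemma single_sub_one_mem (S : Set M) {h : M} (hh : h ∈ Subgroup.closure S) :
    single h (1 : L) - 1 ∈ subOneIdeal L M S := by
  induction hh using Subgroup.closure_induction with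
  | mem x hx => exact Ideal.subset_span ⟨x, hx, rfl⟩
  | one => rw [← MonoidAlgebra.one_def, sub_self]; exact zero_mem _
  | mul x y _ _ hx hy =>
    have : single (x * y) (1 : L) - 1 =
        single x (1 : L) * (single y (1 : L) - 1) + (single x (1 : L) - 1) := by
      rw [mul_sub, MonoidAlgebra.single_mul_single, one_mul, mul_one]; abel
    rw [this]
    exact add_mem (Ideal.mul_mem_left _ _ hy) hx
  | inv x _ hx =>
    have : single x⁻¹ (1 : L) - 1 = -(single x⁻¹ (1 : L) * (single x (1 : L) - 1)) := by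
      rw [mul_sub, MonoidAlgebra.single_mul_single, one_mul, mul_one, inv_mul_cancel,
        ← MonoidAlgebra.one_def]; abel
    rw [this]
    exact neg_mem (Ideal.mul_mem_left _ _ hx)

lemma single_sub_single_mem (S : Set M) {m m' : M}
    (h : (QuotientGroup.mk' (Subgroup.closure S)) m = (QuotientGroup.mk' (Subgroup.closure S)) m') :
    single m (1 : L) - single m' 1 ∈ subOneIdeal L M S := by
  have h1 : m'⁻¹ * m ∈ Subgroup.closure S := by
    rw [← QuotientGroup.eq]
    exact h.symm
  have : single m (1 : L) - single m' 1 = single m' (1 : L) * (single (m'⁻¹ * m) (1 : L) - 1) := by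
    rw [mul_sub, MonoidAlgebra.single_mul_single, one_mul, mul_one, mul_inv_cancel_left]
  rw [this]
  exact Ideal.mul_mem_left _ _ (single_sub_one_mem L M S h1)

theorem ker_mapDomain_mk (S : Set M) :
    RingHom.ker ((MonoidAlgebra.mapDomainBialgHom L (QuotientGroup.mk' (Subgroup.closure S)) :
        MonoidAlgebra L M →ₐc[L] MonoidAlgebra L (M ⧸ Subgroup.closure S)) :
        MonoidAlgebra L M →ₐ[L] MonoidAlgebra L (M ⧸ Subgroup.closure S)) =
      subOneIdeal L M S := by
  classical
  apply le_antisymm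
  · intro x hx
    let σ : M ⧸ Subgroup.closure S → M := Function.surjInv (QuotientGroup.mk'_surjective _)
    have hσ : ∀ q, (QuotientGroup.mk' (Subgroup.closure S)) (σ q) = q :=
      Function.surjInv_eq (QuotientGroup.mk'_surjective _)
    let J := subOneIdeal L M S
    let Λ : MonoidAlgebra L (M ⧸ Subgroup.closure S) →ₗ[L] (MonoidAlgebra L M ⧸ J) :=
      (Finsupp.linearCombination L (fun q => Ideal.Quotient.mk J (single (σ q) (1 : L)))) ∘ₗ
        (MonoidAlgebra.coeffLinearEquiv L).toLinearMap
    have hΛ : ∀ y : MonoidAlgebra L M,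
        Λ ((MonoidAlgebra.mapDomainBialgHom L (QuotientGroup.mk' (Subgroup.closure S)) :
          MonoidAlgebra L M →ₐc[L] MonoidAlgebra L (M ⧸ Subgroup.closure S)) y) =
          Ideal.Quotient.mk J y := by
      intro y
      induction y using MonoidAlgebra.induction_on with
      | of m =>
        rw [MonoidAlgebra.of_apply]
        have h1 : (MonoidAlgebra.mapDomainBialgHom L (QuotientGroup.mk' (Subgroup.closure S)) :
            MonoidAlgebra L M →ₐc[L] MonoidAlgebra L (M ⧸ Subgroup.closure S)) (single m (1 : L)) =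
            single ((QuotientGroup.mk' (Subgroup.closure S)) m) 1 := by
          simp
        rw [h1]
        show Finsupp.linearCombination L _ (Finsupp.single _ (1 : L)) = _
        rw [Finsupp.linearCombination_single, one_smul, Ideal.Quotient.eq]
        exact single_sub_single_mem L M S (hσ _)
      | add y z hy hz => rw [map_add, map_add, hy, hz, map_add]
      | smul r y hy =>
        rw [map_smul, map_smul, hy]
        rfl
    have hx' : (MonoidAlgebra.mapDomainBialgHom L (QuotientGroup.mk' (Subgroup.closure S)) :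
        MonoidAlgebra L M →ₐc[L] MonoidAlgebra L (M ⧸ Subgroup.closure S)) x = 0 := hx
    have h2 := hΛ x
    rw [hx', map_zero] at h2
    exact Ideal.Quotient.eq_zero_iff_mem.mp h2.symm
  · unfold subOneIdeal
    rw [Ideal.span_le]
    rintro _ ⟨g, hg, rfl⟩
    rw [SetLike.mem_coe, RingHom.mem_ker]
    show (MonoidAlgebra.mapDomainBialgHom L (QuotientGroup.mk' (Subgroup.closure S)) :
        MonoidAlgebra L M →ₐc[L] MonoidAlgebra L (M ⧸ Subgroup.closure S))
        (single g (1 : L) - 1) = 0
    rw [map_sub, map_one]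
    have h1 : (MonoidAlgebra.mapDomainBialgHom L (QuotientGroup.mk' (Subgroup.closure S)) :
        MonoidAlgebra L M →ₐc[L] MonoidAlgebra L (M ⧸ Subgroup.closure S)) (single g (1 : L)) =
        single ((QuotientGroup.mk' (Subgroup.closure S)) g) 1 := by
      simp
    rw [h1]
    have h2 : (QuotientGroup.mk' (Subgroup.closure S)) g = 1 :=
      (QuotientGroup.eq_one_iff g).mpr (Subgroup.subset_closure hg)
    rw [h2, ← MonoidAlgebra.one_def, sub_self]

lemma mapDomain_mk_surjective (H : Subgroup M) :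
    Function.Surjective (MonoidAlgebra.mapDomainBialgHom L (QuotientGroup.mk' H) :
        MonoidAlgebra L M →ₐc[L] MonoidAlgebra L (M ⧸ H)) := by
  intro y
  induction y using MonoidAlgebra.induction_on with
  | of q =>
    obtain ⟨m, rfl⟩ := QuotientGroup.mk'_surjective H q
    refine ⟨single m 1, ?_⟩
    rw [MonoidAlgebra.of_apply]
    simp
  | add y z hy hz =>
    obtain ⟨a, ha⟩ := hy
    obtain ⟨b, hb⟩ := hz
    exact ⟨a + b, by rw [map_add, ha, hb]⟩
  | smul r y hy =>
    obtain ⟨a, ha⟩ := hy
    exact ⟨r • a, by rw [map_smul, ha]⟩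

/-- the augmentation ideal of a group algebra is generated by the `g - 1` for `g` in a
generating set. -/
theorem ker_counit_monoidAlgebra (S : Set M) (hS : Subgroup.closure S = ⊤) :
    RingHom.ker (Bialgebra.counitAlgHom L (MonoidAlgebra L M)) = subOneIdeal L M S := by
  classical
  apply le_antisymm
  · intro x hx
    rw [RingHom.mem_ker, Bialgebra.counitAlgHom_apply] at hx
    have h1 : x = ∑ m ∈ x.coeff.support, x.coeff m • (single m (1 : L) - 1) := by
      have h2 : ∑ m ∈ x.coeff.support, x.coeff m • (single m (1 : L) - 1) =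
          ∑ m ∈ x.coeff.support, single m (x.coeff m) -
            (∑ m ∈ x.coeff.support, x.coeff m) • (1 : MonoidAlgebra L M) := by
        rw [Finset.sum_smul, ← Finset.sum_sub_distrib]
        refine Finset.sum_congr rfl (fun m _ => ?_)
        rw [smul_sub, MonoidAlgebra.smul_single, smul_eq_mul, mul_one]
      rw [h2]
      have h3 : ∑ m ∈ x.coeff.support, x.coeff m = 0 := by
        rw [← hx]
        conv_rhs => rw [← MonoidAlgebra.sum_coeff_single x, Finsupp.sum, map_sum]
        refine Finset.sum_congr rfl (fun m _ => ?_)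
        rw [MonoidAlgebra.counit_single]
        rfl
      rw [h3, zero_smul, sub_zero]
      conv_lhs => rw [← MonoidAlgebra.sum_coeff_single x, Finsupp.sum]
    rw [h1]
    refine Ideal.sum_mem _ (fun m _ => ?_)
    rw [Algebra.smul_def]
    exact Ideal.mul_mem_left _ _ (single_sub_one_mem L M S (by rw [hS]; trivial))
  · unfold subOneIdeal
    rw [Ideal.span_le]
    rintro _ ⟨g, _, rfl⟩
    rw [SetLike.mem_coe, RingHom.mem_ker, map_sub, map_one, Bialgebra.counitAlgHom_apply,
      MonoidAlgebra.counit_single]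
    simp

end KerQuot

section IsKerSec

variable {K : Type u} [CommRing K] {A C B : Type u} [CommRing A] [HopfAlgebra K A]
  [CommRing C] [HopfAlgebra K C] [CommRing B] [HopfAlgebra K B]

/-- `π : A → B` is the quotient by the ideal of the kernel of `Spec A → Spec C`. -/
def IsKer (φ : C →ₐc[K] A) (π : A →ₐc[K] B) : Prop :=
  Function.Surjective π ∧ RingHom.ker (π : A →ₐ[K] B) =
    Ideal.map (φ : C →ₐ[K] A) (RingHom.ker (Bialgebra.counitAlgHom K C))

lemma IsKer.baseChange (K' : Type u) [CommRing K'] [Algebra K K'] {φ : C →ₐc[K] A}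
    {π : A →ₐc[K] B} (h : IsKer φ π) : IsKer (bcHom K K' φ) (bcHom K K' π) := by
  refine ⟨bcHom_surjective K K' π h.1, ?_⟩
  rw [ker_bcHom K K' π h.1, h.2, ker_counit_baseChange K C K']
  show _ = Ideal.map ((bcHom K K' φ : K' ⊗[K] C →ₐ[K'] K' ⊗[K] A).restrictScalars K)
    (Ideal.map (Algebra.TensorProduct.includeRight : C →ₐ[K] K' ⊗[K] C) _)
  rw [Ideal.map_mapₐ, Ideal.map_mapₐ]
  congr 1

variable {A' C' : Type u} [CommRing A'] [HopfAlgebra K A'] [CommRing C'] [HopfAlgebra K C']

lemma ker_counit_equiv (e : C ≃ₐc[K] C') (c : C) :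
    c ∈ RingHom.ker (Bialgebra.counitAlgHom K C) ↔
      e c ∈ RingHom.ker (Bialgebra.counitAlgHom K C') := by
  rw [RingHom.mem_ker, RingHom.mem_ker, Bialgebra.counitAlgHom_apply, Bialgebra.counitAlgHom_apply]
  have : Coalgebra.counit (R := K) (e c) = Coalgebra.counit (R := K) c :=
    CoalgHomClass.counit_comp_apply e c
  rw [this]

lemma IsKer.of_equiv (εA : A ≃ₐc[K] A') (εC : C ≃ₐc[K] C') {φ : C →ₐc[K] A} {π : A →ₐc[K] B}
    (h : IsKer φ π) :
    IsKer (((εA : A →ₐc[K] A').comp φ).comp (εC.symm : C' →ₐc[K] C))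
      (π.comp (εA.symm : A' →ₐc[K] A)) := by
  refine ⟨h.1.comp εA.symm.surjective, ?_⟩
  set ψ : C' →ₐc[K] A' := ((εA : A →ₐc[K] A').comp φ).comp (εC.symm : C' →ₐc[K] C) with hψ
  have hψa : ∀ c', ψ c' = εA (φ (εC.symm c')) := fun _ => rfl
  apply le_antisymm
  · intro x hx
    have h1 : εA.symm x ∈ RingHom.ker (π : A →ₐ[K] B) := hx
    rw [h.2] at h1
    -- transport by `εA`
    have h2 : Ideal.map (φ : C →ₐ[K] A) (RingHom.ker (Bialgebra.counitAlgHom K C)) ≤
        Ideal.comap ((εA : A →ₐc[K] A') : A →ₐ[K] A')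
          (Ideal.map (ψ : C' →ₐ[K] A') (RingHom.ker (Bialgebra.counitAlgHom K C'))) := by
      rw [Ideal.map_le_iff_le_comap]
      intro c hc
      rw [Ideal.mem_comap, Ideal.mem_comap]
      have h3 : ((εA : A →ₐc[K] A') : A →ₐ[K] A') ((φ : C →ₐ[K] A) c) = (ψ : C' →ₐ[K] A') (εC c) := by
        show εA (φ c) = ψ (εC c)
        rw [hψa]
        congr 2
        exact (εC.symm_apply_apply c).symm
      rw [h3]
      exact Ideal.mem_map_of_mem _ ((ker_counit_equiv εC c).mp hc)
    have h4 := h2 h1
    rw [Ideal.mem_comap] at h4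
    have h5 : ((εA : A →ₐc[K] A') : A →ₐ[K] A') (εA.symm x) = x := εA.apply_symm_apply x
    rwa [h5] at h4
  · rw [Ideal.map_le_iff_le_comap]
    intro c' hc'
    rw [Ideal.mem_comap, RingHom.mem_ker]
    show π (εA.symm (ψ c')) = 0
    rw [hψa]
    have h1 : εA.symm (εA (φ (εC.symm c'))) = φ (εC.symm c') := εA.symm_apply_apply _
    rw [h1]
    have h2 : φ (εC.symm c') ∈ RingHom.ker (π : A →ₐ[K] B) := by
      rw [h.2]
      apply Ideal.mem_map_of_mem
      exact (ker_counit_equiv εC.symm c').mp hc'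
    exact h2

end IsKerSec

section StageA

variable {K : Type u} [CommRing K] {M N : Type u} [CommGroup M] [CommGroup N]
  {B : Type u} [CommRing B] [HopfAlgebra K B]

open MonoidAlgebra

theorem ker_eq_span_of_isKer (ψ : MonoidAlgebra K N →ₐc[K] MonoidAlgebra K M)
    (ρ : MonoidAlgebra K M →ₐc[K] B) (h : IsKer ψ ρ) (S : Set N)
    (hS : Subgroup.closure S = ⊤) :
    RingHom.ker (ρ : MonoidAlgebra K M →ₐ[K] B) =
      Ideal.span ((fun n => ψ (single n (1 : K)) - 1) '' S) := by
  rw [h.2, ker_counit_monoidAlgebra K N S hS]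
  unfold subOneIdeal
  rw [Ideal.map_span, Set.image_image]
  congr 2
  funext n
  show ψ (single n (1 : K) - 1) = _
  rw [map_sub, map_one]

end StageA

section StageB

variable {K : Type u} [CommRing K] {M : Type u} [CommGroup M]
  {B : Type u} [CommRing B] [HopfAlgebra K B]
  (L : Type u) [CommRing L] [Algebra K L]

open MonoidAlgebra

lemma monoidAlgebraBC_one_tmul (w : MonoidAlgebra K M) :
    monoidAlgebraBC K L M ((1 : L) ⊗ₜ[K] w) = MonoidAlgebra.mapRingHom M (algebraMap K L) w := by
  induction w using MonoidAlgebra.induction_linear with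
  | zero => simp
  | add x y hx hy => rw [TensorProduct.tmul_add, map_add, map_add, hx, hy]
  | single m r =>
    rw [monoidAlgebraBC_tmul_single, MonoidAlgebra.mapRingHom_single, Algebra.smul_def, mul_one]

theorem isDiagOf_of_coeff [DecidableEq M] {ι₀ : Type*} (w : ι₀ → MonoidAlgebra K M)
    (ρ : MonoidAlgebra K M →ₐc[K] B) (hρ : Function.Surjective ρ)
    (hker : RingHom.ker (ρ : MonoidAlgebra K M →ₐ[K] B) =
      Ideal.span (Set.range fun i => w i - 1))
    (σ : ι₀ → M)
    (hσ : ∀ i m, algebraMap K L ((w i).coeff m) = if m = σ i then 1 else 0) :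
    IsDiagOf (M ⧸ Subgroup.closure (Set.range σ)) L (L ⊗[K] B) := by
  -- the image of `w i` in `L[M]`
  have hw : ∀ i, monoidAlgebraBC K L M ((1 : L) ⊗ₜ[K] w i) = single (σ i) 1 := by
    intro i
    rw [monoidAlgebraBC_one_tmul]
    apply MonoidAlgebra.ext
    apply Finsupp.ext
    intro m
    rw [MonoidAlgebra.coeff_mapRingHom, MonoidAlgebra.coeff_single, Finsupp.single_apply]
    show algebraMap K L ((w i).coeff m) = _
    rw [hσ i m]
    by_cases h : m = σ i
    · rw [if_pos h, if_pos h.symm]
    · rw [if_neg h, if_neg (fun h' => h h'.symm)]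
  let ρL : L ⊗[K] MonoidAlgebra K M →ₐc[L] L ⊗[K] B := bcHom K L ρ
  have hρL : Function.Surjective ρL := bcHom_surjective K L ρ hρ
  have hkerL : RingHom.ker (ρL : L ⊗[K] MonoidAlgebra K M →ₐ[L] L ⊗[K] B) =
      Ideal.map (Algebra.TensorProduct.includeRight : MonoidAlgebra K M →ₐ[K] L ⊗[K] MonoidAlgebra K M)
        (Ideal.span (Set.range fun i => w i - 1)) := by
    rw [← hker]
    exact ker_bcHom K L ρ hρ
  let ρ' : MonoidAlgebra L M →ₐc[L] L ⊗[K] B :=
    ρL.comp ((monoidAlgebraBC K L M).symm : MonoidAlgebra L M →ₐc[L] L ⊗[K] MonoidAlgebra K M)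
  have hρ' : Function.Surjective ρ' := hρL.comp (monoidAlgebraBC K L M).symm.surjective
  have hρ'a : ∀ x, ρ' x = ρL ((monoidAlgebraBC K L M).symm x) := fun _ => rfl
  have hker' : RingHom.ker (ρ' : MonoidAlgebra L M →ₐ[L] L ⊗[K] B) =
      subOneIdeal L M (Set.range σ) := by
    apply le_antisymm
    · intro x hx
      have h1 : (monoidAlgebraBC K L M).symm x ∈
          RingHom.ker (ρL : L ⊗[K] MonoidAlgebra K M →ₐ[L] L ⊗[K] B) := hx
      rw [hkerL] at h1
      have h2 : Ideal.map (Algebra.TensorProduct.includeRight :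
          MonoidAlgebra K M →ₐ[K] L ⊗[K] MonoidAlgebra K M)
          (Ideal.span (Set.range fun i => w i - 1)) ≤
          Ideal.comap (((monoidAlgebraBC K L M : L ⊗[K] MonoidAlgebra K M →ₐc[L] MonoidAlgebra L M) :
            L ⊗[K] MonoidAlgebra K M →ₐ[L] MonoidAlgebra L M))
            (subOneIdeal L M (Set.range σ)) := by
        rw [Ideal.map_le_iff_le_comap, Ideal.span_le]
        rintro _ ⟨i, rfl⟩
        rw [SetLike.mem_coe, Ideal.mem_comap, Ideal.mem_comap]
        show monoidAlgebraBC K L M ((1 : L) ⊗ₜ[K] (w i - 1)) ∈ _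
        rw [TensorProduct.tmul_sub, map_sub, hw, ← Algebra.TensorProduct.one_def, map_one]
        exact Ideal.subset_span ⟨σ i, ⟨i, rfl⟩, rfl⟩
      have h3 := h2 h1
      rw [Ideal.mem_comap] at h3
      have h4 : ((monoidAlgebraBC K L M : L ⊗[K] MonoidAlgebra K M →ₐc[L] MonoidAlgebra L M) :
          L ⊗[K] MonoidAlgebra K M →ₐ[L] MonoidAlgebra L M) ((monoidAlgebraBC K L M).symm x) = x :=
        (monoidAlgebraBC K L M).apply_symm_apply x
      rwa [h4] at h3
    · unfold subOneIdeal
      rw [Ideal.span_le]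
      rintro _ ⟨_, ⟨i, rfl⟩, rfl⟩
      rw [SetLike.mem_coe, RingHom.mem_ker]
      show ρ' (single (σ i) (1 : L) - 1) = 0
      rw [hρ'a]
      have h1 : (monoidAlgebraBC K L M).symm (single (σ i) (1 : L) - 1) =
          (1 : L) ⊗ₜ[K] (w i - 1) := by
        have h2 : monoidAlgebraBC K L M ((1 : L) ⊗ₜ[K] (w i - 1)) = single (σ i) (1 : L) - 1 := by
          rw [TensorProduct.tmul_sub, map_sub, hw, ← Algebra.TensorProduct.one_def, map_one]
        rw [← h2]
        exact (monoidAlgebraBC K L M).symm_apply_apply _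
      rw [h1]
      show bcHom K L ρ ((1 : L) ⊗ₜ[K] (w i - 1)) = 0
      rw [bcHom_tmul]
      have h3 : w i - 1 ∈ RingHom.ker (ρ : MonoidAlgebra K M →ₐ[K] B) := by
        rw [hker]
        exact Ideal.subset_span ⟨i, rfl⟩
      have h4 : ρ (w i - 1) = 0 := h3
      rw [h4, TensorProduct.tmul_zero]
  obtain ⟨E⟩ := nonempty_bialgEquiv_of_surjective_of_ker_eq ρ'
    (MonoidAlgebra.mapDomainBialgHom L (QuotientGroup.mk' (Subgroup.closure (Set.range σ))))
    hρ' (mapDomain_mk_surjective L M _) (hker'.trans (ker_mapDomain_mk L M (Set.range σ)).symm)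
  exact ⟨E⟩

end StageB

section BijLoc

variable {K : Type u} [CommRing K] (T : Type u) [CommRing T] [Algebra K T]
  {X : Type u} [CommRing X] [HopfAlgebra K X] {Q : Type u} [CommGroup Q]

/-- a map `K[Q] → X` which a chart of `T ⊗ X` identifies with the identity is bijective after
base change to `T`. -/
theorem bcHom_bijective_of_chart (θ : MonoidAlgebra K Q →ₐc[K] X)
    (ε : T ⊗[K] X ≃ₐc[T] MonoidAlgebra T Q)
    (h : ∀ q, ε ((1 : T) ⊗ₜ[K] θ (MonoidAlgebra.single q 1)) = MonoidAlgebra.single q 1) :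
    Function.Bijective (bcHom K T θ) := by
  have key1 : ∀ p : MonoidAlgebra K Q, ε (bcHom K T θ ((1 : T) ⊗ₜ[K] p)) =
      monoidAlgebraBC K T Q ((1 : T) ⊗ₜ[K] p) := by
    intro p
    induction p using MonoidAlgebra.induction_on with
    | of m =>
      rw [MonoidAlgebra.of_apply, bcHom_tmul, h, monoidAlgebraBC_tmul_single, one_smul]
    | add p q hp hq =>
      rw [TensorProduct.tmul_add, map_add, map_add, map_add, hp, hq]
    | smul r p hp =>
      have hr : (1 : T) ⊗ₜ[K] (r • p) = (algebraMap K T r) • ((1 : T) ⊗ₜ[K] p) := by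
        rw [TensorProduct.smul_tmul', smul_eq_mul, mul_one, Algebra.algebraMap_eq_smul_one,
          TensorProduct.smul_tmul]
      rw [hr, map_smul, map_smul, map_smul, hp]
  have key : ∀ w, ε (bcHom K T θ w) = monoidAlgebraBC K T Q w := by
    intro w
    induction w using TensorProduct.induction_on with
    | zero => simp
    | tmul k p =>
      have hk : k ⊗ₜ[K] p = k • ((1 : T) ⊗ₜ[K] p) := by
        rw [TensorProduct.smul_tmul', smul_eq_mul, mul_one]
      rw [hk, map_smul, map_smul, map_smul, key1]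
    | add x y hx hy => rw [map_add, map_add, map_add, hx, hy]
  have h1 : (bcHom K T θ : T ⊗[K] MonoidAlgebra K Q → T ⊗[K] X) =
      ε.symm ∘ (monoidAlgebraBC K T Q) := by
    funext w
    rw [Function.comp_apply, ← key w]
    exact (ε.symm_apply_apply _).symm
  rw [h1]
  exact ε.symm.bijective.comp (monoidAlgebraBC K T Q).bijective

end BijLoc

section DomIso

variable {Ω : Type u} [CommRing Ω] [IsDomain Ω] {Q Q' : Type u} [CommGroup Q] [CommGroup Q']

theorem nonempty_mulEquiv_of_bialgEquiv (E : MonoidAlgebra Ω Q ≃ₐc[Ω] MonoidAlgebra Ω Q') :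
    Nonempty (Q ≃* Q') := by
  let f : Q →* Q' := MonoidAlgebra.mapDomainOfBialgHom (E : MonoidAlgebra Ω Q →ₐc[Ω] MonoidAlgebra Ω Q')
  let g : Q' →* Q :=
    MonoidAlgebra.mapDomainOfBialgHom (E.symm : MonoidAlgebra Ω Q' →ₐc[Ω] MonoidAlgebra Ω Q)
  have h1 : g.comp f = MonoidHom.id Q := by
    rw [← MonoidAlgebra.mapDomainOfBialgHom_comp, ← MonoidAlgebra.mapDomainOfBialgHom_id (R := Ω)]
    congr 1
    refine DFunLike.ext _ _ (fun x => ?_)
    exact E.symm_apply_apply x
  have h2 : f.comp g = MonoidHom.id Q' := by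
    rw [← MonoidAlgebra.mapDomainOfBialgHom_comp, ← MonoidAlgebra.mapDomainOfBialgHom_id (R := Ω)]
    congr 1
    refine DFunLike.ext _ _ (fun x => ?_)
    exact E.apply_symm_apply x
  exact ⟨{ toFun := f, invFun := g,
           left_inv := fun x => DFunLike.congr_fun h1 x,
           right_inv := fun x => DFunLike.congr_fun h2 x,
           map_mul' := f.map_mul }⟩

end DomIso

section Idem

variable {L : Type u} [CommRing L]

lemma algebraMap_away_idem {e : L} (he : IsIdempotentElem e) :
    algebraMap L (Localization.Away e) e = 1 := by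
  have h1 : IsUnit (algebraMap L (Localization.Away e) e) :=
    IsLocalization.Away.algebraMap_isUnit e
  have h2 : algebraMap L (Localization.Away e) e * algebraMap L (Localization.Away e) e =
      algebraMap L (Localization.Away e) e := by
    rw [← map_mul, he.eq]
  exact (IsUnit.mul_eq_left h1).mp h2

end Idem

section COI

variable {L : Type u} [CommRing L] {X : Type u} [CommRing X] [HopfAlgebra L X]
  {ι : Type*} [Fintype ι] (e : ι → L) (he : CompleteOrthogonalIdempotents e)
  (Q : Type u) [CommGroup Q]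

include he in
/-- a Hopf algebra which is diagonalisable of type `Q` over each piece of a finite partition of
the base into open and closed subsets is diagonalisable of type `Q`. -/
theorem isDiagOf_of_coi
    (h : ∀ i, IsDiagOf Q (Localization.Away (e i)) (Localization.Away (e i) ⊗[L] X)) :
    IsDiagOf Q L X := by
  classical
  have ε : ∀ i, Localization.Away (e i) ⊗[L] X ≃ₐc[Localization.Away (e i)]
      MonoidAlgebra (Localization.Away (e i)) Q := fun i => Classical.choice (h i)
  have hone : ∀ i, algebraMap L (Localization.Away (e i)) (e i) = 1 :=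
    fun i => algebraMap_away_idem (he.idem i)
  have hzero : ∀ i j, j ≠ i → algebraMap L (Localization.Away (e i)) (e j) = 0 := by
    intro i j hji
    have : algebraMap L (Localization.Away (e i)) (e j) =
        algebraMap L (Localization.Away (e i)) (e j) * algebraMap L (Localization.Away (e i)) (e i) := by
      rw [hone, mul_one]
    rw [this, ← map_mul, he.ortho hji, map_zero]
  have hspan : Ideal.span (Set.range e) = ⊤ := by
    rw [Ideal.eq_top_iff_one, ← he.complete]
    exact Ideal.sum_mem _ (fun i _ => Ideal.subset_span ⟨i, rfl⟩)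
  -- group-like elements in the charts
  have hg : ∀ i (q : Q), IsGroupLikeElem (Localization.Away (e i))
      ((ε i).symm (MonoidAlgebra.single q 1)) :=
    fun i q => (MonoidAlgebra.isGroupLikeElem_single_one q).map (ε i).symm
  have hx : ∀ i (q : Q), ∃ x : X,
      (1 : Localization.Away (e i)) ⊗ₜ[L] x = (ε i).symm (MonoidAlgebra.single q 1) := by
    intro i q
    obtain ⟨⟨x, ⟨_, n, rfl⟩⟩, hx⟩ := IsLocalizedModule.surj (Submonoid.powers (e i))
      (TensorProduct.mk L (Localization.Away (e i)) X 1) ((ε i).symm (MonoidAlgebra.single q 1))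
    refine ⟨x, ?_⟩
    have h1 : (e i) ^ n • (ε i).symm (MonoidAlgebra.single q (1 : Localization.Away (e i))) =
        (1 : Localization.Away (e i)) ⊗ₜ[L] x := hx
    rw [← h1, ← algebraMap_smul (Localization.Away (e i)) ((e i) ^ n), map_pow, hone, one_pow,
      one_smul]
  choose x hx using hx
  let u : Q → X := fun q => ∑ j, e j • x j q
  have key : ∀ i q, (1 : Localization.Away (e i)) ⊗ₜ[L] u q =
      (ε i).symm (MonoidAlgebra.single q 1) := by
    intro i q
    show (1 : Localization.Away (e i)) ⊗ₜ[L] (∑ j, e j • x j q) = _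
    rw [TensorProduct.tmul_sum, Finset.sum_eq_single i]
    · rw [TensorProduct.tmul_smul, ← algebraMap_smul (Localization.Away (e i)) (e i), hone, one_smul,
        hx]
    · intro j _ hji
      rw [TensorProduct.tmul_smul, ← algebraMap_smul (Localization.Away (e i)) (e j),
        hzero i j hji, zero_smul]
    · intro h; exact absurd (Finset.mem_univ i) h
  have hu : ∀ q, IsGroupLikeElem L (u q) := by
    intro q
    apply isGroupLikeElem_of_forall_one_tmul (Set.range e) hspan
    rintro _ ⟨i, rfl⟩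
    rw [key]
    exact hg i q
  have hmul : ∀ q q', u (q * q') = u q * u q' := by
    intro q q'
    rw [← sub_eq_zero]
    apply eq_zero_of_forall_one_tmul_eq_zero (Set.range e) hspan
    rintro _ ⟨i, rfl⟩
    have h1 : (1 : Localization.Away (e i)) ⊗ₜ[L] (u q * u q') =
        ((1 : Localization.Away (e i)) ⊗ₜ[L] u q) * ((1 : Localization.Away (e i)) ⊗ₜ[L] u q') := by
      rw [Algebra.TensorProduct.tmul_mul_tmul, one_mul]
    rw [TensorProduct.tmul_sub, h1, key, key, key, ← map_mul, MonoidAlgebra.single_mul_single,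
      one_mul, sub_self]
  have hone' : u 1 = 1 := by
    rw [← sub_eq_zero]
    apply eq_zero_of_forall_one_tmul_eq_zero (Set.range e) hspan
    rintro _ ⟨i, rfl⟩
    rw [TensorProduct.tmul_sub, key, ← MonoidAlgebra.one_def, map_one,
      Algebra.TensorProduct.one_def, sub_self]
  let uG : Q →* GroupLike L X :=
    { toFun := fun q => ⟨u q, hu q⟩
      map_one' := GroupLike.ext hone'
      map_mul' := fun q q' => GroupLike.ext (hmul q q') }
  let θ : MonoidAlgebra L Q →ₐc[L] X :=
    (MonoidAlgebra.liftGroupLikeBialgHom (R := L) (A := X)).comp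
      (MonoidAlgebra.mapDomainBialgHom L uG)
  have hθ : ∀ q, θ (MonoidAlgebra.single q 1) = u q := by
    intro q
    simp [θ, uG]
  have hloc : ∀ f ∈ Set.range e, Function.Bijective (bcHom L (Localization.Away f) θ) := by
    rintro _ ⟨i, rfl⟩
    apply bcHom_bijective_of_chart (Localization.Away (e i)) θ (ε i)
    intro q
    rw [hθ, key]
    exact (ε i).apply_symm_apply _
  have hbij : Function.Bijective θ :=
    ⟨injective_of_localizations L θ (Set.range e) hspan (fun f hf => (hloc f hf).1),
      surjective_of_localizations L θ (Set.range e) hspan (fun f hf => (hloc f hf).2)⟩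
  exact ⟨(BialgEquiv.ofBijective θ hbij).symm⟩

end COI

section TwoPrimes

variable {k K : Type u} [CommRing k] [CommRing K] [Algebra k K]

/-- two primes over the same prime are dominated by a common domain. -/
theorem exists_domain_of_comap_eq (q q' : Ideal K) [q.IsPrime] [q'.IsPrime]
    (h : q.comap (algebraMap k K) = q'.comap (algebraMap k K)) :
    ∃ (Ω : Type u) (_ : CommRing Ω) (_ : IsDomain Ω) (_ : Algebra k Ω) (j j' : K →ₐ[k] Ω),
      (∀ x ∈ q, j x = 0) ∧ (∀ x ∈ q', j' x = 0) := by
  let p : Ideal k := q.comap (algebraMap k K)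
  have : p.IsPrime := Ideal.IsPrime.comap _
  have : q.LiesOver p := ⟨rfl⟩
  have : q'.LiesOver p := ⟨h⟩
  let T := (K ⧸ q) ⊗[k ⧸ p] (K ⧸ q')
  have : Nontrivial T :=
    Algebra.TensorProduct.nontrivial_of_algebraMap_injective_of_isDomain (k ⧸ p) (K ⧸ q) (K ⧸ q')
      (FaithfulSMul.algebraMap_injective _ _) (FaithfulSMul.algebraMap_injective _ _)
  obtain ⟨m, hm⟩ := Ideal.exists_maximal T
  have : m.IsPrime := hm.isPrime
  let i₁ : (K ⧸ q) →ₐ[k] T := (Algebra.TensorProduct.includeLeft : (K ⧸ q) →ₐ[k ⧸ p] T).restrictScalars k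
  let i₂ : (K ⧸ q') →ₐ[k] T := (Algebra.TensorProduct.includeRight : (K ⧸ q') →ₐ[k ⧸ p] T).restrictScalars k
  refine ⟨T ⧸ m, inferInstance, inferInstance, inferInstance,
    (Ideal.Quotient.mkₐ k m).comp (i₁.comp (Ideal.Quotient.mkₐ k q)),
    (Ideal.Quotient.mkₐ k m).comp (i₂.comp (Ideal.Quotient.mkₐ k q')), ?_, ?_⟩
  · intro x hx
    show Ideal.Quotient.mkₐ k m (i₁ (Ideal.Quotient.mk q x)) = 0
    rw [Ideal.Quotient.eq_zero_iff_mem.mpr hx, map_zero, map_zero]
  · intro x hx
    show Ideal.Quotient.mkₐ k m (i₂ (Ideal.Quotient.mk q' x)) = 0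
    rw [Ideal.Quotient.eq_zero_iff_mem.mpr hx, map_zero, map_zero]

end TwoPrimes

section Partition

variable {K : Type u} [CommRing K] {M : Type u} [CommGroup M] [DecidableEq M]
  {ι₀ : Type u} [Fintype ι₀] [DecidableEq ι₀]
  (w : ι₀ → MonoidAlgebra K M)

/-- the index set of the partition. -/
noncomputable def Sig : Finset (ι₀ → M) := Fintype.piFinset (fun i => (w i).coeff.support)

/-- the idempotent attached to `σ`. -/
noncomputable def eSig (σ : ι₀ → M) : K := ∏ i, (w i).coeff (σ i)

variable (hw : ∀ i, IsGroupLikeElem K (w i))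
include hw

open Groth.Agent.Lib.Helper77.DiagSub

lemma eSig_idem (σ : ι₀ → M) : IsIdempotentElem (eSig w σ) := by
  unfold eSig IsIdempotentElem
  rw [← Finset.prod_mul_distrib]
  exact Finset.prod_congr rfl (fun i _ => (isIdempotentElem_coeff_of_isGroupLikeElem (hw i) _).eq)

lemma eSig_ortho {σ τ : ι₀ → M} (h : σ ≠ τ) : eSig w σ * eSig w τ = 0 := by
  unfold eSig
  rw [← Finset.prod_mul_distrib]
  obtain ⟨i, hi⟩ := Function.ne_iff.mp h
  apply Finset.prod_eq_zero (Finset.mem_univ i)
  rw [coeff_mul_coeff_of_isGroupLikeElem (hw i), if_neg hi]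

lemma sum_eSig : ∑ σ ∈ Sig w, eSig w σ = 1 := by
  unfold Sig eSig
  rw [← Finset.prod_univ_sum]
  apply Finset.prod_eq_one
  intro i _
  rw [← counit_eq_sum_coeff, (hw i).counit_eq_one]

lemma coi_eSig : CompleteOrthogonalIdempotents (fun σ : ↥(Sig w) => eSig w σ.1) := by
  refine ⟨⟨fun σ => eSig_idem w hw σ.1, ?_⟩, ?_⟩
  · intro σ τ hστ
    exact eSig_ortho w hw (fun h => hστ (Subtype.ext h))
  · rw [Finset.sum_coe_sort (Sig w) (fun σ => eSig w σ)]
    exact sum_eSig w hw

/-- when `e_σ` becomes `1`, the images of the `w i` become the characters `σ i`. -/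
lemma coeff_map_of_eSig_eq_one (L : Type u) [CommRing L] [Algebra K L] (σ : ι₀ → M)
    (h : algebraMap K L (eSig w σ) = 1) :
    ∀ i m, algebraMap K L ((w i).coeff m) = if m = σ i then 1 else 0 := by
  have h1 : ∀ i, algebraMap K L ((w i).coeff (σ i)) = 1 := by
    intro i
    unfold eSig at h
    rw [map_prod, ← Finset.mul_prod_erase Finset.univ _ (Finset.mem_univ i)] at h
    have hid : algebraMap K L ((w i).coeff (σ i)) * algebraMap K L ((w i).coeff (σ i)) =
        algebraMap K L ((w i).coeff (σ i)) := by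
      rw [← map_mul, (isIdempotentElem_coeff_of_isGroupLikeElem (hw i) _).eq]
    calc algebraMap K L ((w i).coeff (σ i))
        = algebraMap K L ((w i).coeff (σ i)) * (algebraMap K L ((w i).coeff (σ i)) *
            ∏ x ∈ Finset.univ.erase i, algebraMap K L ((w x).coeff (σ x))) := by rw [h, mul_one]
      _ = 1 := by rw [← mul_assoc, hid, h]
  intro i m
  by_cases hm : m = σ i
  · rw [if_pos hm, hm, h1]
  · rw [if_neg hm]
    calc algebraMap K L ((w i).coeff m)
        = algebraMap K L ((w i).coeff m) * algebraMap K L ((w i).coeff (σ i)) := by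
          rw [h1, mul_one]
      _ = 0 := by
          rw [← map_mul, coeff_mul_coeff_of_isGroupLikeElem (hw i), if_neg hm, map_zero]

end Partition

end Groth.Agent.Lib.Helper77.MultKer
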