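import Mathlib
import Groth.Agent.Lib.Helper77.DefRigid3
import Groth.Agent.Lib.Helper77.MultKer
import Groth.Agent.Lib.Helper77.IsoTriv6

/-!
# Deformation rigidity IV: a flat affine group which is diagonalisable modulo a nilpotent ideal is diagonalisable (helper77)
-/

set_option autoImplicit false
universe u
open TensorProduct WithConv

namespace Groth.Agent.Lib.Helper77.DefRigid

open SGA3b Groth.Agent.Lib.Helper77.MultMono Groth.Agent.Lib.Helper77.MultBC
  Groth.Agent.Lib.Helper77.GLLift Groth.Agent.Lib.Helper77.DiagNil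
  Groth.Agent.Lib.Helper77.MultKer

section Quot

variable {K : Type u} [CommRing K] (𝔞 : Ideal K)

lemma one_tmul_eq_zero_iff' {X : Type u} [AddCommGroup X] [Module K X] (x : X) :
    (1 : K ⧸ 𝔞) ⊗ₜ[K] x = 0 ↔ x ∈ 𝔞 • (⊤ : Submodule K X) := by
  rw [← (TensorProduct.quotTensorEquivQuotSMul X 𝔞).map_eq_zero_iff,
    TensorProduct.quotTensorEquivQuotSMul_mk_one_tmul, Submodule.Quotient.mk_eq_zero]

variable (B : Type u) [CommRing B] [HopfAlgebra K B] (M : Type u) [CommGroup M]

/-- **Deformation rigidity of diagonalisable groups** (quotient form): a flat affine group whose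
reduction modulo a nilpotent ideal is diagonalisable of type `M` is diagonalisable of type `M`. -/
theorem isDiagOf_of_quot [Module.Flat K B] (h𝔞 : IsNilpotent 𝔞)
    (h0 : IsDiagOf M (K ⧸ 𝔞) ((K ⧸ 𝔞) ⊗[K] B)) : IsDiagOf M K B := by
  classical
  obtain ⟨ε⟩ := h0
  have hex : ∀ m : M, ∃ x : B, (1 : K ⧸ 𝔞) ⊗ₜ[K] x = ε.symm (MonoidAlgebra.single m 1) :=
    fun m => exists_one_tmul_eq 𝔞 _
  choose a ha using hex
  have hεa : ∀ m, ε ((1 : K ⧸ 𝔞) ⊗ₜ[K] a m) = MonoidAlgebra.single m 1 := by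
    intro m
    rw [ha]
    exact ε.apply_symm_apply _
  have hgl : ∀ m, IsGroupLikeElem (K ⧸ 𝔞) ((1 : K ⧸ 𝔞) ⊗ₜ[K] a m) := by
    intro m
    rw [ha]
    exact (MonoidAlgebra.isGroupLikeElem_single_one m).map ε.symm
  -- linear combinations
  have hlc : ∀ κ : M →₀ K, (ε ((1 : K ⧸ 𝔞) ⊗ₜ[K] Finsupp.linearCombination K a κ)).coeff =
      Finsupp.mapRange (Ideal.Quotient.mk 𝔞) (map_zero _) κ := by
    intro κ
    induction κ using Finsupp.induction_linear with
    | zero => simp
    | add f g hf hg =>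
      rw [map_add, TensorProduct.tmul_add, map_add, MonoidAlgebra.coeff_add, hf, hg,
        Finsupp.mapRange_add]
      intro x y; exact map_add _ x y
    | single m r =>
      rw [Finsupp.linearCombination_single, Finsupp.mapRange_single]
      have hr : (1 : K ⧸ 𝔞) ⊗ₜ[K] (r • a m) =
          (Ideal.Quotient.mk 𝔞 r) • ((1 : K ⧸ 𝔞) ⊗ₜ[K] a m) := by
        rw [TensorProduct.tmul_smul, TensorProduct.smul_tmul', TensorProduct.smul_tmul',
          smul_eq_mul, mul_one, Algebra.smul_def, mul_one]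
        rfl
      rw [hr, map_smul, hεa]
      rw [MonoidAlgebra.smul_single, smul_eq_mul, mul_one, MonoidAlgebra.coeff_single]
  have hzero : ∀ x : B, ε ((1 : K ⧸ 𝔞) ⊗ₜ[K] x) = 0 ↔ x ∈ 𝔞 • (⊤ : Submodule K B) := by
    intro x
    rw [EmbeddingLike.map_eq_zero_iff, one_tmul_eq_zero_iff']
  have hspan : ∀ x : B, ∃ κ : M →₀ K,
      x - Finsupp.linearCombination K a κ ∈ 𝔞 • (⊤ : Submodule K B) := by
    intro x
    obtain ⟨κ, hκ⟩ := Finsupp.mapRange_surjective (Ideal.Quotient.mk 𝔞) (map_zero _)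
      Ideal.Quotient.mk_surjective (ε ((1 : K ⧸ 𝔞) ⊗ₜ[K] x)).coeff
    refine ⟨κ, ?_⟩
    rw [← hzero, TensorProduct.tmul_sub, map_sub, sub_eq_zero, ← MonoidAlgebra.coeff_inj, hlc, hκ]
  have hind : ∀ κ : M →₀ K, Finsupp.linearCombination K a κ ∈ 𝔞 • (⊤ : Submodule K B) →
      ∀ i, κ i ∈ 𝔞 := by
    intro κ hκ i
    rw [← hzero, ← MonoidAlgebra.coeff_inj, hlc, MonoidAlgebra.coeff_zero] at hκ
    have := DFunLike.congr_fun hκ i
    rwa [Finsupp.mapRange_apply, Finsupp.zero_apply, Ideal.Quotient.eq_zero_iff_mem] at this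
  have hbij := linearCombination_bijective_of_flat_of_nilpotent 𝔞 h𝔞 a hspan hind
  let b : Module.Basis M K B :=
    Module.Basis.ofRepr (LinearEquiv.ofBijective (Finsupp.linearCombination K a) hbij).symm
  have hb : ∀ m, b m = a m := by
    intro m
    simp [b]
  have hmem : ∀ {Y : Type u} [CommRing Y] [Algebra K Y] (y : Y), y ∈ extI K 𝔞 Y →
      y ∈ 𝔞 • (⊤ : Submodule K Y) := by
    intro Y _ _ y hy
    rw [Ideal.smul_top_eq_map]
    exact hy
  obtain ⟨e⟩ := nonempty_bialgEquiv_of_approx 𝔞 b h𝔞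
    (fun p => by rw [hb]; exact hmem _ (GLMod.of_quot (hgl p)).2)
    (fun p => by rw [hb]; exact (GLMod.of_quot (hgl p)).1)
    (fun p q => by
      rw [hb, hb, hb, ← hzero, TensorProduct.tmul_sub, map_sub, sub_eq_zero]
      have h1 : (1 : K ⧸ 𝔞) ⊗ₜ[K] (a p * a q) =
          ((1 : K ⧸ 𝔞) ⊗ₜ[K] a p) * ((1 : K ⧸ 𝔞) ⊗ₜ[K] a q) := by
        rw [Algebra.TensorProduct.tmul_mul_tmul, one_mul]
      rw [h1, map_mul, hεa, hεa, hεa, MonoidAlgebra.single_mul_single, one_mul])
    (by
      rw [hb, ← hzero, TensorProduct.tmul_sub, map_sub, sub_eq_zero, hεa,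
        ← Algebra.TensorProduct.one_def, map_one, MonoidAlgebra.one_def])
  exact ⟨e⟩

end Quot

section Surj

variable (K : Type u) [CommRing K] (B : Type u) [CommRing B] [HopfAlgebra K B]
  (S : Type u) [CommRing S] [Algebra K S]

/-- deformation rigidity for a surjection with nilpotent kernel. -/
theorem isDiagOf_of_surjective_nilpotent [Module.Flat K B] {M : Type u} [CommGroup M]
    (hsurj : Function.Surjective (algebraMap K S))
    (hnil : IsNilpotent (RingHom.ker (algebraMap K S)))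
    (h0 : IsDiagOf M S (S ⊗[K] B)) : IsDiagOf M K B := by
  let e : (K ⧸ RingHom.ker (algebraMap K S)) ≃ₐ[K] S :=
    Ideal.quotientKerAlgEquivOfSurjective (f := Algebra.ofId K S) hsurj
  letI : Algebra S (K ⧸ RingHom.ker (algebraMap K S)) := e.symm.toAlgHom.toRingHom.toAlgebra
  haveI : IsScalarTower K S (K ⧸ RingHom.ker (algebraMap K S)) :=
    IsScalarTower.of_algebraMap_eq (fun x => (e.symm.commutes x).symm)
  have h1 : IsDiagOf M (K ⧸ RingHom.ker (algebraMap K S))
      ((K ⧸ RingHom.ker (algebraMap K S)) ⊗[K] B) :=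
    isDiagOf_tower S _ h0
  exact isDiagOf_of_quot _ B M hnil h1

theorem isDiag_of_surjective_nilpotent [Module.Flat K B]
    (hsurj : Function.Surjective (algebraMap K S))
    (hnil : IsNilpotent (RingHom.ker (algebraMap K S)))
    (h0 : IsDiag S (S ⊗[K] B)) : IsDiag K B := by
  obtain ⟨M, _, h⟩ := h0
  exact (isDiagOf_of_surjective_nilpotent K B S hsurj hnil (M := M) h).isDiag

end Surj

section Lift

variable {R : Type u} [CommRing R] (A : Type u) [CommRing A] [HopfAlgebra R A]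
  (R' : Type u) [CommRing R'] [Algebra R R'] (R₀' : Type u) [CommRing R₀'] [Algebra R R₀']

/-- diagonalisability of a flat group lifts along a surjection of base rings with nilpotent
kernel. -/
theorem isDiag_lift_of_flat [Module.Flat R A] (ψ : R' →ₐ[R] R₀') (hsurj : Function.Surjective ψ)
    (hnil : IsNilpotent (RingHom.ker ψ))
    (hd : IsDiag R₀' (R₀' ⊗[R] A)) : IsDiag R' (R' ⊗[R] A) := by
  letI : Algebra R' R₀' := ψ.toRingHom.toAlgebra
  haveI : IsScalarTower R R' R₀' := IsScalarTower.of_algebraMap_eq (fun x => (ψ.commutes x).symm)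
  have h0 : IsDiag R₀' (R₀' ⊗[R'] (R' ⊗[R] A)) := isDiag_of_equiv (cancelBC R R' R₀' A).symm hd
  exact isDiag_of_surjective_nilpotent R' (R' ⊗[R] A) R₀' hsurj hnil h0

end Lift

end Groth.Agent.Lib.Helper77.DefRigid
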