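import Mathlib
import Groth.Agent.Lib.Helper77.DefRigid4

set_option autoImplicit false
universe u
open TensorProduct WithConv

namespace Groth.Agent.Lib.Helper77.CompDiag

open SGA3b Groth.Agent.Lib.Helper77.MultMono Groth.Agent.Lib.Helper77.MultBC
  Groth.Agent.Lib.Helper77.GLLift Groth.Agent.Lib.Helper77.DiagNil
  Groth.Agent.Lib.Helper77.MultKer Groth.Agent.Lib.Helper77.DefRigid

section Basis

variable {K : Type u} [CommRing K] (𝔞 : Ideal K) {B : Type u} [CommRing B] [Bialgebra K B]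
variable {M : Type u} (b : Module.Basis M K B)

/-- a basis of group-like elements, multiplicative in the index, gives an isomorphism with the
monoid algebra, sending the basis to the standard basis. -/
theorem exists_bialgEquiv_of_basis [Monoid M] (cB : Module.Basis M K B)
    (hgl : ∀ m, IsGroupLikeElem K (cB m)) (hmul : ∀ p q, cB (p * q) = cB p * cB q)
    (hone : cB 1 = 1) :
    ∃ e : B ≃ₐc[K] MonoidAlgebra K M, ∀ m, e.symm (MonoidAlgebra.single m 1) = cB m := by
  let γ : M →* B := { toFun := cB, map_one' := hone, map_mul' := hmul }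
  let Φ₀ : MonoidAlgebra K M →ₐ[K] B := MonoidAlgebra.lift K B M γ
  have hΦ₀ : ∀ m, Φ₀ (MonoidAlgebra.single m 1) = cB m := by
    intro m
    simp [Φ₀, γ]
  let Φ : MonoidAlgebra K M →ₐc[K] B := BialgHom.ofAlgHom Φ₀
    (by
      ext m
      simp only [AlgHom.coe_comp, Function.comp_apply]
      rw [hΦ₀]
      simp [(hgl m).counit_eq_one])
    (by
      ext m
      simp only [AlgHom.coe_comp, Function.comp_apply,
        Bialgebra.comulAlgHom_apply, MonoidAlgebra.comul_single,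
        Algebra.TensorProduct.map_tmul, CommSemiring.comul_apply, TensorProduct.map_tmul]
      rw [MonoidAlgebra.lsingle_apply, hΦ₀, (hgl m).comul_eq_tmul_self])
  have hΦ : ∀ m, Φ (MonoidAlgebra.single m 1) = cB m := hΦ₀
  let b₁ := MonoidAlgebra.basis M K
  have hlin : (Φ : MonoidAlgebra K M →ₗ[K] B) = (b₁.equiv cB (Equiv.refl _)).toLinearMap := by
    apply b₁.ext
    intro m
    rw [LinearEquiv.coe_coe, Module.Basis.equiv_apply]
    simp only [b₁, MonoidAlgebra.basis_apply, Equiv.refl_apply]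
    exact hΦ m
  have hbij : Function.Bijective Φ := by
    have : (Φ : MonoidAlgebra K M → B) = (b₁.equiv cB (Equiv.refl _)) := by
      ext z
      exact congrArg (fun f => f z) hlin
    rw [this]
    exact (b₁.equiv cB (Equiv.refl _)).bijective
  refine ⟨(BialgEquiv.ofBijective Φ hbij).symm, fun m => ?_⟩
  exact hΦ m

/-- deformation rigidity, basis form, with control of the isomorphism. -/
theorem exists_bialgEquiv_of_approx [Monoid M] (h𝔞 : IsNilpotent 𝔞)
    (hΔ : ∀ p, Coalgebra.comul (R := K) (b p) - b p ⊗ₜ[K] b p ∈ 𝔞 • (⊤ : Submodule K (B ⊗[K] B)))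
    (hε : ∀ p, Coalgebra.counit (R := K) (b p) - 1 ∈ 𝔞)
    (hmul : ∀ p q, b p * b q - b (p * q) ∈ 𝔞 • (⊤ : Submodule K B))
    (hone : b 1 - 1 ∈ 𝔞 • (⊤ : Submodule K B)) :
    ∃ e : B ≃ₐc[K] MonoidAlgebra K M,
      ∀ m, e.symm (MonoidAlgebra.single m 1) - b m ∈ 𝔞 • (⊤ : Submodule K B) := by
  choose c hcgl hcb using exists_isGroupLikeElem_lift 𝔞 b h𝔞 hΔ hε
  have hbij := lift_basis_bijective 𝔞 b h𝔞 c hcb
  let cB : Module.Basis M K B :=
    Module.Basis.ofRepr (LinearEquiv.ofBijective (Finsupp.linearCombination K c) hbij).symm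
  have hcB : ∀ m, cB m = c m := by
    intro m
    simp [cB]
  have hgl : ∀ m, IsGroupLikeElem K (cB m) := fun m => by rw [hcB]; exact hcgl m
  have hmul' : ∀ p q, cB (p * q) = cB p * cB q := by
    intro p q
    symm
    apply eq_of_isGroupLikeElem_of_sub_mem 𝔞 h𝔞 cB hgl ((hgl p).mul (hgl q))
    rw [hcB, hcB, hcB]
    have h1 : c p * c q - c (p * q) = (c p - b p) * c q + (c q - b q) * b p +
        (b p * b q - b (p * q)) - (c (p * q) - b (p * q)) := by ring
    rw [h1]
    exact sub_mem (add_mem (add_mem (mul_mem_smul_top 𝔞 (hcb p) _) (mul_mem_smul_top 𝔞 (hcb q) _))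
      (hmul p q)) (hcb _)
  have hone' : cB 1 = 1 := by
    symm
    apply eq_of_isGroupLikeElem_of_sub_mem 𝔞 h𝔞 cB hgl IsGroupLikeElem.one
    rw [hcB]
    have h1 : (1 : B) - c 1 = -(c 1 - b 1) - (b 1 - 1) := by ring
    rw [h1]
    exact sub_mem (neg_mem (hcb 1)) hone
  obtain ⟨e, he⟩ := exists_bialgEquiv_of_basis cB hgl hmul' hone'
  exact ⟨e, fun m => by rw [he, hcB]; exact hcb m⟩

/-- uniqueness of the trivialisation modulo a nilpotent ideal. -/
theorem bialgEquiv_eq_of_nilpotent [Monoid M] (h𝔞 : IsNilpotent 𝔞)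
    (e e' : B ≃ₐc[K] MonoidAlgebra K M)
    (h : ∀ m, e.symm (MonoidAlgebra.single m 1) - e'.symm (MonoidAlgebra.single m 1) ∈
      𝔞 • (⊤ : Submodule K B)) : e = e' := by
  let cB : Module.Basis M K B := (MonoidAlgebra.basis M K).map
    (e'.symm : MonoidAlgebra K M ≃ₐc[K] B).toCoalgEquiv.toLinearEquiv
  have hcB : ∀ m, cB m = e'.symm (MonoidAlgebra.single m 1) := by
    intro m
    simp [cB, MonoidAlgebra.basis_apply]
    rfl
  have hgl : ∀ m, IsGroupLikeElem K (cB m) := by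
    intro m
    rw [hcB]
    exact (MonoidAlgebra.isGroupLikeElem_single_one m).map e'.symm
  have h1 : ∀ m, e.symm (MonoidAlgebra.single m 1) = e'.symm (MonoidAlgebra.single m 1) := by
    intro m
    rw [← hcB]
    apply eq_of_isGroupLikeElem_of_sub_mem 𝔞 h𝔞 cB hgl
      ((MonoidAlgebra.isGroupLikeElem_single_one m).map e.symm)
    rw [hcB]
    exact h m
  have h2 : e.symm = e'.symm := by
    apply BialgEquiv.ext
    intro x
    induction x using MonoidAlgebra.induction_on with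
    | of m => exact h1 m
    | add x y hx hy => rw [map_add, map_add, hx, hy]
    | smul r x hx => rw [map_smul, map_smul, hx]
  apply BialgEquiv.ext
  intro x
  exact DFunLike.congr_fun (congrArg BialgEquiv.symm h2) x

end Basis

section Quot

variable {K : Type u} [CommRing K] (𝔞 : Ideal K)
variable (B : Type u) [CommRing B] [HopfAlgebra K B] (M : Type u) [CommGroup M]

/-- deformation rigidity (quotient form) with control of the isomorphism. -/
theorem exists_bialgEquiv_of_quot [Module.Flat K B] (h𝔞 : IsNilpotent 𝔞)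
    (ε : (K ⧸ 𝔞) ⊗[K] B ≃ₐc[K ⧸ 𝔞] MonoidAlgebra (K ⧸ 𝔞) M) :
    ∃ e : B ≃ₐc[K] MonoidAlgebra K M, ∀ m,
      (1 : K ⧸ 𝔞) ⊗ₜ[K] e.symm (MonoidAlgebra.single m 1) = ε.symm (MonoidAlgebra.single m 1) := by
  classical
  have hex : ∀ m : M, ∃ x : B, (1 : K ⧸ 𝔞) ⊗ₜ[K] x = ε.symm (MonoidAlgebra.single m 1) :=
    fun m => exists_one_tmul_eq 𝔞 _
  choose a ha using hex
  have hεa : ∀ m, ε ((1 : K ⧸ 𝔞) ⊗ₜ[K] a m) = MonoidAlgebra.single m 1 := by
    intro m
    rw [ha]
    exact ε.apply_symm_apply _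
  have hgl : ∀ m, IsGroupLikeElem (K ⧸ 𝔞) ((1 : K ⧸ 𝔞) ⊗ₜ[K] a m) := by
    intro m
    rw [ha]
    exact (MonoidAlgebra.isGroupLikeElem_single_one m).map ε.symm
  -- linear combinations
  have hlc : ∀ κ : M →₀ K, (ε ((1 : K ⧸ 𝔞) ⊗ₜ[K] Finsupp.linearCombination K a κ)).coeff =
      Finsupp.mapRange (Ideal.Quotient.mk 𝔞) (map_zero _) κ := by
    intro κ
    induction κ using Finsupp.induction_linear with
    | zero => simp
    | add f g hf hg =>
      rw [map_add, TensorProduct.tmul_add, map_add, MonoidAlgebra.coeff_add, hf, hg,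
        Finsupp.mapRange_add]
      intro x y; exact map_add _ x y
    | single m r =>
      rw [Finsupp.linearCombination_single, Finsupp.mapRange_single]
      have hr : (1 : K ⧸ 𝔞) ⊗ₜ[K] (r • a m) =
          (Ideal.Quotient.mk 𝔞 r) • ((1 : K ⧸ 𝔞) ⊗ₜ[K] a m) := by
        rw [TensorProduct.tmul_smul, TensorProduct.smul_tmul', TensorProduct.smul_tmul',
          smul_eq_mul, mul_one, Algebra.smul_def, mul_one]
        rfl
      rw [hr, map_smul, hεa]
      rw [MonoidAlgebra.smul_single, smul_eq_mul, mul_one, MonoidAlgebra.coeff_single]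
  have hzero : ∀ x : B, ε ((1 : K ⧸ 𝔞) ⊗ₜ[K] x) = 0 ↔ x ∈ 𝔞 • (⊤ : Submodule K B) := by
    intro x
    rw [EmbeddingLike.map_eq_zero_iff, one_tmul_eq_zero_iff']
  have hspan : ∀ x : B, ∃ κ : M →₀ K,
      x - Finsupp.linearCombination K a κ ∈ 𝔞 • (⊤ : Submodule K B) := by
    intro x
    obtain ⟨κ, hκ⟩ := Finsupp.mapRange_surjective (Ideal.Quotient.mk 𝔞) (map_zero _)
      Ideal.Quotient.mk_surjective (ε ((1 : K ⧸ 𝔞) ⊗ₜ[K] x)).coeff
    refine ⟨κ, ?_⟩
    rw [← hzero, TensorProduct.tmul_sub, map_sub, sub_eq_zero, ← MonoidAlgebra.coeff_inj, hlc, hκ]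
  have hind : ∀ κ : M →₀ K, Finsupp.linearCombination K a κ ∈ 𝔞 • (⊤ : Submodule K B) →
      ∀ i, κ i ∈ 𝔞 := by
    intro κ hκ i
    rw [← hzero, ← MonoidAlgebra.coeff_inj, hlc, MonoidAlgebra.coeff_zero] at hκ
    have := DFunLike.congr_fun hκ i
    rwa [Finsupp.mapRange_apply, Finsupp.zero_apply, Ideal.Quotient.eq_zero_iff_mem] at this
  have hbij := linearCombination_bijective_of_flat_of_nilpotent 𝔞 h𝔞 a hspan hind
  let b : Module.Basis M K B :=
    Module.Basis.ofRepr (LinearEquiv.ofBijective (Finsupp.linearCombination K a) hbij).symm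
  have hb : ∀ m, b m = a m := by
    intro m
    simp [b]
  have hmem : ∀ {Y : Type u} [CommRing Y] [Algebra K Y] (y : Y), y ∈ extI K 𝔞 Y →
      y ∈ 𝔞 • (⊤ : Submodule K Y) := by
    intro Y _ _ y hy
    rw [Ideal.smul_top_eq_map]
    exact hy
  obtain ⟨e, he⟩ := exists_bialgEquiv_of_approx 𝔞 b h𝔞
    (fun p => by rw [hb]; exact hmem _ (GLMod.of_quot (hgl p)).2)
    (fun p => by rw [hb]; exact (GLMod.of_quot (hgl p)).1)
    (fun p q => by
      rw [hb, hb, hb, ← hzero, TensorProduct.tmul_sub, map_sub, sub_eq_zero]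
      have h1 : (1 : K ⧸ 𝔞) ⊗ₜ[K] (a p * a q) =
          ((1 : K ⧸ 𝔞) ⊗ₜ[K] a p) * ((1 : K ⧸ 𝔞) ⊗ₜ[K] a q) := by
        rw [Algebra.TensorProduct.tmul_mul_tmul, one_mul]
      rw [h1, map_mul, hεa, hεa, hεa, MonoidAlgebra.single_mul_single, one_mul])
    (by
      rw [hb, ← hzero, TensorProduct.tmul_sub, map_sub, sub_eq_zero, hεa,
        ← Algebra.TensorProduct.one_def, map_one, MonoidAlgebra.one_def])
  refine ⟨e, fun m => ?_⟩
  have h1 := he m
  rw [hb, ← one_tmul_eq_zero_iff', TensorProduct.tmul_sub, sub_eq_zero] at h1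
  rw [h1, ha]


end Quot

section Surj

variable (K : Type u) [CommRing K] (B : Type u) [CommRing B] [HopfAlgebra K B]
  (S : Type u) [CommRing S] [Algebra K S] {M : Type u} [CommGroup M]

/-- deformation rigidity for a surjection with nilpotent kernel, with control of the isomorphism. -/
theorem exists_bialgEquiv_of_surjective_nilpotent [Module.Flat K B]
    (hsurj : Function.Surjective (algebraMap K S))
    (hnil : IsNilpotent (RingHom.ker (algebraMap K S)))
    (ε : S ⊗[K] B ≃ₐc[S] MonoidAlgebra S M) :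
    ∃ e : B ≃ₐc[K] MonoidAlgebra K M, ∀ m,
      (1 : S) ⊗ₜ[K] e.symm (MonoidAlgebra.single m 1) = ε.symm (MonoidAlgebra.single m 1) := by
  let eQ : (K ⧸ RingHom.ker (algebraMap K S)) ≃ₐ[K] S :=
    Ideal.quotientKerAlgEquivOfSurjective (f := Algebra.ofId K S) hsurj
  letI : Algebra S (K ⧸ RingHom.ker (algebraMap K S)) := eQ.symm.toAlgHom.toRingHom.toAlgebra
  haveI : IsScalarTower K S (K ⧸ RingHom.ker (algebraMap K S)) :=
    IsScalarTower.of_algebraMap_eq (fun x => (eQ.symm.commutes x).symm)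
  let εQ : (K ⧸ RingHom.ker (algebraMap K S)) ⊗[K] B ≃ₐc[K ⧸ RingHom.ker (algebraMap K S)]
      MonoidAlgebra (K ⧸ RingHom.ker (algebraMap K S)) M :=
    (cancelBC K S _ B).symm.trans ((bcEquiv S _ ε).trans (monoidAlgebraBC S _ M))
  obtain ⟨e, he⟩ := exists_bialgEquiv_of_quot _ B M hnil εQ
  refine ⟨e, fun m => ?_⟩
  let ρ : (K ⧸ RingHom.ker (algebraMap K S)) ⊗[K] B →ₗ[K] S ⊗[K] B :=
    LinearMap.rTensor B eQ.toLinearMap
  have hsmul : ∀ s : S, eQ (s • (1 : K ⧸ RingHom.ker (algebraMap K S))) = s := by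
    intro s
    rw [Algebra.smul_def, mul_one]
    exact eQ.apply_symm_apply s
  have hρ : ∀ y : S ⊗[K] B, ρ (cancelBC K S _ B
      ((1 : K ⧸ RingHom.ker (algebraMap K S)) ⊗ₜ[S] y)) = y := by
    intro y
    induction y using TensorProduct.induction_on with
    | zero => simp
    | tmul s b =>
      rw [cancelBC_tmul]
      show eQ (s • 1) ⊗ₜ[K] b = _
      rw [hsmul]
    | add x y hx hy => rw [TensorProduct.tmul_add, map_add, map_add, hx, hy]
  have hR : εQ.symm (MonoidAlgebra.single m 1) = cancelBC K S _ B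
      ((1 : K ⧸ RingHom.ker (algebraMap K S)) ⊗ₜ[S] ε.symm (MonoidAlgebra.single m 1)) := by
    have h0 : εQ (cancelBC K S _ B
        ((1 : K ⧸ RingHom.ker (algebraMap K S)) ⊗ₜ[S] ε.symm (MonoidAlgebra.single m 1))) =
        MonoidAlgebra.single m 1 := by
      show monoidAlgebraBC S _ M (bcEquiv S _ ε ((cancelBC K S _ B).symm (cancelBC K S _ B _))) = _
      rw [(cancelBC K S _ B).symm_apply_apply, bcEquiv_tmul, ε.apply_symm_apply,
        monoidAlgebraBC_tmul_single, one_smul]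
    rw [← h0, εQ.symm_apply_apply]
  have h1 := congrArg ρ (he m)
  rw [hR, hρ] at h1
  rw [← h1]
  show _ = eQ 1 ⊗ₜ[K] _
  rw [map_one]
  rfl

end Surj

end Groth.Agent.Lib.Helper77.CompDiag
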