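import Mathlib
import Groth.Agent.Lib.Helper77.CompDiag1

set_option autoImplicit false
universe u
open TensorProduct WithConv

namespace Groth.Agent.Lib.Helper77.CompDiag

open SGA3b Groth.Agent.Lib.Helper77.MultMono Groth.Agent.Lib.Helper77.MultBC
  Groth.Agent.Lib.Helper77.GLLift Groth.Agent.Lib.Helper77.DiagNil
  Groth.Agent.Lib.Helper77.MultKer Groth.Agent.Lib.Helper77.DefRigid

section Levels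

variable {K : Type u} [CommRing K] (𝔞 : Ideal K) {B : Type u} [CommRing B] [HopfAlgebra K B]
  {M : Type u} [CommGroup M]
  (ε₀ : (K ⧸ 𝔞) ⊗[K] B ≃ₐc[K ⧸ 𝔞] MonoidAlgebra (K ⧸ 𝔞) M)

/-- a trivialisation at level `n` compatible with the given one modulo `𝔞`. -/
def IsLevel (n : ℕ) (e : (K ⧸ 𝔞 ^ n) ⊗[K] B ≃ₐc[K ⧸ 𝔞 ^ n] MonoidAlgebra (K ⧸ 𝔞 ^ n) M) : Prop :=
  ∀ m : M, ∃ g : B, e.symm (MonoidAlgebra.single m 1) = (1 : K ⧸ 𝔞 ^ n) ⊗ₜ[K] g ∧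
    (1 : K ⧸ 𝔞) ⊗ₜ[K] g = ε₀.symm (MonoidAlgebra.single m 1)

lemma isNilpotent_map_mk (n : ℕ) : IsNilpotent (𝔞.map (Ideal.Quotient.mk (𝔞 ^ n))) :=
  ⟨n, by rw [← Ideal.map_pow, Ideal.map_quotient_self]; rfl⟩

variable {𝔞 ε₀}

theorem exists_isLevel (n : ℕ) [Module.Flat (K ⧸ 𝔞 ^ n) ((K ⧸ 𝔞 ^ n) ⊗[K] B)] :
    ∃ e, IsLevel 𝔞 ε₀ n e := by
  rcases Nat.eq_zero_or_pos n with hn | hn
  · subst hn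
    have hsub : Subsingleton (K ⧸ 𝔞 ^ 0) := by
      rw [pow_zero, Ideal.one_eq_top]
      exact Ideal.Quotient.subsingleton_iff.mpr rfl
    obtain ⟨e⟩ := isDiagOf_of_subsingleton M (K ⧸ 𝔞 ^ 0) ((K ⧸ 𝔞 ^ 0) ⊗[K] B)
    refine ⟨e, fun m => ?_⟩
    obtain ⟨g, hg⟩ := exists_one_tmul_eq 𝔞 (ε₀.symm (MonoidAlgebra.single m 1))
    have : Subsingleton ((K ⧸ 𝔞 ^ 0) ⊗[K] B) := Module.subsingleton (K ⧸ 𝔞 ^ 0) _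
    exact ⟨g, Subsingleton.elim _ _, hg⟩
  · have hle : 𝔞 ^ n ≤ 𝔞 := Ideal.pow_le_self hn.ne'
    letI : Algebra (K ⧸ 𝔞 ^ n) (K ⧸ 𝔞) := (Ideal.Quotient.factor hle).toAlgebra
    haveI : IsScalarTower K (K ⧸ 𝔞 ^ n) (K ⧸ 𝔞) := IsScalarTower.of_algebraMap_eq (fun _ => rfl)
    have hsurj : Function.Surjective (algebraMap (K ⧸ 𝔞 ^ n) (K ⧸ 𝔞)) :=
      Ideal.Quotient.factor_surjective hle
    have hker : RingHom.ker (algebraMap (K ⧸ 𝔞 ^ n) (K ⧸ 𝔞)) =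
        𝔞.map (Ideal.Quotient.mk (𝔞 ^ n)) := Ideal.Quotient.factor_ker hle
    have hnil : IsNilpotent (RingHom.ker (algebraMap (K ⧸ 𝔞 ^ n) (K ⧸ 𝔞))) := by
      rw [hker]
      exact isNilpotent_map_mk 𝔞 n
    let ε' : (K ⧸ 𝔞) ⊗[K ⧸ 𝔞 ^ n] ((K ⧸ 𝔞 ^ n) ⊗[K] B) ≃ₐc[K ⧸ 𝔞] MonoidAlgebra (K ⧸ 𝔞) M :=
      (cancelBC K (K ⧸ 𝔞 ^ n) (K ⧸ 𝔞) B).trans ε₀
    obtain ⟨e, he⟩ := exists_bialgEquiv_of_surjective_nilpotent (K ⧸ 𝔞 ^ n)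
      ((K ⧸ 𝔞 ^ n) ⊗[K] B) (K ⧸ 𝔞) hsurj hnil ε'
    refine ⟨e, fun m => ?_⟩
    obtain ⟨g, hg⟩ := exists_one_tmul_eq (𝔞 ^ n) (e.symm (MonoidAlgebra.single m 1))
    refine ⟨g, hg.symm, ?_⟩
    have h1 := he m
    rw [← hg] at h1
    have h2 := congrArg (cancelBC K (K ⧸ 𝔞 ^ n) (K ⧸ 𝔞) B) h1
    rw [cancelBC_tmul, one_smul] at h2
    rw [h2]
    show (cancelBC K (K ⧸ 𝔞 ^ n) (K ⧸ 𝔞) B) ((cancelBC K (K ⧸ 𝔞 ^ n) (K ⧸ 𝔞) B).symm _) = _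
    rw [(cancelBC K (K ⧸ 𝔞 ^ n) (K ⧸ 𝔞) B).apply_symm_apply]
    rfl

lemma one_tmul_mem_map_smul (𝔠 : Ideal K) {x : B} (hx : x ∈ 𝔞 • (⊤ : Submodule K B)) :
    (1 : K ⧸ 𝔠) ⊗ₜ[K] x ∈ (𝔞.map (Ideal.Quotient.mk 𝔠)) •
      (⊤ : Submodule (K ⧸ 𝔠) ((K ⧸ 𝔠) ⊗[K] B)) := by
  refine Submodule.smul_induction_on hx ?_ ?_
  · intro a ha y _
    have h1 : (1 : K ⧸ 𝔠) ⊗ₜ[K] (a • y) = (Ideal.Quotient.mk 𝔠 a) • ((1 : K ⧸ 𝔠) ⊗ₜ[K] y) := by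
      rw [TensorProduct.tmul_smul, TensorProduct.smul_tmul', TensorProduct.smul_tmul',
        smul_eq_mul, mul_one, Algebra.smul_def, mul_one]
      rfl
    rw [h1]
    exact Submodule.smul_mem_smul (Ideal.mem_map_of_mem _ ha) Submodule.mem_top
  · intro x y hx hy
    rw [TensorProduct.tmul_add]
    exact add_mem hx hy

theorem IsLevel.unique {n : ℕ}
    {e e' : (K ⧸ 𝔞 ^ n) ⊗[K] B ≃ₐc[K ⧸ 𝔞 ^ n] MonoidAlgebra (K ⧸ 𝔞 ^ n) M}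
    (h : IsLevel 𝔞 ε₀ n e) (h' : IsLevel 𝔞 ε₀ n e') : e = e' := by
  apply bialgEquiv_eq_of_nilpotent (𝔞.map (Ideal.Quotient.mk (𝔞 ^ n))) (isNilpotent_map_mk 𝔞 n)
  intro m
  obtain ⟨g, hg, hg0⟩ := h m
  obtain ⟨g', hg', hg0'⟩ := h' m
  rw [hg, hg', ← TensorProduct.tmul_sub]
  have h1 : g - g' ∈ 𝔞 • (⊤ : Submodule K B) := by
    rw [← one_tmul_eq_zero_iff', TensorProduct.tmul_sub, hg0, hg0', sub_self]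
  exact one_tmul_mem_map_smul (𝔞 ^ n) h1

theorem coeff_compat {n n' : ℕ} (h : n ≤ n')
    {e : (K ⧸ 𝔞 ^ n) ⊗[K] B ≃ₐc[K ⧸ 𝔞 ^ n] MonoidAlgebra (K ⧸ 𝔞 ^ n) M}
    {e' : (K ⧸ 𝔞 ^ n') ⊗[K] B ≃ₐc[K ⧸ 𝔞 ^ n'] MonoidAlgebra (K ⧸ 𝔞 ^ n') M}
    (he : IsLevel 𝔞 ε₀ n e) (he' : IsLevel 𝔞 ε₀ n' e') (b : B) (m : M) :
    Ideal.Quotient.factorPow 𝔞 h ((e' ((1 : K ⧸ 𝔞 ^ n') ⊗ₜ[K] b)).coeff m) =
      (e ((1 : K ⧸ 𝔞 ^ n) ⊗ₜ[K] b)).coeff m := by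
  classical
  letI : Algebra (K ⧸ 𝔞 ^ n') (K ⧸ 𝔞 ^ n) := (Ideal.Quotient.factorPow 𝔞 h).toAlgebra
  haveI : IsScalarTower K (K ⧸ 𝔞 ^ n') (K ⧸ 𝔞 ^ n) := IsScalarTower.of_algebraMap_eq (fun _ => rfl)
  let e'' : (K ⧸ 𝔞 ^ n) ⊗[K] B ≃ₐc[K ⧸ 𝔞 ^ n] MonoidAlgebra (K ⧸ 𝔞 ^ n) M :=
    (cancelBC K (K ⧸ 𝔞 ^ n') (K ⧸ 𝔞 ^ n) B).symm.trans
      ((bcEquiv (K ⧸ 𝔞 ^ n') (K ⧸ 𝔞 ^ n) e').trans (monoidAlgebraBC (K ⧸ 𝔞 ^ n') (K ⧸ 𝔞 ^ n) M))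
  have hlev : IsLevel 𝔞 ε₀ n e'' := by
    intro m
    obtain ⟨g, hg, hg0⟩ := he' m
    refine ⟨g, ?_, hg0⟩
    have h0 : e'' ((1 : K ⧸ 𝔞 ^ n) ⊗ₜ[K] g) = MonoidAlgebra.single m 1 := by
      show monoidAlgebraBC (K ⧸ 𝔞 ^ n') (K ⧸ 𝔞 ^ n) M (bcEquiv (K ⧸ 𝔞 ^ n') (K ⧸ 𝔞 ^ n) e'
        ((cancelBC K (K ⧸ 𝔞 ^ n') (K ⧸ 𝔞 ^ n) B).symm _)) = _
      rw [cancelBC_symm_tmul, bcEquiv_tmul, ← hg, e'.apply_symm_apply,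
        monoidAlgebraBC_tmul_single, one_smul]
    rw [← h0, e''.symm_apply_apply]
  have heq : e = e'' := he.unique hlev
  rw [heq]
  show _ = (monoidAlgebraBC (K ⧸ 𝔞 ^ n') (K ⧸ 𝔞 ^ n) M (bcEquiv (K ⧸ 𝔞 ^ n') (K ⧸ 𝔞 ^ n) e'
        ((cancelBC K (K ⧸ 𝔞 ^ n') (K ⧸ 𝔞 ^ n) B).symm _))).coeff m
  rw [cancelBC_symm_tmul, bcEquiv_tmul]
  generalize e' ((1 : K ⧸ 𝔞 ^ n') ⊗ₜ[K] b) = y
  induction y using MonoidAlgebra.induction_on with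
  | of p =>
    rw [MonoidAlgebra.of_apply, monoidAlgebraBC_tmul_single, one_smul,
      MonoidAlgebra.coeff_single, MonoidAlgebra.coeff_single, Finsupp.single_apply,
      Finsupp.single_apply]
    split_ifs
    · exact map_one _
    · exact map_zero _
  | add x y hx hy =>
    rw [MonoidAlgebra.coeff_add, Finsupp.add_apply, map_add, hx, hy, TensorProduct.tmul_add,
      map_add, MonoidAlgebra.coeff_add, Finsupp.add_apply]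
  | smul r x hx =>
    have hr : (1 : K ⧸ 𝔞 ^ n) ⊗ₜ[K ⧸ 𝔞 ^ n'] (r • x) =
        (Ideal.Quotient.factorPow 𝔞 h r) • ((1 : K ⧸ 𝔞 ^ n) ⊗ₜ[K ⧸ 𝔞 ^ n'] x) := by
      rw [TensorProduct.tmul_smul, TensorProduct.smul_tmul', TensorProduct.smul_tmul',
        smul_eq_mul, mul_one, Algebra.smul_def, mul_one]
      rfl
    rw [hr, map_smul, MonoidAlgebra.coeff_smul, MonoidAlgebra.coeff_smul, Finsupp.smul_apply,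
      Finsupp.smul_apply, smul_eq_mul, smul_eq_mul, map_mul, hx]

end Levels

end Groth.Agent.Lib.Helper77.CompDiag
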