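import Mathlib
import Groth.Agent.Lib.Helper77.CompDiag2

set_option autoImplicit false
universe u
open TensorProduct WithConv

namespace Groth.Agent.Lib.Helper77.CompDiag

open SGA3b Groth.Agent.Lib.Helper77.MultMono Groth.Agent.Lib.Helper77.MultBC
  Groth.Agent.Lib.Helper77.GLLift Groth.Agent.Lib.Helper77.DiagNil
  Groth.Agent.Lib.Helper77.MultKer Groth.Agent.Lib.Helper77.DefRigid

section Functionals

variable {K : Type u} [CommRing K] (𝔞 : Ideal K) {B : Type u} [CommRing B] [HopfAlgebra K B]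
  {M : Type u} [CommGroup M]
  (ε₀ : (K ⧸ 𝔞) ⊗[K] B ≃ₐc[K ⧸ 𝔞] MonoidAlgebra (K ⧸ 𝔞) M)
  (hflat : ∀ n : ℕ, Module.Flat (K ⧸ 𝔞 ^ n) ((K ⧸ 𝔞 ^ n) ⊗[K] B))

/-- the chosen trivialisation at level `n`. -/
noncomputable def lev (n : ℕ) :
    (K ⧸ 𝔞 ^ n) ⊗[K] B ≃ₐc[K ⧸ 𝔞 ^ n] MonoidAlgebra (K ⧸ 𝔞 ^ n) M :=
  haveI := hflat n
  Classical.choose (exists_isLevel (𝔞 := 𝔞) (ε₀ := ε₀) n)

lemma lev_isLevel (n : ℕ) : IsLevel 𝔞 ε₀ n (lev 𝔞 ε₀ hflat n) :=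
  haveI := hflat n
  Classical.choose_spec (exists_isLevel (𝔞 := 𝔞) (ε₀ := ε₀) n)

/-- the reduction of the sought-for homomorphism at level `n`. -/
noncomputable def theta (n : ℕ) : B →ₐ[K] MonoidAlgebra (K ⧸ 𝔞 ^ n) M :=
  (((lev 𝔞 ε₀ hflat n : (K ⧸ 𝔞 ^ n) ⊗[K] B ≃ₐ[K ⧸ 𝔞 ^ n] MonoidAlgebra (K ⧸ 𝔞 ^ n) M) :
    (K ⧸ 𝔞 ^ n) ⊗[K] B →ₐ[K ⧸ 𝔞 ^ n] MonoidAlgebra (K ⧸ 𝔞 ^ n) M).restrictScalars K).comp
    Algebra.TensorProduct.includeRight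

lemma theta_apply (n : ℕ) (b : B) :
    theta 𝔞 ε₀ hflat n b = lev 𝔞 ε₀ hflat n ((1 : K ⧸ 𝔞 ^ n) ⊗ₜ[K] b) := rfl

/-- coefficient functionals at level `n`. -/
noncomputable def fn (n : ℕ) (m : M) : B →ₗ[K] K ⧸ 𝔞 ^ n :=
  ((coeffL (K ⧸ 𝔞 ^ n) M m).restrictScalars K) ∘ₗ (theta 𝔞 ε₀ hflat n).toLinearMap

lemma fn_apply (n : ℕ) (m : M) (b : B) :
    fn 𝔞 ε₀ hflat n m b = (theta 𝔞 ε₀ hflat n b).coeff m := rfl

lemma fn_compat {n n' : ℕ} (h : n ≤ n') (m : M) (b : B) :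
    Ideal.Quotient.factorPow 𝔞 h (fn 𝔞 ε₀ hflat n' m b) = fn 𝔞 ε₀ hflat n m b :=
  coeff_compat h (lev_isLevel 𝔞 ε₀ hflat n) (lev_isLevel 𝔞 ε₀ hflat n') b m

lemma pow_eq_smul_top (n : ℕ) : (𝔞 ^ n : Submodule K K) = (𝔞 ^ n • ⊤ : Submodule K K) := by
  rw [smul_eq_mul, Ideal.mul_top]

variable [IsAdicComplete 𝔞 K]

/-- the coefficient functionals of the algebraised homomorphism. -/
noncomputable def Lam (m : M) : B →ₗ[K] K :=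
  IsAdicComplete.lift 𝔞
    (fun n => (Submodule.quotEquivOfEq _ _ (pow_eq_smul_top 𝔞 n)).toLinearMap ∘ₗ fn 𝔞 ε₀ hflat n m)
    (by
      intro n n' h
      ext b
      simp only [LinearMap.coe_comp, LinearEquiv.coe_coe, Function.comp_apply]
      rw [← fn_compat 𝔞 ε₀ hflat h m b]
      obtain ⟨x, hx⟩ := Ideal.Quotient.mk_surjective (fn 𝔞 ε₀ hflat n' m b)
      rw [← hx]
      rfl)

lemma mk_Lam (n : ℕ) (m : M) (b : B) :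
    Ideal.Quotient.mk (𝔞 ^ n) (Lam 𝔞 ε₀ hflat m b) = (theta 𝔞 ε₀ hflat n b).coeff m := by
  have h1 := IsAdicComplete.mk_lift (I := 𝔞)
    (f := fun n => (Submodule.quotEquivOfEq _ _ (pow_eq_smul_top 𝔞 n)).toLinearMap ∘ₗ
      fn 𝔞 ε₀ hflat n m)
    (by
      intro n n' h
      ext b
      simp only [LinearMap.coe_comp, LinearEquiv.coe_coe, Function.comp_apply]
      rw [← fn_compat 𝔞 ε₀ hflat h m b]
      obtain ⟨x, hx⟩ := Ideal.Quotient.mk_surjective (fn 𝔞 ε₀ hflat n' m b)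
      rw [← hx]
      rfl) n b
  apply (Submodule.quotEquivOfEq _ _ (pow_eq_smul_top 𝔞 n)).injective
  rw [← fn_apply]
  exact h1

end Functionals

end Groth.Agent.Lib.Helper77.CompDiag
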