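import Mathlib
import Groth.Agent.Lib.Helper77.CompDiag3

set_option autoImplicit false
universe u
open TensorProduct WithConv

namespace Groth.Agent.Lib.Helper77.CompDiag

open SGA3b Groth.Agent.Lib.Helper77.MultMono Groth.Agent.Lib.Helper77.MultBC
  Groth.Agent.Lib.Helper77.GLLift Groth.Agent.Lib.Helper77.DiagNil
  Groth.Agent.Lib.Helper77.MultKer Groth.Agent.Lib.Helper77.DefRigid

section MA

variable (K : Type u) [CommRing K] (M : Type u) [CommGroup M]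

/-- `x ⊗ y ↦ x_m y_{m'}`. -/
noncomputable def cc (m m' : M) : MonoidAlgebra K M ⊗[K] MonoidAlgebra K M →ₗ[K] K :=
  LinearMap.mul' K K ∘ₗ TensorProduct.map (coeffL K M m) (coeffL K M m')

lemma cc_tmul (m m' : M) (x y : MonoidAlgebra K M) :
    cc K M m m' (x ⊗ₜ[K] y) = x.coeff m * y.coeff m' := rfl

lemma cc_comul [DecidableEq M] (m m' : M) (x : MonoidAlgebra K M) :
    cc K M m m' (Coalgebra.comul (R := K) x) = if m = m' then x.coeff m else 0 := by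
  induction x using MonoidAlgebra.induction_on with
  | of p =>
    rw [MonoidAlgebra.of_apply, MonoidAlgebra.comul_single]
    simp only [CommSemiring.comul_apply, TensorProduct.map_tmul, MonoidAlgebra.lsingle_apply,
      cc_tmul, MonoidAlgebra.coeff_single, Finsupp.single_apply]
    split_ifs with h1 h2 h3 <;> simp_all
  | add x y hx hy =>
    rw [map_add, map_add, hx, hy, MonoidAlgebra.coeff_add, Finsupp.add_apply]
    split_ifs <;> simp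
  | smul r x hx =>
    rw [map_smul, map_smul, hx, MonoidAlgebra.coeff_smul, Finsupp.smul_apply]
    split_ifs <;> simp

end MA

section Theta

variable {K : Type u} [CommRing K] (𝔞 : Ideal K) {B : Type u} [CommRing B] [HopfAlgebra K B]
  {M : Type u} [CommGroup M]
  (ε₀ : (K ⧸ 𝔞) ⊗[K] B ≃ₐc[K ⧸ 𝔞] MonoidAlgebra (K ⧸ 𝔞) M)
  (hflat : ∀ n : ℕ, Module.Flat (K ⧸ 𝔞 ^ n) ((K ⧸ 𝔞 ^ n) ⊗[K] B))

/-- `x ⊗ y ↦ (θ_n x)_m (θ_n y)_{m'}`. -/
noncomputable def ccn (n : ℕ) (m m' : M) : B ⊗[K] B →ₗ[K] K ⧸ 𝔞 ^ n :=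
  LinearMap.mul' K (K ⧸ 𝔞 ^ n) ∘ₗ TensorProduct.map (fn 𝔞 ε₀ hflat n m) (fn 𝔞 ε₀ hflat n m')

lemma ccn_tmul (n : ℕ) (m m' : M) (x y : B) :
    ccn 𝔞 ε₀ hflat n m m' (x ⊗ₜ[K] y) = fn 𝔞 ε₀ hflat n m x * fn 𝔞 ε₀ hflat n m' y := rfl

lemma ccn_eq (n : ℕ) (m m' : M) (z : B ⊗[K] B) :
    ccn 𝔞 ε₀ hflat n m m' z = cc (K ⧸ 𝔞 ^ n) M m m'
      (TensorProduct.map (LinearMapClass.linearMap (lev 𝔞 ε₀ hflat n))
        (LinearMapClass.linearMap (lev 𝔞 ε₀ hflat n))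
        (TensorProduct.AlgebraTensorModule.distribBaseChange K (K ⧸ 𝔞 ^ n) B B
          ((1 : K ⧸ 𝔞 ^ n) ⊗ₜ[K] z))) := by
  induction z using TensorProduct.induction_on with
  | zero => simp
  | tmul x y =>
    have h2 : TensorProduct.AlgebraTensorModule.distribBaseChange K (K ⧸ 𝔞 ^ n) B B
          ((1 : K ⧸ 𝔞 ^ n) ⊗ₜ[K] (x ⊗ₜ[K] y)) =
        ((1 : K ⧸ 𝔞 ^ n) ⊗ₜ[K] x) ⊗ₜ[K ⧸ 𝔞 ^ n] ((1 : K ⧸ 𝔞 ^ n) ⊗ₜ[K] y) := by
      simp
    rw [h2, TensorProduct.map_tmul, cc_tmul, ccn_tmul]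
    rfl
  | add x y hx hy => simp only [map_add, TensorProduct.tmul_add, hx, hy]

lemma ccn_comul [DecidableEq M] (n : ℕ) (m m' : M) (b : B) :
    ccn 𝔞 ε₀ hflat n m m' (Coalgebra.comul (R := K) b) =
      if m = m' then fn 𝔞 ε₀ hflat n m b else 0 := by
  rw [ccn_eq, ← comul_one_tmul, CoalgHomClass.map_comp_comul_apply, cc_comul]
  rfl

end Theta

section LamSec

variable {K : Type u} [CommRing K] (𝔞 : Ideal K) {B : Type u} [CommRing B] [HopfAlgebra K B]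
  {M : Type u} [CommGroup M]
  (ε₀ : (K ⧸ 𝔞) ⊗[K] B ≃ₐc[K ⧸ 𝔞] MonoidAlgebra (K ⧸ 𝔞) M)
  (hflat : ∀ n : ℕ, Module.Flat (K ⧸ 𝔞 ^ n) ((K ⧸ 𝔞 ^ n) ⊗[K] B))

lemma eq_of_forall_mk_eq [IsHausdorff 𝔞 K] {x y : K}
    (h : ∀ n : ℕ, Ideal.Quotient.mk (𝔞 ^ n) x = Ideal.Quotient.mk (𝔞 ^ n) y) : x = y := by
  rw [← sub_eq_zero]
  apply IsHausdorff.haus' (I := 𝔞) (x - y)
  intro n
  rw [SModEq.zero, smul_eq_mul, Ideal.mul_top, ← Ideal.Quotient.eq]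
  exact h n

variable [IsAdicComplete 𝔞 K]

/-- `x ⊗ y ↦ Λ_m(x) Λ_{m'}(y)`. -/
noncomputable def ccK (m m' : M) : B ⊗[K] B →ₗ[K] K :=
  LinearMap.mul' K K ∘ₗ TensorProduct.map (Lam 𝔞 ε₀ hflat m) (Lam 𝔞 ε₀ hflat m')

lemma ccK_tmul (m m' : M) (x y : B) :
    ccK 𝔞 ε₀ hflat m m' (x ⊗ₜ[K] y) = Lam 𝔞 ε₀ hflat m x * Lam 𝔞 ε₀ hflat m' y := rfl

lemma mk_ccK (n : ℕ) (m m' : M) (z : B ⊗[K] B) :
    Ideal.Quotient.mk (𝔞 ^ n) (ccK 𝔞 ε₀ hflat m m' z) = ccn 𝔞 ε₀ hflat n m m' z := by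
  induction z using TensorProduct.induction_on with
  | zero => simp
  | tmul x y => rw [ccK_tmul, ccn_tmul, map_mul, mk_Lam, mk_Lam, fn_apply, fn_apply]
  | add x y hx hy => rw [map_add, map_add, map_add, hx, hy]

theorem ccK_comul [DecidableEq M] (m m' : M) (b : B) :
    ccK 𝔞 ε₀ hflat m m' (Coalgebra.comul (R := K) b) =
      if m = m' then Lam 𝔞 ε₀ hflat m b else 0 := by
  apply eq_of_forall_mk_eq 𝔞
  intro n
  rw [mk_ccK, ccn_comul]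
  split_ifs
  · rw [mk_Lam, fn_apply]
  · rw [map_zero]

/-- convolution orthogonality of the coefficient functionals. -/
theorem Lam_mul_Lam [DecidableEq M] (m m' : M) :
    (toConv (Lam 𝔞 ε₀ hflat m)) * (toConv (Lam 𝔞 ε₀ hflat m')) =
      if m = m' then toConv (Lam 𝔞 ε₀ hflat m) else 0 := by
  apply WithConv.ext
  ext b
  rw [LinearMap.convMul_apply]
  have := ccK_comul 𝔞 ε₀ hflat m m' b
  split_ifs with h
  · rw [if_pos h] at this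
    exact this
  · rw [if_neg h] at this
    exact this

end LamSec

end Groth.Agent.Lib.Helper77.CompDiag
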