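import Mathlib
import Groth.Agent.Lib.Helper77.CompDiag4

set_option autoImplicit false
universe u
open TensorProduct WithConv

namespace Groth.Agent.Lib.Helper77.CompDiag

open SGA3b Groth.Agent.Lib.Helper77.MultMono Groth.Agent.Lib.Helper77.MultBC
  Groth.Agent.Lib.Helper77.GLLift Groth.Agent.Lib.Helper77.DiagNil
  Groth.Agent.Lib.Helper77.MultKer Groth.Agent.Lib.Helper77.DefRigid

section LocFin

variable {K : Type u} [CommRing K] {B : Type u} [AddCommGroup B] [Module K B] [Coalgebra K B]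

lemma counit_Pop (l : B →ₗ[K] K) (y : B) : Coalgebra.counit (R := K) (Pop l y) = l y := by
  have key : ∀ t : B ⊗[K] B, Coalgebra.counit (R := K)
      (TensorProduct.lid K B (LinearMap.rTensor B l t)) =
      l (TensorProduct.rid K B (LinearMap.lTensor B (Coalgebra.counit (R := K)) t)) := by
    intro t
    induction t using TensorProduct.induction_on with
    | zero => simp
    | tmul x y => simp [mul_comm]
    | add x y hx hy => simp only [map_add, hx, hy]
  rw [Pop_apply, key, Coalgebra.lTensor_counit_comul]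
  simp

lemma exists_fg_Pop_mem (t : B ⊗[K] B) : ∃ W : Submodule K B, W.FG ∧
    ∀ l : B →ₗ[K] K, TensorProduct.lid K B (LinearMap.rTensor B l t) ∈ W := by
  induction t using TensorProduct.induction_on with
  | zero => exact ⟨⊥, Submodule.fg_bot, fun l => by simp⟩
  | tmul x y =>
    refine ⟨Submodule.span K {y}, Submodule.fg_span_singleton y, fun l => ?_⟩
    rw [LinearMap.rTensor_tmul, TensorProduct.lid_tmul]
    exact Submodule.smul_mem _ _ (Submodule.mem_span_singleton_self y)
  | add x y hx hy =>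
    obtain ⟨W₁, h₁, h₁'⟩ := hx
    obtain ⟨W₂, h₂, h₂'⟩ := hy
    refine ⟨W₁ ⊔ W₂, h₁.sup h₂, fun l => ?_⟩
    rw [map_add, map_add]
    exact add_mem (Submodule.mem_sup_left (h₁' l)) (Submodule.mem_sup_right (h₂' l))

/-- a family of orthogonal idempotents of the dual algebra of a coalgebra over a noetherian ring is
locally finite. -/
theorem finite_of_orthogonal [IsNoetherianRing K] {ι : Type*} [DecidableEq ι]
    (l : ι → B →ₗ[K] K)
    (horth : ∀ i j, toConv (l i) * toConv (l j) = if i = j then toConv (l i) else 0) (b : B) :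
    {i | l i b ≠ 0}.Finite := by
  have hPP : ∀ i j y, Pop (l i) (Pop (l j) y) = if i = j then Pop (l i) y else 0 := by
    intro i j y
    have h1 := Pop_comp (toConv (l i)) (toConv (l j)) y
    rw [ofConv_toConv, ofConv_toConv, horth j i] at h1
    rw [h1]
    by_cases h : i = j
    · subst h
      rw [if_pos rfl, if_pos rfl, ofConv_toConv]
    · rw [if_neg h, if_neg (Ne.symm h)]
      show Pop 0 y = 0
      rw [Pop_apply]
      simp
  obtain ⟨W, hW, hWmem⟩ := exists_fg_Pop_mem (Coalgebra.comul (R := K) b)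
  haveI : IsNoetherian K W := isNoetherian_of_fg_of_noetherian W hW
  let w : ι → W := fun i => ⟨Pop (l i) b, hWmem (l i)⟩
  let N : ι → Submodule K W := fun i => Submodule.span K {w i}
  have hind : iSupIndep N := by
    rw [iSupIndep_def]
    intro i
    rw [Submodule.disjoint_def]
    intro x hx hx'
    let Q : W →ₗ[K] B := Pop (l i) ∘ₗ W.subtype
    have h1 : Q x = (x : B) := by
      obtain ⟨k, rfl⟩ := Submodule.mem_span_singleton.mp hx
      show Pop (l i) ((k • w i : W) : B) = _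
      rw [Submodule.coe_smul, map_smul]
      show k • Pop (l i) (Pop (l i) b) = k • Pop (l i) b
      rw [hPP, if_pos rfl]
    have h2 : (⨆ (j) (_ : j ≠ i), N j) ≤ LinearMap.ker Q := by
      refine iSup_le (fun j => iSup_le (fun hj => ?_))
      rw [Submodule.span_le]
      rintro _ rfl
      show Pop (l i) (Pop (l j) b) = 0
      rw [hPP, if_neg (Ne.symm hj)]
    have h3 : Q x = 0 := h2 hx'
    rw [h1] at h3
    exact Subtype.ext h3
  have hfin := Submodule.finite_ne_bot_of_iSupIndep hind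
  refine hfin.subset ?_
  intro i hi
  show N i ≠ ⊥
  intro hN
  apply hi
  have h1 : w i = 0 := by
    have : w i ∈ N i := Submodule.mem_span_singleton_self _
    rw [hN] at this
    exact this
  have h2 : Pop (l i) b = 0 := congrArg Subtype.val h1
  rw [← counit_Pop (l i) b, h2, map_zero]

end LocFin

section Phi

variable {K : Type u} [CommRing K] [IsNoetherianRing K] (𝔞 : Ideal K) [IsAdicComplete 𝔞 K]
  {B : Type u} [CommRing B] [HopfAlgebra K B] {M : Type u} [CommGroup M]
  (ε₀ : (K ⧸ 𝔞) ⊗[K] B ≃ₐc[K ⧸ 𝔞] MonoidAlgebra (K ⧸ 𝔞) M)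
  (hflat : ∀ n : ℕ, Module.Flat (K ⧸ 𝔞 ^ n) ((K ⧸ 𝔞 ^ n) ⊗[K] B))

lemma Lam_finite (b : B) : {m | Lam 𝔞 ε₀ hflat m b ≠ 0}.Finite := by
  classical
  exact finite_of_orthogonal (fun m => Lam 𝔞 ε₀ hflat m)
    (fun i j => Lam_mul_Lam 𝔞 ε₀ hflat i j) b

/-- the algebraised homomorphism, as a function. -/
noncomputable def phiFun (b : B) : MonoidAlgebra K M :=
  MonoidAlgebra.ofCoeff (Finsupp.ofSupportFinite (fun m => Lam 𝔞 ε₀ hflat m b)
    (Lam_finite 𝔞 ε₀ hflat b))

lemma coeff_phiFun (b : B) (m : M) : (phiFun 𝔞 ε₀ hflat b).coeff m = Lam 𝔞 ε₀ hflat m b := rfl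

/-- reduction of coefficients modulo `𝔞 ^ n`. -/
noncomputable def red (n : ℕ) : MonoidAlgebra K M →+* MonoidAlgebra (K ⧸ 𝔞 ^ n) M :=
  MonoidAlgebra.mapRingHom M (Ideal.Quotient.mk (𝔞 ^ n))

omit [IsNoetherianRing K] [IsAdicComplete 𝔞 K] in
lemma coeff_red (n : ℕ) (x : MonoidAlgebra K M) (m : M) :
    (red (M := M) 𝔞 n x).coeff m = Ideal.Quotient.mk (𝔞 ^ n) (x.coeff m) :=
  MonoidAlgebra.coeff_mapRingHom _ _ _

omit [IsNoetherianRing K] in
lemma eq_of_forall_red_eq {x y : MonoidAlgebra K M}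
    (h : ∀ n : ℕ, red (M := M) 𝔞 n x = red (M := M) 𝔞 n y) : x = y := by
  apply MonoidAlgebra.ext
  ext m
  apply eq_of_forall_mk_eq 𝔞
  intro n
  rw [← coeff_red, ← coeff_red, h n]

lemma red_phiFun (n : ℕ) (b : B) :
    red (M := M) 𝔞 n (phiFun 𝔞 ε₀ hflat b) = theta 𝔞 ε₀ hflat n b := by
  apply MonoidAlgebra.ext
  ext m
  rw [coeff_red, coeff_phiFun, mk_Lam]

/-- the algebraised homomorphism, as an algebra map. -/
noncomputable def phiAlg : B →ₐ[K] MonoidAlgebra K M :=
  AlgHom.ofLinearMap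
    { toFun := phiFun 𝔞 ε₀ hflat
      map_add' := by
        intro x y
        apply eq_of_forall_red_eq 𝔞
        intro n
        rw [map_add, red_phiFun, red_phiFun, red_phiFun, map_add]
      map_smul' := by
        intro k x
        apply MonoidAlgebra.ext
        ext m
        rw [RingHom.id_apply, MonoidAlgebra.coeff_smul, Finsupp.smul_apply, coeff_phiFun,
          coeff_phiFun, map_smul] }
    (by
      apply eq_of_forall_red_eq 𝔞
      intro n
      show red (M := M) 𝔞 n (phiFun 𝔞 ε₀ hflat 1) = _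
      rw [red_phiFun, map_one, map_one])
    (by
      intro x y
      apply eq_of_forall_red_eq 𝔞
      intro n
      show red (M := M) 𝔞 n (phiFun 𝔞 ε₀ hflat (x * y)) =
        red (M := M) 𝔞 n (phiFun 𝔞 ε₀ hflat x * phiFun 𝔞 ε₀ hflat y)
      rw [map_mul, red_phiFun, red_phiFun, red_phiFun, map_mul])

lemma phiAlg_apply (b : B) : phiAlg 𝔞 ε₀ hflat b = phiFun 𝔞 ε₀ hflat b := rfl

lemma coeff_phiAlg (b : B) (m : M) : (phiAlg 𝔞 ε₀ hflat b).coeff m = Lam 𝔞 ε₀ hflat m b := rfl

lemma red_phiAlg (n : ℕ) (b : B) :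
    red (M := M) 𝔞 n (phiAlg 𝔞 ε₀ hflat b) = theta 𝔞 ε₀ hflat n b := red_phiFun 𝔞 ε₀ hflat n b

end Phi

end Groth.Agent.Lib.Helper77.CompDiag
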