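import Mathlib
import Groth.Agent.Lib.Helper77.CompDiag5

set_option autoImplicit false
universe u
open TensorProduct WithConv

namespace Groth.Agent.Lib.Helper77.CompDiag

open SGA3b Groth.Agent.Lib.Helper77.MultMono Groth.Agent.Lib.Helper77.MultBC
  Groth.Agent.Lib.Helper77.GLLift Groth.Agent.Lib.Helper77.DiagNil
  Groth.Agent.Lib.Helper77.MultKer Groth.Agent.Lib.Helper77.DefRigid

section Sep

variable (K : Type u) [CommRing K] (M : Type u) [CommGroup M]

lemma cc_eq_repr (m m' : M) (z : MonoidAlgebra K M ⊗[K] MonoidAlgebra K M) :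
    cc K M m m' z = ((MonoidAlgebra.basis M K).tensorProduct (MonoidAlgebra.basis M K)).repr z
      (m, m') := by
  induction z using TensorProduct.induction_on with
  | zero => simp
  | tmul x y =>
    rw [cc_tmul, Module.Basis.tensorProduct_repr_tmul_apply, smul_eq_mul, mul_comm]
    rfl
  | add x y hx hy => rw [map_add, map_add, Finsupp.add_apply, hx, hy]

lemma cc_separates (z : MonoidAlgebra K M ⊗[K] MonoidAlgebra K M)
    (h : ∀ m m', cc K M m m' z = 0) : z = 0 := by
  apply ((MonoidAlgebra.basis M K).tensorProduct (MonoidAlgebra.basis M K)).repr.injective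
  rw [map_zero]
  ext ⟨m, m'⟩
  rw [← cc_eq_repr, h]
  rfl

end Sep

section PhiBialg

variable {K : Type u} [CommRing K] [IsNoetherianRing K] (𝔞 : Ideal K) [IsAdicComplete 𝔞 K]
  {B : Type u} [CommRing B] [HopfAlgebra K B] {M : Type u} [CommGroup M]
  (ε₀ : (K ⧸ 𝔞) ⊗[K] B ≃ₐc[K ⧸ 𝔞] MonoidAlgebra (K ⧸ 𝔞) M)
  (hflat : ∀ n : ℕ, Module.Flat (K ⧸ 𝔞 ^ n) ((K ⧸ 𝔞 ^ n) ⊗[K] B))

omit [IsNoetherianRing K] [IsAdicComplete 𝔞 K] in
lemma counit_red (n : ℕ) (x : MonoidAlgebra K M) :
    Coalgebra.counit (R := K ⧸ 𝔞 ^ n) (red (M := M) 𝔞 n x) =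
      Ideal.Quotient.mk (𝔞 ^ n) (Coalgebra.counit (R := K) x) := by
  induction x using MonoidAlgebra.induction_linear with
  | zero => simp
  | add x y hx hy => rw [map_add, map_add, map_add, map_add, hx, hy]
  | single m r =>
    show Coalgebra.counit (R := K ⧸ 𝔞 ^ n) (MonoidAlgebra.mapRingHom M _ _) = _
    rw [MonoidAlgebra.mapRingHom_single, MonoidAlgebra.counit_single, MonoidAlgebra.counit_single]
    rfl

omit [IsNoetherianRing K] [IsAdicComplete 𝔞 K] in
lemma counit_theta (n : ℕ) (b : B) :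
    Coalgebra.counit (R := K ⧸ 𝔞 ^ n) (theta 𝔞 ε₀ hflat n b) =
      Ideal.Quotient.mk (𝔞 ^ n) (Coalgebra.counit (R := K) b) := by
  rw [theta_apply, CoalgHomClass.counit_comp_apply, TensorProduct.counit_tmul]
  simp only [Bialgebra.counit_one]
  rw [Algebra.smul_def, mul_one]
  rfl

/-- the algebraised homomorphism `Spec K[M] → Spec B`. -/
noncomputable def phi : B →ₐc[K] MonoidAlgebra K M :=
  BialgHom.ofAlgHom (phiAlg 𝔞 ε₀ hflat)
    (by
      ext b
      apply eq_of_forall_mk_eq 𝔞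
      intro n
      show Ideal.Quotient.mk (𝔞 ^ n) (Coalgebra.counit (R := K) (phiAlg 𝔞 ε₀ hflat b)) =
        Ideal.Quotient.mk (𝔞 ^ n) (Coalgebra.counit (R := K) b)
      rw [← counit_red, red_phiAlg, counit_theta])
    (by
      classical
      ext b
      show Algebra.TensorProduct.map (phiAlg 𝔞 ε₀ hflat) (phiAlg 𝔞 ε₀ hflat)
        (Coalgebra.comul (R := K) b) = Coalgebra.comul (R := K) (phiAlg 𝔞 ε₀ hflat b)
      rw [← sub_eq_zero]
      apply cc_separates
      intro m m'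
      rw [map_sub, cc_comul, coeff_phiAlg, ← ccK_comul 𝔞 ε₀ hflat m m' b, sub_eq_zero]
      generalize Coalgebra.comul (R := K) b = z
      induction z using TensorProduct.induction_on with
      | zero => simp
      | tmul x y =>
        rw [Algebra.TensorProduct.map_tmul, cc_tmul, ccK_tmul, coeff_phiAlg, coeff_phiAlg]
      | add x y hx hy => rw [map_add, map_add, map_add, hx, hy])

lemma phi_apply (b : B) : phi 𝔞 ε₀ hflat b = phiAlg 𝔞 ε₀ hflat b := rfl

lemma coeff_phi (b : B) (m : M) : (phi 𝔞 ε₀ hflat b).coeff m = Lam 𝔞 ε₀ hflat m b := rfl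

lemma red_phi (n : ℕ) (b : B) :
    red (M := M) 𝔞 n (phi 𝔞 ε₀ hflat b) = theta 𝔞 ε₀ hflat n b := red_phiFun 𝔞 ε₀ hflat n b

end PhiBialg

end Groth.Agent.Lib.Helper77.CompDiag
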