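import Mathlib
import Groth.Agent.Lib.Helper77.CompDiag6

set_option autoImplicit false
universe u
open TensorProduct WithConv

namespace Groth.Agent.Lib.Helper77.CompDiag

open SGA3b Groth.Agent.Lib.Helper77.MultMono Groth.Agent.Lib.Helper77.MultBC
  Groth.Agent.Lib.Helper77.GLLift Groth.Agent.Lib.Helper77.DiagNil
  Groth.Agent.Lib.Helper77.MultKer Groth.Agent.Lib.Helper77.DefRigid

section Transl

variable {K : Type u} [CommRing K] {B : Type u} [CommRing B] [HopfAlgebra K B]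

/-- `x ⊗ u ↦ S(x) u`. -/
noncomputable def Jp : B ⊗[K] B →ₗ[K] B :=
  LinearMap.mul' K B ∘ₗ LinearMap.rTensor B (HopfAlgebra.antipode K)

lemma Jp_tmul (x u : B) : Jp (K := K) (x ⊗ₜ[K] u) = HopfAlgebra.antipode K x * u := by
  simp [Jp]

/-- `x ⊗ y ↦ (S(x) ⊗ 1) Δ(y)`. -/
noncomputable def Wm : B ⊗[K] B →ₗ[K] B ⊗[K] B :=
  LinearMap.rTensor B (Jp (K := K)) ∘ₗ (TensorProduct.assoc K B B B).symm.toLinearMap ∘ₗ
    LinearMap.lTensor B Coalgebra.comul

lemma Wm_tmul (x y : B) :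
    Wm (K := K) (x ⊗ₜ[K] y) = (HopfAlgebra.antipode K x ⊗ₜ[K] 1) * Coalgebra.comul (R := K) y := by
  simp only [Wm, LinearMap.coe_comp, LinearEquiv.coe_coe, Function.comp_apply,
    LinearMap.lTensor_tmul]
  generalize Coalgebra.comul (R := K) y = t
  induction t using TensorProduct.induction_on with
  | zero => simp
  | tmul u v =>
    rw [TensorProduct.assoc_symm_tmul, LinearMap.rTensor_tmul, Jp_tmul,
      Algebra.TensorProduct.tmul_mul_tmul, one_mul]
  | add p q hp hq => simp only [TensorProduct.tmul_add, map_add, hp, hq, mul_add]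

lemma Wm_comul (k : B) : Wm (K := K) (Coalgebra.comul (R := K) k) = 1 ⊗ₜ[K] k := by
  simp only [Wm, LinearMap.coe_comp, LinearEquiv.coe_coe, Function.comp_apply]
  rw [Coalgebra.coassoc_symm_apply, ← LinearMap.comp_apply (LinearMap.rTensor B _),
    ← LinearMap.rTensor_comp]
  have h : Jp (K := K) ∘ₗ Coalgebra.comul = Algebra.linearMap K B ∘ₗ Coalgebra.counit :=
    HopfAlgebra.mul_antipode_rTensor_comul
  rw [h, LinearMap.rTensor_comp, LinearMap.comp_apply, Coalgebra.rTensor_counit_comul]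
  simp

/-- `z ↦ ∑ l(z₁ r₁) z₂ r₂`. -/
noncomputable def Gp (l : B →ₗ[K] K) (r : B) : B ⊗[K] B →ₗ[K] B :=
  (TensorProduct.lid K B).toLinearMap ∘ₗ LinearMap.rTensor B l ∘ₗ
    LinearMap.mulRight K (Coalgebra.comul (R := K) r)

lemma Gp_apply (l : B →ₗ[K] K) (r : B) (z : B ⊗[K] B) :
    Gp l r z = TensorProduct.lid K B (LinearMap.rTensor B l (z * Coalgebra.comul (R := K) r)) :=
  rfl

lemma Gp_one_tmul (l : B →ₗ[K] K) (r k : B) : Gp l r (1 ⊗ₜ[K] k) = Pop l r * k := by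
  rw [Gp_apply, Pop_apply]
  generalize Coalgebra.comul (R := K) r = t
  induction t using TensorProduct.induction_on with
  | zero => simp
  | tmul u v =>
    rw [Algebra.TensorProduct.tmul_mul_tmul, one_mul, LinearMap.rTensor_tmul,
      LinearMap.rTensor_tmul, TensorProduct.lid_tmul, TensorProduct.lid_tmul, smul_mul_assoc,
      mul_comm]
  | add p q hp hq => simp only [mul_add, map_add, hp, hq, add_mul]

variable {A : Type u} [CommRing A] [HopfAlgebra K A] (φ : B →ₐc[K] A)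

lemma lid_rTensor_eq_zero (l : B →ₗ[K] K) (κ : B) (hl : ∀ u, l (κ * u) = 0) (t : B ⊗[K] B) :
    TensorProduct.lid K B (LinearMap.rTensor B l ((κ ⊗ₜ[K] 1) * t)) = 0 := by
  induction t using TensorProduct.induction_on with
  | zero => simp
  | tmul u v =>
    rw [Algebra.TensorProduct.tmul_mul_tmul, LinearMap.rTensor_tmul, hl, TensorProduct.zero_tmul,
      map_zero]
  | add p q hp hq => simp only [mul_add, map_add, hp, hq, add_zero]

/-- translation invariance of the annihilator of the kernel, in the form needed. -/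
theorem Pop_mul_eq_zero (hφ : Function.Surjective φ) (l : B →ₗ[K] K) (r : B)
    (hl : ∀ κ u, φ κ = 0 → l (κ * u) = 0) (hr : ∀ κ, φ κ = 0 → κ * r = 0)
    (k : B) (hk : φ k = 0) : Pop l r * k = 0 := by
  rw [← Gp_one_tmul, ← Wm_comul]
  -- vanishing of `Gp ∘ Wm` on pure tensors with a factor in the kernel
  have hx : ∀ x y, φ x = 0 → Gp l r (Wm (K := K) (x ⊗ₜ[K] y)) = 0 := by
    intro x y hx
    rw [Wm_tmul, Gp_apply, mul_assoc]
    apply lid_rTensor_eq_zero
    intro u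
    apply hl
    rw [Groth.Agent.Lib.Helper77.MultMono.map_antipode, hx, map_zero]
  have hy : ∀ x y, φ y = 0 → Gp l r (Wm (K := K) (x ⊗ₜ[K] y)) = 0 := by
    intro x y hy
    rw [Wm_tmul, Gp_apply, mul_assoc, ← Bialgebra.comul_mul, hr y hy, map_zero, mul_zero, map_zero,
      map_zero]
  -- `Δ k` lies in the kernel of `φ ⊗ φ`
  have hker : Coalgebra.comul (R := K) k ∈ LinearMap.ker
      (TensorProduct.map (φ : B →ₗ[K] A) (φ : B →ₗ[K] A)) := by
    rw [LinearMap.mem_ker]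
    have := CoalgHomClass.map_comp_comul_apply φ k
    rw [hk, map_zero] at this
    exact this
  have hex : Function.Exact (LinearMap.ker (φ : B →ₗ[K] A)).subtype (φ : B →ₗ[K] A) :=
    LinearMap.exact_subtype_ker_map _
  have hφ' : Function.Surjective (φ : B →ₗ[K] A) := hφ
  rw [TensorProduct.map_ker hex hφ' hex hφ'] at hker
  have h1 : ∀ w₁ : B ⊗[K] LinearMap.ker (φ : B →ₗ[K] A), Gp l r (Wm (K := K) (LinearMap.lTensor B
      (LinearMap.ker (φ : B →ₗ[K] A)).subtype w₁)) = 0 := by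
    intro w₁
    induction w₁ using TensorProduct.induction_on with
    | zero => simp
    | tmul x κ =>
      rw [LinearMap.lTensor_tmul]
      exact hy x κ.1 κ.2
    | add p q hp hq => rw [map_add, map_add, map_add, hp, hq, add_zero]
  have h2 : ∀ w₂ : LinearMap.ker (φ : B →ₗ[K] A) ⊗[K] B, Gp l r (Wm (K := K) (LinearMap.rTensor B
      (LinearMap.ker (φ : B →ₗ[K] A)).subtype w₂)) = 0 := by
    intro w₂
    induction w₂ using TensorProduct.induction_on with
    | zero => simp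
    | tmul κ y =>
      rw [LinearMap.rTensor_tmul]
      exact hx κ.1 y κ.2
    | add p q hp hq => rw [map_add, map_add, map_add, hp, hq, add_zero]
  obtain ⟨z₁, hz₁, z₂, hz₂, hz⟩ := Submodule.mem_sup.mp hker
  rw [← hz, map_add, map_add]
  obtain ⟨w₁, rfl⟩ := hz₁
  obtain ⟨w₂, rfl⟩ := hz₂
  rw [h1, h2, add_zero]

end Transl

section KerPhi

variable {K : Type u} [CommRing K] [IsNoetherianRing K] (𝔞 : Ideal K) [IsAdicComplete 𝔞 K]
  {B : Type u} [CommRing B] [HopfAlgebra K B] {M : Type u} [CommGroup M]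
  (ε₀ : (K ⧸ 𝔞) ⊗[K] B ≃ₐc[K ⧸ 𝔞] MonoidAlgebra (K ⧸ 𝔞) M)
  (hflat : ∀ n : ℕ, Module.Flat (K ⧸ 𝔞 ^ n) ((K ⧸ 𝔞 ^ n) ⊗[K] B))

omit [IsNoetherianRing K] [IsAdicComplete 𝔞 K] in
lemma exists_theta_eq_single (n : ℕ) (m : M) :
    ∃ g : B, theta 𝔞 ε₀ hflat n g = MonoidAlgebra.single m 1 := by
  obtain ⟨g, hg⟩ := exists_one_tmul_eq (𝔞 ^ n) ((lev 𝔞 ε₀ hflat n).symm (MonoidAlgebra.single m 1))
  exact ⟨g, by rw [theta_apply, hg, (lev 𝔞 ε₀ hflat n).apply_symm_apply]⟩

omit [IsNoetherianRing K] in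
lemma isUnit_of_sub_one_mem {u : K} (h : u - 1 ∈ 𝔞) : IsUnit u := by
  have h1 := IsAdicComplete.le_jacobson_bot 𝔞 h
  have h2 := Ideal.mem_jacobson_bot.mp h1 1
  rwa [mul_one, sub_add_cancel] at h2

theorem phi_surjective : Function.Surjective (phi 𝔞 ε₀ hflat) := by
  have hm : ∀ m : M, MonoidAlgebra.single m (1 : K) ∈
      ((phi 𝔞 ε₀ hflat : B →ₐc[K] MonoidAlgebra K M) : B →ₐ[K] MonoidAlgebra K M).range := by
    intro m
    obtain ⟨g, hg⟩ := exists_theta_eq_single 𝔞 ε₀ hflat 1 m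
    have h1 : Ideal.Quotient.mk (𝔞 ^ 1) (Lam 𝔞 ε₀ hflat m g) = 1 := by
      rw [mk_Lam, hg, MonoidAlgebra.coeff_single, Finsupp.single_eq_same]
    have h2 : Lam 𝔞 ε₀ hflat m g - 1 ∈ 𝔞 := by
      have : Lam 𝔞 ε₀ hflat m g - 1 ∈ 𝔞 ^ 1 := by
        rw [← Ideal.Quotient.eq_zero_iff_mem, map_sub, h1, map_one, sub_self]
      rwa [pow_one] at this
    obtain ⟨u, hu⟩ := isUnit_of_sub_one_mem 𝔞 h2
    have h3 := graded_mem_range (phi 𝔞 ε₀ hflat) g m
    rw [coeff_phi, ← hu] at h3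
    have h4 : MonoidAlgebra.single m (1 : K) = (↑u⁻¹ : K) • MonoidAlgebra.single m (u : K) := by
      rw [MonoidAlgebra.smul_single, smul_eq_mul, Units.inv_mul]
    rw [h4]
    exact Subalgebra.smul_mem _ h3 _
  intro b
  have h : b ∈ ((phi 𝔞 ε₀ hflat : B →ₐc[K] MonoidAlgebra K M) :
      B →ₐ[K] MonoidAlgebra K M).range := by
    induction b using MonoidAlgebra.induction_on with
    | of m => exact hm m
    | add x y hx hy => exact add_mem hx hy
    | smul r x hx => exact Subalgebra.smul_mem _ hx r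
  exact h

lemma mem_smul_top_of_phi_eq_zero {x : B} (hx : phi 𝔞 ε₀ hflat x = 0) (n : ℕ) :
    x ∈ 𝔞 ^ n • (⊤ : Submodule K B) := by
  have h1 : theta 𝔞 ε₀ hflat n x = 0 := by
    rw [← red_phi, hx, map_zero]
  rw [theta_apply, EmbeddingLike.map_eq_zero_iff, one_tmul_eq_zero_iff'] at h1
  exact h1

end KerPhi

end Groth.Agent.Lib.Helper77.CompDiag
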