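import Mathlib
import Groth.Agent.Lib.Helper77.CompDiag7

set_option autoImplicit false
universe u
open TensorProduct WithConv

namespace Groth.Agent.Lib.Helper77.CompDiag

open SGA3b Groth.Agent.Lib.Helper77.MultMono Groth.Agent.Lib.Helper77.MultBC
  Groth.Agent.Lib.Helper77.GLLift Groth.Agent.Lib.Helper77.DiagNil
  Groth.Agent.Lib.Helper77.MultKer Groth.Agent.Lib.Helper77.DefRigid

section MA2

variable (K : Type u) [CommRing K] (M : Type u) [CommGroup M]

lemma lidr_comul (m : M) (x : MonoidAlgebra K M) :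
    TensorProduct.lid K (MonoidAlgebra K M) (LinearMap.rTensor (MonoidAlgebra K M) (coeffL K M m)
      (Coalgebra.comul (R := K) x)) = MonoidAlgebra.single m (x.coeff m) := by
  classical
  induction x using MonoidAlgebra.induction_on with
  | of n =>
    rw [MonoidAlgebra.of_apply, MonoidAlgebra.comul_single]
    simp only [CommSemiring.comul_apply, TensorProduct.map_tmul, MonoidAlgebra.lsingle_apply,
      LinearMap.rTensor_tmul, TensorProduct.lid_tmul, coeffL_apply, MonoidAlgebra.coeff_single,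
      Finsupp.single_apply]
    split_ifs with h
    · rw [h, one_smul]
    · rw [zero_smul, MonoidAlgebra.single_zero]
  | add x y hx hy =>
    rw [map_add, map_add, map_add, hx, hy, MonoidAlgebra.coeff_add, Finsupp.add_apply,
      MonoidAlgebra.single_add]
  | smul r x hx =>
    rw [map_smul, map_smul, map_smul, hx, MonoidAlgebra.coeff_smul, Finsupp.smul_apply,
      MonoidAlgebra.smul_single]

end MA2

section Idem

variable {K : Type u} [CommRing K] [IsNoetherianRing K] (𝔞 : Ideal K) [IsAdicComplete 𝔞 K]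
  {B : Type u} [CommRing B] [HopfAlgebra K B] {M : Type u} [CommGroup M]
  (ε₀ : (K ⧸ 𝔞) ⊗[K] B ≃ₐc[K ⧸ 𝔞] MonoidAlgebra (K ⧸ 𝔞) M)
  (hflat : ∀ n : ℕ, Module.Flat (K ⧸ 𝔞 ^ n) ((K ⧸ 𝔞 ^ n) ⊗[K] B))

lemma phi_Pop_Lam (m : M) (y : B) :
    phi 𝔞 ε₀ hflat (Pop (Lam 𝔞 ε₀ hflat m) y) = MonoidAlgebra.single m (Lam 𝔞 ε₀ hflat m y) := by
  have key : ∀ t : B ⊗[K] B, phi 𝔞 ε₀ hflat (TensorProduct.lid K B
      (LinearMap.rTensor B (Lam 𝔞 ε₀ hflat m) t)) =
      TensorProduct.lid K (MonoidAlgebra K M) (LinearMap.rTensor (MonoidAlgebra K M) (coeffL K M m)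
        (TensorProduct.map (phi 𝔞 ε₀ hflat : B →ₗ[K] MonoidAlgebra K M)
          (phi 𝔞 ε₀ hflat : B →ₗ[K] MonoidAlgebra K M) t)) := by
    intro t
    induction t using TensorProduct.induction_on with
    | zero => simp
    | tmul x z =>
      rw [LinearMap.rTensor_tmul, TensorProduct.lid_tmul, map_smul, TensorProduct.map_tmul,
        LinearMap.rTensor_tmul, TensorProduct.lid_tmul, coeffL_apply]
      rfl
    | add p q hp hq => simp only [map_add, hp, hq]
  rw [Pop_apply, key, CoalgHomClass.map_comp_comul_apply, lidr_comul, coeff_phi]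

/-- the kernel of the algebraised homomorphism is generated by an idempotent lying in `𝔞 B`. -/
theorem exists_idempotent [IsNoetherianRing B] :
    ∃ e : B, IsIdempotentElem e ∧ e ∈ Ideal.map (algebraMap K B) 𝔞 ∧
      RingHom.ker (phi 𝔞 ε₀ hflat) = Ideal.span {e} := by
  have hsurj := phi_surjective 𝔞 ε₀ hflat
  let L : Submodule K B := LinearMap.ker (phi 𝔞 ε₀ hflat : B →ₗ[K] MonoidAlgebra K M)
  haveI : Module.Flat K (B ⧸ L) := by
    have e := (phi 𝔞 ε₀ hflat : B →ₗ[K] MonoidAlgebra K M).quotKerEquivOfSurjective hsurj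
    haveI : Module.Free K (MonoidAlgebra K M) := Module.Free.of_basis (MonoidAlgebra.basis M K)
    exact Module.Flat.of_linearEquiv e
  have hmemI : ∀ x : B, x ∈ 𝔞 • (⊤ : Submodule K B) ↔ x ∈ Ideal.map (algebraMap K B) 𝔞 := by
    intro x
    rw [Ideal.smul_top_eq_map]
    rfl
  have hle : RingHom.ker (phi 𝔞 ε₀ hflat) ≤
      Ideal.map (algebraMap K B) 𝔞 • RingHom.ker (phi 𝔞 ε₀ hflat) := by
    intro x hx
    have hx0 : phi 𝔞 ε₀ hflat x = 0 := hx
    have hxL : x ∈ L := hx0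
    have h1 := mem_smul_top_of_phi_eq_zero 𝔞 ε₀ hflat hx0 1
    rw [pow_one] at h1
    have h2 := mem_smul_of_mem_of_flat_quotient 𝔞 L hxL h1
    refine Submodule.smul_induction_on h2 ?_ ?_
    · intro a ha l hl
      have hl' : l ∈ RingHom.ker (phi 𝔞 ε₀ hflat) := hl
      have h3 : a • l = algebraMap K B a * l := Algebra.smul_def a l
      rw [h3]
      exact Ideal.mul_mem_mul (Ideal.mem_map_of_mem (algebraMap K B) ha) hl'
    · intro p q hp hq
      exact add_mem hp hq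
  obtain ⟨r, hr1, hr0⟩ := Submodule.exists_sub_one_mem_and_smul_eq_zero_of_fg_of_le_smul
    (Ideal.map (algebraMap K B) 𝔞) (RingHom.ker (phi 𝔞 ε₀ hflat))
    (IsNoetherian.noetherian _) hle
  -- the unit
  have hu1 : Lam 𝔞 ε₀ hflat 1 r - 1 ∈ 𝔞 := by
    have h1 : Lam 𝔞 ε₀ hflat (1 : M) (1 : B) = 1 := by
      have h0 := coeff_phi 𝔞 ε₀ hflat (1 : B) (1 : M)
      have hp1 : phi 𝔞 ε₀ hflat (1 : B) = 1 := map_one _
      rw [hp1, MonoidAlgebra.one_def, MonoidAlgebra.coeff_single,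
        Finsupp.single_eq_same] at h0
      exact h0.symm
    have h2 : Lam 𝔞 ε₀ hflat 1 r - 1 = Lam 𝔞 ε₀ hflat 1 (r - 1) := by
      rw [map_sub, h1]
    rw [h2]
    exact map_mem_ideal 𝔞 _ ((hmemI _).mpr hr1)
  obtain ⟨u, hu⟩ := isUnit_of_sub_one_mem 𝔞 hu1
  -- the element of the annihilator
  have ht : ∀ k : B, phi 𝔞 ε₀ hflat k = 0 → Pop (Lam 𝔞 ε₀ hflat 1) r * k = 0 := by
    intro k hk
    refine Pop_mul_eq_zero (phi 𝔞 ε₀ hflat) hsurj _ r ?_ ?_ k hk
    · intro κ v hκ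
      have h0 := coeff_phi 𝔞 ε₀ hflat (κ * v) (1 : M)
      have hp : phi 𝔞 ε₀ hflat (κ * v) = 0 := by rw [map_mul, hκ, zero_mul]
      rw [hp] at h0
      rw [← h0]
      rfl
    · intro κ hκ
      rw [mul_comm]
      exact hr0 κ hκ
  have hφt : phi 𝔞 ε₀ hflat (Pop (Lam 𝔞 ε₀ hflat 1) r) = (u : K) • (1 : MonoidAlgebra K M) := by
    rw [phi_Pop_Lam, ← hu, MonoidAlgebra.one_def, MonoidAlgebra.smul_single, smul_eq_mul, mul_one]
  set t' : B := (↑u⁻¹ : K) • Pop (Lam 𝔞 ε₀ hflat 1) r with ht'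
  have hφt' : phi 𝔞 ε₀ hflat t' = 1 := by
    rw [ht', map_smul, hφt, smul_smul, Units.inv_mul, one_smul]
  have ht'k : ∀ k : B, phi 𝔞 ε₀ hflat k = 0 → t' * k = 0 := by
    intro k hk
    rw [ht', smul_mul_assoc, ht k hk, smul_zero]
  have hφe : phi 𝔞 ε₀ hflat (1 - t') = 0 := by
    rw [map_sub, map_one, hφt', sub_self]
  refine ⟨1 - t', ?_, ?_, ?_⟩
  · show (1 - t') * (1 - t') = 1 - t'
    have := ht'k _ hφe
    calc (1 - t') * (1 - t') = (1 - t') - t' * (1 - t') := by ring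
      _ = 1 - t' := by rw [this, sub_zero]
  · rw [← hmemI]
    have := mem_smul_top_of_phi_eq_zero 𝔞 ε₀ hflat hφe 1
    rwa [pow_one] at this
  · apply le_antisymm
    · intro x hx
      have hx0 : phi 𝔞 ε₀ hflat x = 0 := hx
      rw [Ideal.mem_span_singleton']
      refine ⟨x, ?_⟩
      have := ht'k x hx0
      calc x * (1 - t') = x - t' * x := by ring
        _ = x := by rw [this, sub_zero]
    · rw [Ideal.span_le]
      rintro _ rfl
      exact hφe

end Idem

end Groth.Agent.Lib.Helper77.CompDiag
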