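import Mathlib
import Groth.Agent.Lib.Helper77.CompDiag8

set_option autoImplicit false
universe u
open TensorProduct WithConv

namespace Groth.Agent.Lib.Helper77.CompDiag

open SGA3b Groth.Agent.Lib.Helper77.MultMono Groth.Agent.Lib.Helper77.MultBC
  Groth.Agent.Lib.Helper77.GLLift Groth.Agent.Lib.Helper77.DiagNil
  Groth.Agent.Lib.Helper77.MultKer Groth.Agent.Lib.Helper77.DefRigid

section Conn

lemma eq_zero_of_isIdempotentElem_of_isNilpotent {F : Type*} [CommRing F] {x : F}
    (hx : IsIdempotentElem x) (hn : IsNilpotent x) : x = 0 := by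
  obtain ⟨n, hn⟩ := hn
  rcases n with _ | n
  · rw [pow_zero] at hn
    have : x = x * 1 := (mul_one _).symm
    rw [this, hn, mul_zero]
  · rwa [hx.pow_succ_eq] at hn

lemma eq_zero_or_eq_one_of_isIdempotentElem {F : Type*} [CommRing F]
    [ConnectedSpace (PrimeSpectrum F)] {x : F} (hx : IsIdempotentElem x) : x = 0 ∨ x = 1 := by
  have hcl : IsClopen (PrimeSpectrum.basicOpen x : Set (PrimeSpectrum F)) :=
    PrimeSpectrum.isClopen_basicOpen_of_mul_add x (1 - x)
      (by rw [mul_sub, mul_one, hx.eq, sub_self]) (by ring)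
  rcases isClopen_iff.mp hcl with h | h
  · left
    apply eq_zero_of_isIdempotentElem_of_isNilpotent hx
    rw [← PrimeSpectrum.basicOpen_eq_bot_iff]
    exact TopologicalSpace.Opens.ext h
  · right
    have h1 : (PrimeSpectrum.basicOpen (1 - x) : Set (PrimeSpectrum F)) = ∅ := by
      rw [PrimeSpectrum.basicOpen_eq_zeroLocus_of_isIdempotentElem _ hx.one_sub, sub_sub_cancel]
      rw [PrimeSpectrum.basicOpen_eq_zeroLocus_compl] at h
      rw [← Set.compl_univ, ← h, compl_compl]
    have h2 : 1 - x = 0 := by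
      apply eq_zero_of_isIdempotentElem_of_isNilpotent hx.one_sub
      rw [← PrimeSpectrum.basicOpen_eq_bot_iff]
      exact TopologicalSpace.Opens.ext h1
    exact (sub_eq_zero.mp h2).symm

end Conn

section DiagCase

variable {K : Type u} [CommRing K] [IsNoetherianRing K] (𝔞 : Ideal K) [IsAdicComplete 𝔞 K]
  {B : Type u} [CommRing B] [HopfAlgebra K B] {M : Type u} [CommGroup M]

omit [IsNoetherianRing K] in
/-- an idempotent killed by the counit vanishes in every connected fibre, hence is zero. -/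
theorem eq_zero_of_idempotent_of_connected_fibres
    (hconn : ∀ (p : Ideal K) [p.IsPrime], ConnectedSpace (PrimeSpectrum (p.ResidueField ⊗[K] B)))
    {e : B} (he : IsIdempotentElem e) (hε : Coalgebra.counit (R := K) e = 0) : e = 0 := by
  apply eq_zero_of_isIdempotentElem_of_isNilpotent he
  rw [nilpotent_iff_mem_prime]
  intro 𝔮 h𝔮
  let p : Ideal K := 𝔮.comap (algebraMap K B)
  haveI : p.IsPrime := Ideal.comap_isPrime _ _
  haveI := hconn p
  -- the image of `e` in the fibre is zero
  have h0 : (1 : p.ResidueField) ⊗ₜ[K] e = 0 := by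
    have hid : IsIdempotentElem ((1 : p.ResidueField) ⊗ₜ[K] e) := by
      show _ * _ = _
      rw [Algebra.TensorProduct.tmul_mul_tmul, one_mul, he.eq]
    rcases eq_zero_or_eq_one_of_isIdempotentElem hid with h | h
    · exact h
    · exfalso
      have h1 := congrArg (Coalgebra.counit (R := p.ResidueField)) h
      rw [TensorProduct.counit_tmul, hε, zero_smul, Algebra.TensorProduct.one_def,
        TensorProduct.counit_tmul] at h1
      simp only [Bialgebra.counit_one, one_smul] at h1
      exact zero_ne_one h1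
  -- every prime over `p` comes from the fibre
  let P : PrimeSpectrum K := ⟨p, inferInstance⟩
  let Q : (PrimeSpectrum.comap (algebraMap K B)) ⁻¹' {P} := ⟨⟨𝔮, h𝔮⟩, rfl⟩
  have h1 := (PrimeSpectrum.preimageEquivFiber K B P).symm_apply_apply Q
  have h2 : 𝔮 = ((PrimeSpectrum.preimageEquivFiber K B P) Q).asIdeal.comap
      (Algebra.TensorProduct.includeRight (R := K) (A := p.ResidueField) (B := B)).toRingHom := by
    have := congrArg (fun z => z.1.asIdeal) h1
    exact this.symm
  rw [h2, Ideal.mem_comap]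
  show (1 : p.ResidueField) ⊗ₜ[K] e ∈ _
  rw [h0]
  exact Ideal.zero_mem _

/-- **The diagonalisable case**, with an abstract vanishing hypothesis for idempotents. -/
theorem isDiagOf_of_idempotent_vanishing [Module.Flat K B] (hft : Algebra.FiniteType K B)
    (hvan : ∀ e : B, IsIdempotentElem e → Coalgebra.counit (R := K) e = 0 → e = 0)
    (ε₀ : (K ⧸ 𝔞) ⊗[K] B ≃ₐc[K ⧸ 𝔞] MonoidAlgebra (K ⧸ 𝔞) M) : IsDiagOf M K B := by
  have hflat : ∀ n : ℕ, Module.Flat (K ⧸ 𝔞 ^ n) ((K ⧸ 𝔞 ^ n) ⊗[K] B) := fun n => inferInstance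
  haveI : IsNoetherianRing B := Algebra.FiniteType.isNoetherianRing K B
  obtain ⟨e, he, -, hker⟩ := exists_idempotent 𝔞 ε₀ hflat
  have hφe : phi 𝔞 ε₀ hflat e = 0 := by
    have : e ∈ RingHom.ker (phi 𝔞 ε₀ hflat) := by
      rw [hker]
      exact Ideal.mem_span_singleton_self e
    exact this
  have hεe : Coalgebra.counit (R := K) e = 0 := by
    rw [← CoalgHomClass.counit_comp_apply (phi 𝔞 ε₀ hflat) e, hφe, map_zero]
  have he0 : e = 0 := hvan e he hεe
  have hinj : Function.Injective (phi 𝔞 ε₀ hflat) := by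
    rw [injective_iff_map_eq_zero]
    intro x hx
    have : x ∈ RingHom.ker (phi 𝔞 ε₀ hflat) := hx
    rw [hker, he0, Ideal.mem_span_singleton'] at this
    obtain ⟨a, ha⟩ := this
    rw [← ha, mul_zero]
  exact ⟨BialgEquiv.ofBijective (phi 𝔞 ε₀ hflat) ⟨hinj, phi_surjective 𝔞 ε₀ hflat⟩⟩

/-- **The diagonalisable case**: a flat affine group of finite type with connected fibres over a
complete noetherian base, whose reduction is diagonalisable, is diagonalisable. -/
theorem isDiagOf_of_connected_fibres [Module.Flat K B] (hft : Algebra.FiniteType K B)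
    (hconn : ∀ (p : Ideal K) [p.IsPrime], ConnectedSpace (PrimeSpectrum (p.ResidueField ⊗[K] B)))
    (ε₀ : (K ⧸ 𝔞) ⊗[K] B ≃ₐc[K ⧸ 𝔞] MonoidAlgebra (K ⧸ 𝔞) M) : IsDiagOf M K B :=
  isDiagOf_of_idempotent_vanishing 𝔞 hft
    (fun _ he hε => eq_zero_of_idempotent_of_connected_fibres hconn he hε) ε₀

end DiagCase

end Groth.Agent.Lib.Helper77.CompDiag
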