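import Mathlib
import Groth.Agent.Lib.Helper77.CompDiag9

set_option autoImplicit false
universe u
open TensorProduct WithConv

namespace Groth.Agent.Lib.Helper77.CompDiag

open SGA3b Groth.Agent.Lib.Helper77.MultMono Groth.Agent.Lib.Helper77.MultBC
  Groth.Agent.Lib.Helper77.GLLift Groth.Agent.Lib.Helper77.DiagNil
  Groth.Agent.Lib.Helper77.MultKer Groth.Agent.Lib.Helper77.DefRigid

section BC

variable {A : Type u} [CommRing A] (A' : Type u) [CommRing A'] [Algebra A A']
  {C : Type u} [CommRing C] [HopfAlgebra A C]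

/-- an idempotent of `A' ⊗ C` killed by the counit is zero, if `A'` is finite, flat and finitely
presented over `A` and the fibres of `C` over `A` are connected. -/
theorem eq_zero_of_idempotent_baseChange [Module.Finite A A'] [Module.Flat A A']
    [Algebra.FinitePresentation A A']
    (hconn : ∀ (p : Ideal A) [p.IsPrime], ConnectedSpace (PrimeSpectrum (p.ResidueField ⊗[A] C)))
    {e : A' ⊗[A] C} (he : IsIdempotentElem e) (hε : Coalgebra.counit (R := A') e = 0) : e = 0 := by
  let c : A' ⊗[A] C ≃ₐ[A] C ⊗[A] A' := Algebra.TensorProduct.comm A A' C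
  have hce : IsIdempotentElem (c e) := by
    show c e * c e = c e
    rw [← map_mul, he.eq]
  suffices h : c e = 0 by
    have := congrArg c.symm h
    rwa [c.symm_apply_apply, map_zero] at this
  -- the counit condition
  let εL : C →ₗ[A] A := Coalgebra.counit
  have hεL : Function.Surjective εL := by
    intro a
    exact ⟨algebraMap A C a, Bialgebra.counit_algebraMap a⟩
  have h1 : ∀ z : A' ⊗[A] C, TensorProduct.lid A A' (LinearMap.rTensor A' εL (c z)) =
      Coalgebra.counit (R := A') z := by
    intro z
    induction z using TensorProduct.induction_on with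
    | zero => simp
    | tmul a' x =>
      rw [TensorProduct.counit_tmul]
      show TensorProduct.lid A A' (LinearMap.rTensor A' εL (x ⊗ₜ[A] a')) = _
      rw [LinearMap.rTensor_tmul, TensorProduct.lid_tmul]
      rfl
    | add p q hp hq => rw [map_add, map_add, map_add, map_add, hp, hq]
  have h2 : LinearMap.rTensor A' εL (c e) = 0 := by
    apply (TensorProduct.lid A A').injective
    rw [h1, hε, map_zero]
  have hex := rTensor_exact A' (LinearMap.exact_subtype_ker_map εL) hεL
  obtain ⟨w, hw⟩ := (hex (c e)).mp h2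
  -- the image of the basic open
  have hopen : IsOpenMap (PrimeSpectrum.comap (algebraMap C (C ⊗[A] A'))) :=
    PrimeSpectrum.isOpenMap_comap_of_hasGoingDown_of_finitePresentation
  have hclosed : IsClosedMap (PrimeSpectrum.comap (algebraMap C (C ⊗[A] A'))) := by
    apply PrimeSpectrum.isClosedMap_comap_of_isIntegral
    exact algebraMap_isIntegral_iff.mpr inferInstance
  have hcl : IsClopen (PrimeSpectrum.basicOpen (c e) : Set (PrimeSpectrum (C ⊗[A] A'))) :=
    PrimeSpectrum.isClopen_basicOpen_of_mul_add (c e) (1 - c e)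
      (by rw [mul_sub, mul_one, hce.eq, sub_self]) (by ring)
  have hW : IsClopen (PrimeSpectrum.comap (algebraMap C (C ⊗[A] A')) ''
      (PrimeSpectrum.basicOpen (c e) : Set (PrimeSpectrum (C ⊗[A] A')))) :=
    ⟨hclosed _ hcl.1, hopen _ hcl.2⟩
  obtain ⟨f, hf, hWf⟩ := PrimeSpectrum.exists_idempotent_basicOpen_eq_of_isClopen hW
  -- `f` is killed by the counit
  have hεf : Coalgebra.counit (R := A) f = 0 := by
    have hid : IsIdempotentElem (Coalgebra.counit (R := A) f) := by
      show _ * _ = _
      rw [← Bialgebra.counit_mul, hf.eq]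
    apply eq_zero_of_isIdempotentElem_of_isNilpotent hid
    rw [nilpotent_iff_mem_prime]
    intro 𝔭 h𝔭
    by_contra hnot
    let u : PrimeSpectrum C := ⟨𝔭.comap (Bialgebra.counitAlgHom A C), Ideal.comap_isPrime _ _⟩
    have hu : u ∈ (PrimeSpectrum.basicOpen f : Set (PrimeSpectrum C)) := hnot
    rw [← hWf] at hu
    obtain ⟨𝔮, h𝔮, h𝔮u⟩ := hu
    apply h𝔮
    show c e ∈ 𝔮.asIdeal
    rw [← hw]
    have hmem : ∀ κ : LinearMap.ker εL, algebraMap C (C ⊗[A] A') κ.1 ∈ 𝔮.asIdeal := by
      intro κ
      have h3 : κ.1 ∈ u.asIdeal := by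
        show Bialgebra.counitAlgHom A C κ.1 ∈ 𝔭
        have : Bialgebra.counitAlgHom A C κ.1 = 0 := κ.2
        rw [this]
        exact Ideal.zero_mem _
      rw [← h𝔮u] at h3
      exact h3
    clear hw
    induction w using TensorProduct.induction_on with
    | zero => rw [map_zero]; exact Ideal.zero_mem _
    | tmul κ a' =>
      rw [LinearMap.rTensor_tmul]
      have h4 : ((LinearMap.ker εL).subtype κ) ⊗ₜ[A] a' =
          algebraMap C (C ⊗[A] A') κ.1 * ((1 : C) ⊗ₜ[A] a') := by
        rw [Algebra.TensorProduct.algebraMap_apply, Algebra.TensorProduct.tmul_mul_tmul, one_mul]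
        simp
      rw [h4]
      exact Ideal.mul_mem_right _ _ (hmem κ)
    | add p q hp hq => rw [map_add]; exact Ideal.add_mem _ hp hq
  have hf0 : f = 0 := eq_zero_of_idempotent_of_connected_fibres hconn hf hεf
  -- conclusion
  apply eq_zero_of_isIdempotentElem_of_isNilpotent hce
  rw [← PrimeSpectrum.basicOpen_eq_bot_iff]
  apply TopologicalSpace.Opens.ext
  rw [hf0, PrimeSpectrum.basicOpen_zero] at hWf
  have := Set.image_eq_empty.mp hWf
  rw [this]
  rfl

end BC

end Groth.Agent.Lib.Helper77.CompDiag
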