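import Mathlib
import Groth.Agent.Lib.Helper77.CompDiag10
import Groth.Agent.Lib.Helper3.FiniteEtalePairLift
import Groth.Agent.Lib.Helper3.Henselian

set_option autoImplicit false
universe u
open TensorProduct WithConv

namespace Groth.Agent.Lib.Helper77.CompDiag

open SGA3b Groth.Agent.Lib.Helper77.MultMono Groth.Agent.Lib.Helper77.MultBC
  Groth.Agent.Lib.Helper77.GLLift Groth.Agent.Lib.Helper77.DiagNil
  Groth.Agent.Lib.Helper77.MultKer Groth.Agent.Lib.Helper77.DefRigid

section FF

variable {K : Type u} [CommRing K] {K₀ : Type u} [CommRing K₀] (π : K →+* K₀)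
  (R' : Type u) [CommRing R'] [Algebra K R'] (R₀' : Type u) [CommRing R₀'] [Algebra K₀ R₀']

/-- faithful flatness lifts along surjections with kernel in the Jacobson radical. -/
theorem faithfullyFlat_of_lift_jacobson [Module.Flat K R'] [Module.FaithfullyFlat K₀ R₀']
    (hπ : Function.Surjective π) (hjac : RingHom.ker π ≤ Ideal.jacobson ⊥)
    (ψ : R' →+* R₀') (hψ : ∀ x, ψ (algebraMap K R' x) = algebraMap K₀ R₀' (π x)) :
    Module.FaithfullyFlat K R' := by
  refine ⟨?_⟩
  intro m hm htop
  have hker : RingHom.ker π ≤ m := by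
    refine hjac.trans ?_
    rw [Ideal.jacobson]
    exact sInf_le ⟨bot_le, hm⟩
  have hmax : (m.map π).IsMaximal := by
    rcases Ideal.map_eq_top_or_isMaximal_of_surjective π hπ hm with h | h
    · exfalso
      have h1 : Ideal.comap π (Ideal.map π m) = m := by
        rw [Ideal.comap_map_of_surjective π hπ, sup_eq_left]
        exact hker
      rw [h, Ideal.comap_top] at h1
      exact hm.ne_top h1.symm
    · exact h
  apply Module.FaithfullyFlat.submodule_ne_top (R := K₀) (M := R₀') hmax
  rw [Ideal.smul_top_eq_map, Submodule.restrictScalars_eq_top_iff, Ideal.eq_top_iff_one] at htop ⊢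
  have h2 : ∀ y ∈ Ideal.map (algebraMap K R') m, ψ y ∈ Ideal.map (algebraMap K₀ R₀') (m.map π) := by
    intro y hy
    refine Submodule.span_induction (p := fun y _ => ψ y ∈ Ideal.map (algebraMap K₀ R₀') (m.map π))
      ?_ ?_ ?_ ?_ hy
    · rintro _ ⟨a, ha, rfl⟩
      rw [hψ]
      exact Ideal.mem_map_of_mem _ (Ideal.mem_map_of_mem _ ha)
    · rw [map_zero]; exact Ideal.zero_mem _
    · intro x y _ _ hx hy
      rw [map_add]; exact Ideal.add_mem _ hx hy
    · intro a x _ hx
      rw [smul_eq_mul, map_mul]; exact Ideal.mul_mem_left _ _ hx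
  have := h2 1 htop
  rwa [map_one] at this

end FF

section Precomplete

/-- A finite module over an `I`-adically precomplete ring is `I`-adically precomplete. -/
theorem isPrecomplete_of_finite {R : Type*} [CommRing R] (I : Ideal R) [IsPrecomplete I R]
    (M : Type*) [AddCommGroup M] [Module R M] [Module.Finite R M] : IsPrecomplete I M := by
  rw [← AdicCompletion.of_surjective_iff]
  intro y
  obtain ⟨t, rfl⟩ := AdicCompletion.ofTensorProduct_surjective_of_finite I M y
  induction t using TensorProduct.induction_on with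
  | zero => exact ⟨0, by simp⟩
  | tmul r x =>
    obtain ⟨r, rfl⟩ := AdicCompletion.of_surjective I R r
    refine ⟨r • x, ?_⟩
    rw [AdicCompletion.ofTensorProduct_tmul, map_smul]
    have h1 : AdicCompletion.of I R r = r • (1 : AdicCompletion I R) := by
      rw [← Algebra.algebraMap_eq_smul_one, AdicCompletion.algebraMap_apply,
        Algebra.algebraMap_self, RingHom.id_apply]
    rw [h1, smul_assoc, one_smul]
  | add a b ha hb =>
    obtain ⟨a', ha'⟩ := ha
    obtain ⟨b', hb'⟩ := hb
    exact ⟨a' + b', by rw [map_add, ha', hb', map_add]⟩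

/-- a finite algebra over a noetherian adically complete ring is complete for the extended
ideal. -/
theorem isAdicComplete_map_of_finite {A : Type u} [CommRing A] [IsNoetherianRing A] (I : Ideal A)
    [IsAdicComplete I A] (A' : Type u) [CommRing A'] [Algebra A A'] [Module.Finite A A'] :
    IsAdicComplete (I.map (algebraMap A A')) A' := by
  haveI : IsHausdorff I A' := IsHausdorff.of_le_jacobson I A' (IsAdicComplete.le_jacobson_bot I)
  haveI : IsPrecomplete I A' := isPrecomplete_of_finite I A'
  haveI : IsAdicComplete I A' := {}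
  exact (IsAdicComplete.map_algebraMap_iff (R := A) (S := A') (M := A') (I := I)).mpr inferInstance

end Precomplete

section Surj

variable (K : Type u) [CommRing K] [IsNoetherianRing K] (B : Type u) [CommRing B]
  [HopfAlgebra K B] (S : Type u) [CommRing S] [Algebra K S]

/-- algebraisation for a surjection whose kernel defines a complete adic topology. -/
theorem isDiagOf_of_surjective_complete [Module.Flat K B] {M : Type u} [CommGroup M]
    (hsurj : Function.Surjective (algebraMap K S))
    [IsAdicComplete (RingHom.ker (algebraMap K S)) K]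
    (hft : Algebra.FiniteType K B)
    (hvan : ∀ e : B, IsIdempotentElem e → Coalgebra.counit (R := K) e = 0 → e = 0)
    (h0 : IsDiagOf M S (S ⊗[K] B)) : IsDiagOf M K B := by
  let e : (K ⧸ RingHom.ker (algebraMap K S)) ≃ₐ[K] S :=
    Ideal.quotientKerAlgEquivOfSurjective (f := Algebra.ofId K S) hsurj
  letI : Algebra S (K ⧸ RingHom.ker (algebraMap K S)) := e.symm.toAlgHom.toRingHom.toAlgebra
  haveI : IsScalarTower K S (K ⧸ RingHom.ker (algebraMap K S)) :=
    IsScalarTower.of_algebraMap_eq (fun x => (e.symm.commutes x).symm)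
  have h1 : IsDiagOf M (K ⧸ RingHom.ker (algebraMap K S))
      ((K ⧸ RingHom.ker (algebraMap K S)) ⊗[K] B) :=
    isDiagOf_tower S _ h0
  obtain ⟨ε₀⟩ := h1
  exact isDiagOf_of_idempotent_vanishing (RingHom.ker (algebraMap K S)) hft hvan ε₀

end Surj

section Main

/-- **Algebraisation of isotriviality** (typed version): over a noetherian `I`-adically complete
ring, a flat affine group of finite type with connected fibres whose reduction mod `I` becomes
diagonalisable of type `M` over a finite étale faithfully flat cover becomes diagonalisable of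
type `M` over a finite étale faithfully flat cover. -/
theorem exists_isDiagOf_of_adicComplete (A : Type u) [CommRing A] [IsNoetherianRing A]
    (I : Ideal A) [IsAdicComplete I A]
    (C : Type u) [CommRing C] [HopfAlgebra A C] [Module.Flat A C] (hft : Algebra.FiniteType A C)
    (hconn : ∀ (p : Ideal A) [p.IsPrime], ConnectedSpace (PrimeSpectrum (p.ResidueField ⊗[A] C)))
    (A₀' : Type u) [CommRing A₀'] [Algebra (A ⧸ I) A₀'] (het : Algebra.Etale (A ⧸ I) A₀')
    (hfin : Module.Finite (A ⧸ I) A₀') (hff : Module.FaithfullyFlat (A ⧸ I) A₀')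
    (M : Type u) [CommGroup M] (hd : IsDiagOf M A₀' (A₀' ⊗[A ⧸ I] ((A ⧸ I) ⊗[A] C))) :
    ∃ (A' : Type u) (_ : CommRing A') (_ : Algebra A A'),
      Algebra.Etale A A' ∧ Module.Finite A A' ∧ Module.FaithfullyFlat A A' ∧
        IsDiagOf M A' (A' ⊗[A] C) := by
  obtain ⟨A', _, _, hfin', het', ⟨e⟩⟩ :=
    Groth.Agent.Lib.Helper3.exists_finite_etale_lift_of_pair A I A₀'
  letI : Algebra A A₀' := ((algebraMap (A ⧸ I) A₀').comp (Ideal.Quotient.mk I)).toAlgebra
  haveI : IsScalarTower A (A ⧸ I) A₀' := IsScalarTower.of_algebraMap_eq (fun _ => rfl)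
  let ψ : A' →ₐ[A] A₀' :=
    (e.toAlgHom.restrictScalars A).comp (Algebra.TensorProduct.includeRight)
  have hψ : ∀ x, ψ x = e ((1 : A ⧸ I) ⊗ₜ[A] x) := fun _ => rfl
  have hsurj : Function.Surjective ψ := by
    intro y
    obtain ⟨x, hx⟩ := DiagNil.exists_one_tmul_eq I (e.symm y)
    exact ⟨x, by rw [hψ, hx, e.apply_symm_apply]⟩
  have hker : RingHom.ker ψ = Ideal.map (algebraMap A A') I := by
    ext x
    rw [RingHom.mem_ker, hψ, EmbeddingLike.map_eq_zero_iff, GLLift.one_tmul_eq_zero_iff]
  letI : Algebra A' A₀' := ψ.toRingHom.toAlgebra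
  haveI : IsScalarTower A A' A₀' := IsScalarTower.of_algebraMap_eq (fun x => (ψ.commutes x).symm)
  haveI : Algebra.Etale A A' := het'
  haveI : IsNoetherianRing A' := Algebra.FiniteType.isNoetherianRing A A'
  have hker' : RingHom.ker (algebraMap A' A₀') = Ideal.map (algebraMap A A') I := hker
  haveI : IsAdicComplete (RingHom.ker (algebraMap A' A₀')) A' := by
    rw [hker']
    exact isAdicComplete_map_of_finite I A'
  have hd' : IsDiagOf M A₀' (A₀' ⊗[A] C) := isDiagOf_of_equiv (cancelBC A (A ⧸ I) A₀' C) hd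
  have h0 : IsDiagOf M A₀' (A₀' ⊗[A'] (A' ⊗[A] C)) :=
    isDiagOf_of_equiv (cancelBC A A' A₀' C).symm hd'
  have hft' : Algebra.FiniteType A' (A' ⊗[A] C) := inferInstance
  have hdiag : IsDiagOf M A' (A' ⊗[A] C) :=
    isDiagOf_of_surjective_complete A' (A' ⊗[A] C) A₀' hsurj hft'
      (fun e he hε => eq_zero_of_idempotent_baseChange A' hconn he hε) h0
  haveI : Module.FaithfullyFlat (A ⧸ I) A₀' := hff
  have hff' : Module.FaithfullyFlat A A' :=
    faithfullyFlat_of_lift_jacobson (Ideal.Quotient.mk I) A' A₀' Ideal.Quotient.mk_surjective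
      (by rw [Ideal.mk_ker]; exact IsAdicComplete.le_jacobson_bot I) ψ.toRingHom
      (fun x => ψ.commutes x)
  exact ⟨A', inferInstance, inferInstance, het', hfin', hff', hdiag⟩

/-- **Algebraisation of isotriviality**. -/
theorem isIsotrivial_of_adicComplete (A : Type u) [CommRing A] [IsNoetherianRing A]
    (I : Ideal A) [IsAdicComplete I A]
    (C : Type u) [CommRing C] [HopfAlgebra A C] [Module.Flat A C] (hft : Algebra.FiniteType A C)
    (hconn : ∀ (p : Ideal A) [p.IsPrime], ConnectedSpace (PrimeSpectrum (p.ResidueField ⊗[A] C)))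
    (h0 : IsIsotrivial (A ⧸ I) ((A ⧸ I) ⊗[A] C)) : IsIsotrivial A C := by
  obtain ⟨A₀', _, _, het, hfin, hff, M, _, hM⟩ := h0
  obtain ⟨A', _, _, het', hfin', hff', hd⟩ :=
    exists_isDiagOf_of_adicComplete A I C hft hconn A₀' het hfin hff M hM
  exact ⟨A', inferInstance, inferInstance, het', hfin', hff', hd.isDiag⟩

end Main

end Groth.Agent.Lib.Helper77.CompDiag
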