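import Mathlib
import Groth.Agent.Lib.Helper77.CompDiag11

set_option autoImplicit false
universe u
open TensorProduct WithConv

namespace Groth.Agent.Lib.Helper77.CompDiag

open SGA3b Groth.Agent.Lib.Helper77.MultMono Groth.Agent.Lib.Helper77.MultBC
  Groth.Agent.Lib.Helper77.GLLift Groth.Agent.Lib.Helper77.DiagNil
  Groth.Agent.Lib.Helper77.MultKer Groth.Agent.Lib.Helper77.DefRigid

section Torus

/-- the free abelian group of rank `n`, written multiplicatively, in universe `u`. -/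
abbrev Zr (n : ℕ) : Type u := ULift.{u} (Multiplicative (Fin n → ℤ))

variable (R : Type u) [CommRing R] (A : Type u) [CommRing A] [HopfAlgebra R A]

lemma isTorusConst_iff : IsTorusConst R A ↔
    ∃ (R' : Type u) (_ : CommRing R') (_ : Algebra R R'), Module.FaithfullyFlat R R' ∧
      ∃ n : ℕ, IsDiagOf (Zr.{u} n) R' (R' ⊗[R] A) := by
  constructor
  · rintro ⟨R', _, _, hff, n, ⟨ε⟩⟩
    exact ⟨R', inferInstance, inferInstance, hff, n,
      ⟨ε.trans (MonoidAlgebra.domCongrBialgEquiv R' R' MulEquiv.ulift.symm)⟩⟩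
  · rintro ⟨R', _, _, hff, n, ⟨ε⟩⟩
    exact ⟨R', inferInstance, inferInstance, hff, n,
      ⟨ε.trans (MonoidAlgebra.domCongrBialgEquiv R' R' MulEquiv.ulift)⟩⟩

variable {R A}

theorem isTorusConst_baseChange (T : Type u) [CommRing T] [Algebra R T] (h : IsTorusConst R A) :
    IsTorusConst T (T ⊗[R] A) := by
  rw [isTorusConst_iff] at h ⊢
  obtain ⟨R', _, _, hff, n, hd⟩ := h
  refine ⟨T ⊗[R] R', inferInstance, inferInstance, inferInstance, n, ?_⟩
  apply isDiagOf_of_equiv (cancelBC R T (T ⊗[R] R') A).symm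
  let _ : Algebra R' (T ⊗[R] R') := Algebra.TensorProduct.rightAlgebra
  exact isDiagOf_tower R' (T ⊗[R] R') hd

theorem isTorus_of_isTorusConst (h : IsTorusConst R A) : IsTorus R A := by
  refine ⟨{1}, ?_, ?_⟩
  · rw [Ideal.span_singleton_one]
  · intro f _
    exact isTorusConst_baseChange _ h

end Torus

section Unique

variable {K : Type u} [CommRing K] {B : Type u} [CommRing B] [HopfAlgebra K B]
  {M N : Type u} [CommGroup M] [CommGroup N]

/-- the type of a diagonalisable group is unique (compared over a common domain). -/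
theorem nonempty_mulEquiv_of_isDiagOf_of_domain (T₁ T₂ : Type u) [CommRing T₁] [CommRing T₂]
    [Algebra K T₁] [Algebra K T₂] (Ω : Type u) [CommRing Ω] [IsDomain Ω] (φ₁ : T₁ →+* Ω)
    (φ₂ : T₂ →+* Ω) (hφ : ∀ x : K, φ₁ (algebraMap K T₁ x) = φ₂ (algebraMap K T₂ x))
    (h₁ : IsDiagOf M T₁ (T₁ ⊗[K] B)) (h₂ : IsDiagOf N T₂ (T₂ ⊗[K] B)) : Nonempty (M ≃* N) := by
  letI : Algebra T₁ Ω := φ₁.toAlgebra
  letI : Algebra T₂ Ω := φ₂.toAlgebra
  letI : Algebra K Ω := (φ₁.comp (algebraMap K T₁)).toAlgebra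
  haveI : IsScalarTower K T₁ Ω := IsScalarTower.of_algebraMap_eq (fun _ => rfl)
  haveI : IsScalarTower K T₂ Ω := IsScalarTower.of_algebraMap_eq (fun x => hφ x)
  obtain ⟨ε₁⟩ := isDiagOf_tower T₁ Ω h₁
  obtain ⟨ε₂⟩ := isDiagOf_tower T₂ Ω h₂
  exact nonempty_mulEquiv_of_bialgEquiv (ε₁.symm.trans ε₂)

/-- the type of a diagonalisable group is unique (compared over two covers with nontrivial
tensor product). -/
theorem nonempty_mulEquiv_of_isDiagOf (T₁ T₂ : Type u) [CommRing T₁] [CommRing T₂] [Algebra K T₁]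
    [Algebra K T₂] [Nontrivial (T₁ ⊗[K] T₂)] (h₁ : IsDiagOf M T₁ (T₁ ⊗[K] B))
    (h₂ : IsDiagOf N T₂ (T₂ ⊗[K] B)) : Nonempty (M ≃* N) := by
  obtain ⟨m, hm⟩ := Ideal.exists_maximal (T₁ ⊗[K] T₂)
  letI : Field ((T₁ ⊗[K] T₂) ⧸ m) := Ideal.Quotient.field m
  refine nonempty_mulEquiv_of_isDiagOf_of_domain T₁ T₂ ((T₁ ⊗[K] T₂) ⧸ m)
    ((Ideal.Quotient.mk m).comp
      (Algebra.TensorProduct.includeLeft (R := K) (S := K) (A := T₁) (B := T₂)).toRingHom)
    ((Ideal.Quotient.mk m).comp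
      (Algebra.TensorProduct.includeRight (R := K) (A := T₁) (B := T₂)).toRingHom) ?_ h₁ h₂
  intro x
  show (Ideal.Quotient.mk m) (algebraMap K T₁ x ⊗ₜ[K] (1 : T₂)) =
    (Ideal.Quotient.mk m) ((1 : T₁) ⊗ₜ[K] algebraMap K T₂ x)
  rw [Algebra.algebraMap_eq_smul_one x, Algebra.algebraMap_eq_smul_one x, TensorProduct.smul_tmul]

end Unique

section MainTorus

/-- **Algebraisation of isotrivial tori**. -/
theorem isTorus_of_adicComplete (A : Type u) [CommRing A] [IsNoetherianRing A]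
    (I : Ideal A) [IsAdicComplete I A]
    (C : Type u) [CommRing C] [HopfAlgebra A C] [Module.Flat A C] (hft : Algebra.FiniteType A C)
    (hconn : ∀ (p : Ideal A) [p.IsPrime], ConnectedSpace (PrimeSpectrum (p.ResidueField ⊗[A] C)))
    (h0 : IsIsotrivial (A ⧸ I) ((A ⧸ I) ⊗[A] C)) (ht : IsTorus (A ⧸ I) ((A ⧸ I) ⊗[A] C)) :
    IsTorus A C := by
  by_cases htriv : Subsingleton A
  · exact ⟨∅, Subsingleton.elim _ _, fun f hf => absurd hf (Set.notMem_empty f)⟩
  rw [not_subsingleton_iff_nontrivial] at htriv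
  have hI : I ≠ ⊤ := by
    intro h
    have h1 : (1 : A) = 0 := by
      refine IsHausdorff.haus (inferInstance : IsHausdorff I A) 1 (fun n => ?_)
      rw [h, Ideal.top_pow, SModEq.sub_mem, Ideal.smul_top_eq_map, Ideal.map_top]
      exact Submodule.mem_top
    exact one_ne_zero h1
  haveI : Nontrivial (A ⧸ I) := Ideal.Quotient.nontrivial_iff.mpr hI
  obtain ⟨A₀', _, _, het, hfin, hff, M, _, hM⟩ := h0
  obtain ⟨A', _, _, het', hfin', hff', hd⟩ :=
    exists_isDiagOf_of_adicComplete A I C hft hconn A₀' het hfin hff M hM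
  obtain ⟨s, hs, hst⟩ := ht
  obtain ⟨f, hf, hfn⟩ : ∃ f ∈ s, Nontrivial (Localization.Away f) := by
    by_contra hcon
    push Not at hcon
    have hnil : ∀ f ∈ s, f ∈ nilradical (A ⧸ I) := by
      intro f hf
      have h1 := hcon f hf
      rw [IsLocalization.subsingleton_iff (M := Submonoid.powers f)] at h1
      obtain ⟨k, hk⟩ := h1
      exact ⟨k, hk⟩
    have h2 : Ideal.span s ≤ nilradical (A ⧸ I) := Ideal.span_le.mpr hnil
    rw [hs] at h2
    have h3 : (1 : A ⧸ I) ∈ nilradical (A ⧸ I) := h2 Submodule.mem_top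
    obtain ⟨k, hk⟩ := h3
    rw [one_pow] at hk
    exact one_ne_zero hk
  obtain ⟨R', _, _, hffR, n, hdR⟩ := (isTorusConst_iff _ _).mp (hst f hf)
  letI : Algebra (A ⧸ I) R' := ((algebraMap (Localization.Away f) R').comp
    (algebraMap (A ⧸ I) (Localization.Away f))).toAlgebra
  haveI : IsScalarTower (A ⧸ I) (Localization.Away f) R' :=
    IsScalarTower.of_algebraMap_eq (fun _ => rfl)
  have hdR' : IsDiagOf (Zr.{u} n) R' (R' ⊗[A ⧸ I] ((A ⧸ I) ⊗[A] C)) :=
    isDiagOf_of_equiv (cancelBC (A ⧸ I) (Localization.Away f) R' _) hdR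
  haveI : Module.FaithfullyFlat (Localization.Away f) R' := hffR
  haveI : Nontrivial R' :=
    (TensorProduct.lid (Localization.Away f) R').symm.toEquiv.nontrivial
  haveI : Module.FaithfullyFlat (A ⧸ I) A₀' := hff
  haveI : Nontrivial (A₀' ⊗[A ⧸ I] R') := inferInstance
  obtain ⟨g⟩ := nonempty_mulEquiv_of_isDiagOf A₀' R' hM hdR'
  have h5 := isDiagOf_congr g hd
  exact isTorus_of_isTorusConst
    ((isTorusConst_iff _ _).mpr ⟨A', inferInstance, inferInstance, hff', n, h5⟩)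

end MainTorus

end Groth.Agent.Lib.Helper77.CompDiag
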