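import Mathlib
import Groth.Agent.Lib.Helper77.CompDiag12

set_option autoImplicit false
universe u
open TensorProduct WithConv

namespace Groth.Agent.Lib.Helper77.CompDiag

open SGA3b Groth.Agent.Lib.Helper77.MultMono Groth.Agent.Lib.Helper77.MultBC
  Groth.Agent.Lib.Helper77.GLLift Groth.Agent.Lib.Helper77.DiagNil
  Groth.Agent.Lib.Helper77.MultKer Groth.Agent.Lib.Helper77.DefRigid

section LevelFlat

variable {A : Type u} [CommRing A] (I : Ideal A) (C : Type u) [CommRing C] [Algebra A C]

/-- flatness at the points over `V(I)` gives flatness after any base change killing a power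
of `I` (more generally making the elements of `I` nilpotent). -/
theorem flat_baseChange_of_flat_at_primes
    (hfl : ∀ (q : Ideal C) [q.IsPrime], Ideal.map (algebraMap A C) I ≤ q →
      Module.Flat A (Localization.AtPrime q))
    (T : Type u) [CommRing T] [Algebra A T] (hT : ∀ a ∈ I, IsNilpotent (algebraMap A T a)) :
    Module.Flat T (T ⊗[A] C) := by
  refine Module.flat_of_isLocalized_maximal (R := T) (T ⊗[A] C) (T ⊗[A] C)
    (fun P _ => Localization.AtPrime P)
    (fun P _ => Algebra.linearMap (T ⊗[A] C) (Localization.AtPrime P)) ?_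
  intro P hP
  let ι : C →ₐ[A] T ⊗[A] C := Algebra.TensorProduct.includeRight
  let q : Ideal C := P.comap ι.toRingHom
  haveI : q.IsPrime := Ideal.comap_isPrime _ _
  have hq : Ideal.map (algebraMap A C) I ≤ q := by
    rw [Ideal.map_le_iff_le_comap]
    intro a ha
    rw [Ideal.mem_comap]
    show ι (algebraMap A C a) ∈ P
    have h1 : ι (algebraMap A C a) = algebraMap T (T ⊗[A] C) (algebraMap A T a) := by
      rw [ι.commutes, IsScalarTower.algebraMap_apply A T (T ⊗[A] C)]
    rw [h1]
    obtain ⟨n, hn⟩ := hT a ha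
    apply hP.isPrime.mem_of_pow_mem n
    rw [← map_pow, hn, map_zero]
    exact P.zero_mem
  haveI : Module.Flat A (Localization.AtPrime q) := hfl q hq
  let M' : Submonoid (T ⊗[A] C) := q.primeCompl.map ι
  have hle : M' ≤ P.primeCompl := by
    rintro _ ⟨c, hc, rfl⟩
    exact hc
  let L := Localization M'
  let E : T ⊗[A] Localization.AtPrime q ≃ₐ[T] L :=
    IsLocalization.tensorProductEquivOfMapIncludeRight A T q.primeCompl (Localization.AtPrime q) L
  haveI : Module.Flat T L := Module.Flat.of_linearEquiv E.toLinearEquiv.symm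
  letI : Algebra L (Localization.AtPrime P) :=
    IsLocalization.localizationAlgebraOfSubmonoidLe L (Localization.AtPrime P) M' P.primeCompl hle
  haveI : IsScalarTower (T ⊗[A] C) L (Localization.AtPrime P) :=
    IsLocalization.localization_isScalarTower_of_submonoid_le L (Localization.AtPrime P) M'
      P.primeCompl hle
  haveI : IsLocalization (P.primeCompl.map (algebraMap (T ⊗[A] C) L)) (Localization.AtPrime P) :=
    IsLocalization.isLocalization_of_submonoid_le L (Localization.AtPrime P) M' P.primeCompl hle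
  haveI : Module.Flat L (Localization.AtPrime P) :=
    IsLocalization.flat (Localization.AtPrime P) (P.primeCompl.map (algebraMap (T ⊗[A] C) L))
  haveI : IsScalarTower T L (Localization.AtPrime P) :=
    IsScalarTower.to₁₃₄ T (T ⊗[A] C) L (Localization.AtPrime P)
  exact Module.Flat.trans T L (Localization.AtPrime P)

end LevelFlat

section KerChar

variable {K : Type u} [CommRing K] [IsNoetherianRing K] (𝔞 : Ideal K) [IsAdicComplete 𝔞 K]
  {B : Type u} [CommRing B] [HopfAlgebra K B] {M : Type u} [CommGroup M]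
  (ε₀ : (K ⧸ 𝔞) ⊗[K] B ≃ₐc[K ⧸ 𝔞] MonoidAlgebra (K ⧸ 𝔞) M)
  (hflat : ∀ n : ℕ, Module.Flat (K ⧸ 𝔞 ^ n) ((K ⧸ 𝔞 ^ n) ⊗[K] B))

/-- the kernel of the algebraised homomorphism is the closure of zero for the adic topology. -/
theorem phi_eq_zero_iff (x : B) :
    phi 𝔞 ε₀ hflat x = 0 ↔ ∀ n : ℕ, x ∈ 𝔞 ^ n • (⊤ : Submodule K B) := by
  constructor
  · intro hx n
    exact mem_smul_top_of_phi_eq_zero 𝔞 ε₀ hflat hx n
  · intro hx
    apply eq_of_forall_red_eq 𝔞
    intro n
    rw [red_phi, map_zero, theta_apply]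
    have h1 : (1 : K ⧸ 𝔞 ^ n) ⊗ₜ[K] x = 0 := (one_tmul_eq_zero_iff' (𝔞 ^ n) x).mpr (hx n)
    rw [h1, map_zero]

end KerChar

section Bridge

variable {A : Type u} [CommRing A] (I : Ideal A) {K : Type u} [CommRing K] [Algebra A K]
  {X : Type u} [AddCommGroup X] [Module A X] [Module K X] [IsScalarTower A K X]

lemma mem_smul_top_of_mem_map_smul_top {x : X}
    (hx : x ∈ (Ideal.map (algebraMap A K) I) • (⊤ : Submodule K X)) :
    x ∈ I • (⊤ : Submodule A X) := by
  have key : ∀ r ∈ Ideal.map (algebraMap A K) I, ∀ b : X, r • b ∈ I • (⊤ : Submodule A X) := by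
    intro r hr
    refine Submodule.span_induction (p := fun r _ => ∀ b : X, r • b ∈ I • (⊤ : Submodule A X))
      ?_ ?_ ?_ ?_ hr
    · rintro _ ⟨a, ha, rfl⟩ b
      rw [algebraMap_smul]
      exact Submodule.smul_mem_smul ha Submodule.mem_top
    · intro b
      rw [zero_smul]
      exact Submodule.zero_mem _
    · intro r₁ r₂ _ _ h₁ h₂ b
      rw [add_smul]
      exact Submodule.add_mem _ (h₁ b) (h₂ b)
    · intro k r _ h b
      rw [smul_eq_mul, mul_comm, mul_smul]
      exact h (k • b)
  refine Submodule.smul_induction_on hx ?_ ?_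
  · intro r hr b _
    exact key r hr b
  · intro x y hx hy
    exact Submodule.add_mem _ hx hy

lemma mem_map_smul_top_of_mem_smul_top {x : X} (hx : x ∈ I • (⊤ : Submodule A X)) :
    x ∈ (Ideal.map (algebraMap A K) I) • (⊤ : Submodule K X) := by
  refine Submodule.smul_induction_on hx ?_ ?_
  · intro a ha b _
    rw [← algebraMap_smul K a b]
    exact Submodule.smul_mem_smul (Ideal.mem_map_of_mem _ ha) Submodule.mem_top
  · intro x y hx hy
    exact Submodule.add_mem _ hx hy

end Bridge

section Descent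

variable {A : Type u} [CommRing A] (K : Type u) [CommRing K] [Algebra A K]
  (C : Type u) [CommRing C] [Algebra A C]

/-- contraction of an extended ideal along a faithfully flat base change. -/
lemma mem_of_one_tmul_mem_map [Module.FaithfullyFlat A K] (J : Ideal C) (x : C)
    (h : (1 : K) ⊗ₜ[A] x ∈ Ideal.map
      (Algebra.TensorProduct.includeRight : C →ₐ[A] K ⊗[A] C) J) : x ∈ J := by
  let g : K ⊗[A] C →ₐ[A] K ⊗[A] (C ⧸ J) :=
    Algebra.TensorProduct.map (AlgHom.id A K) (Ideal.Quotient.mkₐ A J)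
  have hle : Ideal.map (Algebra.TensorProduct.includeRight : C →ₐ[A] K ⊗[A] C) J ≤
      RingHom.ker g := by
    rw [Ideal.map_le_iff_le_comap]
    intro a ha
    rw [Ideal.mem_comap, RingHom.mem_ker]
    show g ((1 : K) ⊗ₜ[A] a) = 0
    rw [Algebra.TensorProduct.map_tmul]
    have : (Ideal.Quotient.mkₐ A J) a = 0 := Ideal.Quotient.eq_zero_iff_mem.mpr ha
    rw [this, TensorProduct.tmul_zero]
  have h1 : g ((1 : K) ⊗ₜ[A] x) = 0 := hle h
  rw [Algebra.TensorProduct.map_tmul] at h1
  have h2 : (1 : K) ⊗ₜ[A] (Ideal.Quotient.mkₐ A J x) = 0 := h1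
  rw [Module.FaithfullyFlat.one_tmul_eq_zero_iff] at h2
  exact Ideal.Quotient.eq_zero_iff_mem.mp h2

/-- coordinates with respect to a finite projective first factor. -/
lemma exists_coordinates [Module.Finite A K] [Module.Projective A K] :
    ∃ (r : ℕ) (p : Fin r → K) (ℓ : Fin r → (K ⊗[A] C →ₗ[A] C)),
      ∀ z : K ⊗[A] C, z = ∑ j, p j ⊗ₜ[A] ℓ j z := by
  obtain ⟨r, f, g, -, -, hfg⟩ := Module.Finite.exists_comp_eq_id_of_projective A K
  refine ⟨r, fun j => f (Pi.single j 1),
    fun j => (TensorProduct.lid A C).toLinearMap ∘ₗ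
      LinearMap.rTensor C ((LinearMap.proj j : (Fin r → A) →ₗ[A] A) ∘ₗ g), ?_⟩
  intro z
  induction z using TensorProduct.induction_on with
  | zero => simp
  | tmul k c =>
    simp only [LinearMap.comp_apply, LinearMap.rTensor_tmul, LinearEquiv.coe_coe,
      TensorProduct.lid_tmul, LinearMap.proj_apply]
    have h1 : ∀ j : Fin r, f (Pi.single j 1) ⊗ₜ[A] (g k j • c) = (g k j • f (Pi.single j 1)) ⊗ₜ[A] c := by
      intro j
      rw [TensorProduct.smul_tmul]
    rw [Finset.sum_congr rfl (fun j _ => h1 j), ← TensorProduct.sum_tmul]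
    congr 1
    have h2 : k = f (g k) := by
      have := congrArg (fun h => h k) hfg
      exact this.symm
    conv_lhs => rw [h2]
    have h3 : g k = ∑ j, g k j • (Pi.single j 1 : Fin r → A) := by
      funext i
      simp [Finset.sum_apply, Pi.single_apply]
    conv_lhs => rw [h3]
    rw [map_sum]
    exact Finset.sum_congr rfl (fun j _ => map_smul f _ _)
  | add x y hx hy =>
    conv_lhs => rw [hx, hy]
    rw [← Finset.sum_add_distrib]
    exact Finset.sum_congr rfl (fun j _ => by rw [map_add, TensorProduct.tmul_add])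

omit [Algebra A K] [CommRing K] in
lemma map_mem_smul_top {X Y : Type u} [AddCommGroup X] [Module A X] [AddCommGroup Y] [Module A Y]
    (I : Ideal A) (ℓ : X →ₗ[A] Y) {x : X} (hx : x ∈ I • (⊤ : Submodule A X)) :
    ℓ x ∈ I • (⊤ : Submodule A Y) := by
  refine Submodule.smul_induction_on hx ?_ ?_
  · intro a ha b _
    rw [map_smul]
    exact Submodule.smul_mem_smul ha Submodule.mem_top
  · intro x y hx hy
    rw [map_add]
    exact Submodule.add_mem _ hx hy

/-- an element of `K ⊗ C` lying in `I ^ n (K ⊗ C)` for all `n` lies in the extension of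
`⋂ I ^ n C`, for `K` finite projective. -/
lemma mem_map_iInf_of_forall_mem [Module.Finite A K] [Module.Projective A K] (I : Ideal A)
    (z : K ⊗[A] C) (hz : ∀ n : ℕ, z ∈ I ^ n • (⊤ : Submodule A (K ⊗[A] C))) :
    z ∈ Ideal.map (Algebra.TensorProduct.includeRight : C →ₐ[A] K ⊗[A] C)
      (⨅ n : ℕ, Ideal.map (algebraMap A C) (I ^ n)) := by
  obtain ⟨r, p, ℓ, hℓ⟩ := exists_coordinates (A := A) K C
  rw [hℓ z]
  refine Ideal.sum_mem _ (fun j _ => ?_)
  have h1 : p j ⊗ₜ[A] ℓ j z = (p j ⊗ₜ[A] (1 : C)) * ((1 : K) ⊗ₜ[A] ℓ j z) := by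
    rw [Algebra.TensorProduct.tmul_mul_tmul, mul_one, one_mul]
  rw [h1]
  apply Ideal.mul_mem_left
  apply Ideal.mem_map_of_mem
  rw [Ideal.mem_iInf]
  intro n
  have h2 : ℓ j z ∈ I ^ n • (⊤ : Submodule A C) := map_mem_smul_top (I ^ n) (ℓ j) (hz n)
  rw [Ideal.smul_top_eq_map] at h2
  exact h2

end Descent

end Groth.Agent.Lib.Helper77.CompDiag
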