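import Mathlib
import Groth.Agent.Lib.Helper77.CompDiag13

set_option autoImplicit false
universe u
open TensorProduct WithConv

namespace Groth.Agent.Lib.Helper77.CompDiag

open SGA3b Groth.Agent.Lib.Helper77.MultMono Groth.Agent.Lib.Helper77.MultBC
  Groth.Agent.Lib.Helper77.GLLift Groth.Agent.Lib.Helper77.DiagNil
  Groth.Agent.Lib.Helper77.MultKer Groth.Agent.Lib.Helper77.DefRigid
  Groth.Agent.Lib.Helper77.MultTors

section TwoSurjAlg

variable {K : Type u} [CommRing K] {X Y Z : Type u} [CommRing X] [CommRing Y] [CommRing Z]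
  [Algebra K X] [Algebra K Y] [Algebra K Z]

/-- two surjective algebra maps with the same kernel have isomorphic targets. -/
theorem exists_algEquiv_of_surjective_of_ker_eq (p : X →ₐ[K] Y) (q : X →ₐ[K] Z)
    (hp : Function.Surjective p) (hq : Function.Surjective q)
    (hker : RingHom.ker p = RingHom.ker q) :
    ∃ E : Y ≃ₐ[K] Z, ∀ x, E (p x) = q x := by
  let e₁ : (X ⧸ RingHom.ker p) ≃ₐ[K] Y := Ideal.quotientKerAlgEquivOfSurjective (f := p) hp
  let e₂ : (X ⧸ RingHom.ker q) ≃ₐ[K] Z := Ideal.quotientKerAlgEquivOfSurjective (f := q) hq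
  let e₀ : (X ⧸ RingHom.ker p) ≃ₐ[K] (X ⧸ RingHom.ker q) := Ideal.quotientEquivAlgOfEq K hker
  refine ⟨e₁.symm.trans (e₀.trans e₂), ?_⟩
  intro x
  have h1 : e₁ (Ideal.Quotient.mk _ x) = p x := rfl
  have h2 : e₁.symm (p x) = Ideal.Quotient.mk _ x := by
    rw [← h1, e₁.symm_apply_apply]
  show e₂ (e₀ (e₁.symm (p x))) = q x
  rw [h2]
  rfl

end TwoSurjAlg

section Core

variable {A : Type u} [CommRing A] (I : Ideal A) [IsHausdorff I A]
  (C : Type u) [CommRing C] [HopfAlgebra A C] [IsNoetherianRing C]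
  (K : Type u) [CommRing K] [Algebra A K] [Module.Finite A K] [Module.Projective A K]
  [Module.FaithfullyFlat A K] [IsNoetherianRing K]
  [IsAdicComplete (Ideal.map (algebraMap A K) I) K]
  {M : Type u} [CommGroup M]
  (ε₀ : (K ⧸ Ideal.map (algebraMap A K) I) ⊗[K] (K ⊗[A] C) ≃ₐc[K ⧸ Ideal.map (algebraMap A K) I]
    MonoidAlgebra (K ⧸ Ideal.map (algebraMap A K) I) M)
  (hflat : ∀ n : ℕ, Module.Flat (K ⧸ Ideal.map (algebraMap A K) I ^ n)
    ((K ⧸ Ideal.map (algebraMap A K) I ^ n) ⊗[K] (K ⊗[A] C)))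

/-- the closure of zero in `C`. -/
def N₀ : Ideal C := ⨅ n : ℕ, Ideal.map (algebraMap A C) (I ^ n)

omit [IsHausdorff I A] [IsNoetherianRing C] [Module.FaithfullyFlat A K] in
theorem ker_phi_eq [IsNoetherianRing (K ⊗[A] C)] :
    RingHom.ker (phi (Ideal.map (algebraMap A K) I) ε₀ hflat) =
      Ideal.map (Algebra.TensorProduct.includeRight : C →ₐ[A] K ⊗[A] C) (N₀ I C) := by
  apply le_antisymm
  · intro z hz
    apply mem_map_iInf_of_forall_mem K C I z
    intro n
    have h1 := (phi_eq_zero_iff (Ideal.map (algebraMap A K) I) ε₀ hflat z).mp hz n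
    rw [← Ideal.map_pow] at h1
    exact mem_smul_top_of_mem_map_smul_top (I ^ n) h1
  · rw [Ideal.map_le_iff_le_comap]
    intro x hx
    rw [Ideal.mem_comap, RingHom.mem_ker]
    show phi (Ideal.map (algebraMap A K) I) ε₀ hflat ((1 : K) ⊗ₜ[A] x) = 0
    rw [phi_eq_zero_iff]
    intro n
    have h1 : x ∈ Ideal.map (algebraMap A C) (I ^ n) := (Ideal.mem_iInf.mp hx) n
    have h2 : x ∈ I ^ n • (⊤ : Submodule A C) := by
      rw [Ideal.smul_top_eq_map]
      exact h1
    have h3 := map_mem_smul_top (I ^ n)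
      (Algebra.TensorProduct.includeRight : C →ₐ[A] K ⊗[A] C).toLinearMap h2
    have h4 := mem_map_smul_top_of_mem_smul_top (K := K) (I ^ n) h3
    rw [Ideal.map_pow] at h4
    exact h4

omit [IsHausdorff I A] [Module.Finite A K] [Module.Projective A K] in
/-- the closure of zero in `C` is generated by an idempotent. -/
theorem exists_idempotent_N₀ [IsNoetherianRing (K ⊗[A] C)]
    (hker : RingHom.ker (phi (Ideal.map (algebraMap A K) I) ε₀ hflat) =
      Ideal.map (Algebra.TensorProduct.includeRight : C →ₐ[A] K ⊗[A] C) (N₀ I C)) :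
    ∃ e : C, IsIdempotentElem e ∧ N₀ I C = Ideal.span {e} := by
  obtain ⟨e', he', -, hker'⟩ := exists_idempotent (Ideal.map (algebraMap A K) I) ε₀ hflat
  have he'm : e' ∈ Ideal.map (Algebra.TensorProduct.includeRight : C →ₐ[A] K ⊗[A] C)
      (N₀ I C) := by
    rw [← hker, hker']
    exact Ideal.mem_span_singleton_self e'
  have hidem : IsIdempotentElem (N₀ I C) := by
    apply le_antisymm Ideal.mul_le_right
    intro x hx
    apply mem_of_one_tmul_mem_map (A := A) K C (N₀ I C * N₀ I C) x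
    rw [Ideal.map_mul]
    have h1 : (1 : K) ⊗ₜ[A] x ∈ Ideal.span {e'} := by
      rw [← hker', hker]
      exact Ideal.mem_map_of_mem _ hx
    obtain ⟨a, ha⟩ := Ideal.mem_span_singleton'.mp h1
    have h2 : (1 : K) ⊗ₜ[A] x = (a * e') * e' := by
      rw [mul_assoc, he'.eq, ha]
    rw [h2]
    exact Ideal.mul_mem_mul (Ideal.mul_mem_left _ _ he'm) he'm
  exact (Ideal.isIdempotentElem_iff_of_fg (N₀ I C) (IsNoetherian.noetherian (N₀ I C))).mp hidem

omit [IsNoetherianRing C] in
lemma counit_eq_zero_of_mem_N₀ {x : C} (hx : x ∈ N₀ I C) : Coalgebra.counit (R := A) x = 0 := by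
  refine IsHausdorff.haus (inferInstance : IsHausdorff I A) _ (fun n => ?_)
  rw [SModEq.zero]
  have h1 : x ∈ Ideal.map (algebraMap A C) (I ^ n) := (Ideal.mem_iInf.mp hx) n
  have h2 : x ∈ I ^ n • (⊤ : Submodule A C) := by
    rw [Ideal.smul_top_eq_map]
    exact h1
  exact map_mem_smul_top (I ^ n) (Coalgebra.counit (R := A) (A := C)) h2

omit [IsHausdorff I A] [IsNoetherianRing C] in
lemma antipode_mem_N₀ {x : C} (hx : x ∈ N₀ I C) : HopfAlgebra.antipode A x ∈ N₀ I C := by
  rw [N₀, Ideal.mem_iInf]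
  intro n
  have h1 : x ∈ Ideal.map (algebraMap A C) (I ^ n) := (Ideal.mem_iInf.mp hx) n
  have h2 : x ∈ I ^ n • (⊤ : Submodule A C) := by
    rw [Ideal.smul_top_eq_map]
    exact h1
  have h3 := map_mem_smul_top (I ^ n) (HopfAlgebra.antipode A (A := C)) h2
  rw [Ideal.smul_top_eq_map] at h3
  exact h3

omit [IsHausdorff I A] [IsNoetherianRing C] [Module.Finite A K] [Module.Projective A K] in
/-- an ideal of `C` whose extension is the kernel of `phi` is a coideal (descent). -/
theorem map_mk_comul_eq_zero (J : Ideal C)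
    (hker : RingHom.ker (phi (Ideal.map (algebraMap A K) I) ε₀ hflat) =
      Ideal.map (Algebra.TensorProduct.includeRight : C →ₐ[A] K ⊗[A] C) J) {x : C} (hx : x ∈ J) :
    (Algebra.TensorProduct.map (Ideal.Quotient.mkₐ A J) (Ideal.Quotient.mkₐ A J))
      (Coalgebra.comul (R := A) x) = 0 := by
  let π : C →ₐ[A] C ⧸ J := Ideal.Quotient.mkₐ A J
  have hπ : Function.Surjective π := Ideal.Quotient.mkₐ_surjective A J
  let g : K ⊗[A] C →ₐ[K] K ⊗[A] (C ⧸ J) := Algebra.TensorProduct.map (AlgHom.id K K) π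
  have hgl : ∀ z : K ⊗[A] C, g z = LinearMap.lTensor K π.toLinearMap z := by
    intro z
    induction z using TensorProduct.induction_on with
    | zero => simp
    | tmul k c => rfl
    | add x y hx hy => rw [map_add, map_add, hx, hy]
  have hg : Function.Surjective g := by
    intro y
    obtain ⟨z, hz⟩ := LinearMap.lTensor_surjective K (g := π.toLinearMap) hπ y
    exact ⟨z, (hgl z).trans hz⟩
  have hkg : RingHom.ker g =
      Ideal.map (Algebra.TensorProduct.includeRight : C →ₐ[A] K ⊗[A] C) J := by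
    have h1 := Algebra.TensorProduct.lTensor_ker (A := K) π hπ
    have h2 : RingHom.ker π = J := Ideal.Quotient.mkₐ_ker A J
    rw [h2] at h1
    rw [← h1]
    ext z
    rw [RingHom.mem_ker, RingHom.mem_ker]
    rfl
  obtain ⟨θ, hθ⟩ := exists_algEquiv_of_surjective_of_ker_eq g
    ((phi (Ideal.map (algebraMap A K) I) ε₀ hflat : K ⊗[A] C →ₐc[K] MonoidAlgebra K M) :
      K ⊗[A] C →ₐ[K] MonoidAlgebra K M) hg
    (phi_surjective (Ideal.map (algebraMap A K) I) ε₀ hflat) (hkg.trans hker.symm)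
  let D := TensorProduct.AlgebraTensorModule.distribBaseChange A K (C ⧸ J) (C ⧸ J)
  let Θ := TensorProduct.congr θ.toLinearEquiv θ.toLinearEquiv
  have hinj : Function.Injective
      (fun w : (C ⧸ J) ⊗[A] (C ⧸ J) => Θ (D ((1 : K) ⊗ₜ[A] w))) := by
    intro w w' h
    have h1 := D.injective (Θ.injective h)
    exact Module.FaithfullyFlat.tensorProduct_mk_injective (A := A) (B := K) _ h1
  apply hinj
  show Θ (D ((1 : K) ⊗ₜ[A] (Algebra.TensorProduct.map π π (Coalgebra.comul (R := A) x)))) =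
    Θ (D ((1 : K) ⊗ₜ[A] (0 : (C ⧸ J) ⊗[A] (C ⧸ J))))
  rw [TensorProduct.tmul_zero, map_zero, map_zero]
  have key : ∀ t : C ⊗[A] C, Θ (D ((1 : K) ⊗ₜ[A] (Algebra.TensorProduct.map π π t))) =
      TensorProduct.map
        (phi (Ideal.map (algebraMap A K) I) ε₀ hflat : K ⊗[A] C →ₗ[K] MonoidAlgebra K M)
        (phi (Ideal.map (algebraMap A K) I) ε₀ hflat : K ⊗[A] C →ₗ[K] MonoidAlgebra K M)
        (TensorProduct.AlgebraTensorModule.distribBaseChange A K C C ((1 : K) ⊗ₜ[A] t)) := by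
    intro t
    induction t using TensorProduct.induction_on with
    | zero => simp
    | tmul c₁ c₂ =>
      rw [Algebra.TensorProduct.map_tmul]
      have h1 : D ((1 : K) ⊗ₜ[A] (π c₁ ⊗ₜ[A] π c₂)) =
          ((1 : K) ⊗ₜ[A] π c₁) ⊗ₜ[K] ((1 : K) ⊗ₜ[A] π c₂) := by
        simp [D]
      have h2 : TensorProduct.AlgebraTensorModule.distribBaseChange A K C C
          ((1 : K) ⊗ₜ[A] (c₁ ⊗ₜ[A] c₂)) = ((1 : K) ⊗ₜ[A] c₁) ⊗ₜ[K] ((1 : K) ⊗ₜ[A] c₂) := by
        simp
      rw [h1, h2, TensorProduct.congr_tmul, TensorProduct.map_tmul]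
      have h3 : ∀ c : C, θ ((1 : K) ⊗ₜ[A] π c) =
          phi (Ideal.map (algebraMap A K) I) ε₀ hflat ((1 : K) ⊗ₜ[A] c) := fun c => hθ (1 ⊗ₜ[A] c)
      show θ ((1 : K) ⊗ₜ[A] π c₁) ⊗ₜ[K] θ ((1 : K) ⊗ₜ[A] π c₂) = _
      rw [h3, h3]
      rfl
    | add p q hp hq => simp only [map_add, TensorProduct.tmul_add, hp, hq]
  rw [key, ← MultBC.comul_one_tmul A K C, CoalgHomClass.map_comp_comul_apply]
  have h4 : phi (Ideal.map (algebraMap A K) I) ε₀ hflat ((1 : K) ⊗ₜ[A] x) = 0 := by
    have : (1 : K) ⊗ₜ[A] x ∈ RingHom.ker (phi (Ideal.map (algebraMap A K) I) ε₀ hflat) := by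
      rw [hker]
      exact Ideal.mem_map_of_mem _ hx
    exact this
  rw [h4, map_zero]

include ε₀ hflat in
/-- **Descent of the kernel of the algebraised homomorphism**: the closure of zero in `C` is
generated by an idempotent of `I C`, it is a Hopf ideal, and the quotient becomes diagonalisable
of type `M` over `K`. -/
theorem exists_idempotent_hopfIdeal [IsNoetherianRing (K ⊗[A] C)] :
    ∃ e : C, IsIdempotentElem e ∧ e ∈ Ideal.map (algebraMap A C) I ∧
      ∃ _ : (Ideal.span {e}).IsHopfIdeal A, IsDiagOf M K (K ⊗[A] (C ⧸ Ideal.span {e})) := by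
  have hker := ker_phi_eq I C K ε₀ hflat
  obtain ⟨e, he, hN⟩ := exists_idempotent_N₀ I C K ε₀ hflat hker
  rw [hN] at hker
  have heI : e ∈ Ideal.map (algebraMap A C) I := by
    have h1 : e ∈ N₀ I C := by
      rw [hN]
      exact Ideal.mem_span_singleton_self e
    have h2 := (Ideal.mem_iInf.mp h1) 1
    rwa [pow_one] at h2
  have hH : (Ideal.span {e}).IsHopfIdeal A := by
    refine { toIsCoideal := ⟨?_, ?_⟩, antipode_mem := ?_ }
    · intro x hx
      have hx' : x ∈ N₀ I C := by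
        rw [hN]
        exact hx
      exact counit_eq_zero_of_mem_N₀ I C hx'
    · intro x hx
      exact map_mk_comul_eq_zero I C K ε₀ hflat _ hker hx
    · intro x hx
      have hx' : x ∈ N₀ I C := by
        rw [hN]
        exact hx
      have := antipode_mem_N₀ I C hx'
      rwa [hN] at this
  refine ⟨e, he, heI, hH, ?_⟩
  let π : C →ₐc[A] C ⧸ Ideal.span {e} := Bialgebra.Quotient.mkBialgHom (Ideal.span {e})
  have hπ : Function.Surjective π := Ideal.Quotient.mk_surjective
  have h1 := bcHom_surjective A K π hπ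
  have h2 := ker_bcHom A K π hπ
  rw [ker_mkBialgHom] at h2
  obtain ⟨E⟩ := nonempty_bialgEquiv_of_surjective_of_ker_eq (bcHom A K π)
    (phi (Ideal.map (algebraMap A K) I) ε₀ hflat) h1
    (phi_surjective (Ideal.map (algebraMap A K) I) ε₀ hflat) (h2.trans hker.symm)
  exact ⟨E⟩

end Core

section Main2

/-- **Open and closed isotrivial subgroup** (algebraisation without global flatness). -/
theorem exists_clopen_isotrivial (A : Type u) [CommRing A] [IsNoetherianRing A] (I : Ideal A)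
    [IsAdicComplete I A]
    (C : Type u) [CommRing C] [HopfAlgebra A C] (hft : Algebra.FiniteType A C)
    (hfl : ∀ (q : Ideal C) [q.IsPrime], Ideal.map (algebraMap A C) I ≤ q →
      Module.Flat A (Localization.AtPrime q))
    (h0 : IsIsotrivial (A ⧸ I) ((A ⧸ I) ⊗[A] C)) :
    ∃ e : C, IsIdempotentElem e ∧ e ∈ Ideal.map (algebraMap A C) I ∧
      ∃ _ : (Ideal.span {e}).IsHopfIdeal A, IsIsotrivial A (C ⧸ Ideal.span {e}) := by
  obtain ⟨A₀', _, _, het, hfin, hff, M, _, hd⟩ := h0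
  obtain ⟨A', _, _, hfin', het', ⟨e⟩⟩ :=
    Groth.Agent.Lib.Helper3.exists_finite_etale_lift_of_pair A I A₀'
  letI : Algebra A A₀' := ((algebraMap (A ⧸ I) A₀').comp (Ideal.Quotient.mk I)).toAlgebra
  haveI : IsScalarTower A (A ⧸ I) A₀' := IsScalarTower.of_algebraMap_eq (fun _ => rfl)
  let ψ : A' →ₐ[A] A₀' :=
    (e.toAlgHom.restrictScalars A).comp (Algebra.TensorProduct.includeRight)
  have hψ : ∀ x, ψ x = e ((1 : A ⧸ I) ⊗ₜ[A] x) := fun _ => rfl
  have hsurj : Function.Surjective ψ := by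
    intro y
    obtain ⟨x, hx⟩ := DiagNil.exists_one_tmul_eq I (e.symm y)
    exact ⟨x, by rw [hψ, hx, e.apply_symm_apply]⟩
  have hker : RingHom.ker ψ = Ideal.map (algebraMap A A') I := by
    ext x
    rw [RingHom.mem_ker, hψ, EmbeddingLike.map_eq_zero_iff, GLLift.one_tmul_eq_zero_iff]
  letI : Algebra A' A₀' := ψ.toRingHom.toAlgebra
  haveI : IsScalarTower A A' A₀' := IsScalarTower.of_algebraMap_eq (fun x => (ψ.commutes x).symm)
  haveI : Algebra.Etale A A' := het'
  haveI : IsNoetherianRing A' := Algebra.FiniteType.isNoetherianRing A A'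
  haveI : IsNoetherianRing C := Algebra.FiniteType.isNoetherianRing A C
  haveI : IsNoetherianRing (A' ⊗[A] C) := Algebra.FiniteType.isNoetherianRing A' (A' ⊗[A] C)
  haveI : IsAdicComplete (Ideal.map (algebraMap A A') I) A' := isAdicComplete_map_of_finite I A'
  haveI : Module.FaithfullyFlat (A ⧸ I) A₀' := hff
  haveI hff' : Module.FaithfullyFlat A A' :=
    faithfullyFlat_of_lift_jacobson (Ideal.Quotient.mk I) A' A₀' Ideal.Quotient.mk_surjective
      (by rw [Ideal.mk_ker]; exact IsAdicComplete.le_jacobson_bot I) ψ.toRingHom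
      (fun x => ψ.commutes x)
  haveI : Module.FinitePresentation A A' := Module.finitePresentation_of_finite A A'
  haveI : Module.Projective A A' := Module.Flat.projective_of_finitePresentation
  -- the reduction of `A' ⊗ C`
  have hd' : IsDiagOf M A₀' (A₀' ⊗[A] C) := isDiagOf_of_equiv (cancelBC A (A ⧸ I) A₀' C) hd
  have h0 : IsDiagOf M A₀' (A₀' ⊗[A'] (A' ⊗[A] C)) :=
    isDiagOf_of_equiv (cancelBC A A' A₀' C).symm hd'
  have hker' : RingHom.ker (IsScalarTower.toAlgHom A' A' A₀') = Ideal.map (algebraMap A A') I := hker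
  let eQ : (A' ⧸ Ideal.map (algebraMap A A') I) ≃ₐ[A'] A₀' :=
    (Ideal.quotientEquivAlgOfEq A' hker'.symm).trans
      (Ideal.quotientKerAlgEquivOfSurjective (f := IsScalarTower.toAlgHom A' A' A₀') hsurj)
  letI : Algebra A₀' (A' ⧸ Ideal.map (algebraMap A A') I) := eQ.symm.toAlgHom.toRingHom.toAlgebra
  haveI : IsScalarTower A' A₀' (A' ⧸ Ideal.map (algebraMap A A') I) :=
    IsScalarTower.of_algebraMap_eq (fun x => (eQ.symm.commutes x).symm)
  obtain ⟨ε₀⟩ : IsDiagOf M (A' ⧸ Ideal.map (algebraMap A A') I)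
      ((A' ⧸ Ideal.map (algebraMap A A') I) ⊗[A'] (A' ⊗[A] C)) :=
    isDiagOf_tower A₀' _ h0
  -- flatness at all levels
  have hflat : ∀ n : ℕ, Module.Flat (A' ⧸ Ideal.map (algebraMap A A') I ^ n)
      ((A' ⧸ Ideal.map (algebraMap A A') I ^ n) ⊗[A'] (A' ⊗[A] C)) := by
    intro n
    haveI : Module.Flat (A' ⧸ Ideal.map (algebraMap A A') I ^ n)
        ((A' ⧸ Ideal.map (algebraMap A A') I ^ n) ⊗[A] C) := by
      apply flat_baseChange_of_flat_at_primes I C hfl
      intro a ha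
      refine ⟨n, ?_⟩
      rw [← map_pow, IsScalarTower.algebraMap_apply A A' (A' ⧸ Ideal.map (algebraMap A A') I ^ n),
        Ideal.Quotient.algebraMap_eq, Ideal.Quotient.eq_zero_iff_mem, map_pow]
      exact Ideal.pow_mem_pow (Ideal.mem_map_of_mem _ ha) n
    exact Module.Flat.of_linearEquiv
      (Algebra.TensorProduct.cancelBaseChange A A' (A' ⧸ Ideal.map (algebraMap A A') I ^ n)
        (A' ⧸ Ideal.map (algebraMap A A') I ^ n) C).toLinearEquiv
  obtain ⟨e, he, heI, hH, hdiag⟩ := exists_idempotent_hopfIdeal I C A' ε₀ hflat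
  exact ⟨e, he, heI, hH, A', inferInstance, inferInstance, het', hfin', hff', hdiag.isDiag⟩

end Main2

end Groth.Agent.Lib.Helper77.CompDiag
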