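import Mathlib
import Groth.Agent.Lib.Helper77.CompDiag14
import Groth.Agent.Lib.Helper77.MultRigid
import Groth.Agent.Lib.Helper77.IsoTriv6

set_option autoImplicit false
universe u
open TensorProduct WithConv

namespace Groth.Agent.Lib.Helper77.CompDiag

open SGA3b Groth.Agent.Lib.Helper77.MultMono Groth.Agent.Lib.Helper77.MultBC
  Groth.Agent.Lib.Helper77.GLLift Groth.Agent.Lib.Helper77.DiagNil
  Groth.Agent.Lib.Helper77.MultKer Groth.Agent.Lib.Helper77.DefRigid
  Groth.Agent.Lib.Helper77.MultTors Groth.Agent.Lib.Helper77.MultRigid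

section FlatMT

variable {R : Type u} [CommRing R] {A : Type u} [CommRing A] [HopfAlgebra R A]

theorem flat_of_isMultTypeConst (h : IsMultTypeConst R A) : Module.Flat R A := by
  obtain ⟨R', _, _, hff, M, _, ⟨ε⟩⟩ := h
  haveI : Module.FaithfullyFlat R R' := hff
  haveI : Module.Flat R' (MonoidAlgebra R' M) :=
    Module.Flat.of_linearEquiv (MonoidAlgebra.coeffLinearEquiv R')
  haveI : Module.Flat R' (R' ⊗[R] A) := Module.Flat.of_linearEquiv ε.toLinearEquiv
  exact Module.Flat.of_flat_tensorProduct R A R'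

theorem flat_of_isMultType (h : IsMultType R A) : Module.Flat R A := by
  obtain ⟨s, hs, hloc⟩ := h
  refine Module.flat_of_isLocalized_span (R := R) R A s hs
    (fun f => Localization.Away f.1 ⊗[R] A)
    (fun f => TensorProduct.mk R (Localization.Away f.1) A 1) ?_
  intro f
  haveI : Module.Flat (Localization.Away f.1) (Localization.Away f.1 ⊗[R] A) :=
    flat_of_isMultTypeConst (hloc f.1 f.2)
  haveI : Module.Flat R (Localization.Away f.1) := IsLocalization.flat _ (Submonoid.powers f.1)
  exact Module.Flat.trans R (Localization.Away f.1) _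

end FlatMT

section IdemMT

variable {R : Type u} [CommRing R] [IsNoetherianRing R] {A : Type u} [CommRing A] [HopfAlgebra R A]

/-- over a noetherian local ring, an idempotent of a group of multiplicative type and of finite
type which vanishes on the closed fibre is zero. -/
theorem eq_zero_of_idempotent_of_isMultType_local [IsLocalRing R] (hA : IsMultType R A)
    (hft : Algebra.FiniteType R A) {e : A} (he : IsIdempotentElem e)
    (hem : e ∈ Ideal.map (algebraMap R A) (IsLocalRing.maximalIdeal R)) : e = 0 := by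
  obtain ⟨hfin, hdense⟩ := torsFinite_and_torsDense_of_isMultType_local hA hft
  apply hdense
  intro n hn
  haveI : Module.Finite R (A ⧸ torsionIdeal R A n) := hfin n hn
  apply mem_of_forall_mem_map_pow (R := R)
  intro k
  rcases k with _ | k
  · rw [pow_zero, Ideal.one_eq_top, Ideal.map_top]
    exact Submodule.mem_top
  · rw [Ideal.map_pow, ← he.pow_succ_eq k]
    exact Ideal.pow_mem_pow hem _

/-- over a noetherian ring, an idempotent of a group of multiplicative type and of finite type
lying in `I A` with `I` in the Jacobson radical is zero. -/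
theorem eq_zero_of_idempotent_of_isMultType (I : Ideal R) (hI : I ≤ Ideal.jacobson ⊥)
    (hA : IsMultType R A) (hft : Algebra.FiniteType R A) {e : A} (he : IsIdempotentElem e)
    (hem : e ∈ Ideal.map (algebraMap R A) I) : e = 0 := by
  refine Module.eq_zero_of_localization_maximal
    (fun (P : Ideal R) [P.IsMaximal] => Localization.AtPrime P ⊗[R] A)
    (fun (P : Ideal R) [P.IsMaximal] => TensorProduct.mk R (Localization.AtPrime P) A 1) e ?_
  intro P hP
  show (1 : Localization.AtPrime P) ⊗ₜ[R] e = 0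
  have hIP : I ≤ P := by
    refine hI.trans ?_
    rw [Ideal.jacobson]
    exact sInf_le ⟨bot_le, hP⟩
  have hMT : IsMultType (Localization.AtPrime P) (Localization.AtPrime P ⊗[R] A) :=
    IsoTriv6.isMultType_baseChange A (Localization.AtPrime P) hA
  have hid : IsIdempotentElem ((1 : Localization.AtPrime P) ⊗ₜ[R] e) := by
    show _ * _ = _
    rw [Algebra.TensorProduct.tmul_mul_tmul, one_mul, he.eq]
  apply eq_zero_of_idempotent_of_isMultType_local hMT inferInstance hid
  -- membership
  have hle : Ideal.map (Algebra.TensorProduct.includeRight :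
      A →ₐ[R] Localization.AtPrime P ⊗[R] A) (Ideal.map (algebraMap R A) I) ≤
      Ideal.map (algebraMap (Localization.AtPrime P) (Localization.AtPrime P ⊗[R] A))
        (IsLocalRing.maximalIdeal (Localization.AtPrime P)) := by
    rw [Ideal.map_le_iff_le_comap, Ideal.map_le_iff_le_comap]
    intro a ha
    rw [Ideal.mem_comap, Ideal.mem_comap]
    have h1 : (Algebra.TensorProduct.includeRight :
        A →ₐ[R] Localization.AtPrime P ⊗[R] A) (algebraMap R A a) =
        algebraMap (Localization.AtPrime P) (Localization.AtPrime P ⊗[R] A)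
          (algebraMap R (Localization.AtPrime P) a) := by
      rw [AlgHom.commutes, IsScalarTower.algebraMap_apply R (Localization.AtPrime P)
        (Localization.AtPrime P ⊗[R] A)]
    rw [h1]
    apply Ideal.mem_map_of_mem
    rw [← Localization.AtPrime.under_maximalIdeal (I := P)] at hIP
    exact hIP ha
  exact hle (Ideal.mem_map_of_mem _ hem)

end IdemMT

section Core2

variable {A : Type u} [CommRing A] (I : Ideal A) [IsHausdorff I A]
  (C : Type u) [CommRing C] [HopfAlgebra A C] [IsNoetherianRing C]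
  (K : Type u) [CommRing K] [Algebra A K] [Module.Finite A K] [Module.Projective A K]
  [Module.FaithfullyFlat A K] [IsNoetherianRing K]
  [IsAdicComplete (Ideal.map (algebraMap A K) I) K]
  {M : Type u} [CommGroup M]
  (ε₀ : (K ⧸ Ideal.map (algebraMap A K) I) ⊗[K] (K ⊗[A] C) ≃ₐc[K ⧸ Ideal.map (algebraMap A K) I]
    MonoidAlgebra (K ⧸ Ideal.map (algebraMap A K) I) M)
  (hflat : ∀ n : ℕ, Module.Flat (K ⧸ Ideal.map (algebraMap A K) I ^ n)
    ((K ⧸ Ideal.map (algebraMap A K) I ^ n) ⊗[K] (K ⊗[A] C)))

include ε₀ hflat in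
omit [IsHausdorff I A] in
/-- if `C` has no nonzero idempotent in `I C`, then `K ⊗ C` is diagonalisable of type `M`. -/
theorem isDiagOf_of_forall_idempotent_eq_zero [IsNoetherianRing (K ⊗[A] C)]
    (hvan : ∀ e : C, IsIdempotentElem e → e ∈ Ideal.map (algebraMap A C) I → e = 0) :
    IsDiagOf M K (K ⊗[A] C) := by
  have hker := ker_phi_eq I C K ε₀ hflat
  obtain ⟨e, he, hN⟩ := exists_idempotent_N₀ I C K ε₀ hflat hker
  have heI : e ∈ Ideal.map (algebraMap A C) I := by
    have h1 : e ∈ N₀ I C := by
      rw [hN]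
      exact Ideal.mem_span_singleton_self e
    have h2 := (Ideal.mem_iInf.mp h1) 1
    rwa [pow_one] at h2
  have he0 := hvan e he heI
  rw [hN, he0, Ideal.span_singleton_zero, Ideal.map_bot] at hker
  have hinj : Function.Injective (phi (Ideal.map (algebraMap A K) I) ε₀ hflat) :=
    (RingHom.injective_iff_ker_eq_bot _).mpr hker
  exact ⟨BialgEquiv.ofBijective (phi (Ideal.map (algebraMap A K) I) ε₀ hflat)
    ⟨hinj, phi_surjective (Ideal.map (algebraMap A K) I) ε₀ hflat⟩⟩

end Core2

section Main3

/-- the finite étale lifting data used in the algebraisation theorems. -/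
theorem exists_lift_data (A : Type u) [CommRing A] [IsNoetherianRing A] (I : Ideal A)
    [IsAdicComplete I A]
    (C : Type u) [CommRing C] [HopfAlgebra A C]
    (hfl : ∀ (q : Ideal C) [q.IsPrime], Ideal.map (algebraMap A C) I ≤ q →
      Module.Flat A (Localization.AtPrime q))
    (A₀' : Type u) [CommRing A₀'] [Algebra (A ⧸ I) A₀'] (het : Algebra.Etale (A ⧸ I) A₀')
    (hfin : Module.Finite (A ⧸ I) A₀') (hff : Module.FaithfullyFlat (A ⧸ I) A₀')
    (M : Type u) [CommGroup M] (hd : IsDiagOf M A₀' (A₀' ⊗[A ⧸ I] ((A ⧸ I) ⊗[A] C))) :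
    ∃ (A' : Type u) (_ : CommRing A') (_ : Algebra A A'),
      Algebra.Etale A A' ∧ Module.Finite A A' ∧ Module.FaithfullyFlat A A' ∧
      Module.Projective A A' ∧ IsNoetherianRing A' ∧
      IsAdicComplete (Ideal.map (algebraMap A A') I) A' ∧
      Nonempty ((A' ⧸ Ideal.map (algebraMap A A') I) ⊗[A'] (A' ⊗[A] C)
        ≃ₐc[A' ⧸ Ideal.map (algebraMap A A') I]
          MonoidAlgebra (A' ⧸ Ideal.map (algebraMap A A') I) M) ∧
      ∀ n : ℕ, Module.Flat (A' ⧸ Ideal.map (algebraMap A A') I ^ n)
        ((A' ⧸ Ideal.map (algebraMap A A') I ^ n) ⊗[A'] (A' ⊗[A] C)) := by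
  obtain ⟨A', _, _, hfin', het', ⟨e⟩⟩ :=
    Groth.Agent.Lib.Helper3.exists_finite_etale_lift_of_pair A I A₀'
  letI : Algebra A A₀' := ((algebraMap (A ⧸ I) A₀').comp (Ideal.Quotient.mk I)).toAlgebra
  haveI : IsScalarTower A (A ⧸ I) A₀' := IsScalarTower.of_algebraMap_eq (fun _ => rfl)
  let ψ : A' →ₐ[A] A₀' :=
    (e.toAlgHom.restrictScalars A).comp (Algebra.TensorProduct.includeRight)
  have hψ : ∀ x, ψ x = e ((1 : A ⧸ I) ⊗ₜ[A] x) := fun _ => rfl
  have hsurj : Function.Surjective ψ := by
    intro y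
    obtain ⟨x, hx⟩ := DiagNil.exists_one_tmul_eq I (e.symm y)
    exact ⟨x, by rw [hψ, hx, e.apply_symm_apply]⟩
  have hker : RingHom.ker ψ = Ideal.map (algebraMap A A') I := by
    ext x
    rw [RingHom.mem_ker, hψ, EmbeddingLike.map_eq_zero_iff, GLLift.one_tmul_eq_zero_iff]
  letI : Algebra A' A₀' := ψ.toRingHom.toAlgebra
  haveI : IsScalarTower A A' A₀' := IsScalarTower.of_algebraMap_eq (fun x => (ψ.commutes x).symm)
  haveI : Algebra.Etale A A' := het'
  haveI hnoeth : IsNoetherianRing A' := Algebra.FiniteType.isNoetherianRing A A'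
  haveI hcompl : IsAdicComplete (Ideal.map (algebraMap A A') I) A' :=
    isAdicComplete_map_of_finite I A'
  haveI : Module.FaithfullyFlat (A ⧸ I) A₀' := hff
  haveI hff' : Module.FaithfullyFlat A A' :=
    faithfullyFlat_of_lift_jacobson (Ideal.Quotient.mk I) A' A₀' Ideal.Quotient.mk_surjective
      (by rw [Ideal.mk_ker]; exact IsAdicComplete.le_jacobson_bot I) ψ.toRingHom
      (fun x => ψ.commutes x)
  haveI : Module.FinitePresentation A A' := Module.finitePresentation_of_finite A A'
  haveI hproj : Module.Projective A A' := Module.Flat.projective_of_finitePresentation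
  have hd' : IsDiagOf M A₀' (A₀' ⊗[A] C) := isDiagOf_of_equiv (cancelBC A (A ⧸ I) A₀' C) hd
  have h0 : IsDiagOf M A₀' (A₀' ⊗[A'] (A' ⊗[A] C)) :=
    isDiagOf_of_equiv (cancelBC A A' A₀' C).symm hd'
  have hker' : RingHom.ker (IsScalarTower.toAlgHom A' A' A₀') = Ideal.map (algebraMap A A') I := hker
  let eQ : (A' ⧸ Ideal.map (algebraMap A A') I) ≃ₐ[A'] A₀' :=
    (Ideal.quotientEquivAlgOfEq A' hker'.symm).trans
      (Ideal.quotientKerAlgEquivOfSurjective (f := IsScalarTower.toAlgHom A' A' A₀') hsurj)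
  letI : Algebra A₀' (A' ⧸ Ideal.map (algebraMap A A') I) := eQ.symm.toAlgHom.toRingHom.toAlgebra
  haveI : IsScalarTower A' A₀' (A' ⧸ Ideal.map (algebraMap A A') I) :=
    IsScalarTower.of_algebraMap_eq (fun x => (eQ.symm.commutes x).symm)
  have hε₀ : IsDiagOf M (A' ⧸ Ideal.map (algebraMap A A') I)
      ((A' ⧸ Ideal.map (algebraMap A A') I) ⊗[A'] (A' ⊗[A] C)) :=
    isDiagOf_tower A₀' _ h0
  have hflat : ∀ n : ℕ, Module.Flat (A' ⧸ Ideal.map (algebraMap A A') I ^ n)
      ((A' ⧸ Ideal.map (algebraMap A A') I ^ n) ⊗[A'] (A' ⊗[A] C)) := by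
    intro n
    haveI : Module.Flat (A' ⧸ Ideal.map (algebraMap A A') I ^ n)
        ((A' ⧸ Ideal.map (algebraMap A A') I ^ n) ⊗[A] C) := by
      apply flat_baseChange_of_flat_at_primes I C hfl
      intro a ha
      refine ⟨n, ?_⟩
      rw [← map_pow, IsScalarTower.algebraMap_apply A A' (A' ⧸ Ideal.map (algebraMap A A') I ^ n),
        Ideal.Quotient.algebraMap_eq, Ideal.Quotient.eq_zero_iff_mem, map_pow]
      exact Ideal.pow_mem_pow (Ideal.mem_map_of_mem _ ha) n
    exact Module.Flat.of_linearEquiv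
      (Algebra.TensorProduct.cancelBaseChange A A' (A' ⧸ Ideal.map (algebraMap A A') I ^ n)
        (A' ⧸ Ideal.map (algebraMap A A') I ^ n) C).toLinearEquiv
  exact ⟨A', inferInstance, inferInstance, het', hfin', hff', hproj, hnoeth, hcompl, hε₀, hflat⟩

/-- **Algebraisation of isotriviality** with an abstract vanishing hypothesis for the idempotents
of `C` lying in `I C` (and flatness only at the points over `V(I)`). -/
theorem isIsotrivial_of_idempotent_vanishing (A : Type u) [CommRing A] [IsNoetherianRing A]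
    (I : Ideal A) [IsAdicComplete I A]
    (C : Type u) [CommRing C] [HopfAlgebra A C] (hft : Algebra.FiniteType A C)
    (hfl : ∀ (q : Ideal C) [q.IsPrime], Ideal.map (algebraMap A C) I ≤ q →
      Module.Flat A (Localization.AtPrime q))
    (hvan : ∀ e : C, IsIdempotentElem e → e ∈ Ideal.map (algebraMap A C) I → e = 0)
    (h0 : IsIsotrivial (A ⧸ I) ((A ⧸ I) ⊗[A] C)) : IsIsotrivial A C := by
  obtain ⟨A₀', _, _, het, hfin, hff, M, _, hd⟩ := h0
  obtain ⟨A', _, _, het', hfin', hff', hproj, hnoeth, hcompl, ⟨ε₀⟩, hflat⟩ :=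
    exists_lift_data A I C hfl A₀' het hfin hff M hd
  haveI : IsNoetherianRing C := Algebra.FiniteType.isNoetherianRing A C
  haveI : IsNoetherianRing (A' ⊗[A] C) := Algebra.FiniteType.isNoetherianRing A' (A' ⊗[A] C)
  have hdiag := isDiagOf_of_forall_idempotent_eq_zero I C A' ε₀ hflat hvan
  exact ⟨A', inferInstance, inferInstance, het', hfin', hff', hdiag.isDiag⟩

/-- **Isotriviality of groups of multiplicative type over a complete noetherian base** can be
checked modulo the ideal of definition. -/
theorem isIsotrivial_of_isMultType (R : Type u) [CommRing R] (A : Type u) [CommRing A]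
    [HopfAlgebra R A] [IsNoetherianRing R] (I : Ideal R) [IsAdicComplete I R]
    (hft : Algebra.FiniteType R A) (h : IsMultType R A)
    (h0 : IsIsotrivial (R ⧸ I) ((R ⧸ I) ⊗[R] A)) : IsIsotrivial R A := by
  haveI : Module.Flat R A := flat_of_isMultType h
  refine isIsotrivial_of_idempotent_vanishing R I A hft ?_ ?_ h0
  · intro q _ _
    exact Module.Flat.trans R A (Localization.AtPrime q)
  · intro e he hem
    exact eq_zero_of_idempotent_of_isMultType I (IsAdicComplete.le_jacobson_bot I) h hft he hem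

end Main3

end Groth.Agent.Lib.Helper77.CompDiag
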