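import Mathlib
import Groth.Prelude.Def_SGA3b

set_option autoImplicit false
universe u
open TensorProduct WithConv

namespace Groth.Agent.Lib.Helper77.TorsPt

open SGA3b

section Conv

variable {R : Type u} [CommRing R] {C : Type u} [CommRing C] [HopfAlgebra R C]
  {B : Type u} [CommRing B] [HopfAlgebra R B]
  {T : Type u} [CommRing T] [Algebra R T]

/-- precomposition with a bialgebra map commutes with convolution powers. -/
lemma pow_comp_bialgHom (h : B →ₐc[R] C) (f : WithConv (C →ₐ[R] T)) (n : ℕ) :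
    AlgHom.comp (f ^ n).ofConv (h : B →ₐ[R] C) = ofConv ((toConv (f.ofConv.comp h)) ^ n) := by
  induction n with
  | zero =>
    rw [pow_zero, pow_zero]
    apply AlgHom.ext
    intro b
    show algebraMap R T (Coalgebra.counit (R := R) (h b)) = algebraMap R T (Coalgebra.counit b)
    rw [CoalgHomClass.counit_comp_apply]
  | succ n ih =>
    rw [pow_succ, pow_succ, AlgHom.convMul_comp_bialgHom_distrib, ih]

/-- postcomposition with an algebra map commutes with convolution powers. -/
lemma comp_pow {T' : Type u} [CommRing T'] [Algebra R T'] (h : T →ₐ[R] T')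
    (f : WithConv (C →ₐ[R] T)) (n : ℕ) :
    h.comp (f ^ n).ofConv = ofConv (toConv (h.comp f.ofConv) ^ n) := by
  induction n with
  | zero =>
    rw [pow_zero, pow_zero]
    apply AlgHom.ext
    intro b
    show h (algebraMap R T (Coalgebra.counit (R := R) b)) = algebraMap R T' (Coalgebra.counit b)
    rw [AlgHom.commutes]
  | succ n ih =>
    rw [pow_succ, pow_succ, AlgHom.comp_convMul_distrib, ih]

/-- a point composed with the `n`-th power endomorphism is the `n`-th power of the point. -/
lemma comp_powConv (z : C →ₐ[R] T) (n : ℕ) :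
    z.comp (powConv R C n) = ofConv (toConv z ^ n) := by
  have h := comp_pow z (toConv (AlgHom.id R C)) n
  simpa [powConv] using h

/-- a torsion point kills the ideal of the torsion subgroup. -/
lemma eq_zero_of_pow_eq_one (z : C →ₐ[R] T) (n : ℕ) (hz : toConv z ^ n = 1) {c : C}
    (hc : c ∈ torsionIdeal R C n) : z c = 0 := by
  have hle : torsionIdeal R C n ≤ RingHom.ker z := by
    rw [torsionIdeal, Ideal.map_le_iff_le_comap]
    intro a ha
    rw [Ideal.mem_comap, RingHom.mem_ker]
    have h1 : z (powConv R C n a) = (z.comp (powConv R C n)) a := rfl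
    rw [h1, comp_powConv, hz]
    show algebraMap R T (Coalgebra.counit (R := R) a) = 0
    have : Coalgebra.counit (R := R) a = 0 := ha
    rw [this, map_zero]
  exact hle hc

end Conv

section Char

variable {R : Type u} [CommRing R] {M : Type u} [CommGroup M] {T : Type u} [CommRing T] [Algebra R T]

lemma lift_mul (χ₁ χ₂ : M →* T) :
    toConv (MonoidAlgebra.lift R T M χ₁) * toConv (MonoidAlgebra.lift R T M χ₂) =
      toConv (MonoidAlgebra.lift R T M (χ₁ * χ₂)) := by
  apply WithConv.ofConv_injective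
  apply (MonoidAlgebra.lift R T M).symm.injective
  apply MonoidHom.ext
  intro m
  rw [MonoidAlgebra.lift_symm_apply, MonoidAlgebra.lift_symm_apply]
  show (toConv (MonoidAlgebra.lift R T M χ₁) * toConv (MonoidAlgebra.lift R T M χ₂))
    (MonoidAlgebra.single m 1) = _
  rw [AlgHom.convMul_apply, MonoidAlgebra.comul_single]
  simp

lemma lift_one : (1 : WithConv (MonoidAlgebra R M →ₐ[R] T)) =
    toConv (MonoidAlgebra.lift R T M 1) := by
  apply WithConv.ofConv_injective
  apply (MonoidAlgebra.lift R T M).symm.injective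
  apply MonoidHom.ext
  intro m
  rw [MonoidAlgebra.lift_symm_apply, MonoidAlgebra.lift_symm_apply]
  show algebraMap R T (Coalgebra.counit (R := R) (MonoidAlgebra.single m (1 : R))) = _
  simp

lemma lift_pow (χ : M →* T) (n : ℕ) :
    (toConv (MonoidAlgebra.lift R T M χ)) ^ n = toConv (MonoidAlgebra.lift R T M (χ ^ n)) := by
  induction n with
  | zero => rw [pow_zero, pow_zero, lift_one]
  | succ n ih => rw [pow_succ, pow_succ, ih, lift_mul]

end Char

section Null

variable {Ω : Type u} [Field Ω] [IsAlgClosed Ω] {C : Type u} [CommRing C] [Algebra Ω C]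

/-- a nonzero idempotent of a finitely generated algebra over an algebraically closed field takes
the value `1` at some rational point. -/
theorem exists_point_of_idempotent_ne_zero (hft : Algebra.FiniteType Ω C) {e : C}
    (he : IsIdempotentElem e) (h0 : e ≠ 0) : ∃ x : C →ₐ[Ω] Ω, x e = 1 := by
  have hne : Ideal.span {1 - e} ≠ (⊤ : Ideal C) := by
    intro htop
    rw [Ideal.eq_top_iff_one, Ideal.mem_span_singleton'] at htop
    obtain ⟨a, ha⟩ := htop
    apply h0
    have h1 : e = e * (a * (1 - e)) := by rw [ha, mul_one]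
    have h2 : e * (1 - e) = 0 := by rw [mul_sub, mul_one, he.eq, sub_self]
    rw [h1, mul_left_comm, h2, mul_zero]
  obtain ⟨𝔪, h𝔪, hle⟩ := Ideal.exists_le_maximal _ hne
  letI : Field (C ⧸ 𝔪) := Ideal.Quotient.field 𝔪
  haveI : Algebra.FiniteType Ω (C ⧸ 𝔪) :=
    hft.of_surjective (Ideal.Quotient.mkₐ Ω 𝔪) (Ideal.Quotient.mkₐ_surjective Ω 𝔪)
  haveI : Module.Finite Ω (C ⧸ 𝔪) := finite_of_finite_type_of_isJacobsonRing Ω (C ⧸ 𝔪)
  haveI : Algebra.IsIntegral Ω (C ⧸ 𝔪) := Algebra.IsIntegral.of_finite Ω (C ⧸ 𝔪)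
  have hbij : Function.Bijective (algebraMap Ω (C ⧸ 𝔪)) :=
    IsAlgClosed.algebraMap_bijective_of_isIntegral
  let E : Ω ≃ₐ[Ω] (C ⧸ 𝔪) := AlgEquiv.ofBijective (Algebra.ofId Ω (C ⧸ 𝔪)) hbij
  refine ⟨(E.symm : (C ⧸ 𝔪) →ₐ[Ω] Ω).comp (Ideal.Quotient.mkₐ Ω 𝔪), ?_⟩
  have h1 : Ideal.Quotient.mkₐ Ω 𝔪 (1 - e) = 0 :=
    Ideal.Quotient.eq_zero_iff_mem.mpr (hle (Ideal.mem_span_singleton_self _))
  have h2 : Ideal.Quotient.mkₐ Ω 𝔪 e = 1 := by
    rw [map_sub, map_one, sub_eq_zero] at h1
    exact h1.symm
  show E.symm (Ideal.Quotient.mkₐ Ω 𝔪 e) = 1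
  rw [h2, map_one]

end Null

section FinIdem

open TopologicalSpace in
lemma finite_clopens (X : Type*) [TopologicalSpace X] [NoetherianSpace X] :
    Finite (Clopens X) := by
  have hfin : (irreducibleComponents X).Finite := NoetherianSpace.finite_irreducibleComponents
  haveI : Finite (irreducibleComponents X) := hfin.to_subtype
  let F : Clopens X → Set (irreducibleComponents X) := fun U => {Z | (Z : Set X) ⊆ U}
  have hF : Function.Injective F := by
    have key : ∀ (U : Clopens X) (x : X), x ∈ U ↔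
        (⟨irreducibleComponent x, irreducibleComponent_mem_irreducibleComponents x⟩ :
          irreducibleComponents X) ∈ F U := by
      intro U x
      constructor
      · intro hx
        show irreducibleComponent x ⊆ (U : Set X)
        exact isIrreducible_irreducibleComponent.isPreirreducible.isPreconnected.subset_isClopen U.isClopen
          ⟨x, mem_irreducibleComponent, hx⟩
      · intro h
        exact h mem_irreducibleComponent
    intro U V h
    ext x
    show x ∈ U ↔ x ∈ V
    rw [key U x, key V x, h]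
  exact Finite.of_injective F hF

/-- a noetherian ring has finitely many idempotents. -/
lemma finite_idempotents (R : Type*) [CommRing R] [IsNoetherianRing R] :
    Finite {e : R // IsIdempotentElem e} := by
  haveI := finite_clopens (PrimeSpectrum R)
  exact Finite.of_equiv _ (PrimeSpectrum.isIdempotentElemEquivClopens (R := R)).toEquiv.symm

end FinIdem

section Trans

variable {Ω : Type u} [CommRing Ω] {C : Type u} [CommRing C] [HopfAlgebra Ω C]

/-- translation by a point. -/
noncomputable def trans (y : C →ₐ[Ω] Ω) : C →ₐ[Ω] C :=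
  ((Algebra.TensorProduct.lid Ω C) : Ω ⊗[Ω] C →ₐ[Ω] C).comp
    ((Algebra.TensorProduct.map y (AlgHom.id Ω C)).comp (Bialgebra.comulAlgHom Ω C))

lemma apply_trans (y z : C →ₐ[Ω] Ω) (c : C) : z (trans y c) = (toConv y * toConv z) c := by
  have h1 : (z.comp ((Algebra.TensorProduct.lid Ω C) : Ω ⊗[Ω] C →ₐ[Ω] C)).comp
      (Algebra.TensorProduct.map y (AlgHom.id Ω C)) =
      (Algebra.TensorProduct.lmul' Ω).comp (Algebra.TensorProduct.map y z) := by
    ext <;> simp
  have h2 : z.comp (trans y) = (toConv y * toConv z).ofConv := by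
    rw [AlgHom.convMul_def]
    show z.comp (((Algebra.TensorProduct.lid Ω C) : Ω ⊗[Ω] C →ₐ[Ω] C).comp
      ((Algebra.TensorProduct.map y (AlgHom.id Ω C)).comp (Bialgebra.comulAlgHom Ω C))) = _
    rw [← AlgHom.comp_assoc, ← AlgHom.comp_assoc, h1]
    rfl
  exact congrArg (fun f => f c) h2

/-- some positive power of any point lies in the subgroup cut out by an idempotent killed by the
counit (finiteness of the component group). -/
theorem exists_pow_apply_eq_zero [IsNoetherianRing C] {e : C}
    (he : IsIdempotentElem e)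
    (hε : Coalgebra.counit (R := Ω) e = 0) (x : C →ₐ[Ω] Ω) :
    ∃ n : ℕ, 0 < n ∧ (toConv x ^ n) e = 0 := by
  haveI := finite_idempotents C
  let u : ℕ → {e : C // IsIdempotentElem e} := fun j =>
    ⟨trans (toConv x ^ j).ofConv e, by
      show _ * _ = _
      rw [← map_mul, he.eq]⟩
  obtain ⟨i, j, hij, huv⟩ := Finite.exists_ne_map_eq_of_infinite u
  have key : ∀ i j : ℕ, i < j → u i = u j → ∃ n : ℕ, 0 < n ∧ (toConv x ^ n) e = 0 := by
    intro i j hlt h
    refine ⟨j - i, Nat.sub_pos_of_lt hlt, ?_⟩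
    have h1 : trans (toConv x ^ i).ofConv e = trans (toConv x ^ j).ofConv e :=
      congrArg Subtype.val h
    have h2 := congrArg ((toConv x ^ i)⁻¹).ofConv h1
    rw [apply_trans, apply_trans] at h2
    simp only [toConv_ofConv] at h2
    rw [mul_inv_cancel, ← pow_sub _ hlt.le] at h2
    rw [← h2]
    show algebraMap Ω Ω (Coalgebra.counit (R := Ω) e) = 0
    rw [hε, map_zero]
  rcases lt_or_gt_of_ne hij with h | h
  · exact key i j h huv
  · exact key j i h huv.symm

end Trans

section Roots

variable {Ω : Type u} [Field Ω] [IsAlgClosed Ω] {M : Type u} [CommGroup M] [Group.FG M]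

omit [CommGroup M] [Group.FG M] in
lemma exists_unit_pow_eq (u : Ωˣ) {N : ℕ} (hN : 0 < N) : ∃ v : Ωˣ, v ^ N = u := by
  obtain ⟨v₀, hv₀⟩ := IsAlgClosed.exists_pow_nat_eq (u : Ω) hN
  have hne : v₀ ≠ 0 := by
    intro h
    rw [h, zero_pow hN.ne'] at hv₀
    exact u.ne_zero hv₀.symm
  refine ⟨Units.mk0 v₀ hne, ?_⟩
  apply Units.ext
  simp [hv₀]

/-- characters of a finitely generated commutative group with values in an algebraically closed
field admit roots up to torsion. -/
theorem exists_root_character (χ : M →* Ωˣ) {n : ℕ} (hn : 0 < n) :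
    ∃ (f : ℕ) (_ : 0 < f) (ψ : M →* Ωˣ), ψ ^ (n * f) = χ ^ f := by
  classical
  obtain ⟨ι, J, _, _, p, hp, e, ⟨φ⟩⟩ := CommGroup.equiv_free_prod_prod_multiplicative_zmod M
  let f : ℕ := ∏ i, p i ^ e i
  have hf : 0 < f := Finset.prod_pos (fun i _ => pow_pos (hp i).pos _)
  have hQ : ∀ q : ((i : ι) → Multiplicative (ZMod (p i ^ e i))), q ^ f = 1 := by
    intro q
    funext i
    show (q i) ^ f = 1
    obtain ⟨k, hk⟩ : p i ^ e i ∣ f := Finset.dvd_prod_of_mem _ (Finset.mem_univ i)
    rw [hk, pow_mul]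
    have : (q i) ^ (p i ^ e i) = 1 := by
      apply Multiplicative.toAdd.injective
      rw [toAdd_pow, toAdd_one, nsmul_eq_mul, ZMod.natCast_self, zero_mul]
    rw [this, one_pow]
  let χ' : (J → Multiplicative ℤ) × ((i : ι) → Multiplicative (ZMod (p i ^ e i))) →* Ωˣ :=
    χ.comp φ.symm.toMonoidHom
  let a : J → Ωˣ := fun t => χ' (Pi.mulSingle t (Multiplicative.ofAdd 1), 1)
  choose ρ hρ using fun t => exists_unit_pow_eq ((a t) ^ f) (Nat.mul_pos hn hf)
  let ψP : (J → Multiplicative ℤ) →* Ωˣ :=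
    ∏ t, (zpowersHom Ωˣ (ρ t)).comp (Pi.evalMonoidHom _ t)
  let ψ : M →* Ωˣ := (ψP.comp (MonoidHom.fst _ _)).comp φ.toMonoidHom
  refine ⟨f, hf, ψ, ?_⟩
  -- the two characters of the free part agree
  have hP : ψP ^ (n * f) = (χ'.comp (MonoidHom.inl _ _)) ^ f := by
    apply MonoidHom.functions_ext
    intro t z
    revert z
    suffices h : ((ψP ^ (n * f)).comp (MonoidHom.mulSingle _ t)) =
        (((χ'.comp (MonoidHom.inl _ _)) ^ f).comp (MonoidHom.mulSingle _ t)) from
      fun z => DFunLike.congr_fun h z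
    apply MonoidHom.ext_mint
    show (ψP (Pi.mulSingle t (Multiplicative.ofAdd 1))) ^ (n * f) =
      (χ' (Pi.mulSingle t (Multiplicative.ofAdd 1), 1)) ^ f
    have h1 : ψP (Pi.mulSingle t (Multiplicative.ofAdd 1)) = ρ t := by
      show (∏ t', (zpowersHom Ωˣ (ρ t')).comp (Pi.evalMonoidHom _ t'))
        (Pi.mulSingle t (Multiplicative.ofAdd 1)) = ρ t
      rw [MonoidHom.finsetProd_apply]
      rw [Finset.prod_eq_single t]
      · simp
      · intro b _ hb
        simp [Pi.mulSingle_eq_of_ne hb]
      · intro h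
        exact absurd (Finset.mem_univ t) h
    rw [h1, hρ]
  apply MonoidHom.ext
  intro m
  obtain ⟨⟨v, q⟩, rfl⟩ := φ.symm.surjective m
  show (ψP (φ (φ.symm (v, q))).1) ^ (n * f) = (χ (φ.symm (v, q))) ^ f
  rw [φ.apply_symm_apply]
  have h2 : (v, q) = (v, 1) * (1, q) := by simp
  have h3 : χ (φ.symm (v, q)) = χ' (v, 1) * χ' (1, q) := by
    rw [← map_mul, ← h2]
    rfl
  have h4 : (χ' (1, q)) ^ f = 1 := by
    rw [← map_pow]
    have : ((1 : J → Multiplicative ℤ), q) ^ f = 1 := by
      rw [Prod.pow_mk, one_pow, hQ]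
      rfl
    rw [this, map_one]
  rw [h3, mul_pow, h4, mul_one]
  exact DFunLike.congr_fun hP v

end Roots

end Groth.Agent.Lib.Helper77.TorsPt
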