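import Mathlib
import Groth.Agent.Lib.Helper77.TorsPt1

set_option autoImplicit false
universe u
open TensorProduct WithConv

namespace Groth.Agent.Lib.Helper77.TorsPt

open SGA3b

section Main

variable {Ω : Type u} [Field Ω] [IsAlgClosed Ω] {C : Type u} [CommRing C] [HopfAlgebra Ω C]
  [Coalgebra.IsCocomm Ω C] {M : Type u} [CommGroup M]

/-- **Torsion points in every component**: over an algebraically closed field, let `C` be a
commutative cocommutative Hopf algebra of finite type, and `e` an idempotent generating the kernel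
of a surjective bialgebra map onto a group algebra (so `V(e)` is an open and closed diagonalisable
subgroup). If `e` lies in the ideals of all the torsion subgroups, then `e = 0`. -/
theorem eq_zero_of_idempotent_of_mem_torsionIdeal (hft : Algebra.FiniteType Ω C)
    (π : C →ₐc[Ω] MonoidAlgebra Ω M) (hπ : Function.Surjective π)
    {e : C} (he : IsIdempotentElem e)
    (hker : RingHom.ker (π : C →ₐ[Ω] MonoidAlgebra Ω M) = Ideal.span {e})
    (htors : ∀ n : ℕ, 0 < n → e ∈ torsionIdeal Ω C n) : e = 0 := by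
  by_contra h0
  haveI : IsNoetherianRing C := Algebra.FiniteType.isNoetherianRing Ω C
  haveI : Group.FG M := by
    have h1 : Algebra.FiniteType Ω (MonoidAlgebra Ω M) :=
      hft.of_surjective (π : C →ₐ[Ω] MonoidAlgebra Ω M) hπ
    exact MonoidAlgebra.finiteType_iff_group_fg.mp h1
  have hπe : π e = 0 := by
    have h1 : e ∈ RingHom.ker (π : C →ₐ[Ω] MonoidAlgebra Ω M) := by
      rw [hker]
      exact Ideal.mem_span_singleton_self e
    exact h1
  have hεe : Coalgebra.counit (R := Ω) e = 0 := by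
    rw [← CoalgHomClass.counit_comp_apply π e, hπe, map_zero]
  -- every point killing `e` factors through `π`
  have hfac : ∀ w : C →ₐ[Ω] Ω, w e = 0 → ∃ w' : MonoidAlgebra Ω M →ₐ[Ω] Ω,
      w'.comp (π : C →ₐ[Ω] MonoidAlgebra Ω M) = w := by
    intro w hw
    have hle : RingHom.ker (π : C →ₐ[Ω] MonoidAlgebra Ω M) ≤ RingHom.ker w := by
      rw [hker, Ideal.span_le]
      intro c hc
      rw [Set.mem_singleton_iff] at hc
      rw [hc]
      exact hw
    refine ⟨AlgHom.liftOfSurjective (π : C →ₐ[Ω] MonoidAlgebra Ω M) hπ w hle, ?_⟩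
    apply AlgHom.ext
    intro c
    exact AlgHom.liftOfSurjective_apply _ hπ w hle c
  obtain ⟨x, hx⟩ := exists_point_of_idempotent_ne_zero hft he h0
  obtain ⟨n, hn, hxn⟩ := exists_pow_apply_eq_zero he hεe x
  obtain ⟨g, hg⟩ := hfac (toConv x ^ n).ofConv hxn
  let χ : M →* Ω := (MonoidAlgebra.lift Ω Ω M).symm g
  have hgχ : g = MonoidAlgebra.lift Ω Ω M χ := ((MonoidAlgebra.lift Ω Ω M).apply_symm_apply g).symm
  obtain ⟨f, hf, ψ', hψ'⟩ := exists_root_character χ.toHomUnits hn
  let ψ : M →* Ω := (Units.coeHom Ω).comp ψ'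
  have hψ : ψ ^ (n * f) = χ ^ f := by
    apply MonoidHom.ext
    intro m
    have h1 := congrArg (fun (θ : M →* Ωˣ) => ((θ m : Ωˣ) : Ω)) hψ'
    simpa [ψ] using h1
  let yt : MonoidAlgebra Ω M →ₐ[Ω] Ω := MonoidAlgebra.lift Ω Ω M ψ
  let y : WithConv (C →ₐ[Ω] Ω) := toConv (yt.comp (π : C →ₐ[Ω] MonoidAlgebra Ω M))
  have hy : y ^ (n * f) = toConv x ^ (n * f) := by
    have h1 : y ^ (n * f) = toConv ((toConv yt ^ (n * f)).ofConv.comp
        (π : C →ₐ[Ω] MonoidAlgebra Ω M)) := by
      rw [pow_comp_bialgHom]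
    have h2 : (toConv x ^ n) ^ f = toConv ((toConv g ^ f).ofConv.comp
        (π : C →ₐ[Ω] MonoidAlgebra Ω M)) := by
      rw [pow_comp_bialgHom, hg]
    rw [h1, pow_mul (toConv x), h2, lift_pow, hgχ, lift_pow, hψ]
  let z : WithConv (C →ₐ[Ω] Ω) := toConv x * y⁻¹
  have hz : z ^ (n * f) = 1 := by
    rw [mul_pow, inv_pow, hy, mul_inv_cancel]
  have hze : z.ofConv e = 0 :=
    eq_zero_of_pow_eq_one z.ofConv (n * f) hz (htors (n * f) (Nat.mul_pos hn hf))
  obtain ⟨z', hz'⟩ := hfac z.ofConv hze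
  have hxz : toConv x = z * y := by
    rw [inv_mul_cancel_right]
  have h3 : x = ((toConv z' * toConv yt).ofConv).comp (π : C →ₐ[Ω] MonoidAlgebra Ω M) := by
    rw [AlgHom.convMul_comp_bialgHom_distrib]
    have : toConv x = toConv (z'.comp (π : C →ₐ[Ω] MonoidAlgebra Ω M)) *
        toConv (yt.comp (π : C →ₐ[Ω] MonoidAlgebra Ω M)) := by
      rw [hz']
      exact hxz
    exact congrArg WithConv.ofConv this
  have h4 : x e = 0 := by
    rw [h3]
    show (toConv z' * toConv yt).ofConv (π e) = 0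
    rw [hπe, map_zero]
  rw [hx] at h4
  exact one_ne_zero h4

end Main

end Groth.Agent.Lib.Helper77.TorsPt
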