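import Mathlib
import Groth.Agent.Lib.Helper77.CompDiag15
import Groth.Agent.Lib.Helper77.TorsPt2

set_option autoImplicit false
universe u
open TensorProduct WithConv

namespace Groth.Agent.Lib.Helper77.CompDiag

open SGA3b Groth.Agent.Lib.Helper77.MultMono Groth.Agent.Lib.Helper77.MultBC
  Groth.Agent.Lib.Helper77.GLLift Groth.Agent.Lib.Helper77.DiagNil
  Groth.Agent.Lib.Helper77.MultKer Groth.Agent.Lib.Helper77.DefRigid
  Groth.Agent.Lib.Helper77.MultTors Groth.Agent.Lib.Helper77.MultRigid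
  Groth.Agent.Lib.Helper77.TorsPt

section Core3

variable {A : Type u} [CommRing A] (I : Ideal A) [IsHausdorff I A]
  (C : Type u) [CommRing C] [HopfAlgebra A C] [IsNoetherianRing C]
  (K : Type u) [CommRing K] [Algebra A K] [Module.Finite A K] [Module.Projective A K]
  [Module.FaithfullyFlat A K] [IsNoetherianRing K]
  [IsAdicComplete (Ideal.map (algebraMap A K) I) K]
  {M : Type u} [CommGroup M]
  (ε₀ : (K ⧸ Ideal.map (algebraMap A K) I) ⊗[K] (K ⊗[A] C) ≃ₐc[K ⧸ Ideal.map (algebraMap A K) I]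
    MonoidAlgebra (K ⧸ Ideal.map (algebraMap A K) I) M)
  (hflat : ∀ n : ℕ, Module.Flat (K ⧸ Ideal.map (algebraMap A K) I ^ n)
    ((K ⧸ Ideal.map (algebraMap A K) I ^ n) ⊗[K] (K ⊗[A] C)))

include ε₀ hflat in
/-- variant of `exists_idempotent_hopfIdeal` recording that the idempotent generates the closure
of zero. -/
theorem exists_idempotent_hopfIdeal' [IsNoetherianRing (K ⊗[A] C)] :
    ∃ e : C, IsIdempotentElem e ∧ e ∈ Ideal.map (algebraMap A C) I ∧ N₀ I C = Ideal.span {e} ∧
      ∃ _ : (Ideal.span {e}).IsHopfIdeal A, IsDiagOf M K (K ⊗[A] (C ⧸ Ideal.span {e})) := by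
  have hker := ker_phi_eq I C K ε₀ hflat
  obtain ⟨e, he, hN⟩ := exists_idempotent_N₀ I C K ε₀ hflat hker
  rw [hN] at hker
  have heI : e ∈ Ideal.map (algebraMap A C) I := by
    have h1 : e ∈ N₀ I C := by
      rw [hN]
      exact Ideal.mem_span_singleton_self e
    have h2 := (Ideal.mem_iInf.mp h1) 1
    rwa [pow_one] at h2
  have hH : (Ideal.span {e}).IsHopfIdeal A := by
    refine { toIsCoideal := ⟨?_, ?_⟩, antipode_mem := ?_ }
    · intro x hx
      have hx' : x ∈ N₀ I C := by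
        rw [hN]
        exact hx
      exact counit_eq_zero_of_mem_N₀ I C hx'
    · intro x hx
      exact map_mk_comul_eq_zero I C K ε₀ hflat _ hker hx
    · intro x hx
      have hx' : x ∈ N₀ I C := by
        rw [hN]
        exact hx
      have := antipode_mem_N₀ I C hx'
      rwa [hN] at this
  refine ⟨e, he, heI, hN, hH, ?_⟩
  let π : C →ₐc[A] C ⧸ Ideal.span {e} := Bialgebra.Quotient.mkBialgHom (Ideal.span {e})
  have hπ : Function.Surjective π := Ideal.Quotient.mk_surjective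
  have h1 := bcHom_surjective A K π hπ
  have h2 := ker_bcHom A K π hπ
  rw [ker_mkBialgHom] at h2
  obtain ⟨E⟩ := nonempty_bialgEquiv_of_surjective_of_ker_eq (bcHom A K π)
    (phi (Ideal.map (algebraMap A K) I) ε₀ hflat) h1
    (phi_surjective (Ideal.map (algebraMap A K) I) ε₀ hflat) (h2.trans hker.symm)
  exact ⟨E⟩

end Core3

section Main4

/-- variant of `exists_clopen_isotrivial` with more information. -/
theorem exists_clopen_isotrivial' (A : Type u) [CommRing A] [IsNoetherianRing A] (I : Ideal A)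
    [IsAdicComplete I A]
    (C : Type u) [CommRing C] [HopfAlgebra A C] (hft : Algebra.FiniteType A C)
    (hfl : ∀ (q : Ideal C) [q.IsPrime], Ideal.map (algebraMap A C) I ≤ q →
      Module.Flat A (Localization.AtPrime q))
    (h0 : IsIsotrivial (A ⧸ I) ((A ⧸ I) ⊗[A] C)) :
    ∃ e : C, IsIdempotentElem e ∧ e ∈ Ideal.map (algebraMap A C) I ∧ N₀ I C = Ideal.span {e} ∧
      ∃ _ : (Ideal.span {e}).IsHopfIdeal A,
      ∃ (A' : Type u) (_ : CommRing A') (_ : Algebra A A') (M : Type u) (_ : CommGroup M),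
        Algebra.Etale A A' ∧ Module.Finite A A' ∧ Module.FaithfullyFlat A A' ∧
          IsDiagOf M A' (A' ⊗[A] (C ⧸ Ideal.span {e})) := by
  obtain ⟨A₀', _, _, het, hfin, hff, M, _, hd⟩ := h0
  obtain ⟨A', _, _, het', hfin', hff', hproj, hnoeth, hcompl, ⟨ε₀⟩, hflat⟩ :=
    exists_lift_data A I C hfl A₀' het hfin hff M hd
  haveI : IsNoetherianRing C := Algebra.FiniteType.isNoetherianRing A C
  haveI : IsNoetherianRing (A' ⊗[A] C) := Algebra.FiniteType.isNoetherianRing A' (A' ⊗[A] C)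
  obtain ⟨e, he, heI, hN, hH, hdiag⟩ := exists_idempotent_hopfIdeal' I C A' ε₀ hflat
  exact ⟨e, he, heI, hN, hH, A', inferInstance, inferInstance, M, inferInstance, het', hfin',
    hff', hdiag⟩

end Main4

section AlgClosedPoint

/-- a finite faithfully flat algebra has a point in every algebraically closed field over the
base. -/
theorem exists_algHom_of_finite_faithfullyFlat {A : Type u} [CommRing A] (A' : Type u)
    [CommRing A'] [Algebra A A'] [Module.Finite A A'] [Module.FaithfullyFlat A A']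
    (Ω : Type u) [Field Ω] [IsAlgClosed Ω] [Algebra A Ω] : Nonempty (A' →ₐ[A] Ω) := by
  haveI : Nontrivial (Ω ⊗[A] A') := inferInstance
  obtain ⟨𝔫, h𝔫⟩ := Ideal.exists_maximal (Ω ⊗[A] A')
  letI : Field ((Ω ⊗[A] A') ⧸ 𝔫) := Ideal.Quotient.field 𝔫
  haveI : Module.Finite Ω (Ω ⊗[A] A') := inferInstance
  haveI : Module.Finite Ω ((Ω ⊗[A] A') ⧸ 𝔫) :=
    Module.Finite.of_surjective (Ideal.Quotient.mkₐ Ω 𝔫).toLinearMap
      (Ideal.Quotient.mkₐ_surjective Ω 𝔫)
  haveI : Algebra.IsIntegral Ω ((Ω ⊗[A] A') ⧸ 𝔫) := Algebra.IsIntegral.of_finite _ _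
  have hbij : Function.Bijective (algebraMap Ω ((Ω ⊗[A] A') ⧸ 𝔫)) :=
    IsAlgClosed.algebraMap_bijective_of_isIntegral
  let E : Ω ≃ₐ[Ω] ((Ω ⊗[A] A') ⧸ 𝔫) := AlgEquiv.ofBijective (Algebra.ofId _ _) hbij
  exact ⟨((E.symm : ((Ω ⊗[A] A') ⧸ 𝔫) →ₐ[Ω] Ω).restrictScalars A).comp
    (((Ideal.Quotient.mkₐ Ω 𝔫).restrictScalars A).comp Algebra.TensorProduct.includeRight)⟩

end AlgClosedPoint

section Krull

variable {A : Type u} [CommRing A] [IsNoetherianRing A] {C : Type u} [CommRing C] [Algebra A C]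

/-- Krull: an idempotent of `I C`, `I` in the Jacobson radical, lies in every ideal with finite
quotient. -/
lemma mem_of_idempotent_of_finite_quotient (I : Ideal A) (hI : I ≤ Ideal.jacobson ⊥)
    (J : Ideal C) [Module.Finite A (C ⧸ J)] {e : C} (he : IsIdempotentElem e)
    (hem : e ∈ Ideal.map (algebraMap A C) I) : e ∈ J := by
  have hkrull := Ideal.iInf_pow_smul_eq_bot_of_le_jacobson (R := A) (M := C ⧸ J) I hI
  have hmem : Ideal.Quotient.mk J e ∈ (⨅ i : ℕ, I ^ i • ⊤ : Submodule A (C ⧸ J)) := by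
    rw [Submodule.mem_iInf]
    intro k
    have h0 : e ∈ Ideal.map (algebraMap A C) (I ^ k) := by
      rcases k with _ | k
      · rw [pow_zero, Ideal.one_eq_top, Ideal.map_top]
        exact Submodule.mem_top
      · rw [Ideal.map_pow, ← he.pow_succ_eq k]
        exact Ideal.pow_mem_pow hem _
    have h1 : e ∈ (I ^ k • ⊤ : Submodule A C) := by
      rw [Ideal.smul_top_eq_map]
      exact h0
    exact map_mem_smul_top (I ^ k) (Ideal.Quotient.mkₐ A J).toLinearMap h1
  rw [hkrull] at hmem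
  exact Ideal.Quotient.eq_zero_iff_mem.mp hmem

end Krull

section TorsFin

/-- geometric fibre version: the idempotent dies at every geometric point. -/
theorem algHom_apply_eq_zero_of_forall_mem_torsionIdeal {A : Type u} [CommRing A]
    (C : Type u) [CommRing C] [HopfAlgebra A C] [Coalgebra.IsCocomm A C]
    (hft : Algebra.FiniteType A C)
    {e : C} (he : IsIdempotentElem e) [hH : (Ideal.span {e}).IsHopfIdeal A]
    (A' : Type u) [CommRing A'] [Algebra A A'] [Module.Finite A A'] [Module.FaithfullyFlat A A']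
    (M : Type u) [CommGroup M] (hd : IsDiagOf M A' (A' ⊗[A] (C ⧸ Ideal.span {e})))
    (htors : ∀ n : ℕ, 0 < n → e ∈ torsionIdeal A C n)
    (Ω : Type u) [Field Ω] [IsAlgClosed Ω] [Algebra A Ω] (c : C →ₐ[A] Ω) : c e = 0 := by
  obtain ⟨g⟩ := exists_algHom_of_finite_faithfullyFlat (A := A) A' Ω
  letI : Algebra A' Ω := g.toRingHom.toAlgebra
  haveI : IsScalarTower A A' Ω := IsScalarTower.of_algebraMap_eq (fun x => (g.commutes x).symm)
  obtain ⟨εD⟩ := isDiagOf_tower A' Ω hd
  let π₀ : C →ₐc[A] C ⧸ Ideal.span {e} := Bialgebra.Quotient.mkBialgHom (Ideal.span {e})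
  have hπ₀ : Function.Surjective π₀ := Ideal.Quotient.mk_surjective
  let π : Ω ⊗[A] C →ₐc[Ω] MonoidAlgebra Ω M := (εD : _ →ₐc[Ω] _).comp (bcHom A Ω π₀)
  have hπ : Function.Surjective π := εD.surjective.comp (bcHom_surjective A Ω π₀ hπ₀)
  have hkerπ : RingHom.ker (π : Ω ⊗[A] C →ₐ[Ω] MonoidAlgebra Ω M) =
      Ideal.span {(1 : Ω) ⊗ₜ[A] e} := by
    have h2 := ker_bcHom A Ω π₀ hπ₀
    rw [ker_mkBialgHom, Ideal.map_span, Set.image_singleton] at h2
    have h2' : RingHom.ker ((bcHom A Ω π₀ : Ω ⊗[A] C →ₐc[Ω] Ω ⊗[A] (C ⧸ Ideal.span {e})) :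
        Ω ⊗[A] C →ₐ[Ω] Ω ⊗[A] (C ⧸ Ideal.span {e})) = Ideal.span {(1 : Ω) ⊗ₜ[A] e} := h2
    rw [← h2']
    ext z
    rw [RingHom.mem_ker, RingHom.mem_ker]
    show εD (bcHom A Ω π₀ z) = 0 ↔ bcHom A Ω π₀ z = 0
    exact EmbeddingLike.map_eq_zero_iff
  have hid : IsIdempotentElem ((1 : Ω) ⊗ₜ[A] e) := by
    show _ * _ = _
    rw [Algebra.TensorProduct.tmul_mul_tmul, one_mul, he.eq]
  have htorsΩ : ∀ n : ℕ, 0 < n → (1 : Ω) ⊗ₜ[A] e ∈ torsionIdeal Ω (Ω ⊗[A] C) n := by
    intro n hn
    rw [torsionIdeal_baseChange]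
    exact Ideal.mem_map_of_mem _ (htors n hn)
  have hftΩ : Algebra.FiniteType Ω (Ω ⊗[A] C) := inferInstance
  have hzero : (1 : Ω) ⊗ₜ[A] e = 0 :=
    eq_zero_of_idempotent_of_mem_torsionIdeal hftΩ π hπ hid hkerπ htorsΩ
  let μ : Ω ⊗[A] C →ₐ[A] Ω :=
    Algebra.TensorProduct.productMap (AlgHom.id A Ω) c
  have h3 : μ ((1 : Ω) ⊗ₜ[A] e) = c e := by
    simp [μ]
  rw [hzero, map_zero] at h3
  exact h3.symm

/-- the idempotent cutting out an open and closed subgroup which becomes diagonalisable over a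
finite faithfully flat cover, if it lies in the ideals of all the torsion subgroups, vanishes
(fibre by fibre, by finding torsion points in every component of the geometric fibres). -/
theorem eq_zero_of_idempotent_of_forall_mem_torsionIdeal {A : Type u} [CommRing A]
    (C : Type u) [CommRing C] [HopfAlgebra A C] [Coalgebra.IsCocomm A C]
    (hft : Algebra.FiniteType A C)
    {e : C} (he : IsIdempotentElem e) [hH : (Ideal.span {e}).IsHopfIdeal A]
    (A' : Type u) [CommRing A'] [Algebra A A'] [Module.Finite A A'] [Module.FaithfullyFlat A A']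
    (M : Type u) [CommGroup M] (hd : IsDiagOf M A' (A' ⊗[A] (C ⧸ Ideal.span {e})))
    (htors : ∀ n : ℕ, 0 < n → e ∈ torsionIdeal A C n) : e = 0 := by
  apply eq_zero_of_isIdempotentElem_of_isNilpotent he
  rw [nilpotent_iff_mem_prime]
  intro 𝔮 h𝔮
  haveI := h𝔮
  let c₁ : C →ₐ[A] 𝔮.ResidueField := IsScalarTower.toAlgHom A C 𝔮.ResidueField
  let c₂ : 𝔮.ResidueField →ₐ[A] AlgebraicClosure 𝔮.ResidueField :=
    IsScalarTower.toAlgHom A 𝔮.ResidueField (AlgebraicClosure 𝔮.ResidueField)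
  have h3 := algHom_apply_eq_zero_of_forall_mem_torsionIdeal C hft he A' M hd htors
    (AlgebraicClosure 𝔮.ResidueField) (c₂.comp c₁)
  have h4 : algebraMap C 𝔮.ResidueField e = 0 :=
    (algebraMap 𝔮.ResidueField (AlgebraicClosure 𝔮.ResidueField)).injective
      (by rw [map_zero]; exact h3)
  exact (Ideal.algebraMap_residueField_eq_zero).mp h4

/-- **Isotriviality over a complete noetherian base** for a flat commutative group of finite type
whose reduction is isotrivial of multiplicative type and whose torsion subgroups are finite. -/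
theorem isIsotrivial_of_adicComplete_of_torsion_finite (A : Type u) [CommRing A]
    [IsNoetherianRing A] (I : Ideal A) [IsAdicComplete I A]
    (C : Type u) [CommRing C] [HopfAlgebra A C] [Coalgebra.IsCocomm A C] [Module.Flat A C]
    (hft : Algebra.FiniteType A C)
    (h0 : IsIsotrivial (A ⧸ I) ((A ⧸ I) ⊗[A] C))
    (hfin : ∀ n : ℕ, 0 < n → Module.Finite A (C ⧸ torsionIdeal A C n)) :
    IsIsotrivial A C := by
  have hfl : ∀ (q : Ideal C) [q.IsPrime], Ideal.map (algebraMap A C) I ≤ q →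
      Module.Flat A (Localization.AtPrime q) := by
    intro q _ _
    exact Module.Flat.trans A C (Localization.AtPrime q)
  obtain ⟨e, he, heI, hN, hH, A', _, _, M, _, het, hfin', hff, hd⟩ :=
    exists_clopen_isotrivial' A I C hft hfl h0
  have htors : ∀ n : ℕ, 0 < n → e ∈ torsionIdeal A C n := by
    intro n hn
    haveI := hfin n hn
    exact mem_of_idempotent_of_finite_quotient I (IsAdicComplete.le_jacobson_bot I) _ he heI
  have he0 : e = 0 :=
    eq_zero_of_idempotent_of_forall_mem_torsionIdeal C hft he A' M hd htors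
  refine isIsotrivial_of_idempotent_vanishing A I C hft hfl ?_ h0
  intro e' he' hem'
  have h1 : e' ∈ N₀ I C := by
    refine Ideal.mem_iInf.mpr (fun k => ?_)
    rcases k with _ | k
    · rw [pow_zero, Ideal.one_eq_top, Ideal.map_top]
      exact Submodule.mem_top
    · rw [Ideal.map_pow, ← he'.pow_succ_eq k]
      exact Ideal.pow_mem_pow hem' _
  rw [hN, he0] at h1
  simpa using h1

end TorsFin

end Groth.Agent.Lib.Helper77.CompDiag
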