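import Mathlib

/-!
# Conductor arguments in products of power series rings (helper77)
-/

set_option autoImplicit false
universe u

namespace Groth.Agent.Lib.Helper77

open PowerSeries

/-- Division of power series over a field by a series of exact order `l`. -/
theorem powerSeries_exists_mul_eq {k : Type u} [Field k] (f g : PowerSeries k) (l c : ℕ)
    (hf : f.order = (l : ℕ∞)) (hg : ((l + c : ℕ) : ℕ∞) ≤ g.order) :
    ∃ w : PowerSeries k, (c : ℕ∞) ≤ w.order ∧ f * w = g := by
  have hf0 : f ≠ 0 := by
    rintro rfl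
    simp at hf
  have hl : f.order.toNat = l := by rw [hf]; rfl
  set u := divXPowOrder f with hu
  have hfu : X ^ l * u = f := by
    have := X_pow_order_mul_divXPowOrder (f := f)
    rwa [hl] at this
  have hu0 : constantCoeff u ≠ 0 := by
    rw [hu, Ne, constantCoeff_divXPowOrder_eq_zero_iff]
    exact hf0
  obtain ⟨h, hh⟩ : X ^ (l + c) ∣ g := by
    rw [X_pow_dvd_iff]
    intro m hm
    apply coeff_of_lt_order
    exact lt_of_lt_of_le (by exact_mod_cast hm) hg
  refine ⟨X ^ c * (h * u⁻¹), ?_, ?_⟩
  · rw [order_mul, order_X_pow]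
    exact le_self_add
  · rw [← hfu, hh]
    have : u * u⁻¹ = 1 := PowerSeries.mul_inv_cancel u hu0
    calc X ^ l * u * (X ^ c * (h * u⁻¹)) = X ^ (l + c) * h * (u * u⁻¹) := by ring
      _ = X ^ (l + c) * h := by rw [this, mul_one]

/-- The key conductor argument: if `J` is an ideal of the subalgebra `R` of a product of power series rings
with conductor exponents `c`, containing for each `i` an element of `i`-th order `l i`, then `J` contains all
tuples of order at least `l + c`. -/
theorem conductor_mem {k : Type u} [Field k] (s : ℕ)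
    (R : Subalgebra k (Fin s → PowerSeries k))
    (c : Fin s → ℕ)
    (hc : ∀ f : Fin s → PowerSeries k,
      (∀ g : Fin s → PowerSeries k, g * f ∈ R) ↔ ∀ i, ((c i : ℕ) : ℕ∞) ≤ (f i).order)
    (J : Ideal ↥R)
    (l : Fin s → ℕ) (hl : ∀ i : Fin s, ∃ f ∈ J, ((f : Fin s → PowerSeries k) i).order = ((l i : ℕ) : ℕ∞))
    (g : Fin s → PowerSeries k) (hg : ∀ i : Fin s, ((l i + c i : ℕ) : ℕ∞) ≤ (g i).order) :
    ∃ hgR : g ∈ R, (⟨g, hgR⟩ : ↥R) ∈ J := by
  classical
  choose f hfJ hford using hl
  have hw : ∀ i, ∃ w : PowerSeries k, (c i : ℕ∞) ≤ w.order ∧ ((f i : Fin s → PowerSeries k) i) * w = g i :=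
    fun i => powerSeries_exists_mul_eq _ _ (l i) (c i) (hford i) (hg i)
  choose w hwc hwg using hw
  have hW : ∀ i, (Pi.single i (w i) : Fin s → PowerSeries k) ∈ R := by
    intro i
    have h1 : ∀ g' : Fin s → PowerSeries k, g' * (Pi.single i (w i) : Fin s → PowerSeries k) ∈ R := by
      rw [hc]
      intro j
      by_cases hji : j = i
      · subst hji; simpa using hwc j
      · rw [Pi.single_eq_of_ne hji]; simp
    simpa using h1 1
  have hsum : g = ∑ i, ((f i : Fin s → PowerSeries k) * (Pi.single i (w i) : Fin s → PowerSeries k)) := by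
    funext j
    rw [Finset.sum_apply, Finset.sum_eq_single j]
    · simp [hwg j]
    · intro i _ hij
      simp [Pi.single_eq_of_ne (Ne.symm hij)]
    · intro h; exact absurd (Finset.mem_univ j) h
  have hmem : (∑ i, f i * (⟨Pi.single i (w i), hW i⟩ : ↥R)) ∈ J :=
    Ideal.sum_mem _ fun i _ => J.mul_mem_right _ (hfJ i)
  have hval : ((∑ i, f i * (⟨Pi.single i (w i), hW i⟩ : ↥R) : ↥R) : Fin s → PowerSeries k) = g := by
    rw [hsum]
    simp
  have hgR : g ∈ R := by rw [← hval]; exact Subtype.prop _
  refine ⟨hgR, ?_⟩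
  have : (⟨g, hgR⟩ : ↥R) = ∑ i, f i * (⟨Pi.single i (w i), hW i⟩ : ↥R) := Subtype.ext hval.symm
  rw [this]
  exact hmem

end Groth.Agent.Lib.Helper77

namespace Groth.Agent.Lib.Helper77

open PowerSeries

/-- If the `i`-th components of an ideal `I` generate `(X^a)`, all of them have order at least `a`. -/
theorem order_ge_of_map_eq {k : Type u} [Field k] (s : ℕ)
    (R : Subalgebra k (Fin s → PowerSeries k)) (I : Ideal ↥R) (i : Fin s) (a : ℕ)
    (ha : Ideal.map ((Pi.evalAlgHom k (fun _ : Fin s => PowerSeries k) i).comp R.val) I =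
      Ideal.span {PowerSeries.X ^ a}) (f : ↥R) (hf : f ∈ I) :
    ((a : ℕ) : ℕ∞) ≤ ((f : Fin s → PowerSeries k) i).order := by
  have h1 : ((Pi.evalAlgHom k (fun _ : Fin s => PowerSeries k) i).comp R.val) f ∈
      Ideal.map ((Pi.evalAlgHom k (fun _ : Fin s => PowerSeries k) i).comp R.val) I :=
    Ideal.mem_map_of_mem _ hf
  rw [ha, Ideal.mem_span_singleton] at h1
  obtain ⟨ψ, hψ⟩ := h1
  have h2 : (f : Fin s → PowerSeries k) i = X ^ a * ψ := hψ
  rw [h2, order_mul, order_X_pow]
  exact le_self_add

/-- If the `i`-th components of an ideal `I` generate `(X^a)`, some element has `i`-th order exactly `a`. -/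
theorem exists_order_eq_of_map_eq {k : Type u} [Field k] (s : ℕ)
    (R : Subalgebra k (Fin s → PowerSeries k)) (I : Ideal ↥R) (i : Fin s) (a : ℕ)
    (ha : Ideal.map ((Pi.evalAlgHom k (fun _ : Fin s => PowerSeries k) i).comp R.val) I =
      Ideal.span {PowerSeries.X ^ a}) :
    ∃ f ∈ I, ((f : Fin s → PowerSeries k) i).order = ((a : ℕ) : ℕ∞) := by
  by_contra hcon
  push Not at hcon
  have hle : Ideal.map ((Pi.evalAlgHom k (fun _ : Fin s => PowerSeries k) i).comp R.val) I ≤
      Ideal.span {PowerSeries.X ^ (a + 1)} := by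
    rw [Ideal.map_le_iff_le_comap]
    intro f hf
    rw [Ideal.mem_comap, Ideal.mem_span_singleton, X_pow_dvd_iff]
    intro m hm
    have h1 := order_ge_of_map_eq s R I i a ha f hf
    have h2 := hcon f hf
    have h3 : ((a : ℕ) : ℕ∞) < ((f : Fin s → PowerSeries k) i).order := lt_of_le_of_ne h1 (Ne.symm h2)
    apply coeff_of_lt_order
    refine lt_of_le_of_lt ?_ h3
    exact_mod_cast Nat.lt_succ_iff.mp hm
  rw [ha, Ideal.span_singleton_le_span_singleton, X_pow_dvd_iff] at hle
  have := hle a (Nat.lt_succ_self a)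
  rw [coeff_X_pow_self] at this
  exact one_ne_zero this

end Groth.Agent.Lib.Helper77

namespace Groth.Agent.Lib.Helper77

open PowerSeries Module

section LinAlg
variable {k : Type*} [Field k] {V : Type*} [AddCommGroup V] [Module k V]

/-- Monotonicity of codimension. -/
theorem finrank_quotient_le_of_le (S T : Submodule k V) (h : S ≤ T) [FiniteDimensional k (V ⧸ S)] :
    finrank k (V ⧸ T) ≤ finrank k (V ⧸ S) :=
  LinearMap.finrank_le_finrank_of_surjective (Submodule.factor_surjective h)

/-- Equality of codimensions of nested subspaces forces equality. -/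
theorem le_of_finrank_quotient_eq (S T : Submodule k V) (h : S ≤ T) [FiniteDimensional k (V ⧸ S)]
    (he : finrank k (V ⧸ T) = finrank k (V ⧸ S)) : T ≤ S := by
  have : FiniteDimensional k (V ⧸ T) := Module.Finite.of_surjective _ (Submodule.factor_surjective h)
  have hinj : Function.Injective (Submodule.factor h) :=
    (LinearMap.injective_iff_surjective_of_finrank_eq_finrank he.symm).mpr (Submodule.factor_surjective h)
  intro t ht
  have h1 : Submodule.factor h (S.mkQ t) = 0 := by
    simp [Submodule.factor, Submodule.mapQ_apply, ht]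
  have h2 : S.mkQ t = 0 := hinj (by rw [h1, map_zero])
  simpa using h2

/-- Codimension of the image of a submodule under an injective map. -/
theorem finrank_quotient_map_eq {M : Type*} [AddCommGroup M] [Module k M] (φ : M →ₗ[k] V)
    (hφ : Function.Injective φ) (N : Submodule k M) [FiniteDimensional k (V ⧸ N.map φ)] :
    finrank k (V ⧸ N.map φ) = finrank k (V ⧸ LinearMap.range φ) + finrank k (M ⧸ N) := by
  have hle : N.map φ ≤ LinearMap.range φ := by
    rintro _ ⟨m, -, rfl⟩; exact ⟨m, rfl⟩
  have hsurj := Submodule.factor_surjective hle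
  have h1 := LinearMap.finrank_range_add_finrank_ker (Submodule.factor hle)
  rw [LinearMap.range_eq_top.mpr hsurj, finrank_top] at h1
  let ψ : M ⧸ N →ₗ[k] V ⧸ N.map φ := N.mapQ (N.map φ) φ (Submodule.le_comap_map φ N)
  have hψinj : Function.Injective ψ := by
    rw [← LinearMap.ker_eq_bot, LinearMap.ker_eq_bot']
    intro x hx
    obtain ⟨m, rfl⟩ := N.mkQ_surjective x
    have : φ m ∈ N.map φ := by
      have h2 : ψ (N.mkQ m) = (N.map φ).mkQ (φ m) := rfl
      rw [h2] at hx
      simpa using hx
    obtain ⟨n, hn, hnm⟩ := this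
    rw [← hφ hnm]
    simpa using hn
  have hrange : LinearMap.range ψ = LinearMap.ker (Submodule.factor hle) := by
    ext x
    obtain ⟨v, rfl⟩ := (N.map φ).mkQ_surjective x
    constructor
    · rintro ⟨y, hy⟩
      obtain ⟨m, rfl⟩ := N.mkQ_surjective y
      rw [LinearMap.mem_ker, ← hy]
      have h2 : ψ (N.mkQ m) = (N.map φ).mkQ (φ m) := rfl
      rw [h2]
      simp [Submodule.factor, Submodule.mapQ_apply]
    · intro hx
      rw [LinearMap.mem_ker] at hx
      have hv : v ∈ LinearMap.range φ := by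
        simpa [Submodule.factor, Submodule.mapQ_apply] using hx
      obtain ⟨m, rfl⟩ := hv
      exact ⟨N.mkQ m, rfl⟩
  have h3 : finrank k (LinearMap.ker (Submodule.factor hle)) = finrank k (M ⧸ N) := by
    rw [← hrange]
    exact LinearMap.finrank_range_of_inj hψinj
  omega

end LinAlg

section Trunc
variable (k : Type u) [Field k] (s : ℕ)

/-- the truncation map `g ↦ (coeff j (g i))_{i, j < b i}`. -/
noncomputable def truncMap (b : Fin s → ℕ) :
    (Fin s → PowerSeries k) →ₗ[k] ((i : Fin s) → Fin (b i) → k) :=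
  LinearMap.pi fun i => LinearMap.pi fun j =>
    (PowerSeries.coeff (R := k) (j : ℕ)) ∘ₗ (LinearMap.proj i)

theorem truncMap_apply (b : Fin s → ℕ) (g : Fin s → PowerSeries k) (i : Fin s) (j : Fin (b i)) :
    truncMap k s b g i j = PowerSeries.coeff (j : ℕ) (g i) := rfl

theorem truncMap_surjective (b : Fin s → ℕ) : Function.Surjective (truncMap k s b) := by
  intro t
  refine ⟨fun i => PowerSeries.mk fun n => if h : n < b i then t i ⟨n, h⟩ else 0, ?_⟩
  funext i j
  rw [truncMap_apply, PowerSeries.coeff_mk, dif_pos j.2]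

theorem mem_ker_truncMap (b : Fin s → ℕ) (g : Fin s → PowerSeries k) :
    g ∈ LinearMap.ker (truncMap k s b) ↔ ∀ i, ((b i : ℕ) : ℕ∞) ≤ (g i).order := by
  rw [LinearMap.mem_ker]
  constructor
  · intro h i
    apply PowerSeries.nat_le_order
    intro j hj
    have := congrFun (congrFun h i) ⟨j, hj⟩
    simpa [truncMap_apply] using this
  · intro h
    funext i j
    rw [truncMap_apply]
    exact PowerSeries.coeff_of_lt_order _ (lt_of_lt_of_le (by exact_mod_cast j.2) (h i))

theorem finrank_quotient_ker_truncMap (b : Fin s → ℕ) :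
    finrank k ((Fin s → PowerSeries k) ⧸ LinearMap.ker (truncMap k s b)) = ∑ i, b i := by
  rw [LinearEquiv.finrank_eq ((truncMap k s b).quotKerEquivOfSurjective (truncMap_surjective k s b))]
  rw [Module.finrank_pi_fintype]
  simp

instance finite_quotient_ker_truncMap (b : Fin s → ℕ) :
    FiniteDimensional k ((Fin s → PowerSeries k) ⧸ LinearMap.ker (truncMap k s b)) :=
  Module.Finite.equiv ((truncMap k s b).quotKerEquivOfSurjective (truncMap_surjective k s b)).symm

end Trunc


section Main

theorem colength_bounds (k : Type u) [Field k] (s : ℕ)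
    (R : Subalgebra k (Fin s → PowerSeries k))
    (c : Fin s → ℕ)
    (hc : ∀ f : Fin s → PowerSeries k,
      (∀ g : Fin s → PowerSeries k, g * f ∈ R) ↔ ∀ i, ((c i : ℕ) : ℕ∞) ≤ (f i).order)
    (I : Ideal ↥R) (a : Fin s → ℕ)
    (ha : (∀ i : Fin s, Ideal.map ((Pi.evalAlgHom k (fun _ : Fin s => PowerSeries k) i).comp R.val) I =
      Ideal.span {PowerSeries.X ^ (a i)})) :
    (∑ i, a i) ≤ Module.finrank k (↥R ⧸ I) +
        Module.finrank k ((Fin s → PowerSeries k) ⧸ Subalgebra.toSubmodule R) ∧
    Module.finrank k (↥R ⧸ I) + Module.finrank k ((Fin s → PowerSeries k) ⧸ Subalgebra.toSubmodule R) ≤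
      (∑ i, a i) + ∑ i, c i ∧
    (R ≠ ⊤ → Module.finrank k (↥R ⧸ I) +
      Module.finrank k ((Fin s → PowerSeries k) ⧸ Subalgebra.toSubmodule R) < (∑ i, a i) + ∑ i, c i) := by
  classical
  set φ : ↥R →ₗ[k] (Fin s → PowerSeries k) := R.val.toLinearMap with hφdef
  have hφinj : Function.Injective φ := Subtype.val_injective
  set N : Submodule k ↥R := I.restrictScalars k with hN
  set Isub : Submodule k (Fin s → PowerSeries k) := N.map φ with hIsub
  have hrange : LinearMap.range φ = Subalgebra.toSubmodule R := by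
    ext x
    constructor
    · rintro ⟨r, rfl⟩; exact r.2
    · intro hx; exact ⟨⟨x, hx⟩, rfl⟩
  set Fa := LinearMap.ker (truncMap k s a) with hFa
  set Fac := LinearMap.ker (truncMap k s (fun i => a i + c i)) with hFac
  have hIFa : Isub ≤ Fa := by
    rintro _ ⟨f, hf, rfl⟩
    rw [hFa, mem_ker_truncMap]
    intro i
    exact order_ge_of_map_eq s R I i (a i) (ha i) f hf
  have hFacI : Fac ≤ Isub := by
    intro g hg
    rw [hFac, mem_ker_truncMap] at hg
    obtain ⟨hgR, hgI⟩ := conductor_mem s R c hc I a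
      (fun i => exists_order_eq_of_map_eq s R I i (a i) (ha i)) g hg
    exact ⟨⟨g, hgR⟩, hgI, rfl⟩
  have : FiniteDimensional k ((Fin s → PowerSeries k) ⧸ Isub) :=
    Module.Finite.of_surjective _ (Submodule.factor_surjective hFacI)
  have hmain : finrank k ((Fin s → PowerSeries k) ⧸ Isub) =
      finrank k ((Fin s → PowerSeries k) ⧸ Subalgebra.toSubmodule R) + finrank k (↥R ⧸ I) := by
    have h1 := finrank_quotient_map_eq φ hφinj N
    rw [hrange] at h1
    rw [h1]
    congr 1
  have hlow : ∑ i, a i ≤ finrank k ((Fin s → PowerSeries k) ⧸ Isub) := by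
    rw [← finrank_quotient_ker_truncMap k s a]
    exact finrank_quotient_le_of_le Isub Fa hIFa
  have hup : finrank k ((Fin s → PowerSeries k) ⧸ Isub) ≤ (∑ i, a i) + ∑ i, c i := by
    rw [← Finset.sum_add_distrib, ← finrank_quotient_ker_truncMap k s (fun i => a i + c i)]
    exact finrank_quotient_le_of_le Fac Isub hFacI
  refine ⟨by omega, by omega, fun hR => ?_⟩
  by_contra hnot
  have heq : finrank k ((Fin s → PowerSeries k) ⧸ Isub) =
      finrank k ((Fin s → PowerSeries k) ⧸ Fac) := by
    rw [finrank_quotient_ker_truncMap k s (fun i => a i + c i), Finset.sum_add_distrib]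
    omega
  have hle : Isub ≤ Fac := le_of_finrank_quotient_eq Fac Isub hFacI heq
  apply hR
  have hc0 : ∀ i, c i = 0 := by
    intro i
    obtain ⟨f, hfI, hford⟩ := exists_order_eq_of_map_eq s R I i (a i) (ha i)
    have hmem : φ f ∈ Fac := hle ⟨f, hfI, rfl⟩
    rw [hFac, mem_ker_truncMap] at hmem
    have h2 := hmem i
    have h3 : (φ f) i = (f : Fin s → PowerSeries k) i := rfl
    rw [h3, hford] at h2
    have : a i + c i ≤ a i := by exact_mod_cast h2
    omega
  rw [eq_top_iff]
  intro g _
  have h1 : ∀ g' : Fin s → PowerSeries k, g' * (1 : Fin s → PowerSeries k) ∈ R := by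
    rw [hc]
    intro i
    rw [hc0 i]
    simp
  simpa using h1 g

end Main

end Groth.Agent.Lib.Helper77
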