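import Mathlib
import Groth.Agent.Lib.Helper77.Conductor

/-!
# Multiplication by `ξ = (1,…,x,…,1)` on ideals of a subalgebra of a product of power series rings
-/

set_option autoImplicit false
universe u

namespace Groth.Agent.Lib.Helper77

open PowerSeries Module
open scoped Pointwise

section Xi

variable {k : Type u} [Field k] {s : ℕ}

/-- image of an ideal of `R` as a `k`-subspace of the product -/
noncomputable def Isub (R : Subalgebra k (Fin s → PowerSeries k)) (I : Ideal ↥R) :
    Submodule k (Fin s → PowerSeries k) :=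
  (I.restrictScalars k).map R.val.toLinearMap

theorem mem_Isub {R : Subalgebra k (Fin s → PowerSeries k)} {I : Ideal ↥R}
    {g : Fin s → PowerSeries k} :
    g ∈ Isub R I ↔ ∃ f ∈ I, (f : Fin s → PowerSeries k) = g := by
  unfold Isub
  rw [Submodule.mem_map]
  rfl

theorem coe_Isub (R : Subalgebra k (Fin s → PowerSeries k)) (I : Ideal ↥R) :
    (Isub R I : Set (Fin s → PowerSeries k)) = Subtype.val '' (I : Set ↥R) := by
  ext g
  rw [SetLike.mem_coe, mem_Isub]
  rfl

theorem type_finite (R : Subalgebra k (Fin s → PowerSeries k)) (c : Fin s → ℕ)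
    (hc : ∀ f : Fin s → PowerSeries k,
      (∀ g : Fin s → PowerSeries k, g * f ∈ R) ↔ ∀ i, ((c i : ℕ) : ℕ∞) ≤ (f i).order)
    (I : Ideal ↥R) (a : Fin s → ℕ)
    (ha : ∀ i : Fin s, Ideal.map ((Pi.evalAlgHom k (fun _ : Fin s => PowerSeries k) i).comp R.val) I =
      Ideal.span {PowerSeries.X ^ (a i)}) :
    FiniteDimensional k ((Fin s → PowerSeries k) ⧸ Isub R I) := by
  have hFacI : LinearMap.ker (truncMap k s (fun i => a i + c i)) ≤ Isub R I := by
    intro g hg
    rw [mem_ker_truncMap] at hg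
    obtain ⟨hgR, hgI⟩ := conductor_mem s R c hc I a
      (fun i => exists_order_eq_of_map_eq s R I i (a i) (ha i)) g hg
    exact mem_Isub.mpr ⟨⟨g, hgR⟩, hgI, rfl⟩
  exact Module.Finite.of_surjective _ (Submodule.factor_surjective hFacI)

theorem range_val (R : Subalgebra k (Fin s → PowerSeries k)) :
    LinearMap.range R.val.toLinearMap = Subalgebra.toSubmodule R := by
  ext x
  constructor
  · rintro ⟨r, rfl⟩; exact r.2
  · intro hx; exact ⟨⟨x, hx⟩, rfl⟩

theorem finrank_Isub (R : Subalgebra k (Fin s → PowerSeries k)) (I : Ideal ↥R)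
    [FiniteDimensional k ((Fin s → PowerSeries k) ⧸ Isub R I)] :
    finrank k ((Fin s → PowerSeries k) ⧸ Isub R I) =
      finrank k ((Fin s → PowerSeries k) ⧸ Subalgebra.toSubmodule R) + finrank k (↥R ⧸ I) := by
  have : FiniteDimensional k ((Fin s → PowerSeries k) ⧸
      (I.restrictScalars k).map R.val.toLinearMap) :=
    ‹FiniteDimensional k ((Fin s → PowerSeries k) ⧸ Isub R I)›
  have h1 := finrank_quotient_map_eq R.val.toLinearMap Subtype.val_injective (I.restrictScalars k)
  rw [range_val] at h1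
  rw [← (Submodule.Quotient.restrictScalarsEquiv k I).finrank_eq]
  exact h1

theorem finite_of_Isub (R : Subalgebra k (Fin s → PowerSeries k)) (I : Ideal ↥R)
    [FiniteDimensional k ((Fin s → PowerSeries k) ⧸ Isub R I)] :
    Module.Finite k (↥R ⧸ I) := by
  let N := I.restrictScalars k
  let φ := R.val.toLinearMap
  let q : (↥R ⧸ N) →ₗ[k] ((Fin s → PowerSeries k) ⧸ N.map φ) :=
    Submodule.mapQ N (N.map φ) φ (Submodule.le_comap_map φ N)
  have hq : Function.Injective q := by
    rw [← LinearMap.ker_eq_bot, Submodule.ker_mapQ,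
      Submodule.comap_map_eq_of_injective (Subtype.val_injective : Function.Injective φ)]
    simp
  have : FiniteDimensional k ((Fin s → PowerSeries k) ⧸ N.map φ) :=
    ‹FiniteDimensional k ((Fin s → PowerSeries k) ⧸ Isub R I)›
  have : Module.Finite k (↥R ⧸ N) := Module.Finite.of_injective q hq
  exact Module.Finite.equiv (Submodule.Quotient.restrictScalarsEquiv k I)

/-- the element `ξ = (1,…,x,…,1)` -/
noncomputable def xi (k : Type u) [Field k] (s : ℕ) (j : Fin s) : Fin s → PowerSeries k :=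
  Pi.mulSingle j PowerSeries.X

theorem xi_same (j : Fin s) : xi k s j j = PowerSeries.X := Pi.mulSingle_eq_same j _

theorem xi_ne (j i : Fin s) (h : i ≠ j) : xi k s j i = 1 := Pi.mulSingle_eq_of_ne h _

theorem xi_mul_injective (j : Fin s) :
    Function.Injective (LinearMap.mulLeft k (xi k s j)) := by
  rw [← LinearMap.ker_eq_bot, LinearMap.ker_eq_bot']
  intro h hh
  funext i
  have hi := congrFun hh i
  simp only [LinearMap.mulLeft_apply, Pi.mul_apply, Pi.zero_apply] at hi
  by_cases hij : i = j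
  · subst hij
    rw [xi_same] at hi
    exact (mul_eq_zero.mp hi).resolve_left PowerSeries.X_ne_zero
  · rw [xi_ne j i hij, one_mul] at hi
    exact hi

theorem range_xi_mul (j : Fin s) :
    LinearMap.range (LinearMap.mulLeft k (xi k s j)) =
      LinearMap.ker (truncMap k s (Pi.single j 1)) := by
  ext g
  rw [mem_ker_truncMap]
  constructor
  · rintro ⟨h, rfl⟩ i
    by_cases hij : i = j
    · subst hij
      simp only [LinearMap.mulLeft_apply, Pi.mul_apply, xi_same, Pi.single_eq_same]
      rw [PowerSeries.order_mul, PowerSeries.order_X]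
      exact le_add_right le_rfl
    · rw [Pi.single_eq_of_ne hij]
      simp
  · intro hg
    have hj := hg j
    rw [Pi.single_eq_same] at hj
    have hX : PowerSeries.X ∣ g j := by
      rw [PowerSeries.X_dvd_iff, ← PowerSeries.coeff_zero_eq_constantCoeff_apply]
      apply PowerSeries.coeff_of_lt_order
      exact lt_of_lt_of_le (by norm_num) hj
    obtain ⟨h', hh'⟩ := hX
    refine ⟨Function.update g j h', ?_⟩
    funext i
    simp only [LinearMap.mulLeft_apply, Pi.mul_apply]
    by_cases hij : i = j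
    · subst hij
      rw [xi_same, Function.update_self, hh']
    · rw [xi_ne j i hij, one_mul, Function.update_of_ne hij]

theorem finrank_quotient_range_xi_mul (j : Fin s) :
    finrank k ((Fin s → PowerSeries k) ⧸ LinearMap.range (LinearMap.mulLeft k (xi k s j))) = 1 := by
  rw [range_xi_mul, finrank_quotient_ker_truncMap]
  simp

/-- `J = ξ·I` as sets in the product. -/
def IsXiMul (R : Subalgebra k (Fin s → PowerSeries k)) (j : Fin s) (I J : Ideal ↥R) : Prop :=
  (Subtype.val '' (J : Set ↥R)) = (fun f => xi k s j * f) '' (Subtype.val '' (I : Set ↥R))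

theorem IsXiMul.Isub_eq {R : Subalgebra k (Fin s → PowerSeries k)} {j : Fin s} {I J : Ideal ↥R}
    (h : IsXiMul R j I J) : Isub R J = (Isub R I).map (LinearMap.mulLeft k (xi k s j)) := by
  apply SetLike.coe_injective
  rw [coe_Isub, h, Submodule.map_coe, coe_Isub]
  rfl

theorem IsXiMul.finrank_eq {R : Subalgebra k (Fin s → PowerSeries k)} {j : Fin s} {I J : Ideal ↥R}
    (h : IsXiMul R j I J) [hfin : FiniteDimensional k ((Fin s → PowerSeries k) ⧸ Isub R J)] :
    finrank k ((Fin s → PowerSeries k) ⧸ Isub R J) =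
      1 + finrank k ((Fin s → PowerSeries k) ⧸ Isub R I) := by
  have e := h.Isub_eq
  have : FiniteDimensional k ((Fin s → PowerSeries k) ⧸
      (Isub R I).map (LinearMap.mulLeft k (xi k s j))) := by
    rw [← e]; exact hfin
  have h1 := finrank_quotient_map_eq (LinearMap.mulLeft k (xi k s j)) (xi_mul_injective j) (Isub R I)
  rw [finrank_quotient_range_xi_mul] at h1
  rw [← h1]
  congr 2

theorem IsXiMul.finite_left {R : Subalgebra k (Fin s → PowerSeries k)} {j : Fin s} {I J : Ideal ↥R}
    (h : IsXiMul R j I J) [hfin : FiniteDimensional k ((Fin s → PowerSeries k) ⧸ Isub R J)] :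
    FiniteDimensional k ((Fin s → PowerSeries k) ⧸ Isub R I) := by
  let φ := LinearMap.mulLeft k (xi k s j)
  let N := Isub R I
  let q : ((Fin s → PowerSeries k) ⧸ N) →ₗ[k] ((Fin s → PowerSeries k) ⧸ N.map φ) :=
    Submodule.mapQ N (N.map φ) φ (Submodule.le_comap_map φ N)
  have hq : Function.Injective q := by
    rw [← LinearMap.ker_eq_bot, Submodule.ker_mapQ,
      Submodule.comap_map_eq_of_injective (xi_mul_injective j)]
    simp
  have : FiniteDimensional k ((Fin s → PowerSeries k) ⧸ N.map φ) := by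
    rw [← h.Isub_eq]; exact hfin
  exact Module.Finite.of_injective q hq

theorem IsXiMul.map_eq {R : Subalgebra k (Fin s → PowerSeries k)} {j : Fin s} {I J : Ideal ↥R}
    (h : IsXiMul R j I J) (i : Fin s) :
    Ideal.map ((Pi.evalAlgHom k (fun _ : Fin s => PowerSeries k) i).comp R.val) J =
      Ideal.span {xi k s j i} *
        Ideal.map ((Pi.evalAlgHom k (fun _ : Fin s => PowerSeries k) i).comp R.val) I := by
  have himg : ((Pi.evalAlgHom k (fun _ : Fin s => PowerSeries k) i).comp R.val) '' (J : Set ↥R) =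
      ({xi k s j i} : Set (PowerSeries k)) *
        (((Pi.evalAlgHom k (fun _ : Fin s => PowerSeries k) i).comp R.val) '' (I : Set ↥R)) := by
    have e1 : ∀ K : Ideal ↥R,
        ((Pi.evalAlgHom k (fun _ : Fin s => PowerSeries k) i).comp R.val) '' (K : Set ↥R) =
        (fun g : Fin s → PowerSeries k => g i) '' (Subtype.val '' (K : Set ↥R)) := by
      intro K
      rw [Set.image_image]
      rfl
    rw [e1, e1, h, Set.image_image, Set.singleton_mul, Set.image_image, Set.image_image,
      Set.image_image]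
    rfl
  unfold Ideal.map
  rw [himg, ← Ideal.span_mul_span']

theorem single_mem_R (R : Subalgebra k (Fin s → PowerSeries k)) (c : Fin s → ℕ)
    (hc : ∀ f : Fin s → PowerSeries k,
      (∀ g : Fin s → PowerSeries k, g * f ∈ R) ↔ ∀ i, ((c i : ℕ) : ℕ∞) ≤ (f i).order)
    (j : Fin s) (w : PowerSeries k) (hw : ((c j : ℕ) : ℕ∞) ≤ w.order) :
    (Pi.single j w : Fin s → PowerSeries k) ∈ R := by
  have h1 : ∀ g' : Fin s → PowerSeries k, g' * (Pi.single j w : Fin s → PowerSeries k) ∈ R := by
    rw [hc]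
    intro i
    by_cases hij : i = j
    · subst hij; simpa using hw
    · rw [Pi.single_eq_of_ne hij]; simp
  simpa using h1 1

theorem exists_xiMul_right (R : Subalgebra k (Fin s → PowerSeries k)) (c : Fin s → ℕ)
    (hc : ∀ f : Fin s → PowerSeries k,
      (∀ g : Fin s → PowerSeries k, g * f ∈ R) ↔ ∀ i, ((c i : ℕ) : ℕ∞) ≤ (f i).order)
    (j : Fin s) (I : Ideal ↥R)
    (hI : ∀ f ∈ I, ((c j : ℕ) : ℕ∞) ≤ ((f : Fin s → PowerSeries k) j).order) :
    ∃ J : Ideal ↥R, IsXiMul R j I J := by
  have hmem : ∀ f ∈ I, xi k s j * (f : Fin s → PowerSeries k) ∈ R := by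
    intro f hf
    have h1 : xi k s j * (f : Fin s → PowerSeries k) = (f : Fin s → PowerSeries k) +
        Pi.single j ((PowerSeries.X - 1) * (f : Fin s → PowerSeries k) j) := by
      funext i
      by_cases hij : i = j
      · subst hij
        simp only [Pi.mul_apply, Pi.add_apply, xi_same, Pi.single_eq_same]
        ring
      · simp [xi_ne j i hij, Pi.single_eq_of_ne hij]
    rw [h1]
    refine R.add_mem f.2 (single_mem_R R c hc j _ ?_)
    rw [PowerSeries.order_mul]
    exact le_add_left (hI f hf)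
  let J : Ideal ↥R :=
    { carrier := {r | ∃ f ∈ I, (r : Fin s → PowerSeries k) = xi k s j * (f : Fin s → PowerSeries k)}
      zero_mem' := ⟨0, I.zero_mem, by simp⟩
      add_mem' := by
        rintro r r' ⟨f, hf, hr⟩ ⟨f', hf', hr'⟩
        exact ⟨f + f', I.add_mem hf hf', by simp [hr, hr', mul_add]⟩
      smul_mem' := by
        rintro t r ⟨f, hf, hr⟩
        refine ⟨t * f, I.mul_mem_left t hf, ?_⟩
        simp only [smul_eq_mul, MulMemClass.coe_mul, hr]
        ring }
  refine ⟨J, ?_⟩
  unfold IsXiMul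
  ext g
  constructor
  · rintro ⟨r, ⟨f, hf, hr⟩, rfl⟩
    exact ⟨f, ⟨f, hf, rfl⟩, hr.symm⟩
  · rintro ⟨_, ⟨f, hf, rfl⟩, rfl⟩
    exact ⟨⟨_, hmem f hf⟩, ⟨f, hf, rfl⟩, rfl⟩

theorem exists_xiMul_left (R : Subalgebra k (Fin s → PowerSeries k)) (c : Fin s → ℕ)
    (hc : ∀ f : Fin s → PowerSeries k,
      (∀ g : Fin s → PowerSeries k, g * f ∈ R) ↔ ∀ i, ((c i : ℕ) : ℕ∞) ≤ (f i).order)
    (j : Fin s) (J : Ideal ↥R)
    (hJ : ∀ g ∈ J, ((c j + 1 : ℕ) : ℕ∞) ≤ ((g : Fin s → PowerSeries k) j).order) :
    ∃ I : Ideal ↥R, IsXiMul R j I J := by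
  have hdiv : ∀ g ∈ J, ∃ f : ↥R,
      (g : Fin s → PowerSeries k) = xi k s j * (f : Fin s → PowerSeries k) := by
    intro g hg
    have hord := hJ g hg
    have hX : PowerSeries.X ∣ (g : Fin s → PowerSeries k) j := by
      rw [PowerSeries.X_dvd_iff, ← PowerSeries.coeff_zero_eq_constantCoeff_apply]
      apply PowerSeries.coeff_of_lt_order
      refine lt_of_lt_of_le ?_ hord
      exact_mod_cast Nat.succ_pos _
    obtain ⟨h', hh'⟩ := hX
    have hh'ord : ((c j : ℕ) : ℕ∞) ≤ h'.order := by
      rw [hh', PowerSeries.order_mul, PowerSeries.order_X, Nat.cast_add, Nat.cast_one,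
        add_comm] at hord
      exact (ENat.add_le_add_iff_left (by simp)).mp hord
    have hf : (g : Fin s → PowerSeries k) + Pi.single j ((1 - PowerSeries.X) * h') ∈ R :=
      R.add_mem g.2 (single_mem_R R c hc j _
        (by rw [PowerSeries.order_mul]; exact le_add_left hh'ord))
    refine ⟨⟨_, hf⟩, ?_⟩
    funext i
    by_cases hij : i = j
    · subst hij
      simp only [Pi.mul_apply, Pi.add_apply, xi_same, Pi.single_eq_same, hh']
      ring
    · simp [xi_ne j i hij, Pi.single_eq_of_ne hij]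
  let I : Ideal ↥R :=
    { carrier := {f | ∃ g ∈ J, (g : Fin s → PowerSeries k) = xi k s j * (f : Fin s → PowerSeries k)}
      zero_mem' := ⟨0, J.zero_mem, by simp⟩
      add_mem' := by
        rintro f f' ⟨g, hg, hr⟩ ⟨g', hg', hr'⟩
        exact ⟨g + g', J.add_mem hg hg', by simp [hr, hr', mul_add]⟩
      smul_mem' := by
        rintro t f ⟨g, hg, hr⟩
        refine ⟨t * g, J.mul_mem_left t hg, ?_⟩
        simp only [smul_eq_mul, MulMemClass.coe_mul, hr]
        ring }
  refine ⟨I, ?_⟩
  unfold IsXiMul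
  ext g
  constructor
  · rintro ⟨r, hr, rfl⟩
    obtain ⟨f, hf⟩ := hdiv r hr
    exact ⟨f, ⟨f, ⟨r, hr, hf⟩, rfl⟩, hf.symm⟩
  · rintro ⟨_, ⟨f, ⟨g', hg', hgf⟩, rfl⟩, rfl⟩
    exact ⟨g', hg', hgf⟩

theorem xi_bijection (R : Subalgebra k (Fin s → PowerSeries k))
    (c : Fin s → ℕ)
    (hc : ∀ f : Fin s → PowerSeries k,
      (∀ g : Fin s → PowerSeries k, g * f ∈ R) ↔ ∀ i, ((c i : ℕ) : ℕ∞) ≤ (f i).order)
    (j : Fin s) (d : ℕ) (a : Fin s → ℕ) (hj : c j ≤ a j) :
    (∀ I ∈ {I : Ideal ↥R | Module.Finite k (↥R ⧸ I) ∧ Module.finrank k (↥R ⧸ I) = d ∧ (∀ i : Fin s, Ideal.map ((Pi.evalAlgHom k (fun _ : Fin s => PowerSeries k) i).comp R.val) I = Ideal.span {PowerSeries.X ^ (a i)})},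
      ∃ J ∈ {I : Ideal ↥R | Module.Finite k (↥R ⧸ I) ∧ Module.finrank k (↥R ⧸ I) = d + 1 ∧ (∀ i : Fin s, Ideal.map ((Pi.evalAlgHom k (fun _ : Fin s => PowerSeries k) i).comp R.val) I = Ideal.span {PowerSeries.X ^ ((Function.update a j (a j + 1)) i)})},
        (Subtype.val '' (J : Set ↥R)) = (fun f => Pi.mulSingle j PowerSeries.X * f) '' (Subtype.val '' (I : Set ↥R))) ∧
    (∀ J ∈ {I : Ideal ↥R | Module.Finite k (↥R ⧸ I) ∧ Module.finrank k (↥R ⧸ I) = d + 1 ∧ (∀ i : Fin s, Ideal.map ((Pi.evalAlgHom k (fun _ : Fin s => PowerSeries k) i).comp R.val) I = Ideal.span {PowerSeries.X ^ ((Function.update a j (a j + 1)) i)})},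
      ∃ I ∈ {I : Ideal ↥R | Module.Finite k (↥R ⧸ I) ∧ Module.finrank k (↥R ⧸ I) = d ∧ (∀ i : Fin s, Ideal.map ((Pi.evalAlgHom k (fun _ : Fin s => PowerSeries k) i).comp R.val) I = Ideal.span {PowerSeries.X ^ (a i)})},
        (Subtype.val '' (J : Set ↥R)) = (fun f => Pi.mulSingle j PowerSeries.X * f) '' (Subtype.val '' (I : Set ↥R))) := by
  classical
  constructor
  · rintro I ⟨hIfin, hId, hIa⟩
    have hIord : ∀ f ∈ I, ((c j : ℕ) : ℕ∞) ≤ ((f : Fin s → PowerSeries k) j).order :=
      fun f hf => le_trans (by exact_mod_cast hj) (order_ge_of_map_eq s R I j (a j) (hIa j) f hf)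
    obtain ⟨J, hJ⟩ := exists_xiMul_right R c hc j I hIord
    have hJa : ∀ i, Ideal.map ((Pi.evalAlgHom k (fun _ : Fin s => PowerSeries k) i).comp R.val) J =
        Ideal.span {PowerSeries.X ^ (Function.update a j (a j + 1) i)} := by
      intro i
      rw [hJ.map_eq i, hIa i, Ideal.span_singleton_mul_span_singleton]
      by_cases hij : i = j
      · subst hij; rw [xi_same, Function.update_self, pow_succ']
      · rw [xi_ne j i hij, one_mul, Function.update_of_ne hij]
    have hfinJ := type_finite R c hc J _ hJa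
    have hfinI := type_finite R c hc I a hIa
    have e1 := hJ.finrank_eq
    have e2 := finrank_Isub R J
    have e3 := finrank_Isub R I
    exact ⟨J, ⟨finite_of_Isub R J, by omega, hJa⟩, hJ⟩
  · rintro J ⟨hJfin, hJd, hJa⟩
    have hJord : ∀ g ∈ J, ((c j + 1 : ℕ) : ℕ∞) ≤ ((g : Fin s → PowerSeries k) j).order := by
      intro g hg
      have h1 := order_ge_of_map_eq s R J j _ (hJa j) g hg
      rw [Function.update_self] at h1
      refine le_trans ?_ h1
      exact_mod_cast Nat.succ_le_succ hj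
    obtain ⟨I, hI⟩ := exists_xiMul_left R c hc j J hJord
    have hIa : ∀ i, Ideal.map ((Pi.evalAlgHom k (fun _ : Fin s => PowerSeries k) i).comp R.val) I =
        Ideal.span {PowerSeries.X ^ (a i)} := by
      intro i
      have h1 := hI.map_eq i
      rw [hJa i] at h1
      by_cases hij : i = j
      · subst hij
        rw [xi_same, Function.update_self, pow_succ',
          ← Ideal.span_singleton_mul_span_singleton] at h1
        exact ((Ideal.span_singleton_mul_right_inj PowerSeries.X_ne_zero).mp h1).symm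
      · rw [xi_ne j i hij, Function.update_of_ne hij, Ideal.span_singleton_one, Ideal.top_mul]
          at h1
        exact h1.symm
    have hfinJ := type_finite R c hc J _ hJa
    have hfinI := type_finite R c hc I a hIa
    have e1 := hI.finrank_eq
    have e2 := finrank_Isub R J
    have e3 := finrank_Isub R I
    exact ⟨I, ⟨finite_of_Isub R I, by omega, hIa⟩, hI⟩

end Xi

end Groth.Agent.Lib.Helper77
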