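import Mathlib
import Groth.Agent.Lib.Helper77.Deligne

set_option autoImplicit false
universe u
open CategoryTheory CategoryTheory.Limits MonoidalCategory CartesianMonoidalCategory MonObj GrpObj AlgebraicGeometry

namespace Groth.Agent.Lib.Helper77.DeligneSch

open TensorProduct in
/-- a commutative Hopf algebra all of whose groups of points are commutative is cocommutative. -/
theorem isCocomm_of_comm (R : Type u) [CommRing R] (A : Type u) [CommRing A] [HopfAlgebra R A]
    (h : ∀ x y : WithConv (A →ₐ[R] A ⊗[R] A), x * y = y * x) : Coalgebra.IsCocomm R A := by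
  constructor
  have h1 := h (WithConv.toConv Algebra.TensorProduct.includeLeft)
    (WithConv.toConv Algebra.TensorProduct.includeRight)
  apply LinearMap.ext
  intro a
  have hL := AlgHom.convMul_apply (WithConv.toConv
    (Algebra.TensorProduct.includeLeft : A →ₐ[R] A ⊗[R] A))
    (WithConv.toConv Algebra.TensorProduct.includeRight) a
  have hR := AlgHom.convMul_apply (WithConv.toConv
    (Algebra.TensorProduct.includeRight : A →ₐ[R] A ⊗[R] A))
    (WithConv.toConv Algebra.TensorProduct.includeLeft) a
  rw [h1] at hL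
  have h2 := hL.symm.trans hR
  have key1 : ∀ t : A ⊗[R] A, Algebra.TensorProduct.lift
      (WithConv.toConv (Algebra.TensorProduct.includeLeft : A →ₐ[R] A ⊗[R] A)).ofConv
      (WithConv.toConv (Algebra.TensorProduct.includeRight : A →ₐ[R] A ⊗[R] A)).ofConv
      (fun _ _ => .all ..) t = t := by
    intro t
    induction t using TensorProduct.induction_on with
    | zero => simp
    | tmul x y => simp
    | add x y hx hy => simp only [map_add, hx, hy]
  have key2 : ∀ t : A ⊗[R] A, Algebra.TensorProduct.lift
      (WithConv.toConv (Algebra.TensorProduct.includeRight : A →ₐ[R] A ⊗[R] A)).ofConv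
      (WithConv.toConv (Algebra.TensorProduct.includeLeft : A →ₐ[R] A ⊗[R] A)).ofConv
      (fun _ _ => .all ..) t = TensorProduct.comm R A A t := by
    intro t
    induction t using TensorProduct.induction_on with
    | zero => simp
    | tmul x y => simp
    | add x y hx hy => simp only [map_add, hx, hy]
  rw [key1, key2] at h2
  exact h2.symm

/-- an affine group scheme over an affine base is isomorphic, as a group, to the spectrum of a
Hopf algebra. -/
theorem exists_hopf_model (R₀ : Type u) [CommRing R₀]
    (G : Over (Spec (CommRingCat.of R₀))) [GrpObj G] [IsAffine G.left] :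
    ∃ (A : Type u) (_ : CommRing A) (_ : HopfAlgebra R₀ A)
      (eG : (Spec (CommRingCat.of A)).asOver (Spec (CommRingCat.of R₀)) ≅ G),
      IsMonHom eG.hom := by
  have hA : IsAffine (Grp.mk G).X.left := ‹IsAffine G.left›
  obtain ⟨H, ⟨e⟩⟩ := (essImage_hopfSpec (G := Grp.mk G)).mpr hA
  let A : CommHopfAlgCat (CommRingCat.of R₀) := H.unop
  exact ⟨A, inferInstance, inferInstance, (Grp.forget _).mapIso e,
    inferInstanceAs (IsMonHom e.hom.hom.hom)⟩

/-- the affine case of Deligne's theorem for commutative finite locally free group schemes. -/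
theorem pow_eq_one_of_affine_base (R₀ : Type u) [CommRing R₀]
    (G : Over (Spec (CommRingCat.of R₀))) [GrpObj G] [IsCommMonObj G]
    [IsFinite G.hom] [Flat G.hom] [LocallyOfFinitePresentation G.hom]
    (r : ℕ) (hr : ∀ s : Spec (CommRingCat.of R₀), Scheme.Hom.finrank G.hom s = r) :
    (𝟙 G : G ⟶ G) ^ r = 1 := by
  have hA' : IsAffine G.left := isAffine_of_isAffineHom G.hom
  obtain ⟨A, _, _, eG, h1⟩ := exists_hopf_model R₀ G
  -- commutativity of the model
  have hc : IsCommMonObj ((Spec (CommRingCat.of A)).asOver (Spec (CommRingCat.of R₀))) := by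
    rw [isCommMonObj_iff_isMulCommutative]
    intro X
    refine ⟨⟨fun a b => ?_⟩⟩
    apply (Hom.mulEquivCongrRight eG X).injective
    rw [map_mul, map_mul]
    exact Hom.commMonoid.mul_comm _ _
  -- cocommutativity
  have hco : Coalgebra.IsCocomm R₀ A := by
    apply isCocomm_of_comm
    intro x y
    apply (Spec.mapMulEquiv (R := R₀) (S := A) (T := TensorProduct R₀ A A)).injective
    rw [map_mul, map_mul]
    exact Hom.commMonoid.mul_comm _ _
  -- structure morphism
  have hiso : IsIso eG.hom.left := inferInstanceAs (IsIso ((Over.forget _).map eG.hom))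
  have hiso' : IsIso eG.inv.left := inferInstanceAs (IsIso ((Over.forget _).map eG.inv))
  have hw : eG.hom.left ≫ G.hom = Spec.map (CommRingCat.ofHom (algebraMap R₀ A)) := Over.w eG.hom
  have hfin : IsFinite (Spec.map (CommRingCat.ofHom (algebraMap R₀ A))) := by
    rw [← hw]
    exact (MorphismProperty.cancel_left_of_respectsIso @IsFinite eG.hom.left G.hom).mpr
      inferInstance
  have hflat : Flat (Spec.map (CommRingCat.ofHom (algebraMap R₀ A))) := by
    rw [← hw]
    exact (MorphismProperty.cancel_left_of_respectsIso @Flat eG.hom.left G.hom).mpr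
      inferInstance
  have hfp : LocallyOfFinitePresentation (Spec.map (CommRingCat.ofHom (algebraMap R₀ A))) := by
    rw [← hw]
    exact (MorphismProperty.cancel_left_of_respectsIso @LocallyOfFinitePresentation
      eG.hom.left G.hom).mpr inferInstance
  have i1 : Module.Finite R₀ A :=
    RingHom.finite_algebraMap.mp ((IsFinite.SpecMap_iff _).mp hfin)
  have i2 : Module.Flat R₀ A :=
    RingHom.flat_algebraMap_iff.mp (Flat.SpecMap_iff.mp hflat)
  have i3 : Algebra.FinitePresentation R₀ A :=
    RingHom.finitePresentation_algebraMap.mp ((LocallyOfFinitePresentation.SpecMap_iff _).mp hfp)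
  have i4 : Module.FinitePresentation R₀ A :=
    Module.FinitePresentation.of_finite_of_finitePresentation R₀ A
  have i5 : Module.Projective R₀ A := Module.Flat.projective_of_finitePresentation
  have hrank : ∀ p : PrimeSpectrum R₀, Module.rankAtStalk (R := R₀) A p = r := by
    intro p
    let x : ↥(Spec (CommRingCat.of R₀)) := p
    have h2 := hr x
    have h3 : Scheme.Hom.finrank (eG.hom.left ≫ G.hom) = Scheme.Hom.finrank G.hom :=
      Scheme.Hom.finrank_comp_left_of_isIso _ _
    have h7 := Scheme.Hom.finrank_SpecMap_algebraMap R₀ A p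
    rw [← h3] at h2
    have h8 : Scheme.Hom.finrank (eG.hom.left ≫ G.hom) x =
        Scheme.Hom.finrank (Spec.map (CommRingCat.ofHom (algebraMap R₀ A))) p := by
      congr 1
    rw [← h7, ← h8]
    exact h2
  have key := Deligne.main R₀ A r hrank
  -- transport
  have h4 : Spec.mapMulEquiv (R := R₀) (S := A) (T := A) (WithConv.toConv (AlgHom.id R₀ A)) =
      𝟙 ((Spec (CommRingCat.of A)).asOver (Spec (CommRingCat.of R₀))) := by
    ext1
    simp [Spec.mapMulEquiv]
  have h5 : (𝟙 ((Spec (CommRingCat.of A)).asOver (Spec (CommRingCat.of R₀))) :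
      (Spec (CommRingCat.of A)).asOver (Spec (CommRingCat.of R₀)) ⟶ _) ^ r = 1 := by
    rw [← h4, ← map_pow, key, map_one]
  have h6 : (𝟙 G : G ⟶ G) = eG.inv ≫ 𝟙 _ ≫ eG.hom := by simp
  rw [h6, ← MonObj.comp_pow, ← MonObj.pow_comp, h5, MonObj.one_comp, MonObj.comp_one]

/-- the affine case, with the base only propositionally a spectrum. -/
theorem pow_eq_one_of_affine_base' {S : Scheme.{u}} (hS : ∃ R : CommRingCat.{u}, S = Spec R)
    (G : Over S) [GrpObj G] [IsCommMonObj G]
    [IsFinite G.hom] [Flat G.hom] [LocallyOfFinitePresentation G.hom]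
    (r : ℕ) (hr : ∀ s : S, Scheme.Hom.finrank G.hom s = r) :
    (𝟙 G : G ⟶ G) ^ r = 1 := by
  obtain ⟨R, rfl⟩ := hS
  exact pow_eq_one_of_affine_base R G r hr

open scoped Obj in
/-- the identity of a commutative finite locally free group scheme of constant rank `r` is
killed by `r`. -/
theorem id_pow_eq_one {S : Scheme.{u}} (G : Over S) [GrpObj G] [IsCommMonObj G]
    [IsFinite G.hom] [Flat G.hom] [LocallyOfFinitePresentation G.hom]
    (r : ℕ) (hr : ∀ s : S, Scheme.Hom.finrank G.hom s = r) :
    (𝟙 G : G ⟶ G) ^ r = 1 := by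
  apply Over.OverMorphism.ext
  refine Scheme.Cover.hom_ext (S.affineCover.pullback₁ G.hom) _ _ (fun i => ?_)
  let j := S.affineCover.f i
  let G' : Over (S.affineCover.X i) := (Over.pullback j).obj G
  have hG' : G'.hom = pullback.snd G.hom j := rfl
  have i1 : IsFinite G'.hom := by rw [hG']; infer_instance
  have i2 : Flat G'.hom := by rw [hG']; infer_instance
  have i3 : LocallyOfFinitePresentation G'.hom := by rw [hG']; infer_instance
  have key : (𝟙 G' : G' ⟶ G') ^ r = 1 := by
    refine pow_eq_one_of_affine_base' (S := S.affineCover.X i) ⟨_, rfl⟩ G' r ?_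
    intro x
    rw [hG', Scheme.Hom.finrank_pullback_snd]
    exact hr _
  -- naturality
  have hnat : ∀ φ : G ⟶ G, pullback.fst G.hom j ≫ φ.left =
      ((Over.pullback j).map φ).left ≫ pullback.fst G.hom j := by
    intro φ
    simp only [Over.pullback, Over.homMk_left]
    exact (pullback.lift_fst _ _ _).symm
  have hmap : (Over.pullback j).map ((𝟙 G : G ⟶ G) ^ r) = (𝟙 G' : G' ⟶ G') ^ r := by
    have := map_pow ((Over.pullback j).homMonoidHom (X := G) (M := G)) (𝟙 G) r
    simpa using this
  have hone : (Over.pullback j).map (1 : G ⟶ G) = 1 := Functor.map_one _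
  show pullback.fst G.hom j ≫ ((𝟙 G : G ⟶ G) ^ r).left = pullback.fst G.hom j ≫ (1 : G ⟶ G).left
  rw [hnat, hnat, hmap, hone, key]

/-- Deligne's theorem for group schemes: every point of a commutative finite locally free group
scheme of constant rank `r` is killed by `r`. -/
theorem pow_eq_one {S : Scheme.{u}} (G : Over S) [GrpObj G] [IsCommMonObj G]
    [IsFinite G.hom] [Flat G.hom] [LocallyOfFinitePresentation G.hom]
    (r : ℕ) (hr : ∀ s : S, Scheme.Hom.finrank G.hom s = r)
    (T : Over S) (g : T ⟶ G) : g ^ r = 1 := by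
  have h := id_pow_eq_one G r hr
  have h2 : g ^ r = g ≫ (𝟙 G : G ⟶ G) ^ r := by
    rw [MonObj.comp_pow, Category.comp_id]
  rw [h2, h, MonObj.comp_one]

end Groth.Agent.Lib.Helper77.DeligneSch
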