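import Mathlib

/-!
# Effective faithfully flat descent for modules (coaction form)

A descent datum on an `S`-module `N` relative to `R → S` is an `S`-linear map
`ρ : N → S ⊗[R] N` (the left factor carrying the `S`-structure) which is counital and
coassociative.  Its module of invariants `K = {n | ρ n = 1 ⊗ n}` satisfies `S ⊗[R] K ≃ N` when `S`
is flat over `R`.
-/

set_option autoImplicit false
universe u
open TensorProduct

namespace Groth.Agent.Lib.Helper77.FFDescent

section Module

variable {R : Type*} [CommRing R] {S : Type*} [CommRing S] [Algebra R S]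
  {N : Type*} [AddCommGroup N] [Module R N] [Module S N] [IsScalarTower R S N]

variable (R S N) in
/-- the action map `S ⊗[R] N → N`. -/
noncomputable def act : S ⊗[R] N →ₗ[S] N := LinearMap.liftBaseChange S (LinearMap.id : N →ₗ[R] N)

@[simp] lemma act_tmul (s : S) (n : N) : act R S N (s ⊗ₜ[R] n) = s • n := rfl

/-- a descent datum in coaction form. -/
structure IsDescentDatum (ρ : N →ₗ[S] S ⊗[R] N) : Prop where
  counit : ∀ n, act R S N (ρ n) = n
  coassoc : ∀ n, (LinearMap.lTensor S (ρ.restrictScalars R)) (ρ n) =
    (LinearMap.lTensor S (TensorProduct.mk R S N 1)) (ρ n)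

/-- the module of invariants of a descent datum. -/
noncomputable def inv (ρ : N →ₗ[S] S ⊗[R] N) : Submodule R N :=
  LinearMap.eqLocus (ρ.restrictScalars R) (TensorProduct.mk R S N 1)

lemma mem_inv {ρ : N →ₗ[S] S ⊗[R] N} {n : N} : n ∈ inv ρ ↔ ρ n = (1 : S) ⊗ₜ[R] n := Iff.rfl

/-- the comparison map `S ⊗[R] K → N`. -/
noncomputable def theta (ρ : N →ₗ[S] S ⊗[R] N) : S ⊗[R] inv ρ →ₗ[S] N :=
  LinearMap.liftBaseChange S (inv ρ).subtype

@[simp] lemma theta_tmul (ρ : N →ₗ[S] S ⊗[R] N) (s : S) (k : inv ρ) :
    theta ρ (s ⊗ₜ[R] k) = s • (k : N) := rfl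

lemma rho_theta (ρ : N →ₗ[S] S ⊗[R] N) (w : S ⊗[R] inv ρ) :
    ρ (theta ρ w) = LinearMap.lTensor S (inv ρ).subtype w := by
  induction w using TensorProduct.induction_on with
  | zero => simp
  | tmul s k =>
    rw [theta_tmul, map_smul, mem_inv.mp k.2, LinearMap.lTensor_tmul, TensorProduct.smul_tmul',
      smul_eq_mul, mul_one]
    rfl
  | add x y hx hy => rw [map_add, map_add, hx, hy, map_add]

lemma act_lTensor_mk (z : S ⊗[R] N) :
    act R S (S ⊗[R] N) (LinearMap.lTensor S (TensorProduct.mk R S N 1) z) = z := by
  induction z using TensorProduct.induction_on with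
  | zero => simp
  | tmul s n =>
    rw [LinearMap.lTensor_tmul, act_tmul, TensorProduct.mk_apply, TensorProduct.smul_tmul',
      smul_eq_mul, mul_one]
  | add x y hx hy => rw [map_add, map_add, hx, hy]

lemma act_lTensor_rho (ρ : N →ₗ[S] S ⊗[R] N) (z : S ⊗[R] N) :
    act R S (S ⊗[R] N) (LinearMap.lTensor S (ρ.restrictScalars R) z) = ρ (act R S N z) := by
  induction z using TensorProduct.induction_on with
  | zero => simp
  | tmul s n =>
    rw [LinearMap.lTensor_tmul, act_tmul, act_tmul, map_smul]
    rfl
  | add x y hx hy => rw [map_add, map_add, hx, hy, map_add, map_add]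

/-- **effectivity of descent** along a flat ring map. -/
theorem theta_bijective [Module.Flat R S] {ρ : N →ₗ[S] S ⊗[R] N} (hρ : IsDescentDatum ρ) :
    Function.Bijective (theta ρ) := by
  have hinjT : Function.Injective (LinearMap.lTensor S (inv ρ).subtype) :=
    Module.Flat.lTensor_preserves_injective_linearMap _ (inv ρ).injective_subtype
  constructor
  · intro w w' h
    apply hinjT
    rw [← rho_theta, ← rho_theta, h]
  · intro n
    let d : N →ₗ[R] S ⊗[R] N := ρ.restrictScalars R - TensorProduct.mk R S N 1
    have hK : inv ρ = LinearMap.ker d := LinearMap.eqLocus_eq_ker_sub _ _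
    have hex : Function.Exact (inv ρ).subtype d := by
      rw [hK]
      exact LinearMap.exact_subtype_ker_map d
    have hex' := Module.Flat.lTensor_exact S hex
    have hz : LinearMap.lTensor S d (ρ n) = 0 := by
      show LinearMap.lTensor S (ρ.restrictScalars R - TensorProduct.mk R S N 1) (ρ n) = 0
      rw [LinearMap.lTensor_sub, LinearMap.sub_apply, hρ.coassoc, sub_self]
    obtain ⟨w, hw⟩ := (hex' (ρ n)).mp hz
    refine ⟨w, ?_⟩
    have h1 : ρ (theta ρ w) = ρ n := by rw [rho_theta, hw]
    have h2 := congrArg (act R S N) h1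
    rwa [hρ.counit, hρ.counit] at h2

/-- descent of isomorphisms: an `R`-linear map into the invariants which becomes bijective after
base change (as a map to `N`) is bijective onto the invariants. -/
theorem bijective_of_liftBaseChange_bijective [Module.FaithfullyFlat R S]
    {ρ : N →ₗ[S] S ⊗[R] N} (hρ : IsDescentDatum ρ)
    {P : Type*} [AddCommGroup P] [Module R P] (g : P →ₗ[R] N) (hg : ∀ p, g p ∈ inv ρ)
    (hbij : Function.Bijective (LinearMap.liftBaseChange S g)) :
    Function.Bijective (g.codRestrict (inv ρ) hg) := by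
  have h1 : ∀ w : S ⊗[R] P, theta ρ (LinearMap.lTensor S (g.codRestrict (inv ρ) hg) w) =
      LinearMap.liftBaseChange S g w := by
    intro w
    induction w using TensorProduct.induction_on with
    | zero => simp
    | tmul s p => rfl
    | add x y hx hy => rw [map_add, map_add, hx, hy, map_add]
  have h2 : Function.Bijective (LinearMap.lTensor S (g.codRestrict (inv ρ) hg)) := by
    have hθ := theta_bijective hρ
    constructor
    · intro w w' h
      apply hbij.1
      rw [← h1, ← h1, h]
    · intro y
      obtain ⟨w, hw⟩ := hbij.2 (theta ρ y)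
      refine ⟨w, hθ.1 ?_⟩
      rw [h1, hw]
  exact (Module.FaithfullyFlat.lTensor_bijective_iff_bijective R S _).mp h2

end Module

section Canonical

variable (R : Type*) [CommRing R] (S : Type*) [CommRing S] [Algebra R S]
  (P : Type*) [AddCommGroup P] [Module R P]

/-- the canonical descent datum on a base-changed module. -/
noncomputable def canRho : S ⊗[R] P →ₗ[S] S ⊗[R] (S ⊗[R] P) :=
  LinearMap.liftBaseChange S
    ((TensorProduct.mk R S (S ⊗[R] P) 1).comp (TensorProduct.mk R S P 1))

@[simp] lemma canRho_tmul (s : S) (p : P) :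
    canRho R S P (s ⊗ₜ[R] p) = s ⊗ₜ[R] ((1 : S) ⊗ₜ[R] p) := by
  show s • ((1 : S) ⊗ₜ[R] ((1 : S) ⊗ₜ[R] p)) = _
  rw [TensorProduct.smul_tmul', smul_eq_mul, mul_one]

lemma isDescentDatum_canRho : IsDescentDatum (canRho R S P) where
  counit := by
    intro z
    induction z using TensorProduct.induction_on with
    | zero => simp
    | tmul s p =>
      rw [canRho_tmul, act_tmul, TensorProduct.smul_tmul', smul_eq_mul, mul_one]
    | add x y hx hy => rw [map_add, map_add, hx, hy]
  coassoc := by
    intro z
    induction z using TensorProduct.induction_on with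
    | zero => simp
    | tmul s p =>
      rw [canRho_tmul, LinearMap.lTensor_tmul, LinearMap.lTensor_tmul]
      show s ⊗ₜ[R] (canRho R S P ((1 : S) ⊗ₜ[R] p)) = _
      rw [canRho_tmul]
      rfl
    | add x y hx hy => simp only [map_add, hx, hy]

/-- **Amitsur exactness**: the invariants of the canonical descent datum are the elements `1 ⊗ p`. -/
theorem exists_one_tmul_of_mem_inv_canRho [Module.FaithfullyFlat R S] {z : S ⊗[R] P}
    (hz : z ∈ inv (canRho R S P)) : ∃ p : P, (1 : S) ⊗ₜ[R] p = z := by
  have hg : ∀ p, (TensorProduct.mk R S P 1) p ∈ inv (canRho R S P) := by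
    intro p
    rw [mem_inv]
    exact canRho_tmul R S P 1 p
  have hbij : Function.Bijective (LinearMap.liftBaseChange S (TensorProduct.mk R S P 1)) := by
    have : ∀ w : S ⊗[R] P, LinearMap.liftBaseChange S (TensorProduct.mk R S P 1) w = w := by
      intro w
      induction w using TensorProduct.induction_on with
      | zero => simp
      | tmul s p =>
        rw [LinearMap.liftBaseChange_tmul, TensorProduct.mk_apply, TensorProduct.smul_tmul',
          smul_eq_mul, mul_one]
      | add x y hx hy => rw [map_add, hx, hy]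
    exact ⟨fun a b h => by rw [← this a, ← this b, h], fun y => ⟨y, this y⟩⟩
  have h := bijective_of_liftBaseChange_bijective (isDescentDatum_canRho R S P)
    (TensorProduct.mk R S P 1) hg hbij
  obtain ⟨p, hp⟩ := h.2 ⟨z, hz⟩
  exact ⟨p, congrArg Subtype.val hp⟩

end Canonical

end Groth.Agent.Lib.Helper77.FFDescent
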