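import Mathlib
import Groth.Prelude.Def_CartDual
import Groth.Prelude.Def_SGA3b

set_option autoImplicit false
universe u

open TensorProduct CartDual WithConv

namespace Groth.Agent.Lib.Helper77.IsoTriv1

variable (R : Type u) [CommRing R] (B : Type u) [CommRing B] [Algebra R B]
  (A : Type u) [CommRing A] [Bialgebra R A]

instance instTower : IsScalarTower R B (D B (B ⊗[R] A)) :=
  ⟨fun r b x => WithConv.ofConv_injective (smul_assoc r b x.ofConv)⟩

/-- base change of a functional, as an element of the convolution algebra over `B`. -/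
noncomputable def bc (x : D R A) : D B (B ⊗[R] A) :=
  toConv (Module.Dual.baseChange B x.ofConv)

lemma bc_tmul (x : D R A) (b : B) (a : A) : bc R B A x (b ⊗ₜ[R] a) = x a • b := rfl

/-- representation of the comultiplication of a pure tensor in the base change. -/
noncomputable def reprBC {a : A} {ι : Type*} (𝓡 : Coalgebra.Repr R a ι) (b : B) :
    Coalgebra.Repr B (b ⊗ₜ[R] a) ι where
  index := 𝓡.index
  left i := (1 : B) ⊗ₜ[R] 𝓡.left i
  right i := b ⊗ₜ[R] 𝓡.right i
  eq := by
    rw [TensorProduct.comul_tmul, ← 𝓡.eq]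
    simp [TensorProduct.tmul_sum, map_sum]

lemma bc_mul (x y : D R A) : bc R B A (x * y) = bc R B A x * bc R B A y := by
  apply WithConv.ext
  apply TensorProduct.AlgebraTensorModule.ext
  intro b a
  change bc R B A (x * y) (b ⊗ₜ[R] a) = (bc R B A x * bc R B A y) (b ⊗ₜ[R] a)
  rw [(reprBC R B A (Coalgebra.Repr.arbitrary R a) b).convMul_apply, bc_tmul,
    (Coalgebra.Repr.arbitrary R a).convMul_apply]
  simp only [reprBC, bc_tmul, Finset.sum_smul]
  refine Finset.sum_congr rfl fun i _ => ?_
  rw [smul_mul_smul_comm, one_mul]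

lemma bc_one : bc R B A 1 = 1 := by
  apply WithConv.ext
  apply TensorProduct.AlgebraTensorModule.ext
  intro b a
  change bc R B A 1 (b ⊗ₜ[R] a) = (1 : D B (B ⊗[R] A)) (b ⊗ₜ[R] a)
  rw [bc_tmul, LinearMap.convOne_apply, LinearMap.convOne_apply, TensorProduct.counit_tmul]
  simp

/-- `bc` as an `R`-linear map. -/
noncomputable def bcL : D R A →ₗ[R] D B (B ⊗[R] A) where
  toFun := bc R B A
  map_add' x y := by
    apply WithConv.ext
    simp [bc]
  map_smul' r x := by
    apply WithConv.ext
    simp [bc]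

/-- the comparison map `B ⊗ D_R(A) → D_B(B ⊗ A)` as a `B`-linear map. -/
noncomputable def thetaLin : B ⊗[R] D R A →ₗ[B] D B (B ⊗[R] A) :=
  LinearMap.liftBaseChange B (bcL R B A)

lemma thetaLin_tmul (b : B) (x : D R A) : thetaLin R B A (b ⊗ₜ[R] x) = b • bc R B A x := rfl

/-- the comparison map as a `B`-algebra homomorphism. -/
noncomputable def thetaAlg [Coalgebra.IsCocomm R A] : B ⊗[R] D R A →ₐ[B] D B (B ⊗[R] A) :=
  Algebra.TensorProduct.algHomOfLinearMapTensorProduct (thetaLin R B A)
    (fun b₁ b₂ x₁ x₂ => by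
      rw [thetaLin_tmul, thetaLin_tmul, thetaLin_tmul, bc_mul, smul_mul_smul_comm])
    (by rw [thetaLin_tmul, bc_one, one_smul])

lemma thetaAlg_apply [Coalgebra.IsCocomm R A] (z : B ⊗[R] D R A) :
    thetaAlg R B A z = thetaLin R B A z := rfl

variable [Module.Finite R A] [Module.Projective R A]

lemma thetaLin_bijective : Function.Bijective (thetaLin R B A) := by
  let e1 : B ⊗[R] D R A ≃ₗ[R] B ⊗[R] (A →ₗ[R] R) :=
    TensorProduct.congr (LinearEquiv.refl R B) (WithConv.linearEquiv R _)
  let e2 := lTensorHomEquivHomLTensor R A B R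
  let e3 : (A →ₗ[R] B ⊗[R] R) ≃ₗ[R] (A →ₗ[R] B) := LinearEquiv.congrRight (TensorProduct.rid R B)
  let e4 : (A →ₗ[R] B) ≃ₗ[B] (B ⊗[R] A →ₗ[B] B) := LinearMap.liftBaseChangeEquiv B
  let e5 : (B ⊗[R] A →ₗ[B] B) ≃ₗ[B] D B (B ⊗[R] A) := (WithConv.linearEquiv B _).symm
  have key : ∀ z, thetaLin R B A z = e5 (e4 (e3 (e2 (e1 z)))) := by
    intro z
    induction z using TensorProduct.induction_on with
    | zero => simp
    | tmul b x =>
      apply WithConv.ext
      apply TensorProduct.AlgebraTensorModule.ext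
      intro b' a
      have h3 : (TensorProduct.rid R B).congrRight
          ((lTensorHomToHomLTensor (RingHom.id R) A B R) (b ⊗ₜ[R] x.ofConv)) a = x.ofConv a • b := by
        simp [LinearEquiv.congrRight, lTensorHomToHomLTensor_apply]
      simp only [e1, e2, e3, e4, e5, thetaLin_tmul, bc]
      simp only [TensorProduct.congr_tmul, LinearEquiv.refl_apply,
        WithConv.linearEquiv_apply, lTensorHomEquivHomLTensor_apply,
        WithConv.symm_linearEquiv_apply, WithConv.ofConv_toConv,
        WithConv.ofConv_smul, LinearMap.smul_apply, Module.Dual.baseChange_apply_tmul,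
        LinearMap.liftBaseChange_tmul, h3, smul_eq_mul]
      rw [mul_smul_comm, mul_smul_comm, mul_comm]
    | add x y hx hy => simp only [map_add, hx, hy]
  have : (thetaLin R B A : B ⊗[R] D R A → D B (B ⊗[R] A)) =
      e5 ∘ e4 ∘ e3 ∘ e2 ∘ e1 := funext key
  rw [this]
  exact e5.bijective.comp (e4.bijective.comp (e3.bijective.comp (e2.bijective.comp e1.bijective)))

/-- **Base change of the dual algebra**: `B ⊗ D_R(A) ≃ D_B(B ⊗ A)` as `B`-algebras. -/
noncomputable def dualBC [Coalgebra.IsCocomm R A] : B ⊗[R] D R A ≃ₐ[B] D B (B ⊗[R] A) :=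
  AlgEquiv.ofBijective (thetaAlg R B A) (thetaLin_bijective R B A)

lemma dualBC_tmul [Coalgebra.IsCocomm R A] (b : B) (x : D R A) (b' : B) (a : A) :
    dualBC R B A (b ⊗ₜ[R] x) (b' ⊗ₜ[R] a) = b * (x a • b') := rfl

end Groth.Agent.Lib.Helper77.IsoTriv1
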