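import Mathlib
import Groth.Agent.Lib.Helper77.IsoTriv1

set_option autoImplicit false
universe u
open TensorProduct CartDual WithConv

namespace Groth.Agent.Lib.Helper77.HensDual1

open Groth.Agent.Lib.Helper77.IsoTriv1

section Gen

variable (K : Type u) [CommRing K] (K' : Type u) [CommRing K'] [Algebra K K']
  (N : Type u) [AddCommGroup N] [Module K N] [Coalgebra K N]

lemma comul_one_tmul' (b : N) :
    Coalgebra.comul (R := K') ((1 : K') ⊗ₜ[K] b) =
      TensorProduct.AlgebraTensorModule.distribBaseChange K K' N N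
        ((1 : K') ⊗ₜ[K] Coalgebra.comul (R := K) b) := by
  rw [TensorProduct.comul_tmul]
  generalize Coalgebra.comul (R := K) b = z
  induction z using TensorProduct.induction_on with
  | zero => simp
  | tmul x y => simp
  | add x y hx hy => simp only [TensorProduct.tmul_add, map_add, hx, hy]

end Gen

variable (R : Type u) [CommRing R] (B : Type u) [CommRing B] [Algebra R B]
  (A : Type u) [CommRing A] [Bialgebra R A] [Module.Finite R A] [Module.Projective R A]

lemma ev₂_map_theta (y : D R A ⊗[R] D R A) (b₁ b₂ : B) (a₁ a₂ : A) :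
    ev₂ B (B ⊗[R] A) (TensorProduct.map (thetaLin R B A) (thetaLin R B A)
        (TensorProduct.AlgebraTensorModule.distribBaseChange R B (D R A) (D R A) ((1 : B) ⊗ₜ[R] y)))
      ((b₁ ⊗ₜ[R] a₁) ⊗ₜ[B] (b₂ ⊗ₜ[R] a₂)) = ev₂ R A y (a₁ ⊗ₜ a₂) • (b₁ * b₂) := by
  induction y using TensorProduct.induction_on with
  | zero => simp
  | tmul x₁ x₂ =>
    simp [thetaLin_tmul, bc_tmul]
    rw [smul_smul, mul_comm]
  | add y y' hy hy' => simp only [TensorProduct.tmul_add, map_add, hy, hy', LinearMap.add_apply, add_smul]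


lemma thetaLin_counit (z : B ⊗[R] D R A) :
    Coalgebra.counit (R := B) (thetaLin R B A z) = Coalgebra.counit (R := B) z := by
  induction z using TensorProduct.induction_on with
  | zero => simp
  | tmul b x =>
    rw [thetaLin_tmul, TensorProduct.counit_tmul, coalgebra_counit_apply]
    change b * bc R B A x ((1 : B) ⊗ₜ[R] (1 : A)) = _
    rw [bc_tmul]
    simp
  | add y y' hy hy' => simp only [map_add, hy, hy']

lemma thetaLin_comul (z : B ⊗[R] D R A) :
    Coalgebra.comul (R := B) (thetaLin R B A z) =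
      TensorProduct.map (thetaLin R B A) (thetaLin R B A) (Coalgebra.comul (R := B) z) := by
  induction z using TensorProduct.induction_on with
  | zero => simp
  | tmul b x =>
    have hb : b ⊗ₜ[R] x = b • ((1 : B) ⊗ₜ[R] x) := by rw [TensorProduct.smul_tmul', smul_eq_mul, mul_one]
    rw [hb, map_smul, map_smul, map_smul, map_smul]
    congr 1
    rw [comul_one_tmul']
    apply (ev₂ B (B ⊗[R] A)).injective
    ext a₁ a₂
    change ev₂ B (B ⊗[R] A) (Coalgebra.comul (R := B) (thetaLin R B A ((1 : B) ⊗ₜ[R] x)))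
        (((1 : B) ⊗ₜ[R] a₁) ⊗ₜ[B] ((1 : B) ⊗ₜ[R] a₂)) =
      ev₂ B (B ⊗[R] A) (TensorProduct.map (thetaLin R B A) (thetaLin R B A)
        (TensorProduct.AlgebraTensorModule.distribBaseChange R B (D R A) (D R A)
          ((1 : B) ⊗ₜ[R] Coalgebra.comul (R := R) x)))
        (((1 : B) ⊗ₜ[R] a₁) ⊗ₜ[B] ((1 : B) ⊗ₜ[R] a₂))
    rw [ev₂_map_theta, ev₂_coalgebra_comul_tmul, ev₂_coalgebra_comul_tmul, thetaLin_tmul, one_smul,
      Algebra.TensorProduct.tmul_mul_tmul, bc_tmul]
  | add y y' hy hy' => simp only [map_add, hy, hy']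


/-- the comparison map as a bialgebra homomorphism. -/
noncomputable def thetaBialg [Coalgebra.IsCocomm R A] : B ⊗[R] D R A →ₐc[B] D B (B ⊗[R] A) :=
  BialgHom.ofAlgHom (R := B) (A := B ⊗[R] D R A) (B := D B (B ⊗[R] A)) (thetaAlg R B A)
    (by
      apply AlgHom.ext
      intro z
      exact thetaLin_counit R B A z)
    (by
      apply AlgHom.ext
      intro z
      exact (thetaLin_comul R B A z).symm)

lemma thetaBialg_apply [Coalgebra.IsCocomm R A] (z : B ⊗[R] D R A) :
    thetaBialg R B A z = thetaLin R B A z := rfl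

/-- **Base change of the dual bialgebra**: `B ⊗ D_R(A) ≃ D_B(B ⊗ A)` as `B`-bialgebras. -/
noncomputable def dualBCc [Coalgebra.IsCocomm R A] : B ⊗[R] D R A ≃ₐc[B] D B (B ⊗[R] A) :=
  BialgEquiv.ofBijective (R := B) (A := B ⊗[R] D R A) (B := D B (B ⊗[R] A))
    (thetaBialg R B A) (thetaLin_bijective R B A)

lemma dualBCc_apply [Coalgebra.IsCocomm R A] (z : B ⊗[R] D R A) :
    dualBCc R B A z = thetaLin R B A z := rfl

lemma dualBCc_tmul [Coalgebra.IsCocomm R A] (b : B) (x : D R A) (b' : B) (a : A) :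
    dualBCc R B A (b ⊗ₜ[R] x) (b' ⊗ₜ[R] a) = b * (x a • b') := rfl

end Groth.Agent.Lib.Helper77.HensDual1
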