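import Mathlib
import Groth.Agent.Lib.Helper3.EtaleSection2
import Groth.Agent.Lib.Helper3.IdemBij
import Groth.Agent.Lib.Helper77.GLLift

set_option autoImplicit false
universe u
open TensorProduct

namespace Groth.Agent.Lib.Helper77.HensAlg1

section UQ

variable {A : Type*} [CommRing A] {E S : Type*} [CommRing E] [CommRing S] [Algebra A E] [Algebra A S]

/-- rigidity: two maps out of an unramified algebra agreeing modulo an ideal contained in the
Jacobson radical are equal. -/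
theorem algHom_ext_of_sub_mem [Algebra.FormallyUnramified A E] [Algebra.EssFiniteType A E]
    (J : Ideal S) (hJ : J ≤ Ideal.jacobson ⊥) (σ₁ σ₂ : E →ₐ[A] S) (h : ∀ x, σ₁ x - σ₂ x ∈ J) :
    σ₁ = σ₂ := by
  obtain ⟨t, ht1, ht2⟩ := (Algebra.FormallyUnramified.iff_exists_tensorProduct (R := A) (S := E)).mp
    inferInstance
  let Φ : E ⊗[A] E →ₐ[A] S := Algebra.TensorProduct.productMap σ₁ σ₂
  let Ψ : E ⊗[A] E →ₐ[A] S := Algebra.TensorProduct.productMap σ₁ σ₁
  have hΦΨ : ∀ z : E ⊗[A] E, Φ z - Ψ z ∈ J := by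
    intro z
    induction z using TensorProduct.induction_on with
    | zero => simp
    | tmul a b =>
      have : Φ (a ⊗ₜ b) - Ψ (a ⊗ₜ b) = σ₁ a * (σ₂ b - σ₁ b) := by
        simp only [Φ, Ψ, Algebra.TensorProduct.productMap_apply_tmul]
        ring
      rw [this]
      apply Ideal.mul_mem_left
      have := h b
      rw [← neg_sub]
      exact neg_mem this
    | add x y hx hy =>
      have : Φ (x + y) - Ψ (x + y) = (Φ x - Ψ x) + (Φ y - Ψ y) := by
        rw [map_add, map_add]; ring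
      rw [this]
      exact add_mem hx hy
  have hΨt : Ψ t = 1 := by
    have : ∀ z : E ⊗[A] E, Ψ z = σ₁ (Algebra.TensorProduct.lmul' A z) := by
      intro z
      induction z using TensorProduct.induction_on with
      | zero => simp
      | tmul a b => simp [Ψ]
      | add x y hx hy => simp only [map_add, hx, hy]
    rw [this, ht2, map_one]
  have hunit : IsUnit (Φ t) := by
    have h1 : Φ t - 1 ∈ J := by
      have := hΦΨ t
      rwa [hΨt] at this
    have h2 := Ideal.mem_jacobson_bot.mp (hJ h1) 1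
    have : (Φ t - 1) * 1 + 1 = Φ t := by ring
    rwa [this] at h2
  apply AlgHom.ext
  intro s
  have h0 := congrArg Φ (ht1 s)
  rw [map_mul, map_sub, map_zero] at h0
  simp only [Φ, Algebra.TensorProduct.productMap_apply_tmul, map_one, one_mul, mul_one] at h0
  have h3 := hunit.mul_left_eq_zero.mp h0
  exact (sub_eq_zero.mp h3).symm

end UQ


section EX

open Groth.Agent.Lib.Helper3

variable (A : Type u) [CommRing A] (I : Ideal A) [HenselianRing A I]
  (E : Type u) [CommRing E] [Algebra A E]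
  (S : Type u) [CommRing S] [Algebra A S] [Algebra.IsIntegral A S]

lemma map_le_jacobson : I.map (algebraMap A S) ≤ Ideal.jacobson ⊥ :=
  (henselianRing_map_of_isIntegral I S).jac

variable {A I E S}

omit [HenselianRing A I] [Algebra.IsIntegral A S] in
lemma one_tmul_eq_iff (s s' : S) :
    (1 : A ⧸ I) ⊗ₜ[A] s = (1 : A ⧸ I) ⊗ₜ[A] s' ↔ s - s' ∈ I.map (algebraMap A S) := by
  rw [← sub_eq_zero, ← TensorProduct.tmul_sub, Groth.Agent.Lib.Helper77.GLLift.one_tmul_eq_zero_iff]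

/-- rigidity, tensor form. -/
theorem algHom_ext_of_one_tmul_eq [Algebra.FormallyUnramified A E] [Algebra.EssFiniteType A E]
    (σ₁ σ₂ : E →ₐ[A] S) (h : ∀ x, (1 : A ⧸ I) ⊗ₜ[A] σ₁ x = (1 : A ⧸ I) ⊗ₜ[A] σ₂ x) : σ₁ = σ₂ :=
  algHom_ext_of_sub_mem _ (map_le_jacobson A I S) σ₁ σ₂ (fun x => (one_tmul_eq_iff _ _).mp (h x))

/-- lifting maps out of an étale algebra along a henselian pair, tensor form. -/
theorem exists_algHom_lift [Algebra.Etale A E] (σ₀ : E →ₐ[A] (A ⧸ I) ⊗[A] S) :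
    ∃ σ : E →ₐ[A] S, ∀ x, (1 : A ⧸ I) ⊗ₜ[A] σ x = σ₀ x := by
  set IS := I.map (algebraMap A S) with hIS
  have : HenselianRing S IS := henselianRing_map_of_isIntegral I S
  let ε : (S ⧸ IS) ≃ₐ[A ⧸ I] (A ⧸ I) ⊗[A] S := Algebra.TensorProduct.quotIdealMapEquivQuotTensor S I
  let g : E →ₐ[A] S ⧸ IS := ((ε.symm.restrictScalars A) : _ →ₐ[A] _).comp σ₀
  let σ' : S ⊗[A] E →ₐ[S] S ⧸ IS :=
    Algebra.TensorProduct.lift (Algebra.ofId S (S ⧸ IS)) g (fun _ _ => Commute.all _ _)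
  obtain ⟨τ, hτ⟩ := exists_algHom_lift_of_etale IS (S ⊗[A] E) σ'
  refine ⟨(τ.restrictScalars A).comp Algebra.TensorProduct.includeRight, ?_⟩
  intro x
  have h1 : Ideal.Quotient.mk IS (τ ((1 : S) ⊗ₜ[A] x)) = g x := by
    have := congrArg (fun f => f ((1 : S) ⊗ₜ[A] x)) hτ
    simpa [σ'] using this
  have h2 : ε (Ideal.Quotient.mk IS (τ ((1 : S) ⊗ₜ[A] x))) = (1 : A ⧸ I) ⊗ₜ[A] τ ((1 : S) ⊗ₜ[A] x) :=
    Algebra.TensorProduct.quotIdealMapEquivQuotTensor_mk S I _
  change (1 : A ⧸ I) ⊗ₜ[A] τ ((1 : S) ⊗ₜ[A] x) = σ₀ x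
  rw [← h2, h1]
  exact ε.apply_symm_apply (σ₀ x)

end EX

end Groth.Agent.Lib.Helper77.HensAlg1
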