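import Mathlib
import Groth.Agent.Lib.Helper77.HensAlg1

set_option autoImplicit false
universe u
open TensorProduct

namespace Groth.Agent.Lib.Helper77.HopfLift1

section Red

variable (R : Type u) [CommRing R] (k : Type u) [CommRing k] [Algebra R k]
  {A B A₀ B₀ : Type u} [CommRing A] [Algebra R A] [CommRing B] [Algebra R B]
  [CommRing A₀] [Algebra k A₀] [CommRing B₀] [Algebra k B₀]

/-- reduction data for a tensor product. -/
noncomputable def red₂ (eA : k ⊗[R] A ≃ₐ[k] A₀) (eB : k ⊗[R] B ≃ₐ[k] B₀) :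
    k ⊗[R] (A ⊗[R] B) ≃ₐ[k] A₀ ⊗[k] B₀ :=
  ((Algebra.TensorProduct.assoc R R k k A B).symm.trans
    (Algebra.TensorProduct.cancelBaseChange R k k (k ⊗[R] A) B).symm).trans
    (Algebra.TensorProduct.congr eA eB)

@[simp] lemma red₂_tmul (eA : k ⊗[R] A ≃ₐ[k] A₀) (eB : k ⊗[R] B ≃ₐ[k] B₀) (c : k) (a : A) (b : B) :
    red₂ R k eA eB (c ⊗ₜ[R] (a ⊗ₜ[R] b)) = eA (c ⊗ₜ[R] a) ⊗ₜ[k] eB ((1 : k) ⊗ₜ[R] b) := by
  simp [red₂]

end Red


section Lift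

open Groth.Agent.Lib.Helper77.HensAlg1

variable {R : Type u} [CommRing R] {I : Ideal R} [HenselianRing R I]
  {E : Type u} [CommRing E] [Algebra R E] [Algebra.Etale R E] [Module.Finite R E]
  {E₀ : Type u} [CommRing E₀] [HopfAlgebra (R ⧸ I) E₀]
  (e : (R ⧸ I) ⊗[R] E ≃ₐ[R ⧸ I] E₀)

lemma exists_comul : ∃ Δ : E →ₐ[R] E ⊗[R] E, ∀ x,
    red₂ R (R ⧸ I) e e ((1 : R ⧸ I) ⊗ₜ[R] Δ x) =
      Coalgebra.comul (R := R ⧸ I) (e ((1 : R ⧸ I) ⊗ₜ[R] x)) := by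
  let σ₀ : E →ₐ[R] (R ⧸ I) ⊗[R] (E ⊗[R] E) :=
    ((((red₂ R (R ⧸ I) e e).symm : E₀ ⊗[R ⧸ I] E₀ →ₐ[R ⧸ I] (R ⧸ I) ⊗[R] (E ⊗[R] E)).comp
      ((Bialgebra.comulAlgHom (R ⧸ I) E₀).comp (e : (R ⧸ I) ⊗[R] E →ₐ[R ⧸ I] E₀))).restrictScalars R).comp
      Algebra.TensorProduct.includeRight
  obtain ⟨Δ, hΔ⟩ := exists_algHom_lift (I := I) σ₀
  refine ⟨Δ, fun x => ?_⟩
  rw [hΔ x]
  exact (red₂ R (R ⧸ I) e e).apply_symm_apply _

omit [Module.Finite R E] in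
lemma exists_counit : ∃ ε : E →ₐ[R] R, ∀ x,
    Ideal.Quotient.mk I (ε x) = Coalgebra.counit (R := R ⧸ I) (e ((1 : R ⧸ I) ⊗ₜ[R] x)) := by
  let σ₀ : E →ₐ[R] (R ⧸ I) ⊗[R] R :=
    ((((Algebra.TensorProduct.rid R (R ⧸ I) (R ⧸ I)).symm : (R ⧸ I) →ₐ[R ⧸ I] (R ⧸ I) ⊗[R] R).comp
      ((Bialgebra.counitAlgHom (R ⧸ I) E₀).comp (e : (R ⧸ I) ⊗[R] E →ₐ[R ⧸ I] E₀))).restrictScalars R).comp
      Algebra.TensorProduct.includeRight
  obtain ⟨ε, hε⟩ := exists_algHom_lift (I := I) σ₀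
  refine ⟨ε, fun x => ?_⟩
  have h1 := congrArg (Algebra.TensorProduct.rid R (R ⧸ I) (R ⧸ I)) (hε x)
  have h2 : Algebra.TensorProduct.rid R (R ⧸ I) (R ⧸ I) (σ₀ x) =
      Coalgebra.counit (R := R ⧸ I) (e ((1 : R ⧸ I) ⊗ₜ[R] x)) :=
    (Algebra.TensorProduct.rid R (R ⧸ I) (R ⧸ I)).apply_symm_apply _
  rw [h2] at h1
  rw [← h1]
  simp [Algebra.smul_def]

lemma exists_antipode : ∃ S : E →ₐ[R] E, ∀ x,
    e ((1 : R ⧸ I) ⊗ₜ[R] S x) = HopfAlgebra.antipode (R ⧸ I) (e ((1 : R ⧸ I) ⊗ₜ[R] x)) := by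
  let σ₀ : E →ₐ[R] (R ⧸ I) ⊗[R] E :=
    (((e.symm : E₀ →ₐ[R ⧸ I] (R ⧸ I) ⊗[R] E).comp
      ((HopfAlgebra.antipodeAlgHom (R ⧸ I) E₀).comp (e : (R ⧸ I) ⊗[R] E →ₐ[R ⧸ I] E₀))).restrictScalars R).comp
      Algebra.TensorProduct.includeRight
  obtain ⟨S, hS⟩ := exists_algHom_lift (I := I) σ₀
  refine ⟨S, fun x => ?_⟩
  rw [hS x]
  exact e.apply_symm_apply _

section Axioms

variable (Δ : E →ₐ[R] E ⊗[R] E)
  (hΔ : ∀ x, red₂ R (R ⧸ I) e e ((1 : R ⧸ I) ⊗ₜ[R] Δ x) =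
      Coalgebra.comul (R := R ⧸ I) (e ((1 : R ⧸ I) ⊗ₜ[R] x)))
  (ε : E →ₐ[R] R)
  (hε : ∀ x, Ideal.Quotient.mk I (ε x) = Coalgebra.counit (R := R ⧸ I) (e ((1 : R ⧸ I) ⊗ₜ[R] x)))
  (S : E →ₐ[R] E)
  (hS : ∀ x, e ((1 : R ⧸ I) ⊗ₜ[R] S x) = HopfAlgebra.antipode (R ⧸ I) (e ((1 : R ⧸ I) ⊗ₜ[R] x)))

omit [HenselianRing R I] [Algebra.Etale R E] [Module.Finite R E] in
lemma assoc_nat (y : E ⊗[R] E) (b : E) :
    red₂ R (R ⧸ I) e (red₂ R (R ⧸ I) e e)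
        ((1 : R ⧸ I) ⊗ₜ[R] (Algebra.TensorProduct.assoc R R R E E E (y ⊗ₜ[R] b))) =
      TensorProduct.assoc (R ⧸ I) E₀ E₀ E₀
        (red₂ R (R ⧸ I) e e ((1 : R ⧸ I) ⊗ₜ[R] y) ⊗ₜ[R ⧸ I] e ((1 : R ⧸ I) ⊗ₜ[R] b)) := by
  induction y using TensorProduct.induction_on with
  | zero => simp
  | tmul c₁ c₂ => simp
  | add y y' hy hy' => simp only [TensorProduct.add_tmul, TensorProduct.tmul_add, map_add, hy, hy']

include hΔ in
theorem coassoc_lift :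
    (Algebra.TensorProduct.assoc R R R E E E).toAlgHom.comp
      ((Algebra.TensorProduct.map Δ (.id R E)).comp Δ) =
      (Algebra.TensorProduct.map (.id R E) Δ).comp Δ := by
  apply algHom_ext_of_one_tmul_eq (I := I)
  intro x
  apply (red₂ R (R ⧸ I) e (red₂ R (R ⧸ I) e e)).injective
  have hL : ∀ t : E ⊗[R] E, red₂ R (R ⧸ I) e (red₂ R (R ⧸ I) e e)
      ((1 : R ⧸ I) ⊗ₜ[R] (Algebra.TensorProduct.assoc R R R E E E
        (Algebra.TensorProduct.map Δ (.id R E) t))) =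
      TensorProduct.assoc (R ⧸ I) E₀ E₀ E₀ ((Coalgebra.comul (R := R ⧸ I) (A := E₀)).rTensor E₀
        (red₂ R (R ⧸ I) e e ((1 : R ⧸ I) ⊗ₜ[R] t))) := by
    intro t
    induction t using TensorProduct.induction_on with
    | zero => simp
    | tmul a b =>
      rw [Algebra.TensorProduct.map_tmul, AlgHom.id_apply, assoc_nat, hΔ, red₂_tmul,
        LinearMap.rTensor_tmul]
    | add t t' ht ht' => simp only [TensorProduct.tmul_add, map_add, ht, ht']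
  have hR : ∀ t : E ⊗[R] E, red₂ R (R ⧸ I) e (red₂ R (R ⧸ I) e e)
      ((1 : R ⧸ I) ⊗ₜ[R] (Algebra.TensorProduct.map (.id R E) Δ t)) =
      (Coalgebra.comul (R := R ⧸ I) (A := E₀)).lTensor E₀
        (red₂ R (R ⧸ I) e e ((1 : R ⧸ I) ⊗ₜ[R] t)) := by
    intro t
    induction t using TensorProduct.induction_on with
    | zero => simp
    | tmul a b =>
      rw [Algebra.TensorProduct.map_tmul, AlgHom.id_apply, red₂_tmul, hΔ, red₂_tmul,
        LinearMap.lTensor_tmul]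
    | add t t' ht ht' => simp only [TensorProduct.tmul_add, map_add, ht, ht']
  change red₂ R (R ⧸ I) e (red₂ R (R ⧸ I) e e)
      ((1 : R ⧸ I) ⊗ₜ[R] (Algebra.TensorProduct.assoc R R R E E E
        (Algebra.TensorProduct.map Δ (.id R E) (Δ x)))) =
    red₂ R (R ⧸ I) e (red₂ R (R ⧸ I) e e)
      ((1 : R ⧸ I) ⊗ₜ[R] (Algebra.TensorProduct.map (.id R E) Δ (Δ x)))
  rw [hL, hR, hΔ]
  exact Coalgebra.coassoc_apply (R := R ⧸ I) (e ((1 : R ⧸ I) ⊗ₜ[R] x))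

omit [HenselianRing R I] [Algebra.Etale R E] [Module.Finite R E] in
include hε in
lemma rid_counit (a : E) :
    Algebra.TensorProduct.rid R (R ⧸ I) (R ⧸ I) ((1 : R ⧸ I) ⊗ₜ[R] ε a) =
      Coalgebra.counit (R := R ⧸ I) (e ((1 : R ⧸ I) ⊗ₜ[R] a)) := by
  rw [← hε]
  simp [Algebra.smul_def]

include hΔ hε in
theorem rTensor_lift :
    (Algebra.TensorProduct.map ε (.id R E)).comp Δ = (Algebra.TensorProduct.lid R E).symm := by
  apply algHom_ext_of_one_tmul_eq (I := I)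
  intro x
  apply (red₂ R (R ⧸ I) (Algebra.TensorProduct.rid R (R ⧸ I) (R ⧸ I)) e).injective
  have hL : ∀ t : E ⊗[R] E, red₂ R (R ⧸ I) (Algebra.TensorProduct.rid R (R ⧸ I) (R ⧸ I)) e
      ((1 : R ⧸ I) ⊗ₜ[R] (Algebra.TensorProduct.map ε (.id R E) t)) =
      (Coalgebra.counit (R := R ⧸ I) (A := E₀)).rTensor E₀
        (red₂ R (R ⧸ I) e e ((1 : R ⧸ I) ⊗ₜ[R] t)) := by
    intro t
    induction t using TensorProduct.induction_on with
    | zero => simp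
    | tmul a b =>
      rw [Algebra.TensorProduct.map_tmul, AlgHom.id_apply, red₂_tmul, rid_counit e ε hε, red₂_tmul,
        LinearMap.rTensor_tmul]
    | add t t' ht ht' => simp only [TensorProduct.tmul_add, map_add, ht, ht']
  change red₂ R (R ⧸ I) (Algebra.TensorProduct.rid R (R ⧸ I) (R ⧸ I)) e
      ((1 : R ⧸ I) ⊗ₜ[R] (Algebra.TensorProduct.map ε (.id R E) (Δ x))) =
    red₂ R (R ⧸ I) (Algebra.TensorProduct.rid R (R ⧸ I) (R ⧸ I)) e
      ((1 : R ⧸ I) ⊗ₜ[R] ((Algebra.TensorProduct.lid R E).symm x))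
  rw [hL, hΔ, Coalgebra.rTensor_counit_comul]
  simp

include hΔ hε in
theorem lTensor_lift :
    (Algebra.TensorProduct.map (.id R E) ε).comp Δ = (Algebra.TensorProduct.rid R R E).symm := by
  apply algHom_ext_of_one_tmul_eq (I := I)
  intro x
  apply (red₂ R (R ⧸ I) e (Algebra.TensorProduct.rid R (R ⧸ I) (R ⧸ I))).injective
  have hL : ∀ t : E ⊗[R] E, red₂ R (R ⧸ I) e (Algebra.TensorProduct.rid R (R ⧸ I) (R ⧸ I))
      ((1 : R ⧸ I) ⊗ₜ[R] (Algebra.TensorProduct.map (.id R E) ε t)) =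
      (Coalgebra.counit (R := R ⧸ I) (A := E₀)).lTensor E₀
        (red₂ R (R ⧸ I) e e ((1 : R ⧸ I) ⊗ₜ[R] t)) := by
    intro t
    induction t using TensorProduct.induction_on with
    | zero => simp
    | tmul a b =>
      rw [Algebra.TensorProduct.map_tmul, AlgHom.id_apply, red₂_tmul, rid_counit e ε hε, red₂_tmul,
        LinearMap.lTensor_tmul]
    | add t t' ht ht' => simp only [TensorProduct.tmul_add, map_add, ht, ht']
  change red₂ R (R ⧸ I) e (Algebra.TensorProduct.rid R (R ⧸ I) (R ⧸ I))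
      ((1 : R ⧸ I) ⊗ₜ[R] (Algebra.TensorProduct.map (.id R E) ε (Δ x))) =
    red₂ R (R ⧸ I) e (Algebra.TensorProduct.rid R (R ⧸ I) (R ⧸ I))
      ((1 : R ⧸ I) ⊗ₜ[R] ((Algebra.TensorProduct.rid R R E).symm x))
  rw [hL, hΔ, Coalgebra.lTensor_counit_comul]
  simp

omit [HenselianRing R I] [Algebra.Etale R E] [Module.Finite R E] in
lemma e_one_tmul_mul (a b : E) : e ((1 : R ⧸ I) ⊗ₜ[R] (a * b)) =
    e ((1 : R ⧸ I) ⊗ₜ[R] a) * e ((1 : R ⧸ I) ⊗ₜ[R] b) := by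
  rw [← map_mul, Algebra.TensorProduct.tmul_mul_tmul, one_mul]

omit [HenselianRing R I] [Algebra.Etale R E] [Module.Finite R E] in
include hε in
lemma e_algebraMap_counit (x : E) : e ((1 : R ⧸ I) ⊗ₜ[R] (algebraMap R E (ε x))) =
    algebraMap (R ⧸ I) E₀ (Coalgebra.counit (R := R ⧸ I) (e ((1 : R ⧸ I) ⊗ₜ[R] x))) := by
  rw [← hε, Algebra.algebraMap_eq_smul_one, TensorProduct.tmul_smul, TensorProduct.smul_tmul']
  have : ε x • (1 : R ⧸ I) = Ideal.Quotient.mk I (ε x) := by simp [Algebra.smul_def]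
  rw [this, Algebra.algebraMap_eq_smul_one (Ideal.Quotient.mk I (ε x)), ← map_one e, ← map_smul,
    Algebra.TensorProduct.one_def, TensorProduct.smul_tmul', smul_eq_mul, mul_one]

include hΔ hε hS in
theorem antipode_rTensor_lift :
    (Algebra.TensorProduct.lift S (AlgHom.id R E) (fun _ _ => Commute.all _ _)).comp Δ =
      (Algebra.ofId R E).comp ε := by
  apply algHom_ext_of_one_tmul_eq (I := I)
  intro x
  apply e.injective
  have hL : ∀ t : E ⊗[R] E, e ((1 : R ⧸ I) ⊗ₜ[R]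
      (Algebra.TensorProduct.lift S (AlgHom.id R E) (fun _ _ => Commute.all _ _) t)) =
      LinearMap.mul' (R ⧸ I) E₀ ((HopfAlgebra.antipode (R ⧸ I) (A := E₀)).rTensor E₀
        (red₂ R (R ⧸ I) e e ((1 : R ⧸ I) ⊗ₜ[R] t))) := by
    intro t
    induction t using TensorProduct.induction_on with
    | zero => simp
    | tmul a b =>
      rw [Algebra.TensorProduct.lift_tmul, AlgHom.id_apply, e_one_tmul_mul, hS, red₂_tmul,
        LinearMap.rTensor_tmul, LinearMap.mul'_apply]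
    | add t t' ht ht' => simp only [TensorProduct.tmul_add, map_add, ht, ht']
  change e ((1 : R ⧸ I) ⊗ₜ[R]
      (Algebra.TensorProduct.lift S (AlgHom.id R E) (fun _ _ => Commute.all _ _) (Δ x))) =
    e ((1 : R ⧸ I) ⊗ₜ[R] (algebraMap R E (ε x)))
  rw [hL, hΔ, HopfAlgebra.mul_antipode_rTensor_comul_apply, e_algebraMap_counit e ε hε]

include hΔ hε hS in
theorem antipode_lTensor_lift :
    (Algebra.TensorProduct.lift (AlgHom.id R E) S (fun _ _ => Commute.all _ _)).comp Δ =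
      (Algebra.ofId R E).comp ε := by
  apply algHom_ext_of_one_tmul_eq (I := I)
  intro x
  apply e.injective
  have hL : ∀ t : E ⊗[R] E, e ((1 : R ⧸ I) ⊗ₜ[R]
      (Algebra.TensorProduct.lift (AlgHom.id R E) S (fun _ _ => Commute.all _ _) t)) =
      LinearMap.mul' (R ⧸ I) E₀ ((HopfAlgebra.antipode (R ⧸ I) (A := E₀)).lTensor E₀
        (red₂ R (R ⧸ I) e e ((1 : R ⧸ I) ⊗ₜ[R] t))) := by
    intro t
    induction t using TensorProduct.induction_on with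
    | zero => simp
    | tmul a b =>
      rw [Algebra.TensorProduct.lift_tmul, AlgHom.id_apply, e_one_tmul_mul, hS, red₂_tmul,
        LinearMap.lTensor_tmul, LinearMap.mul'_apply]
    | add t t' ht ht' => simp only [TensorProduct.tmul_add, map_add, ht, ht']
  change e ((1 : R ⧸ I) ⊗ₜ[R]
      (Algebra.TensorProduct.lift (AlgHom.id R E) S (fun _ _ => Commute.all _ _) (Δ x))) =
    e ((1 : R ⧸ I) ⊗ₜ[R] (algebraMap R E (ε x)))
  rw [hL, hΔ, HopfAlgebra.mul_antipode_lTensor_comul_apply, e_algebraMap_counit e ε hε]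

include hΔ in
theorem comm_lift [Coalgebra.IsCocomm (R ⧸ I) E₀] :
    ((Algebra.TensorProduct.comm R E E) : E ⊗[R] E →ₐ[R] E ⊗[R] E).comp Δ = Δ := by
  apply algHom_ext_of_one_tmul_eq (I := I)
  intro x
  apply (red₂ R (R ⧸ I) e e).injective
  have hL : ∀ t : E ⊗[R] E, red₂ R (R ⧸ I) e e
      ((1 : R ⧸ I) ⊗ₜ[R] (Algebra.TensorProduct.comm R E E t)) =
      TensorProduct.comm (R ⧸ I) E₀ E₀ (red₂ R (R ⧸ I) e e ((1 : R ⧸ I) ⊗ₜ[R] t)) := by
    intro t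
    induction t using TensorProduct.induction_on with
    | zero => simp
    | tmul a b => simp
    | add t t' ht ht' => simp only [TensorProduct.tmul_add, map_add, ht, ht']
  change red₂ R (R ⧸ I) e e ((1 : R ⧸ I) ⊗ₜ[R] (Algebra.TensorProduct.comm R E E (Δ x))) =
    red₂ R (R ⧸ I) e e ((1 : R ⧸ I) ⊗ₜ[R] Δ x)
  rw [hL, hΔ, Coalgebra.comm_comul]

end Axioms

end Lift

end Groth.Agent.Lib.Helper77.HopfLift1
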