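import Mathlib
import Groth.Agent.Lib.Helper77.HopfLift1
import Groth.Agent.Lib.Helper77.HensDual1
import Groth.Agent.Lib.Helper3.FiniteEtalePairLift

set_option autoImplicit false
set_option linter.style.haveILetI false
universe u
open TensorProduct

namespace Groth.Agent.Lib.Helper77.HopfLift2

open Groth.Agent.Lib.Helper77.HopfLift1 Groth.Agent.Lib.Helper77.HensDual1

section Ext

variable {R : Type u} [CommRing R] {k : Type u} [CommRing k] [Algebra R k]
  {E : Type u} [CommRing E] [Algebra R E] {T : Type u} [Semiring T] [Algebra k T]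

lemma algHom_ext_baseChange {f g : k ⊗[R] E →ₐ[k] T}
    (h : ∀ x, f ((1 : k) ⊗ₜ[R] x) = g ((1 : k) ⊗ₜ[R] x)) : f = g := by
  apply AlgHom.ext
  intro z
  induction z using TensorProduct.induction_on with
  | zero => simp
  | tmul c x =>
    have hb : c ⊗ₜ[R] x = c • ((1 : k) ⊗ₜ[R] x) := by
      rw [TensorProduct.smul_tmul', smul_eq_mul, mul_one]
    rw [hb, map_smul, map_smul, h]
  | add y y' hy hy' => simp only [map_add, hy, hy']

end Ext

section Red

variable (R : Type u) [CommRing R] (k : Type u) [CommRing k] [Algebra R k]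
  {A B A₀ B₀ : Type u} [CommRing A] [Algebra R A] [CommRing B] [Algebra R B]
  [CommRing A₀] [Algebra k A₀] [CommRing B₀] [Algebra k B₀]

lemma red₂_eq (eA : k ⊗[R] A ≃ₐ[k] A₀) (eB : k ⊗[R] B ≃ₐ[k] B₀) (z : k ⊗[R] (A ⊗[R] B)) :
    red₂ R k eA eB z = Algebra.TensorProduct.map (eA : k ⊗[R] A →ₐ[k] A₀) (eB : k ⊗[R] B →ₐ[k] B₀)
      (TensorProduct.AlgebraTensorModule.distribBaseChange R k A B z) := by
  induction z using TensorProduct.induction_on with
  | zero => simp
  | tmul c t =>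
    induction t using TensorProduct.induction_on with
    | zero => simp
    | tmul a b => simp
    | add t t' ht ht' => simp only [TensorProduct.tmul_add, map_add, ht, ht']
  | add y y' hy hy' => simp only [map_add, hy, hy']

end Red

/-- **Lifting finite étale commutative cocommutative Hopf algebras along a henselian pair.** -/
theorem exists_hopfAlgebra_lift (R : Type u) [CommRing R] (I : Ideal R) [HenselianRing R I]
    (E₀ : Type u) [CommRing E₀] [HopfAlgebra (R ⧸ I) E₀] [Coalgebra.IsCocomm (R ⧸ I) E₀]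
    [Module.Finite (R ⧸ I) E₀] [Algebra.Etale (R ⧸ I) E₀] :
    ∃ (E : Type u) (_ : CommRing E) (_ : HopfAlgebra R E), Module.Finite R E ∧ Algebra.Etale R E ∧
      Coalgebra.IsCocomm R E ∧ Nonempty (((R ⧸ I) ⊗[R] E) ≃ₐc[R ⧸ I] E₀) := by
  obtain ⟨E, _, _, hfin, het, ⟨e⟩⟩ := Groth.Agent.Lib.Helper3.exists_finite_etale_lift_of_pair R I E₀
  haveI := hfin
  haveI := het
  obtain ⟨Δ, hΔ⟩ := exists_comul (I := I) e
  obtain ⟨ε, hε⟩ := exists_counit (I := I) e
  obtain ⟨S, hS⟩ := exists_antipode (I := I) e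
  letI bi : Bialgebra R E := Bialgebra.ofAlgHom Δ ε (coassoc_lift e Δ hΔ)
    (rTensor_lift e Δ hΔ ε hε) (lTensor_lift e Δ hΔ ε hε)
  have hc : Bialgebra.comulAlgHom R E = Δ := AlgHom.ext fun _ => rfl
  have hu : Bialgebra.counitAlgHom R E = ε := AlgHom.ext fun _ => rfl
  letI : HopfAlgebra R E := HopfAlgebra.ofAlgHom S
    (by rw [hc, hu]; exact antipode_rTensor_lift e Δ hΔ ε hε S hS)
    (by rw [hc, hu]; exact antipode_lTensor_lift e Δ hΔ ε hε S hS)
  refine ⟨E, inferInstance, inferInstance, hfin, het, ⟨?_⟩, ⟨?_⟩⟩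
  · ext x
    exact congrArg (fun f : E →ₐ[R] E ⊗[R] E => f x) (comm_lift e Δ hΔ)
  · refine BialgEquiv.ofAlgEquiv e ?_ ?_
    · apply algHom_ext_baseChange
      intro x
      change Coalgebra.counit (R := R ⧸ I) (e ((1 : R ⧸ I) ⊗ₜ[R] x)) =
        Coalgebra.counit (R := R ⧸ I) ((1 : R ⧸ I) ⊗ₜ[R] x)
      rw [← hε, TensorProduct.counit_tmul]
      change _ = ε x • Coalgebra.counit (R := R ⧸ I) (1 : R ⧸ I)
      simp [Algebra.smul_def]
    · apply algHom_ext_baseChange
      intro x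
      change Algebra.TensorProduct.map (e : (R ⧸ I) ⊗[R] E →ₐ[R ⧸ I] E₀) (e : (R ⧸ I) ⊗[R] E →ₐ[R ⧸ I] E₀)
          (Coalgebra.comul (R := R ⧸ I) ((1 : R ⧸ I) ⊗ₜ[R] x)) =
        Coalgebra.comul (R := R ⧸ I) (e ((1 : R ⧸ I) ⊗ₜ[R] x))
      rw [comul_one_tmul', ← hΔ, red₂_eq]
      rfl

end Groth.Agent.Lib.Helper77.HopfLift2
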