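import Mathlib
import Groth.Agent.Lib.Helper77.FFDescent1
import Groth.Agent.Lib.Helper77.HopfLift2

/-!
# Faithfully flat descent of Hopf algebra structures

If `R → S` is faithfully flat, `E` is an `R`-algebra and `e : S ⊗[R] E ≃ₐ[S] E₀` with `E₀` a Hopf
algebra over `S`, then `R`-algebra maps `Δ, ε, σ` on `E` compatible with the structure maps of `E₀`
make `E` a Hopf algebra over `R` and `e` an isomorphism of bialgebras.
-/

set_option autoImplicit false
set_option linter.style.haveILetI false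
universe u
open TensorProduct

namespace Groth.Agent.Lib.Helper77.FFDescent

open Groth.Agent.Lib.Helper77.HopfLift1 Groth.Agent.Lib.Helper77.HopfLift2
  Groth.Agent.Lib.Helper77.HensDual1

section Ext

variable {R : Type*} [CommRing R] {S : Type*} [CommRing S] [Algebra R S] [Module.FaithfullyFlat R S]
  {A B : Type*} [Semiring A] [Algebra R A] [Ring B] [Algebra R B]

lemma one_tmul_injective (B : Type*) [AddCommGroup B] [Module R B] :
    Function.Injective (fun b : B => (1 : S) ⊗ₜ[R] b) := by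
  intro b b' h
  have h' : (1 : S) ⊗ₜ[R] (b - b') = 0 := by
    rw [TensorProduct.tmul_sub]
    exact sub_eq_zero.mpr h
  exact sub_eq_zero.mp ((Module.FaithfullyFlat.one_tmul_eq_zero_iff R B _).mp h')

theorem algHom_ext_of_one_tmul_eq_ff (σ₁ σ₂ : A →ₐ[R] B)
    (h : ∀ x, (1 : S) ⊗ₜ[R] σ₁ x = (1 : S) ⊗ₜ[R] σ₂ x) : σ₁ = σ₂ :=
  AlgHom.ext fun x => one_tmul_injective (S := S) B (h x)

end Ext

section Lift

variable {R : Type u} [CommRing R] {S : Type u} [CommRing S] [Algebra R S]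
  [Module.FaithfullyFlat R S]
  {E : Type u} [CommRing E] [Algebra R E]
  {E₀ : Type u} [CommRing E₀] [HopfAlgebra S E₀]
  (e : S ⊗[R] E ≃ₐ[S] E₀)

section Axioms

variable (Δ : E →ₐ[R] E ⊗[R] E)
  (hΔ : ∀ x, red₂ R S e e ((1 : S) ⊗ₜ[R] Δ x) =
      Coalgebra.comul (R := S) (e ((1 : S) ⊗ₜ[R] x)))
  (ε : E →ₐ[R] R)
  (hε : ∀ x, algebraMap R S (ε x) = Coalgebra.counit (R := S) (e ((1 : S) ⊗ₜ[R] x)))
  (σ : E →ₐ[R] E)
  (hσ : ∀ x, e ((1 : S) ⊗ₜ[R] σ x) = HopfAlgebra.antipode S (e ((1 : S) ⊗ₜ[R] x)))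

lemma assoc_nat (y : E ⊗[R] E) (b : E) :
    red₂ R S e (red₂ R S e e)
        ((1 : S) ⊗ₜ[R] (Algebra.TensorProduct.assoc R R R E E E (y ⊗ₜ[R] b))) =
      TensorProduct.assoc S E₀ E₀ E₀
        (red₂ R S e e ((1 : S) ⊗ₜ[R] y) ⊗ₜ[S] e ((1 : S) ⊗ₜ[R] b)) := by
  induction y using TensorProduct.induction_on with
  | zero => simp
  | tmul c₁ c₂ => simp
  | add y y' hy hy' => simp only [TensorProduct.add_tmul, TensorProduct.tmul_add, map_add, hy, hy']

include hΔ in
theorem coassoc_lift :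
    (Algebra.TensorProduct.assoc R R R E E E).toAlgHom.comp
      ((Algebra.TensorProduct.map Δ (.id R E)).comp Δ) =
      (Algebra.TensorProduct.map (.id R E) Δ).comp Δ := by
  apply algHom_ext_of_one_tmul_eq_ff (S := S)
  intro x
  apply (red₂ R S e (red₂ R S e e)).injective
  have hL : ∀ t : E ⊗[R] E, red₂ R S e (red₂ R S e e)
      ((1 : S) ⊗ₜ[R] (Algebra.TensorProduct.assoc R R R E E E
        (Algebra.TensorProduct.map Δ (.id R E) t))) =
      TensorProduct.assoc S E₀ E₀ E₀ ((Coalgebra.comul (R := S) (A := E₀)).rTensor E₀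
        (red₂ R S e e ((1 : S) ⊗ₜ[R] t))) := by
    intro t
    induction t using TensorProduct.induction_on with
    | zero => simp
    | tmul a b =>
      rw [Algebra.TensorProduct.map_tmul, AlgHom.id_apply, assoc_nat, hΔ, red₂_tmul,
        LinearMap.rTensor_tmul]
    | add t t' ht ht' => simp only [TensorProduct.tmul_add, map_add, ht, ht']
  have hR : ∀ t : E ⊗[R] E, red₂ R S e (red₂ R S e e)
      ((1 : S) ⊗ₜ[R] (Algebra.TensorProduct.map (.id R E) Δ t)) =
      (Coalgebra.comul (R := S) (A := E₀)).lTensor E₀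
        (red₂ R S e e ((1 : S) ⊗ₜ[R] t)) := by
    intro t
    induction t using TensorProduct.induction_on with
    | zero => simp
    | tmul a b =>
      rw [Algebra.TensorProduct.map_tmul, AlgHom.id_apply, red₂_tmul, hΔ, red₂_tmul,
        LinearMap.lTensor_tmul]
    | add t t' ht ht' => simp only [TensorProduct.tmul_add, map_add, ht, ht']
  change red₂ R S e (red₂ R S e e)
      ((1 : S) ⊗ₜ[R] (Algebra.TensorProduct.assoc R R R E E E
        (Algebra.TensorProduct.map Δ (.id R E) (Δ x)))) =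
    red₂ R S e (red₂ R S e e)
      ((1 : S) ⊗ₜ[R] (Algebra.TensorProduct.map (.id R E) Δ (Δ x)))
  rw [hL, hR, hΔ]
  exact Coalgebra.coassoc_apply (R := S) (e ((1 : S) ⊗ₜ[R] x))

include hε in
lemma rid_counit (a : E) :
    Algebra.TensorProduct.rid R S S ((1 : S) ⊗ₜ[R] ε a) =
      Coalgebra.counit (R := S) (e ((1 : S) ⊗ₜ[R] a)) := by
  rw [← hε]
  simp [Algebra.smul_def]

include hΔ hε in
theorem rTensor_lift :
    (Algebra.TensorProduct.map ε (.id R E)).comp Δ = (Algebra.TensorProduct.lid R E).symm := by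
  apply algHom_ext_of_one_tmul_eq_ff (S := S)
  intro x
  apply (red₂ R S (Algebra.TensorProduct.rid R S S) e).injective
  have hL : ∀ t : E ⊗[R] E, red₂ R S (Algebra.TensorProduct.rid R S S) e
      ((1 : S) ⊗ₜ[R] (Algebra.TensorProduct.map ε (.id R E) t)) =
      (Coalgebra.counit (R := S) (A := E₀)).rTensor E₀
        (red₂ R S e e ((1 : S) ⊗ₜ[R] t)) := by
    intro t
    induction t using TensorProduct.induction_on with
    | zero => simp
    | tmul a b =>
      rw [Algebra.TensorProduct.map_tmul, AlgHom.id_apply, red₂_tmul, rid_counit e ε hε, red₂_tmul,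
        LinearMap.rTensor_tmul]
    | add t t' ht ht' => simp only [TensorProduct.tmul_add, map_add, ht, ht']
  change red₂ R S (Algebra.TensorProduct.rid R S S) e
      ((1 : S) ⊗ₜ[R] (Algebra.TensorProduct.map ε (.id R E) (Δ x))) =
    red₂ R S (Algebra.TensorProduct.rid R S S) e
      ((1 : S) ⊗ₜ[R] ((Algebra.TensorProduct.lid R E).symm x))
  rw [hL, hΔ, Coalgebra.rTensor_counit_comul]
  simp

include hΔ hε in
theorem lTensor_lift :
    (Algebra.TensorProduct.map (.id R E) ε).comp Δ = (Algebra.TensorProduct.rid R R E).symm := by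
  apply algHom_ext_of_one_tmul_eq_ff (S := S)
  intro x
  apply (red₂ R S e (Algebra.TensorProduct.rid R S S)).injective
  have hL : ∀ t : E ⊗[R] E, red₂ R S e (Algebra.TensorProduct.rid R S S)
      ((1 : S) ⊗ₜ[R] (Algebra.TensorProduct.map (.id R E) ε t)) =
      (Coalgebra.counit (R := S) (A := E₀)).lTensor E₀
        (red₂ R S e e ((1 : S) ⊗ₜ[R] t)) := by
    intro t
    induction t using TensorProduct.induction_on with
    | zero => simp
    | tmul a b =>
      rw [Algebra.TensorProduct.map_tmul, AlgHom.id_apply, red₂_tmul, rid_counit e ε hε, red₂_tmul,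
        LinearMap.lTensor_tmul]
    | add t t' ht ht' => simp only [TensorProduct.tmul_add, map_add, ht, ht']
  change red₂ R S e (Algebra.TensorProduct.rid R S S)
      ((1 : S) ⊗ₜ[R] (Algebra.TensorProduct.map (.id R E) ε (Δ x))) =
    red₂ R S e (Algebra.TensorProduct.rid R S S)
      ((1 : S) ⊗ₜ[R] ((Algebra.TensorProduct.rid R R E).symm x))
  rw [hL, hΔ, Coalgebra.lTensor_counit_comul]
  simp

lemma e_one_tmul_mul (a b : E) : e ((1 : S) ⊗ₜ[R] (a * b)) =
    e ((1 : S) ⊗ₜ[R] a) * e ((1 : S) ⊗ₜ[R] b) := by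
  rw [← map_mul, Algebra.TensorProduct.tmul_mul_tmul, one_mul]

include hε in
lemma e_algebraMap_counit (x : E) : e ((1 : S) ⊗ₜ[R] (algebraMap R E (ε x))) =
    algebraMap S E₀ (Coalgebra.counit (R := S) (e ((1 : S) ⊗ₜ[R] x))) := by
  rw [← hε, Algebra.algebraMap_eq_smul_one, TensorProduct.tmul_smul, TensorProduct.smul_tmul']
  have : ε x • (1 : S) = algebraMap R S (ε x) := by simp [Algebra.smul_def]
  rw [this, Algebra.algebraMap_eq_smul_one (algebraMap R S (ε x)), ← map_one e, ← map_smul,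
    Algebra.TensorProduct.one_def, TensorProduct.smul_tmul', smul_eq_mul, mul_one]

include hΔ hε hσ in
theorem antipode_rTensor_lift :
    (Algebra.TensorProduct.lift σ (AlgHom.id R E) (fun _ _ => Commute.all _ _)).comp Δ =
      (Algebra.ofId R E).comp ε := by
  apply algHom_ext_of_one_tmul_eq_ff (S := S)
  intro x
  apply e.injective
  have hL : ∀ t : E ⊗[R] E, e ((1 : S) ⊗ₜ[R]
      (Algebra.TensorProduct.lift σ (AlgHom.id R E) (fun _ _ => Commute.all _ _) t)) =
      LinearMap.mul' S E₀ ((HopfAlgebra.antipode S (A := E₀)).rTensor E₀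
        (red₂ R S e e ((1 : S) ⊗ₜ[R] t))) := by
    intro t
    induction t using TensorProduct.induction_on with
    | zero => simp
    | tmul a b =>
      rw [Algebra.TensorProduct.lift_tmul, AlgHom.id_apply, e_one_tmul_mul, hσ, red₂_tmul,
        LinearMap.rTensor_tmul, LinearMap.mul'_apply]
    | add t t' ht ht' => simp only [TensorProduct.tmul_add, map_add, ht, ht']
  change e ((1 : S) ⊗ₜ[R]
      (Algebra.TensorProduct.lift σ (AlgHom.id R E) (fun _ _ => Commute.all _ _) (Δ x))) =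
    e ((1 : S) ⊗ₜ[R] (algebraMap R E (ε x)))
  rw [hL, hΔ, HopfAlgebra.mul_antipode_rTensor_comul_apply, e_algebraMap_counit e ε hε]

include hΔ hε hσ in
theorem antipode_lTensor_lift :
    (Algebra.TensorProduct.lift (AlgHom.id R E) σ (fun _ _ => Commute.all _ _)).comp Δ =
      (Algebra.ofId R E).comp ε := by
  apply algHom_ext_of_one_tmul_eq_ff (S := S)
  intro x
  apply e.injective
  have hL : ∀ t : E ⊗[R] E, e ((1 : S) ⊗ₜ[R]
      (Algebra.TensorProduct.lift (AlgHom.id R E) σ (fun _ _ => Commute.all _ _) t)) =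
      LinearMap.mul' S E₀ ((HopfAlgebra.antipode S (A := E₀)).lTensor E₀
        (red₂ R S e e ((1 : S) ⊗ₜ[R] t))) := by
    intro t
    induction t using TensorProduct.induction_on with
    | zero => simp
    | tmul a b =>
      rw [Algebra.TensorProduct.lift_tmul, AlgHom.id_apply, e_one_tmul_mul, hσ, red₂_tmul,
        LinearMap.lTensor_tmul, LinearMap.mul'_apply]
    | add t t' ht ht' => simp only [TensorProduct.tmul_add, map_add, ht, ht']
  change e ((1 : S) ⊗ₜ[R]
      (Algebra.TensorProduct.lift (AlgHom.id R E) σ (fun _ _ => Commute.all _ _) (Δ x))) =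
    e ((1 : S) ⊗ₜ[R] (algebraMap R E (ε x)))
  rw [hL, hΔ, HopfAlgebra.mul_antipode_lTensor_comul_apply, e_algebraMap_counit e ε hε]

include hΔ in
theorem comm_lift [Coalgebra.IsCocomm S E₀] :
    ((Algebra.TensorProduct.comm R E E) : E ⊗[R] E →ₐ[R] E ⊗[R] E).comp Δ = Δ := by
  apply algHom_ext_of_one_tmul_eq_ff (S := S)
  intro x
  apply (red₂ R S e e).injective
  have hL : ∀ t : E ⊗[R] E, red₂ R S e e
      ((1 : S) ⊗ₜ[R] (Algebra.TensorProduct.comm R E E t)) =
      TensorProduct.comm S E₀ E₀ (red₂ R S e e ((1 : S) ⊗ₜ[R] t)) := by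
    intro t
    induction t using TensorProduct.induction_on with
    | zero => simp
    | tmul a b => simp
    | add t t' ht ht' => simp only [TensorProduct.tmul_add, map_add, ht, ht']
  change red₂ R S e e ((1 : S) ⊗ₜ[R] (Algebra.TensorProduct.comm R E E (Δ x))) =
    red₂ R S e e ((1 : S) ⊗ₜ[R] Δ x)
  rw [hL, hΔ, Coalgebra.comm_comul]

end Axioms
section Structure

variable (Δ : E →ₐ[R] E ⊗[R] E)
  (hΔ : ∀ x, red₂ R S e e ((1 : S) ⊗ₜ[R] Δ x) =
      Coalgebra.comul (R := S) (e ((1 : S) ⊗ₜ[R] x)))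
  (ε : E →ₐ[R] R)
  (hε : ∀ x, algebraMap R S (ε x) = Coalgebra.counit (R := S) (e ((1 : S) ⊗ₜ[R] x)))
  (σ : E →ₐ[R] E)
  (hσ : ∀ x, e ((1 : S) ⊗ₜ[R] σ x) = HopfAlgebra.antipode S (e ((1 : S) ⊗ₜ[R] x)))

/-- the descended bialgebra structure. -/
@[reducible] noncomputable def bialgebraOfDescent : Bialgebra R E :=
  Bialgebra.ofAlgHom Δ ε (coassoc_lift e Δ hΔ)
    (rTensor_lift e Δ hΔ ε hε) (lTensor_lift e Δ hΔ ε hε)

/-- the descended Hopf algebra structure. -/
@[reducible] noncomputable def hopfAlgebraOfDescent : HopfAlgebra R E :=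
  letI bi : Bialgebra R E := bialgebraOfDescent e Δ hΔ ε hε
  have hc : Bialgebra.comulAlgHom R E = Δ := AlgHom.ext fun _ => rfl
  have hu : Bialgebra.counitAlgHom R E = ε := AlgHom.ext fun _ => rfl
  HopfAlgebra.ofAlgHom σ
    (by rw [hc, hu]; exact antipode_rTensor_lift e Δ hΔ ε hε σ hσ)
    (by rw [hc, hu]; exact antipode_lTensor_lift e Δ hΔ ε hε σ hσ)

/-- the comparison isomorphism is an isomorphism of bialgebras. -/
noncomputable def bialgEquivOfDescent :
    letI := hopfAlgebraOfDescent e Δ hΔ ε hε σ hσ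
    (S ⊗[R] E) ≃ₐc[S] E₀ := by
  letI := hopfAlgebraOfDescent e Δ hΔ ε hε σ hσ
  refine BialgEquiv.ofAlgEquiv e ?_ ?_
  · apply algHom_ext_baseChange
    intro x
    change Coalgebra.counit (R := S) (e ((1 : S) ⊗ₜ[R] x)) =
      Coalgebra.counit (R := S) ((1 : S) ⊗ₜ[R] x)
    rw [← hε, TensorProduct.counit_tmul]
    change _ = ε x • Coalgebra.counit (R := S) (1 : S)
    simp [Algebra.smul_def]
  · apply algHom_ext_baseChange
    intro x
    change Algebra.TensorProduct.map (e : S ⊗[R] E →ₐ[S] E₀) (e : S ⊗[R] E →ₐ[S] E₀)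
        (Coalgebra.comul (R := S) ((1 : S) ⊗ₜ[R] x)) =
      Coalgebra.comul (R := S) (e ((1 : S) ⊗ₜ[R] x))
    rw [comul_one_tmul', ← hΔ, red₂_eq]
    rfl

lemma bialgEquivOfDescent_apply (z : S ⊗[R] E) :
    letI := hopfAlgebraOfDescent e Δ hΔ ε hε σ hσ
    bialgEquivOfDescent e Δ hΔ ε hε σ hσ z = e z := rfl

end Structure

end Lift

section Factor

variable {R : Type*} [CommSemiring R] {X Y Z : Type*} [Semiring X] [Algebra R X]
  [Semiring Y] [Algebra R Y] [Semiring Z] [Algebra R Z]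

/-- factoring an algebra map through an injective one. -/
lemma exists_algHom_factor (Ψ : X →ₐ[R] Y) (hΨ : Function.Injective Ψ) (f : Z →ₐ[R] Y)
    (h : ∀ z, f z ∈ Ψ.range) : ∃ g : Z →ₐ[R] X, ∀ z, Ψ (g z) = f z := by
  refine ⟨((AlgEquiv.ofInjective Ψ hΨ).symm : Ψ.range →ₐ[R] X).comp (f.codRestrict Ψ.range h), ?_⟩
  intro z
  have := (AlgEquiv.ofInjective Ψ hΨ).apply_symm_apply (f.codRestrict Ψ.range h z)
  exact congrArg Subtype.val this

end Factor

section HopfDatum

variable {R : Type u} [CommRing R] {S : Type u} [CommRing S] [Algebra R S]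
  {N : Type u} [CommRing N] [HopfAlgebra S N] [Algebra R N] [IsScalarTower R S N]

/-- `S ⊗ f` as an `S`-algebra map. -/
noncomputable abbrev mapL {N₁ N₂ : Type u} [CommRing N₁] [Algebra S N₁] [Algebra R N₁]
    [IsScalarTower R S N₁] [CommRing N₂] [Algebra S N₂] [Algebra R N₂]
    [IsScalarTower R S N₂] (f : N₁ →ₐ[S] N₂) : S ⊗[R] N₁ →ₐ[S] S ⊗[R] N₂ :=
  Algebra.TensorProduct.map (AlgHom.id S S) (f.restrictScalars R)

/-- the induced datum on `N ⊗[S] N`. -/
noncomputable def rho₂ (ρ : N →ₐ[S] S ⊗[R] N) : N ⊗[S] N →ₐ[S] S ⊗[R] (N ⊗[S] N) :=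
  Algebra.TensorProduct.lift
    ((mapL (Algebra.TensorProduct.includeLeft : N →ₐ[S] N ⊗[S] N)).comp ρ)
    ((mapL (Algebra.TensorProduct.includeRight : N →ₐ[S] N ⊗[S] N)).comp ρ)
    (fun _ _ => Commute.all _ _)

lemma rho₂_tmul (ρ : N →ₐ[S] S ⊗[R] N) (a b : N) :
    rho₂ ρ (a ⊗ₜ[S] b) =
      mapL (Algebra.TensorProduct.includeLeft : N →ₐ[S] N ⊗[S] N) (ρ a) *
        mapL (Algebra.TensorProduct.includeRight : N →ₐ[S] N ⊗[S] N) (ρ b) := by
  simp [rho₂]

/-- a descent datum compatible with the Hopf algebra structure. -/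
structure IsHopfDescentDatum (ρ : N →ₐ[S] S ⊗[R] N) : Prop where
  dd : IsDescentDatum ρ.toLinearMap
  comul : ∀ n, rho₂ ρ (Coalgebra.comul (R := S) n) =
    mapL (Bialgebra.comulAlgHom S N) (ρ n)
  counit : ∀ n, mapL (Bialgebra.counitAlgHom S N) (ρ n) =
    Coalgebra.counit (R := S) n ⊗ₜ[R] (1 : S)
  antipode : ∀ n, ρ (HopfAlgebra.antipode S n) = mapL (HopfAlgebra.antipodeAlgHom S N) (ρ n)

/-- the algebra of invariants. -/
noncomputable def invA (ρ : N →ₐ[S] S ⊗[R] N) : Subalgebra R N :=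
  AlgHom.equalizer (ρ.restrictScalars R) (Algebra.TensorProduct.includeRight : N →ₐ[R] S ⊗[R] N)

lemma mem_invA {ρ : N →ₐ[S] S ⊗[R] N} {n : N} : n ∈ invA ρ ↔ ρ n = (1 : S) ⊗ₜ[R] n := Iff.rfl

/-- comparison with the module of invariants. -/
noncomputable def invAEquiv (ρ : N →ₐ[S] S ⊗[R] N) : invA ρ ≃ₗ[R] inv ρ.toLinearMap :=
  LinearEquiv.ofEq (Subalgebra.toSubmodule (invA ρ)) (inv ρ.toLinearMap) (by ext n; exact Iff.rfl)

@[simp] lemma invAEquiv_coe (ρ : N →ₐ[S] S ⊗[R] N) (k : invA ρ) :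
    (invAEquiv ρ k : N) = k := rfl

/-- the comparison map as an algebra map. -/
noncomputable def thetaA (ρ : N →ₐ[S] S ⊗[R] N) : S ⊗[R] invA ρ →ₐ[S] N :=
  Algebra.TensorProduct.lift (Algebra.ofId S N) (invA ρ).val (fun _ _ => Commute.all _ _)

@[simp] lemma thetaA_tmul (ρ : N →ₐ[S] S ⊗[R] N) (s : S) (k : invA ρ) :
    thetaA ρ (s ⊗ₜ[R] k) = s • (k : N) := by
  simp [thetaA, Algebra.smul_def]

lemma thetaA_eq (ρ : N →ₐ[S] S ⊗[R] N) (z : S ⊗[R] invA ρ) :
    thetaA ρ z = theta ρ.toLinearMap (LinearMap.lTensor S (invAEquiv ρ).toLinearMap z) := by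
  induction z using TensorProduct.induction_on with
  | zero => simp
  | tmul s k => simp
  | add x y hx hy => simp only [map_add, hx, hy]

theorem thetaA_bijective [Module.Flat R S] {ρ : N →ₐ[S] S ⊗[R] N}
    (hρ : IsDescentDatum ρ.toLinearMap) : Function.Bijective (thetaA ρ) := by
  have h1 : Function.Bijective (LinearMap.lTensor S (invAEquiv ρ).toLinearMap) :=
    (LinearEquiv.lTensor S (invAEquiv ρ)).bijective
  have h2 := (theta_bijective hρ).comp h1
  convert h2 using 1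
  funext z
  exact thetaA_eq ρ z

/-- the comparison isomorphism. -/
noncomputable def eA [Module.Flat R S] {ρ : N →ₐ[S] S ⊗[R] N}
    (hρ : IsDescentDatum ρ.toLinearMap) : S ⊗[R] invA ρ ≃ₐ[S] N :=
  AlgEquiv.ofBijective (thetaA ρ) (thetaA_bijective hρ)

@[simp] lemma eA_tmul [Module.Flat R S] {ρ : N →ₐ[S] S ⊗[R] N}
    (hρ : IsDescentDatum ρ.toLinearMap) (s : S) (k : invA ρ) :
    eA hρ (s ⊗ₜ[R] k) = s • (k : N) := thetaA_tmul ρ s k

section Exists

variable [Module.FaithfullyFlat R S] {ρ : N →ₐ[S] S ⊗[R] N} (hρ : IsHopfDescentDatum ρ)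

lemma rho_smul_coe (s : S) (k : invA ρ) : ρ (s • (k : N)) = s ⊗ₜ[R] (k : N) := by
  rw [map_smul, mem_invA.mp k.2, TensorProduct.smul_tmul', smul_eq_mul, mul_one]

include hρ in
lemma rho₂_red₂ (w : S ⊗[R] (invA ρ ⊗[R] invA ρ)) :
    rho₂ ρ (red₂ R S (eA hρ.dd) (eA hρ.dd) w) =
      LinearMap.lTensor S ((red₂ R S (eA hρ.dd) (eA hρ.dd)).toLinearMap.restrictScalars R)
        (canRho R S (invA ρ ⊗[R] invA ρ) w) := by
  induction w using TensorProduct.induction_on with
  | zero => simp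
  | tmul s x =>
    induction x using TensorProduct.induction_on with
    | zero => simp
    | tmul k₁ k₂ =>
      rw [red₂_tmul, eA_tmul, eA_tmul, rho₂_tmul, rho_smul_coe, rho_smul_coe, canRho_tmul,
        LinearMap.lTensor_tmul]
      simp only [mapL, Algebra.TensorProduct.map_tmul, AlgHom.id_apply,
        AlgHom.coe_restrictScalars', Algebra.TensorProduct.includeLeft_apply,
        Algebra.TensorProduct.includeRight_apply, Algebra.TensorProduct.tmul_mul_tmul, mul_one,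
        one_mul, LinearMap.coe_restrictScalars, AlgEquiv.toLinearMap_apply, red₂_tmul, eA_tmul,
        one_smul]
    | add x y hx hy => simp only [TensorProduct.tmul_add, map_add, hx, hy]
  | add x y hx hy => simp only [map_add, hx, hy]

include hρ in
lemma exists_comul : ∃ Δ : invA ρ →ₐ[R] invA ρ ⊗[R] invA ρ, ∀ x,
    red₂ R S (eA hρ.dd) (eA hρ.dd) ((1 : S) ⊗ₜ[R] Δ x) =
      Coalgebra.comul (R := S) (eA hρ.dd ((1 : S) ⊗ₜ[R] x)) := by
  set e := eA hρ.dd with he
  let Ψ : invA ρ ⊗[R] invA ρ →ₐ[R] N ⊗[S] N :=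
    (((red₂ R S e e) : S ⊗[R] (invA ρ ⊗[R] invA ρ) →ₐ[S] N ⊗[S] N).restrictScalars R).comp
      Algebra.TensorProduct.includeRight
  have hΨ : Function.Injective Ψ :=
    (red₂ R S e e).injective.comp (one_tmul_injective (S := S) _)
  let f : invA ρ →ₐ[R] N ⊗[S] N :=
    ((Bialgebra.comulAlgHom S N).restrictScalars R).comp (invA ρ).val
  have hf : ∀ k, f k ∈ Ψ.range := by
    intro k
    set w := (red₂ R S e e).symm (Coalgebra.comul (R := S) (k : N)) with hw
    have hw' : red₂ R S e e w = Coalgebra.comul (R := S) (k : N) :=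
      (red₂ R S e e).apply_symm_apply _
    have h1 : rho₂ ρ (Coalgebra.comul (R := S) (k : N)) =
        (1 : S) ⊗ₜ[R] Coalgebra.comul (R := S) (k : N) := by
      rw [hρ.comul, mem_invA.mp k.2]
      simp [mapL]
    have h2 : LinearMap.lTensor S ((red₂ R S e e).toLinearMap.restrictScalars R)
          (canRho R S (invA ρ ⊗[R] invA ρ) w) =
        LinearMap.lTensor S ((red₂ R S e e).toLinearMap.restrictScalars R) ((1 : S) ⊗ₜ[R] w) := by
      rw [← rho₂_red₂ hρ, hw', h1, LinearMap.lTensor_tmul]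
      simp [hw']
    have h3 : canRho R S (invA ρ ⊗[R] invA ρ) w = (1 : S) ⊗ₜ[R] w :=
      (LinearEquiv.lTensor S ((red₂ R S e e).toLinearEquiv.restrictScalars R)).injective h2
    obtain ⟨x, hx⟩ := exists_one_tmul_of_mem_inv_canRho R S _ (mem_inv.mpr h3)
    refine ⟨x, ?_⟩
    show red₂ R S e e ((1 : S) ⊗ₜ[R] x) = _
    rw [hx, hw']
    rfl
  obtain ⟨Δ, hΔ⟩ := exists_algHom_factor Ψ hΨ f hf
  refine ⟨Δ, fun x => ?_⟩
  rw [eA_tmul, one_smul]
  exact hΔ x

include hρ in
lemma exists_counit : ∃ ε : invA ρ →ₐ[R] R, ∀ x,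
    algebraMap R S (ε x) = Coalgebra.counit (R := S) (eA hρ.dd ((1 : S) ⊗ₜ[R] x)) := by
  let f : invA ρ →ₐ[R] S := ((Bialgebra.counitAlgHom S N).restrictScalars R).comp (invA ρ).val
  have hinj : Function.Injective (Algebra.ofId R S) := FaithfulSMul.algebraMap_injective R S
  have hf : ∀ k, f k ∈ (Algebra.ofId R S).range := by
    intro k
    have h1 := hρ.counit (k : N)
    rw [mem_invA.mp k.2] at h1
    have h2 : (1 : S) ⊗ₜ[R] Coalgebra.counit (R := S) (k : N) =
        Coalgebra.counit (R := S) (k : N) ⊗ₜ[R] (1 : S) := by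
      simpa [mapL] using h1
    have h3 : Algebra.TensorProduct.includeLeftSubRight R S (Coalgebra.counit (R := S) (k : N)) = 0 := by
      rw [Algebra.TensorProduct.includeLeftSubRight_apply, h2, sub_self]
    obtain ⟨r, hr⟩ := ((Algebra.IsEffective.of_faithfullyFlat R S) _).mp h3
    exact ⟨r, hr⟩
  obtain ⟨ε, hε⟩ := exists_algHom_factor (Algebra.ofId R S) hinj f hf
  refine ⟨ε, fun x => ?_⟩
  rw [eA_tmul, one_smul]
  exact hε x

include hρ in
lemma exists_antipode : ∃ σ : invA ρ →ₐ[R] invA ρ, ∀ x,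
    eA hρ.dd ((1 : S) ⊗ₜ[R] σ x) =
      HopfAlgebra.antipode S (eA hρ.dd ((1 : S) ⊗ₜ[R] x)) := by
  let f : invA ρ →ₐ[R] N := ((HopfAlgebra.antipodeAlgHom S N).restrictScalars R).comp (invA ρ).val
  have hf : ∀ k, f k ∈ (invA ρ).val.range := by
    intro k
    refine ⟨⟨HopfAlgebra.antipode S (k : N), ?_⟩, rfl⟩
    rw [mem_invA, hρ.antipode, mem_invA.mp k.2]
    simp [mapL]
  obtain ⟨σ, hσ⟩ := exists_algHom_factor (invA ρ).val Subtype.val_injective f hf
  refine ⟨σ, fun x => ?_⟩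
  rw [eA_tmul, one_smul, eA_tmul, one_smul]
  exact hσ x

end Exists

end HopfDatum

end Groth.Agent.Lib.Helper77.FFDescent
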