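import Mathlib
import Groth.Agent.Lib.Helper77.FFDescent2
import Groth.Agent.Lib.Helper77.MultMono

/-!
# The canonical Hopf descent datum and transport along bialgebra isomorphisms
-/

set_option autoImplicit false
set_option linter.style.haveILetI false
universe u
open TensorProduct

namespace Groth.Agent.Lib.Helper77.FFDescent

open Groth.Agent.Lib.Helper77.HopfLift1 Groth.Agent.Lib.Helper77.HopfLift2
  Groth.Agent.Lib.Helper77.HensDual1

section Canonical

variable (R : Type u) [CommRing R] (S : Type u) [CommRing S] [Algebra R S]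
  (A : Type u) [CommRing A] [HopfAlgebra R A]

/-- the canonical descent datum on `S ⊗[R] A` as an algebra map. -/
noncomputable def canRhoAlg : S ⊗[R] A →ₐ[S] S ⊗[R] (S ⊗[R] A) :=
  Algebra.TensorProduct.map (AlgHom.id S S) (Algebra.TensorProduct.includeRight : A →ₐ[R] S ⊗[R] A)

@[simp] lemma canRhoAlg_tmul (s : S) (a : A) :
    canRhoAlg R S A (s ⊗ₜ[R] a) = s ⊗ₜ[R] ((1 : S) ⊗ₜ[R] a) := by
  simp [canRhoAlg]

lemma canRhoAlg_toLinearMap : (canRhoAlg R S A).toLinearMap = canRho R S A := by
  ext a
  simp

lemma canRhoAlg_apply (z : S ⊗[R] A) : canRhoAlg R S A z = canRho R S A z :=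
  congrArg (fun f => f z) (canRhoAlg_toLinearMap R S A)

lemma rho₂_canRhoAlg_distrib (z : A ⊗[R] A) :
    rho₂ (canRhoAlg R S A)
        (TensorProduct.AlgebraTensorModule.distribBaseChange R S A A ((1 : S) ⊗ₜ[R] z)) =
      (1 : S) ⊗ₜ[R] (TensorProduct.AlgebraTensorModule.distribBaseChange R S A A ((1 : S) ⊗ₜ[R] z)) := by
  induction z using TensorProduct.induction_on with
  | zero => simp
  | tmul a₁ a₂ =>
    simp [rho₂_tmul, mapL]
  | add x y hx hy => simp only [TensorProduct.tmul_add, map_add, hx, hy]

theorem isHopfDescentDatum_canRhoAlg : IsHopfDescentDatum (canRhoAlg R S A) where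
  dd := by
    rw [canRhoAlg_toLinearMap]
    exact isDescentDatum_canRho R S A
  comul := by
    intro n
    induction n using TensorProduct.induction_on with
    | zero => simp
    | tmul s a =>
      have hb : s ⊗ₜ[R] a = s • ((1 : S) ⊗ₜ[R] a) := by
        rw [TensorProduct.smul_tmul', smul_eq_mul, mul_one]
      rw [hb, map_smul, map_smul, map_smul, map_smul]
      congr 1
      rw [comul_one_tmul', rho₂_canRhoAlg_distrib, canRhoAlg_tmul]
      simp only [mapL, Algebra.TensorProduct.map_tmul, AlgHom.id_apply, AlgHom.coe_restrictScalars',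
        Bialgebra.comulAlgHom_apply]
      rw [comul_one_tmul']
    | add x y hx hy => simp only [map_add, hx, hy]
  counit := by
    intro n
    induction n using TensorProduct.induction_on with
    | zero => simp
    | tmul s a =>
      simp only [canRhoAlg_tmul, mapL, Algebra.TensorProduct.map_tmul, AlgHom.id_apply,
        AlgHom.coe_restrictScalars', Bialgebra.counitAlgHom_apply, TensorProduct.counit_tmul]
      simp [TensorProduct.smul_tmul]
    | add x y hx hy => simp only [map_add, hx, hy, TensorProduct.add_tmul]
  antipode := by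
    intro n
    induction n using TensorProduct.induction_on with
    | zero => simp
    | tmul s a =>
      simp [mapL]
    | add x y hx hy => simp only [map_add, hx, hy]

end Canonical

section Transport

variable {R : Type u} [CommRing R] {S : Type u} [CommRing S] [Algebra R S]
  {N : Type u} [CommRing N] [HopfAlgebra S N] [Algebra R N] [IsScalarTower R S N]
  {N' : Type u} [CommRing N'] [HopfAlgebra S N'] [Algebra R N'] [IsScalarTower R S N']

lemma act_mapL (f : N →ₐ[S] N') (z : S ⊗[R] N) :
    act R S N' (mapL (R := R) f z) = f (act R S N z) := by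
  induction z using TensorProduct.induction_on with
  | zero => simp
  | tmul s n => simp [mapL]
  | add x y hx hy => simp only [map_add, hx, hy]

/-- transport of a datum along a bialgebra isomorphism. -/
noncomputable def transport (f : N ≃ₐc[S] N') (ρ : N →ₐ[S] S ⊗[R] N) : N' →ₐ[S] S ⊗[R] N' :=
  ((mapL (R := R) (f.toAlgEquiv : N →ₐ[S] N')).comp ρ).comp (f.symm.toAlgEquiv : N' →ₐ[S] N)

lemma transport_apply (f : N ≃ₐc[S] N') (ρ : N →ₐ[S] S ⊗[R] N) (n' : N') :
    transport f ρ n' = mapL (R := R) (f.toAlgEquiv : N →ₐ[S] N') (ρ (f.symm n')) := rfl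

lemma transport_apply' (f : N ≃ₐc[S] N') (ρ : N →ₐ[S] S ⊗[R] N) (n : N) :
    transport f ρ (f n) = mapL (R := R) (f.toAlgEquiv : N →ₐ[S] N') (ρ n) := by
  rw [transport_apply, f.symm_apply_apply]

lemma mapL_injective (f : N ≃ₐc[S] N') :
    Function.Injective (mapL (R := R) (f.toAlgEquiv : N →ₐ[S] N')) := by
  have h : Function.LeftInverse (mapL (R := R) (f.symm.toAlgEquiv : N' →ₐ[S] N))
      (mapL (R := R) (f.toAlgEquiv : N →ₐ[S] N')) := by
    intro z
    induction z using TensorProduct.induction_on with
    | zero => simp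
    | tmul s n => simp [mapL]
    | add x y hx hy => simp only [map_add, hx, hy]
  exact h.injective

lemma mem_invA_transport (f : N ≃ₐc[S] N') (ρ : N →ₐ[S] S ⊗[R] N) (n : N) :
    f n ∈ invA (transport f ρ) ↔ n ∈ invA ρ := by
  rw [mem_invA, mem_invA, transport_apply']
  have h1 : (1 : S) ⊗ₜ[R] f n = mapL (R := R) (f.toAlgEquiv : N →ₐ[S] N') ((1 : S) ⊗ₜ[R] n) := by
    simp [mapL]
  rw [h1]
  exact (mapL_injective f).eq_iff

end Transport

section Transport2

variable {R : Type u} [CommRing R] {S : Type u} [CommRing S] [Algebra R S]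
  {N : Type u} [CommRing N] [HopfAlgebra S N] [Algebra R N] [IsScalarTower R S N]
  {N' : Type u} [CommRing N'] [HopfAlgebra S N'] [Algebra R N'] [IsScalarTower R S N']

lemma lTensor_transport_mapL (f : N ≃ₐc[S] N') (ρ : N →ₐ[S] S ⊗[R] N) (z : S ⊗[R] N) :
    LinearMap.lTensor S ((transport f ρ).toLinearMap.restrictScalars R)
        (mapL (R := R) (f.toAlgEquiv : N →ₐ[S] N') z) =
      LinearMap.lTensor S ((mapL (R := R) (f.toAlgEquiv : N →ₐ[S] N')).toLinearMap.restrictScalars R)
        (LinearMap.lTensor S (ρ.toLinearMap.restrictScalars R) z) := by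
  induction z using TensorProduct.induction_on with
  | zero => simp
  | tmul s n =>
    simp only [mapL, Algebra.TensorProduct.map_tmul, AlgHom.id_apply, AlgHom.coe_restrictScalars',
      LinearMap.lTensor_tmul, LinearMap.coe_restrictScalars, AlgHom.toLinearMap_apply]
    congr 1
    exact transport_apply' f ρ n
  | add x y hx hy => simp only [map_add, hx, hy]

lemma lTensor_mk_mapL (f : N ≃ₐc[S] N') (z : S ⊗[R] N) :
    LinearMap.lTensor S (TensorProduct.mk R S N' 1)
        (mapL (R := R) (f.toAlgEquiv : N →ₐ[S] N') z) =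
      LinearMap.lTensor S ((mapL (R := R) (f.toAlgEquiv : N →ₐ[S] N')).toLinearMap.restrictScalars R)
        (LinearMap.lTensor S (TensorProduct.mk R S N 1) z) := by
  induction z using TensorProduct.induction_on with
  | zero => simp
  | tmul s n =>
    simp [mapL]
  | add x y hx hy => simp only [map_add, hx, hy]

lemma rho₂_transport_map (f : N ≃ₐc[S] N') (ρ : N →ₐ[S] S ⊗[R] N) (w : N ⊗[S] N) :
    rho₂ (transport f ρ) (Algebra.TensorProduct.map (f.toAlgEquiv : N →ₐ[S] N')
        (f.toAlgEquiv : N →ₐ[S] N') w) =
      mapL (R := R) (Algebra.TensorProduct.map (f.toAlgEquiv : N →ₐ[S] N')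
        (f.toAlgEquiv : N →ₐ[S] N')) (rho₂ ρ w) := by
  have key : ∀ (g : N →ₐ[S] N ⊗[S] N) (g' : N' →ₐ[S] N' ⊗[S] N')
      (hg : ∀ n, Algebra.TensorProduct.map (f.toAlgEquiv : N →ₐ[S] N')
        (f.toAlgEquiv : N →ₐ[S] N') (g n) = g' (f n)) (z : S ⊗[R] N),
      mapL (R := R) g' (mapL (R := R) (f.toAlgEquiv : N →ₐ[S] N') z) =
        mapL (R := R) (Algebra.TensorProduct.map (f.toAlgEquiv : N →ₐ[S] N')
          (f.toAlgEquiv : N →ₐ[S] N')) (mapL (R := R) g z) := by
    intro g g' hg z
    induction z using TensorProduct.induction_on with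
    | zero => simp
    | tmul s n =>
      simp only [mapL, Algebra.TensorProduct.map_tmul, AlgHom.id_apply, AlgHom.coe_restrictScalars']
      congr 1
      exact (hg n).symm
    | add x y hx hy => simp only [map_add, hx, hy]
  induction w using TensorProduct.induction_on with
  | zero => simp
  | tmul a b =>
    rw [Algebra.TensorProduct.map_tmul, rho₂_tmul, rho₂_tmul, map_mul]
    have ha : transport f ρ ((f.toAlgEquiv : N →ₐ[S] N') a) =
        mapL (R := R) (f.toAlgEquiv : N →ₐ[S] N') (ρ a) := transport_apply' f ρ a
    have hb : transport f ρ ((f.toAlgEquiv : N →ₐ[S] N') b) =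
        mapL (R := R) (f.toAlgEquiv : N →ₐ[S] N') (ρ b) := transport_apply' f ρ b
    rw [ha, hb, key Algebra.TensorProduct.includeLeft Algebra.TensorProduct.includeLeft
        (fun n => by simp),
      key Algebra.TensorProduct.includeRight Algebra.TensorProduct.includeRight
        (fun n => by simp)]
  | add x y hx hy => simp only [map_add, hx, hy]

end Transport2

section Transport3

variable {R : Type u} [CommRing R] {S : Type u} [CommRing S] [Algebra R S]
  {N : Type u} [CommRing N] [HopfAlgebra S N] [Algebra R N] [IsScalarTower R S N]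
  {N' : Type u} [CommRing N'] [HopfAlgebra S N'] [Algebra R N'] [IsScalarTower R S N']

omit [Algebra R N] [IsScalarTower R S N] [Algebra R N'] [IsScalarTower R S N'] in
lemma map_map_comul (f : N ≃ₐc[S] N') (n : N) :
    Algebra.TensorProduct.map (f.toAlgEquiv : N →ₐ[S] N') (f.toAlgEquiv : N →ₐ[S] N')
      (Coalgebra.comul (R := S) n) = Coalgebra.comul (R := S) (f n) :=
  CoalgHomClass.map_comp_comul_apply f n

theorem isHopfDescentDatum_transport (f : N ≃ₐc[S] N') {ρ : N →ₐ[S] S ⊗[R] N}
    (hρ : IsHopfDescentDatum ρ) : IsHopfDescentDatum (transport f ρ) where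
  dd :=
    { counit := by
        intro n'
        rw [← f.apply_symm_apply n']
        generalize f.symm n' = n
        show act R S N' (transport f ρ (f n)) = f n
        rw [transport_apply', act_mapL]
        exact congrArg f (hρ.dd.counit n)
      coassoc := by
        intro n'
        rw [← f.apply_symm_apply n']
        generalize f.symm n' = n
        show LinearMap.lTensor S ((transport f ρ).toLinearMap.restrictScalars R)
            (transport f ρ (f n)) =
          LinearMap.lTensor S (TensorProduct.mk R S N' 1) (transport f ρ (f n))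
        rw [transport_apply', lTensor_transport_mapL, lTensor_mk_mapL]
        exact congrArg _ (hρ.dd.coassoc n) }
  comul := by
    intro n'
    rw [← f.apply_symm_apply n']
    generalize f.symm n' = n
    rw [← map_map_comul, rho₂_transport_map, hρ.comul, transport_apply']
    generalize ρ n = z
    induction z using TensorProduct.induction_on with
    | zero => simp
    | tmul s n₁ =>
      simp only [mapL, Algebra.TensorProduct.map_tmul, AlgHom.id_apply, AlgHom.coe_restrictScalars',
        Bialgebra.comulAlgHom_apply]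
      congr 1
      exact map_map_comul f n₁
    | add x y hx hy => simp only [map_add, hx, hy]
  counit := by
    intro n'
    rw [← f.apply_symm_apply n']
    generalize f.symm n' = n
    rw [transport_apply']
    have h1 : ∀ z : S ⊗[R] N, mapL (R := R) (Bialgebra.counitAlgHom S N')
        (mapL (R := R) (f.toAlgEquiv : N →ₐ[S] N') z) = mapL (R := R) (Bialgebra.counitAlgHom S N) z := by
      intro z
      induction z using TensorProduct.induction_on with
      | zero => simp
      | tmul s n₁ =>
        simp only [mapL, Algebra.TensorProduct.map_tmul, AlgHom.id_apply,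
          AlgHom.coe_restrictScalars', Bialgebra.counitAlgHom_apply]
        congr 1
        exact CoalgHomClass.counit_comp_apply f n₁
      | add x y hx hy => simp only [map_add, hx, hy]
    rw [h1, hρ.counit]
    congr 1
    exact (CoalgHomClass.counit_comp_apply f n).symm
  antipode := by
    intro n'
    rw [← f.apply_symm_apply n']
    generalize f.symm n' = n
    have h0 : HopfAlgebra.antipode S (f n) = f (HopfAlgebra.antipode S n) :=
      (Groth.Agent.Lib.Helper77.MultMono.map_antipode (f : N →ₐc[S] N') n).symm
    rw [h0, transport_apply', transport_apply', hρ.antipode]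
    generalize ρ n = z
    induction z using TensorProduct.induction_on with
    | zero => simp
    | tmul s n₁ =>
      simp only [mapL, Algebra.TensorProduct.map_tmul, AlgHom.id_apply,
        AlgHom.coe_restrictScalars', HopfAlgebra.antipodeAlgHom_apply]
      congr 1
      exact Groth.Agent.Lib.Helper77.MultMono.map_antipode (f : N →ₐc[S] N') n₁
    | add x y hx hy => simp only [map_add, hx, hy]

end Transport3

section DescentEquiv

variable {R : Type u} [CommRing R] {S : Type u} [CommRing S] [Algebra R S]
  [Module.FaithfullyFlat R S]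
  {A : Type u} [CommRing A] [Bialgebra R A] {B : Type u} [CommRing B] [Bialgebra R B]

/-- **descent of bialgebra isomorphisms** along a faithfully flat ring map. -/
theorem nonempty_bialgEquiv_of_baseChange (Ξ : S ⊗[R] A ≃ₐc[S] S ⊗[R] B)
    (hΞ : ∀ a : A, ∃ b : B, Ξ ((1 : S) ⊗ₜ[R] a) = (1 : S) ⊗ₜ[R] b) :
    Nonempty (A ≃ₐc[R] B) := by
  let ιB : B →ₐ[R] S ⊗[R] B := Algebra.TensorProduct.includeRight
  have hιB : Function.Injective ιB := one_tmul_injective (S := S) B
  let f : A →ₐ[R] S ⊗[R] B :=
    ((Ξ.toAlgEquiv : S ⊗[R] A →ₐ[S] S ⊗[R] B).restrictScalars R).comp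
      Algebra.TensorProduct.includeRight
  have hf : ∀ a, f a ∈ ιB.range := by
    intro a
    obtain ⟨b, hb⟩ := hΞ a
    exact ⟨b, hb.symm⟩
  obtain ⟨ψ, hψ⟩ := exists_algHom_factor ιB hιB f hf
  have hψ' : ∀ a, Ξ ((1 : S) ⊗ₜ[R] a) = (1 : S) ⊗ₜ[R] ψ a := fun a => (hψ a).symm
  have hΞeq : ∀ z, Ξ z = Algebra.TensorProduct.map (AlgHom.id S S) ψ z := by
    intro z
    have : (Ξ.toAlgEquiv : S ⊗[R] A →ₐ[S] S ⊗[R] B) = Algebra.TensorProduct.map (AlgHom.id S S) ψ := by
      apply algHom_ext_baseChange
      intro a
      simpa using hψ' a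
    exact congrArg (fun g => g z) this
  have hbij : Function.Bijective ψ := by
    have h1 : Function.Bijective (LinearMap.lTensor S ψ.toLinearMap) := by
      have h2 : ⇑(LinearMap.lTensor S ψ.toLinearMap) = ⇑Ξ := by
        funext z
        rw [hΞeq z]
        induction z using TensorProduct.induction_on with
        | zero => simp
        | tmul s a => simp
        | add x y hx hy => simp only [map_add, hx, hy]
      rw [h2]
      exact Ξ.bijective
    exact (Module.FaithfullyFlat.lTensor_bijective_iff_bijective R S _).mp h1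
  have hinjS : Function.Injective (algebraMap R S) := FaithfulSMul.algebraMap_injective R S
  refine ⟨BialgEquiv.ofAlgEquiv (AlgEquiv.ofBijective ψ hbij) ?_ ?_⟩
  · apply AlgHom.ext
    intro a
    apply hinjS
    have h1 : ∀ b : B, algebraMap R S (Coalgebra.counit (R := R) b) =
        Coalgebra.counit (R := S) ((1 : S) ⊗ₜ[R] b) := by
      intro b
      rw [TensorProduct.counit_tmul]
      simp [Algebra.smul_def]
    have h2 : ∀ a : A, algebraMap R S (Coalgebra.counit (R := R) a) =
        Coalgebra.counit (R := S) ((1 : S) ⊗ₜ[R] a) := by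
      intro a
      rw [TensorProduct.counit_tmul]
      simp [Algebra.smul_def]
    show algebraMap R S (Coalgebra.counit (R := R) (ψ a)) =
      algebraMap R S (Coalgebra.counit (R := R) a)
    rw [h1, h2, ← hψ']
    exact CoalgHomClass.counit_comp_apply Ξ _
  · apply AlgHom.ext
    intro a
    have hinj2 : Function.Injective (fun w : B ⊗[R] B =>
        TensorProduct.AlgebraTensorModule.distribBaseChange R S B B ((1 : S) ⊗ₜ[R] w)) :=
      (TensorProduct.AlgebraTensorModule.distribBaseChange R S B B).injective.comp
        (one_tmul_injective (S := S) (B ⊗[R] B))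
    apply hinj2
    have hw : ∀ w : A ⊗[R] A, TensorProduct.map (Ξ : S ⊗[R] A →ₗ[S] S ⊗[R] B)
          (Ξ : S ⊗[R] A →ₗ[S] S ⊗[R] B)
          (TensorProduct.AlgebraTensorModule.distribBaseChange R S A A ((1 : S) ⊗ₜ[R] w)) =
        TensorProduct.AlgebraTensorModule.distribBaseChange R S B B
          ((1 : S) ⊗ₜ[R] (Algebra.TensorProduct.map ψ ψ w)) := by
      intro w
      induction w using TensorProduct.induction_on with
      | zero => simp
      | tmul a₁ a₂ =>
        simp only [TensorProduct.AlgebraTensorModule.distribBaseChange_tmul,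
          Algebra.TensorProduct.map_tmul]
        rw [TensorProduct.map_tmul]
        congr 1
        · exact hψ' a₁
        · exact hψ' a₂
      | add x y hx hy => simp only [TensorProduct.tmul_add, map_add, hx, hy]
    show TensorProduct.AlgebraTensorModule.distribBaseChange R S B B ((1 : S) ⊗ₜ[R]
        (Algebra.TensorProduct.map ψ ψ (Coalgebra.comul (R := R) a))) =
      TensorProduct.AlgebraTensorModule.distribBaseChange R S B B ((1 : S) ⊗ₜ[R]
        (Coalgebra.comul (R := R) (ψ a)))
    rw [← hw, ← comul_one_tmul', ← comul_one_tmul', ← hψ']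
    exact CoalgHomClass.map_comp_comul_apply Ξ _

end DescentEquiv

end Groth.Agent.Lib.Helper77.FFDescent
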