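import Mathlib
import Groth.Agent.Lib.Helper77.GLLift

/-!
# Lifting idempotents and group-like elements of group algebras along henselian pairs
-/

set_option autoImplicit false
set_option linter.style.haveILetI false
universe u
open TensorProduct

namespace Groth.Agent.Lib.Helper77.FFDescent

section Idem

variable {B : Type*} [CommRing B]

lemma idem_eq_zero_of_mem_jacobson {e : B} (he : IsIdempotentElem e)
    (h : e ∈ Ideal.jacobson (⊥ : Ideal B)) : e = 0 := by
  have hu : IsUnit (e * (-1) + 1) := Ideal.mem_jacobson_bot.mp h (-1)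
  have h0 : (e * (-1) + 1) * e = 0 := by
    have := he.eq
    linear_combination (-1 : B) * this
  exact (hu.mul_right_eq_zero).mp h0

lemma idem_eq_of_sub_mem_jacobson {e e' : B} (he : IsIdempotentElem e) (he' : IsIdempotentElem e')
    (h : e - e' ∈ Ideal.jacobson (⊥ : Ideal B)) : e = e' := by
  have hu : IsUnit ((e - e') * (-(e - e')) + 1) := Ideal.mem_jacobson_bot.mp h _
  have h0 : ((e - e') * (-(e - e')) + 1) * (e - e') = 0 := by
    have h1 := he.eq
    have h2 := he'.eq
    linear_combination (-e - 1 + 3 * e') * h1 + (-3 * e + e' + 1) * h2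
  exact sub_eq_zero.mp ((hu.mul_right_eq_zero).mp h0)

open Polynomial in
lemma exists_idem_lift (J : Ideal B) [HenselianRing B J] {a₀ : B} (h : a₀ ^ 2 - a₀ ∈ J) :
    ∃ e : B, IsIdempotentElem e ∧ e - a₀ ∈ J := by
  have hmonic : (X ^ 2 - X : B[X]).Monic := by
    apply Polynomial.monic_X_pow_sub
    exact Polynomial.degree_X_le.trans_lt (by norm_num)
  have heval : (X ^ 2 - X : B[X]).eval a₀ ∈ J := by simpa using h
  have hder : IsUnit (Ideal.Quotient.mk J ((X ^ 2 - X : B[X]).derivative.eval a₀)) := by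
    have h1 : (X ^ 2 - X : B[X]).derivative.eval a₀ = 2 * a₀ - 1 := by
      simp
      ring
    rw [h1]
    have h2 : Ideal.Quotient.mk J (2 * a₀ - 1) * Ideal.Quotient.mk J (2 * a₀ - 1) = 1 := by
      rw [← map_mul, ← map_one (Ideal.Quotient.mk J), ← sub_eq_zero, ← map_sub,
        Ideal.Quotient.eq_zero_iff_mem]
      have : (2 * a₀ - 1) * (2 * a₀ - 1) - 1 = 4 * (a₀ ^ 2 - a₀) := by ring
      rw [this]
      exact Ideal.mul_mem_left _ _ h
    exact IsUnit.of_mul_eq_one _ h2
  obtain ⟨a, ha, haJ⟩ := HenselianRing.is_henselian (X ^ 2 - X : B[X]) hmonic a₀ heval hder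
  refine ⟨a, ?_, haJ⟩
  have : a ^ 2 - a = 0 := by simpa [Polynomial.IsRoot] using ha
  show a * a = a
  linear_combination this

end Idem

section COI

variable {B B₀ : Type*} [CommRing B] [CommRing B₀] (q : B →+* B₀)

lemma exists_idem_lift_hom (hq : Function.Surjective q) [HenselianRing B (RingHom.ker q)]
    {e₀ : B₀} (h : IsIdempotentElem e₀) : ∃ e : B, IsIdempotentElem e ∧ q e = e₀ := by
  obtain ⟨a₀, rfl⟩ := hq e₀
  have h1 : a₀ ^ 2 - a₀ ∈ RingHom.ker q := by
    rw [RingHom.mem_ker, map_sub, map_pow, sq, h.eq, sub_self]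
  obtain ⟨e, he, hJ⟩ := exists_idem_lift (RingHom.ker q) h1
  refine ⟨e, he, ?_⟩
  rw [RingHom.mem_ker, map_sub, sub_eq_zero] at hJ
  exact hJ

lemma idem_eq_of_map_eq (hJ : RingHom.ker q ≤ Ideal.jacobson ⊥) {e e' : B}
    (he : IsIdempotentElem e) (he' : IsIdempotentElem e') (h : q e = q e') : e = e' :=
  idem_eq_of_sub_mem_jacobson he he' (hJ (by rw [RingHom.mem_ker, map_sub, h, sub_self]))

theorem exists_coi_lift (hq : Function.Surjective q) [HenselianRing B (RingHom.ker q)]
    {ι : Type*} [Fintype ι] {e₀ : ι → B₀}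
    (h : CompleteOrthogonalIdempotents e₀) :
    ∃ e : ι → B, CompleteOrthogonalIdempotents e ∧ ∀ i, q (e i) = e₀ i := by
  classical
  have hJ : RingHom.ker q ≤ Ideal.jacobson ⊥ := HenselianRing.jac
  choose e he hqe using fun i => exists_idem_lift_hom q hq (h.idem i)
  have hortho : Pairwise (fun i j => e i * e j = 0) := by
    intro i j hij
    have h1 : IsIdempotentElem (e i * e j) := (he i).mul (he j)
    apply idem_eq_of_map_eq q hJ h1 IsIdempotentElem.zero
    rw [map_mul, hqe, hqe, h.ortho hij, map_zero]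
  have hoi : OrthogonalIdempotents e := ⟨he, hortho⟩
  refine ⟨e, ⟨hoi, ?_⟩, hqe⟩
  have h1 : IsIdempotentElem (∑ i, e i) := hoi.isIdempotentElem_sum (s := Finset.univ)
  apply idem_eq_of_map_eq q hJ h1 IsIdempotentElem.one
  rw [map_sum, map_one]
  simp_rw [hqe]
  exact h.complete

end COI

section GrpLike

variable {B : Type u} [CommRing B] {B₀ : Type u} [CommRing B₀] {M : Type u} [CommGroup M]

open Groth.Agent.Lib.Helper77.DiagSub Groth.Agent.Lib.Helper77.GLLift

lemma counit_eq_sum (y : MonoidAlgebra B M) :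
    Coalgebra.counit (R := B) y = ∑ m ∈ y.coeff.support, y.coeff m := by
  conv_lhs => rw [← MonoidAlgebra.sum_coeff_single y, Finsupp.sum, map_sum]
  refine Finset.sum_congr rfl (fun m _ => ?_)
  rw [MonoidAlgebra.counit_single]
  rfl

lemma counit_mapRingHom (f : B →+* B₀) (y : MonoidAlgebra B M) :
    Coalgebra.counit (R := B₀) (MonoidAlgebra.mapRingHom M f y) =
      f (Coalgebra.counit (R := B) y) := by
  induction y using MonoidAlgebra.induction_linear with
  | zero => simp
  | add x y hx hy => simp only [map_add, hx, hy]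
  | single g b =>
    rw [MonoidAlgebra.mapRingHom_single, MonoidAlgebra.counit_single, MonoidAlgebra.counit_single]
    simp

open Classical in
/-- an element of a group algebra whose coefficients are orthogonal idempotents summing to `1` is
group-like. -/
theorem isGroupLikeElem_of_coeff {y : MonoidAlgebra B M}
    (h1 : ∀ g h, y.coeff g * y.coeff h = if g = h then y.coeff g else 0)
    (h2 : Coalgebra.counit (R := B) y = 1) : IsGroupLikeElem B y := by
  set F : Finset M := y.coeff.support with hF
  let e : F → B := fun i => y.coeff i.1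
  have he : CompleteOrthogonalIdempotents e := by
    refine ⟨(OrthogonalIdempotents.iff_mul_eq).mpr ?_, ?_⟩
    · intro i j
      show y.coeff i.1 * y.coeff j.1 = _
      rw [h1]
      by_cases hij : i = j
      · rw [if_pos hij, if_pos (congrArg Subtype.val hij)]
      · rw [if_neg hij, if_neg (fun h => hij (Subtype.ext h))]
    · rw [counit_eq_sum] at h2
      rw [← h2]
      exact (Finset.sum_coe_sort F (fun m => y.coeff m))
  have hy : y = ∑ i : F, e i • MonoidAlgebra.single i.1 (1 : B) := by
    conv_lhs => rw [← MonoidAlgebra.sum_coeff_single y, Finsupp.sum]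
    rw [← Finset.sum_coe_sort F]
    refine Finset.sum_congr rfl (fun i _ => ?_)
    rw [MonoidAlgebra.smul_single, smul_eq_mul, mul_one]
  rw [hy]
  exact isGroupLikeElem_sum_smul he (fun i => MonoidAlgebra.isGroupLikeElem_single_one i.1)

theorem isGroupLikeElem_mapRingHom (f : B →+* B₀) {y : MonoidAlgebra B M}
    (hy : IsGroupLikeElem B y) : IsGroupLikeElem B₀ (MonoidAlgebra.mapRingHom M f y) := by
  classical
  apply isGroupLikeElem_of_coeff
  · intro g h
    rw [MonoidAlgebra.coeff_mapRingHom, MonoidAlgebra.coeff_mapRingHom, ← map_mul,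
      coeff_mul_coeff_of_isGroupLikeElem hy]
    split_ifs <;> simp
  · rw [counit_mapRingHom, hy.counit_eq_one, map_one]

theorem eq_of_mapRingHom_eq (q : B →+* B₀) (hJ : RingHom.ker q ≤ Ideal.jacobson ⊥)
    {y y' : MonoidAlgebra B M} (hy : IsGroupLikeElem B y) (hy' : IsGroupLikeElem B y')
    (h : MonoidAlgebra.mapRingHom M q y = MonoidAlgebra.mapRingHom M q y') : y = y' := by
  classical
  apply MonoidAlgebra.ext
  apply Finsupp.ext
  intro g
  have h1 : IsIdempotentElem (y.coeff g) := by
    have := coeff_mul_coeff_of_isGroupLikeElem hy g g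
    rwa [if_pos rfl] at this
  have h2 : IsIdempotentElem (y'.coeff g) := by
    have := coeff_mul_coeff_of_isGroupLikeElem hy' g g
    rwa [if_pos rfl] at this
  apply idem_eq_of_map_eq q hJ h1 h2
  have h3 := congrArg (fun z => z.coeff g) h
  simpa [MonoidAlgebra.coeff_mapRingHom] using h3

theorem exists_groupLike_lift (q : B →+* B₀) (hq : Function.Surjective q)
    [HenselianRing B (RingHom.ker q)] {y₀ : MonoidAlgebra B₀ M} (hy₀ : IsGroupLikeElem B₀ y₀) :
    ∃ y : MonoidAlgebra B M, IsGroupLikeElem B y ∧ MonoidAlgebra.mapRingHom M q y = y₀ := by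
  classical
  set F : Finset M := y₀.coeff.support with hF
  let e₀ : F → B₀ := fun i => y₀.coeff i.1
  have he₀ : CompleteOrthogonalIdempotents e₀ := by
    refine ⟨(OrthogonalIdempotents.iff_mul_eq).mpr ?_, ?_⟩
    · intro i j
      show y₀.coeff i.1 * y₀.coeff j.1 = _
      rw [coeff_mul_coeff_of_isGroupLikeElem hy₀]
      by_cases hij : i = j
      · rw [if_pos hij, if_pos (congrArg Subtype.val hij)]
      · rw [if_neg hij, if_neg (fun h => hij (Subtype.ext h))]
    · have h2 := hy₀.counit_eq_one
      rw [counit_eq_sum] at h2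
      rw [← h2]
      exact (Finset.sum_coe_sort F (fun m => y₀.coeff m))
  obtain ⟨e, he, hqe⟩ := exists_coi_lift q hq he₀
  refine ⟨∑ i : F, e i • MonoidAlgebra.single i.1 (1 : B), ?_, ?_⟩
  · exact isGroupLikeElem_sum_smul he (fun i => MonoidAlgebra.isGroupLikeElem_single_one i.1)
  · rw [map_sum]
    conv_rhs => rw [← MonoidAlgebra.sum_coeff_single y₀, Finsupp.sum]
    rw [← Finset.sum_coe_sort F]
    refine Finset.sum_congr rfl (fun i _ => ?_)
    rw [MonoidAlgebra.smul_single, smul_eq_mul, mul_one, MonoidAlgebra.mapRingHom_single, hqe]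

end GrpLike

end Groth.Agent.Lib.Helper77.FFDescent
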