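import Mathlib
import Groth.Agent.Lib.Helper77.FFDescent3
import Groth.Agent.Lib.Helper77.FFDescent4

/-!
# Descent data on group algebras in coordinates
-/

set_option autoImplicit false
set_option linter.style.haveILetI false
universe u
open TensorProduct

namespace Groth.Agent.Lib.Helper77.FFDescent

open Groth.Agent.Lib.Helper77.MultMono Groth.Agent.Lib.Helper77.DiagSub

section Coord

variable (R : Type u) [CommRing R] (S : Type u) [CommRing S] [Algebra R S]
  (M : Type u) [CommGroup M]

/-- coordinates on `S ⊗[R] S[M]`. -/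
noncomputable abbrev cc : S ⊗[R] MonoidAlgebra S M ≃ₐ[S] MonoidAlgebra (S ⊗[R] S) M :=
  MonoidAlgebra.rTensorEquivAlgEquiv R S S S

/-- the multiplication map as a ring map. -/
noncomputable abbrev muT : S ⊗[R] S →+* S := (Algebra.TensorProduct.lmul' R : S ⊗[R] S →ₐ[R] S).toRingHom

variable {R S M}

lemma cc_symm_single_tmul (g : M) (a b : S) :
    (cc R S M).symm (MonoidAlgebra.single g (a ⊗ₜ[R] b)) = a ⊗ₜ[R] MonoidAlgebra.single g b :=
  MonoidAlgebra.rTensorEquiv_symm_singleAlgEquiv g a b

lemma act_cc_symm (y : MonoidAlgebra (S ⊗[R] S) M) :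
    act R S (MonoidAlgebra S M) ((cc R S M).symm y) = MonoidAlgebra.mapRingHom M (muT R S) y := by
  induction y using MonoidAlgebra.induction_linear with
  | zero => simp
  | add x y hx hy => simp only [map_add, hx, hy]
  | single g t =>
    induction t using TensorProduct.induction_on with
    | zero => simp
    | tmul a b =>
      rw [cc_symm_single_tmul, act_tmul, MonoidAlgebra.mapRingHom_single]
      simp [MonoidAlgebra.smul_single]
    | add x y hx hy =>
      rw [MonoidAlgebra.single_add, map_add, map_add, hx, hy, map_add]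

lemma mapL_counit_cc_symm (y : MonoidAlgebra (S ⊗[R] S) M) :
    mapL (R := R) (Bialgebra.counitAlgHom S (MonoidAlgebra S M)) ((cc R S M).symm y) =
      Coalgebra.counit (R := S ⊗[R] S) y := by
  induction y using MonoidAlgebra.induction_linear with
  | zero => simp
  | add x y hx hy => simp only [map_add, hx, hy]
  | single g t =>
    induction t using TensorProduct.induction_on with
    | zero => simp
    | tmul a b =>
      rw [cc_symm_single_tmul, MonoidAlgebra.counit_single]
      simp [mapL, MonoidAlgebra.counit_single]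
    | add x y hx hy =>
      rw [MonoidAlgebra.single_add, map_add, map_add, hx, hy, map_add]

lemma mapL_antipode_cc_symm (y : MonoidAlgebra (S ⊗[R] S) M) :
    mapL (R := R) (HopfAlgebra.antipodeAlgHom S (MonoidAlgebra S M)) ((cc R S M).symm y) =
      (cc R S M).symm (HopfAlgebra.antipode (S ⊗[R] S) y) := by
  induction y using MonoidAlgebra.induction_linear with
  | zero => simp
  | add x y hx hy => simp only [map_add, hx, hy]
  | single g t =>
    induction t using TensorProduct.induction_on with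
    | zero => simp
    | tmul a b =>
      rw [cc_symm_single_tmul, MonoidAlgebra.antipode_single]
      simp [mapL, MonoidAlgebra.antipode_single, cc_symm_single_tmul]
    | add x y hx hy =>
      rw [MonoidAlgebra.single_add, map_add, map_add, hx, hy, map_add, map_add]

end Coord

section Gamma

variable {R : Type u} [CommRing R] {S : Type u} [CommRing S] [Algebra R S]
  {M : Type u} [CommGroup M]

/-- the algebra map `S[M] → (S ⊗ S)[M]` attached to `γ`. -/
noncomputable def Lγ (γ : M →* MonoidAlgebra (S ⊗[R] S) M) :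
    MonoidAlgebra S M →ₐ[S] MonoidAlgebra (S ⊗[R] S) M :=
  MonoidAlgebra.lift S (MonoidAlgebra (S ⊗[R] S) M) M γ

@[simp] lemma Lγ_single (γ : M →* MonoidAlgebra (S ⊗[R] S) M) (m : M) (s : S) :
    Lγ γ (MonoidAlgebra.single m s) = s • γ m := by
  simp [Lγ, MonoidAlgebra.lift_single]

/-- the datum attached to `γ`. -/
noncomputable def rhoγ (γ : M →* MonoidAlgebra (S ⊗[R] S) M) :
    MonoidAlgebra S M →ₐ[S] S ⊗[R] MonoidAlgebra S M :=
  ((cc R S M).symm : MonoidAlgebra (S ⊗[R] S) M →ₐ[S] S ⊗[R] MonoidAlgebra S M).comp (Lγ γ)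

lemma rhoγ_apply (γ : M →* MonoidAlgebra (S ⊗[R] S) M) (n : MonoidAlgebra S M) :
    rhoγ γ n = (cc R S M).symm (Lγ γ n) := rfl

lemma cc_rhoγ (γ : M →* MonoidAlgebra (S ⊗[R] S) M) (n : MonoidAlgebra S M) :
    cc R S M (rhoγ γ n) = Lγ γ n := by
  rw [rhoγ_apply, AlgEquiv.apply_symm_apply]

lemma rhoγ_single_one (γ : M →* MonoidAlgebra (S ⊗[R] S) M) (m : M) :
    rhoγ γ (MonoidAlgebra.single m 1) = (cc R S M).symm (γ m) := by
  rw [rhoγ_apply, Lγ_single, one_smul]

end Gamma

section Theta

variable {R : Type u} [CommRing R] {S : Type u} [CommRing S] [Algebra R S]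
  {M : Type u} [CommGroup M]

/-- the structure map `S ⊗ S → S ⊗ (S[M] ⊗ S[M])`. -/
noncomputable def tau₂ : (S ⊗[R] S) →+* S ⊗[R] (MonoidAlgebra S M ⊗[S] MonoidAlgebra S M) :=
  (Algebra.TensorProduct.map (AlgHom.id S S)
    ((Algebra.ofId S (MonoidAlgebra S M ⊗[S] MonoidAlgebra S M)).restrictScalars R)).toRingHom

lemma tau₂_tmul (a b : S) : tau₂ (R := R) (M := M) (a ⊗ₜ[R] b) =
    a ⊗ₜ[R] (b • (1 : MonoidAlgebra S M ⊗[S] MonoidAlgebra S M)) := by
  simp [tau₂, Algebra.ofId_apply, Algebra.algebraMap_eq_smul_one]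

/-- the three monoid maps. -/
noncomputable def uL : M →* S ⊗[R] (MonoidAlgebra S M ⊗[S] MonoidAlgebra S M) :=
  (((Algebra.TensorProduct.includeRight :
      MonoidAlgebra S M ⊗[S] MonoidAlgebra S M →ₐ[R] S ⊗[R] (MonoidAlgebra S M ⊗[S] MonoidAlgebra S M)).comp
    ((Algebra.TensorProduct.includeLeft :
      MonoidAlgebra S M →ₐ[S] MonoidAlgebra S M ⊗[S] MonoidAlgebra S M).restrictScalars R) :
    MonoidAlgebra S M →ₐ[R] S ⊗[R] (MonoidAlgebra S M ⊗[S] MonoidAlgebra S M)) :
    MonoidAlgebra S M →* S ⊗[R] (MonoidAlgebra S M ⊗[S] MonoidAlgebra S M)).comp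
      (MonoidAlgebra.of S M)

noncomputable def uR : M →* S ⊗[R] (MonoidAlgebra S M ⊗[S] MonoidAlgebra S M) :=
  (((Algebra.TensorProduct.includeRight :
      MonoidAlgebra S M ⊗[S] MonoidAlgebra S M →ₐ[R] S ⊗[R] (MonoidAlgebra S M ⊗[S] MonoidAlgebra S M)).comp
    ((Algebra.TensorProduct.includeRight :
      MonoidAlgebra S M →ₐ[S] MonoidAlgebra S M ⊗[S] MonoidAlgebra S M).restrictScalars R) :
    MonoidAlgebra S M →ₐ[R] S ⊗[R] (MonoidAlgebra S M ⊗[S] MonoidAlgebra S M)) :
    MonoidAlgebra S M →* S ⊗[R] (MonoidAlgebra S M ⊗[S] MonoidAlgebra S M)).comp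
      (MonoidAlgebra.of S M)

noncomputable def uC : M →* S ⊗[R] (MonoidAlgebra S M ⊗[S] MonoidAlgebra S M) :=
  (((Algebra.TensorProduct.includeRight :
      MonoidAlgebra S M ⊗[S] MonoidAlgebra S M →ₐ[R] S ⊗[R] (MonoidAlgebra S M ⊗[S] MonoidAlgebra S M)).comp
    ((Bialgebra.comulAlgHom S (MonoidAlgebra S M)).restrictScalars R) :
    MonoidAlgebra S M →ₐ[R] S ⊗[R] (MonoidAlgebra S M ⊗[S] MonoidAlgebra S M)) :
    MonoidAlgebra S M →* S ⊗[R] (MonoidAlgebra S M ⊗[S] MonoidAlgebra S M)).comp
      (MonoidAlgebra.of S M)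

lemma uC_apply (g : M) : uC (R := R) (S := S) g =
    (1 : S) ⊗ₜ[R] (MonoidAlgebra.single g (1 : S) ⊗ₜ[S] MonoidAlgebra.single g (1 : S)) := by
  simp [uC, MonoidAlgebra.comul_single]

lemma uL_apply (g : M) : uL (R := R) (S := S) g =
    (1 : S) ⊗ₜ[R] (MonoidAlgebra.single g (1 : S) ⊗ₜ[S] (1 : MonoidAlgebra S M)) := rfl

lemma uR_apply (g : M) : uR (R := R) (S := S) g =
    (1 : S) ⊗ₜ[R] ((1 : MonoidAlgebra S M) ⊗ₜ[S] MonoidAlgebra.single g (1 : S)) := rfl

lemma mul_comul_cc_symm {y : MonoidAlgebra (S ⊗[R] S) M} (hy : IsGroupLikeElem (S ⊗[R] S) y) :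
    mapL (R := R) (Algebra.TensorProduct.includeLeft :
        MonoidAlgebra S M →ₐ[S] MonoidAlgebra S M ⊗[S] MonoidAlgebra S M) ((cc R S M).symm y) *
      mapL (R := R) (Algebra.TensorProduct.includeRight :
        MonoidAlgebra S M →ₐ[S] MonoidAlgebra S M ⊗[S] MonoidAlgebra S M) ((cc R S M).symm y) =
    mapL (R := R) (Bialgebra.comulAlgHom S (MonoidAlgebra S M)) ((cc R S M).symm y) := by
  letI : Algebra (S ⊗[R] S) (S ⊗[R] (MonoidAlgebra S M ⊗[S] MonoidAlgebra S M)) :=
    (tau₂ (R := R) (S := S) (M := M)).toAlgebra' (fun _ _ =>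
      @mul_comm (S ⊗[R] (MonoidAlgebra S M ⊗[S] MonoidAlgebra S M)) inferInstance _ _)
  have halg : ∀ t : S ⊗[R] S,
      algebraMap (S ⊗[R] S) (S ⊗[R] (MonoidAlgebra S M ⊗[S] MonoidAlgebra S M)) t = tau₂ t :=
    fun _ => rfl
  let Φl : MonoidAlgebra (S ⊗[R] S) M →ₐ[S ⊗[R] S] S ⊗[R] (MonoidAlgebra S M ⊗[S] MonoidAlgebra S M) :=
    MonoidAlgebra.lift (S ⊗[R] S) _ M (uL (R := R) (S := S))
  let Φr : MonoidAlgebra (S ⊗[R] S) M →ₐ[S ⊗[R] S] S ⊗[R] (MonoidAlgebra S M ⊗[S] MonoidAlgebra S M) :=
    MonoidAlgebra.lift (S ⊗[R] S) _ M (uR (R := R) (S := S))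
  let Φc : MonoidAlgebra (S ⊗[R] S) M →ₐ[S ⊗[R] S] S ⊗[R] (MonoidAlgebra S M ⊗[S] MonoidAlgebra S M) :=
    MonoidAlgebra.lift (S ⊗[R] S) _ M (uC (R := R) (S := S))
  let Θ : MonoidAlgebra (S ⊗[R] S) M ⊗[S ⊗[R] S] MonoidAlgebra (S ⊗[R] S) M →ₐ[S ⊗[R] S]
      S ⊗[R] (MonoidAlgebra S M ⊗[S] MonoidAlgebra S M) :=
    Algebra.TensorProduct.lift Φl Φr (fun _ _ =>
      @mul_comm (S ⊗[R] (MonoidAlgebra S M ⊗[S] MonoidAlgebra S M)) inferInstance _ _)
  have hΘ : Θ.comp (Bialgebra.comulAlgHom (S ⊗[R] S) (MonoidAlgebra (S ⊗[R] S) M)) = Φc := by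
    refine MonoidAlgebra.algHom_ext ?_ (Subsingleton.elim _ _)
    intro m
    simp [Θ, Φl, Φr, Φc, MonoidAlgebra.lift_single]
    rw [uL_apply, uR_apply, uC_apply, Algebra.TensorProduct.tmul_mul_tmul,
      Algebra.TensorProduct.tmul_mul_tmul, mul_one, one_mul, mul_one]
  have hl : ∀ z, Φl z = mapL (R := R) (Algebra.TensorProduct.includeLeft :
        MonoidAlgebra S M →ₐ[S] MonoidAlgebra S M ⊗[S] MonoidAlgebra S M) ((cc R S M).symm z) := by
    intro z
    induction z using MonoidAlgebra.induction_linear with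
    | zero => simp
    | add x y hx hy => simp only [map_add, hx, hy]
    | single g t =>
      induction t using TensorProduct.induction_on with
      | zero => simp
      | tmul a b =>
        rw [cc_symm_single_tmul]
        simp only [Φl, MonoidAlgebra.lift_single, Algebra.smul_def, halg, tau₂_tmul, uL_apply,
          Algebra.TensorProduct.tmul_mul_tmul, mul_one, one_mul, smul_mul_assoc]
        simp [mapL, TensorProduct.smul_tmul', MonoidAlgebra.smul_single]
      | add x y hx hy =>
        rw [MonoidAlgebra.single_add, map_add, map_add, hx, hy, map_add]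
  have hr : ∀ z, Φr z = mapL (R := R) (Algebra.TensorProduct.includeRight :
        MonoidAlgebra S M →ₐ[S] MonoidAlgebra S M ⊗[S] MonoidAlgebra S M) ((cc R S M).symm z) := by
    intro z
    induction z using MonoidAlgebra.induction_linear with
    | zero => simp
    | add x y hx hy => simp only [map_add, hx, hy]
    | single g t =>
      induction t using TensorProduct.induction_on with
      | zero => simp
      | tmul a b =>
        rw [cc_symm_single_tmul]
        simp only [Φr, MonoidAlgebra.lift_single, Algebra.smul_def, halg, tau₂_tmul, uR_apply,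
          Algebra.TensorProduct.tmul_mul_tmul, mul_one, one_mul, smul_mul_assoc]
        simp [mapL, TensorProduct.smul_tmul']
        congr 1
        rw [TensorProduct.smul_tmul, MonoidAlgebra.smul_single, smul_eq_mul, mul_one]
      | add x y hx hy =>
        rw [MonoidAlgebra.single_add, map_add, map_add, hx, hy, map_add]
  have hc : ∀ z, Φc z = mapL (R := R) (Bialgebra.comulAlgHom S (MonoidAlgebra S M)) ((cc R S M).symm z) := by
    intro z
    induction z using MonoidAlgebra.induction_linear with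
    | zero => simp
    | add x y hx hy => simp only [map_add, hx, hy]
    | single g t =>
      induction t using TensorProduct.induction_on with
      | zero => simp
      | tmul a b =>
        rw [cc_symm_single_tmul]
        simp only [Φc, MonoidAlgebra.lift_single, Algebra.smul_def, halg, tau₂_tmul, uC_apply,
          Algebra.TensorProduct.tmul_mul_tmul, mul_one, one_mul, smul_mul_assoc]
        simp [mapL, TensorProduct.smul_tmul', MonoidAlgebra.smul_single, MonoidAlgebra.comul_single]
        congr 1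
        have hb : MonoidAlgebra.single g b = b • MonoidAlgebra.single g (1 : S) := by
          rw [MonoidAlgebra.smul_single, smul_eq_mul, mul_one]
        rw [hb, TensorProduct.smul_tmul]
      | add x y hx hy =>
        rw [MonoidAlgebra.single_add, map_add, map_add, hx, hy, map_add]
  rw [← hl, ← hr, ← hc]
  have h1 : Φc y = Θ (Coalgebra.comul (R := S ⊗[R] S) y) := by
    rw [← hΘ]
    rfl
  rw [h1, hy.comul_eq_tmul_self]
  simp [Θ]

end Theta

section HopfCompat

variable {R : Type u} [CommRing R] {S : Type u} [CommRing S] [Algebra R S]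
  {M : Type u} [CommGroup M] (γ : M →* MonoidAlgebra (S ⊗[R] S) M)
  (hγ : ∀ m, IsGroupLikeElem (S ⊗[R] S) (γ m))

include hγ in
lemma rhoγ_counit (n : MonoidAlgebra S M) :
    mapL (R := R) (Bialgebra.counitAlgHom S (MonoidAlgebra S M)) (rhoγ γ n) =
      Coalgebra.counit (R := S) n ⊗ₜ[R] (1 : S) := by
  have h : (mapL (R := R) (Bialgebra.counitAlgHom S (MonoidAlgebra S M))).comp (rhoγ γ) =
      (Algebra.TensorProduct.includeLeft : S →ₐ[S] S ⊗[R] S).comp
        (Bialgebra.counitAlgHom S (MonoidAlgebra S M)) := by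
    refine MonoidAlgebra.algHom_ext ?_ (Subsingleton.elim _ _)
    intro m
    simp only [AlgHom.coe_comp, Function.comp_apply, rhoγ_single_one, mapL_counit_cc_symm,
      (hγ m).counit_eq_one, Bialgebra.counitAlgHom_apply, MonoidAlgebra.counit_single,
      Algebra.TensorProduct.includeLeft_apply]
    rfl
  exact congrArg (fun f => f n) h

include hγ in
lemma antipode_γ (m : M) : HopfAlgebra.antipode (S ⊗[R] S) (γ m) = γ m⁻¹ := by
  have h1 := (hγ m).antipode_mul_cancel
  have h2 : γ m * γ m⁻¹ = 1 := by rw [← map_mul, mul_inv_cancel, map_one]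
  calc HopfAlgebra.antipode (S ⊗[R] S) (γ m)
      = HopfAlgebra.antipode (S ⊗[R] S) (γ m) * (γ m * γ m⁻¹) := by rw [h2, mul_one]
    _ = (HopfAlgebra.antipode (S ⊗[R] S) (γ m) * γ m) * γ m⁻¹ := by ring
    _ = γ m⁻¹ := by rw [h1, one_mul]

include hγ in
lemma rhoγ_antipode (n : MonoidAlgebra S M) :
    rhoγ γ (HopfAlgebra.antipode S n) =
      mapL (R := R) (HopfAlgebra.antipodeAlgHom S (MonoidAlgebra S M)) (rhoγ γ n) := by
  have h : (rhoγ γ).comp (HopfAlgebra.antipodeAlgHom S (MonoidAlgebra S M)) =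
      (mapL (R := R) (HopfAlgebra.antipodeAlgHom S (MonoidAlgebra S M))).comp (rhoγ γ) := by
    refine MonoidAlgebra.algHom_ext ?_ (Subsingleton.elim _ _)
    intro m
    simp only [AlgHom.coe_comp, Function.comp_apply, rhoγ_single_one, mapL_antipode_cc_symm,
      HopfAlgebra.antipodeAlgHom_apply, MonoidAlgebra.antipode_single, antipode_γ γ hγ]
    have : HopfAlgebra.antipode S (1 : S) = 1 := HopfAlgebra.antipode_one
    rw [this, rhoγ_single_one]
  exact congrArg (fun f => f n) h

include hγ in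
lemma rhoγ_comul (n : MonoidAlgebra S M) :
    rho₂ (rhoγ γ) (Coalgebra.comul (R := S) n) =
      mapL (R := R) (Bialgebra.comulAlgHom S (MonoidAlgebra S M)) (rhoγ γ n) := by
  have h : (rho₂ (rhoγ γ)).comp (Bialgebra.comulAlgHom S (MonoidAlgebra S M)) =
      (mapL (R := R) (Bialgebra.comulAlgHom S (MonoidAlgebra S M))).comp (rhoγ γ) := by
    refine MonoidAlgebra.algHom_ext ?_ (Subsingleton.elim _ _)
    intro m
    simp only [AlgHom.coe_comp, Function.comp_apply, Bialgebra.comulAlgHom_apply]
    have hc : Coalgebra.comul (R := S) (MonoidAlgebra.single m (1 : S)) =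
        MonoidAlgebra.single m (1 : S) ⊗ₜ[S] MonoidAlgebra.single m (1 : S) := by
      simp [MonoidAlgebra.comul_single]
    rw [hc, rho₂_tmul, rhoγ_single_one]
    exact mul_comul_cc_symm (hγ m)
  exact congrArg (fun f => f n) h

include hγ in
theorem isHopfDescentDatum_rhoγ (hdd : IsDescentDatum (rhoγ γ).toLinearMap) :
    IsHopfDescentDatum (rhoγ γ) where
  dd := hdd
  comul := rhoγ_comul γ hγ
  counit := rhoγ_counit γ hγ
  antipode := rhoγ_antipode γ hγ

end HopfCompat

section Extract

variable {R : Type u} [CommRing R] {S : Type u} [CommRing S] [Algebra R S]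
  {M : Type u} [CommGroup M]

/-- coefficient functionals on `S ⊗[R] S[M]`. -/
noncomputable def cf (g : M) : S ⊗[R] MonoidAlgebra S M →ₗ[R] S ⊗[R] S :=
  LinearMap.lTensor S ((coeffL S M g).restrictScalars R)

lemma cf_tmul (g : M) (a : S) (n : MonoidAlgebra S M) :
    cf (R := R) g (a ⊗ₜ[R] n) = a ⊗ₜ[R] n.coeff g := rfl

lemma coeff_cc (g : M) (x : S ⊗[R] MonoidAlgebra S M) :
    (cc R S M x).coeff g = cf (R := R) g x := by
  induction x using TensorProduct.induction_on with
  | zero => simp
  | tmul a n =>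
    rw [cf_tmul, MonoidAlgebra.rTensorEquiv_tmulAlgEquiv]
    induction n using MonoidAlgebra.induction_linear with
    | zero => simp
    | add x y hx hy =>
      simp only [map_add, smul_add, MonoidAlgebra.coeff_add, Finsupp.add_apply,
        TensorProduct.tmul_add] at hx hy ⊢
      rw [hx, hy]
    | single k b =>
      classical
      simp only [MonoidAlgebra.mapAlgHom_single, MonoidAlgebra.smul_single,
        MonoidAlgebra.coeff_single, Finsupp.single_apply]
      split_ifs <;> simp [Algebra.smul_def]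
  | add x y hx hy => simp only [map_add, MonoidAlgebra.coeff_add, Finsupp.add_apply, hx, hy]

/-- coefficient functionals on `S ⊗[R] (S[M] ⊗ S[M])`. -/
noncomputable def cf₂ (g h : M) :
    S ⊗[R] (MonoidAlgebra S M ⊗[S] MonoidAlgebra S M) →ₗ[R] S ⊗[R] S :=
  LinearMap.lTensor S ((lam2 (K := S) g h).restrictScalars R)

lemma cf₂_mul (g h : M) (x x' : S ⊗[R] MonoidAlgebra S M) :
    cf₂ (R := R) g h
      (mapL (R := R) (Algebra.TensorProduct.includeLeft :
          MonoidAlgebra S M →ₐ[S] MonoidAlgebra S M ⊗[S] MonoidAlgebra S M) x *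
        mapL (R := R) (Algebra.TensorProduct.includeRight :
          MonoidAlgebra S M →ₐ[S] MonoidAlgebra S M ⊗[S] MonoidAlgebra S M) x') =
      cf (R := R) g x * cf (R := R) h x' := by
  induction x using TensorProduct.induction_on with
  | zero => simp
  | tmul a n =>
    induction x' using TensorProduct.induction_on with
    | zero => simp
    | tmul a' n' =>
      simp only [mapL, Algebra.TensorProduct.map_tmul, AlgHom.id_apply, AlgHom.coe_restrictScalars',
        Algebra.TensorProduct.includeLeft_apply, Algebra.TensorProduct.includeRight_apply,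
        Algebra.TensorProduct.tmul_mul_tmul, mul_one, one_mul, cf_tmul]
      show (a * a') ⊗ₜ[R] (lam2 (K := S) g h (n ⊗ₜ[S] n')) = _
      rw [lam2_tmul]
    | add y y' hy hy' => simp only [map_add, mul_add, hy, hy']
  | add y y' hy hy' => simp only [map_add, add_mul, hy, hy']

open Classical in
lemma cf₂_comul (g h : M) (x : S ⊗[R] MonoidAlgebra S M) :
    cf₂ (R := R) g h (mapL (R := R) (Bialgebra.comulAlgHom S (MonoidAlgebra S M)) x) =
      if g = h then cf (R := R) g x else 0 := by
  induction x using TensorProduct.induction_on with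
  | zero => simp
  | tmul a n =>
    simp only [mapL, Algebra.TensorProduct.map_tmul, AlgHom.id_apply, AlgHom.coe_restrictScalars',
      Bialgebra.comulAlgHom_apply, cf_tmul]
    show a ⊗ₜ[R] (lam2 (K := S) g h (Coalgebra.comul (R := S) n)) = _
    rw [lam2_comul]
    split_ifs <;> simp
  | add y y' hy hy' =>
    simp only [map_add, hy, hy']
    split_ifs <;> simp

/-- a datum compatible with comultiplication and counit sends the canonical basis to group-like
elements. -/
theorem isGroupLikeElem_cc_of_compat (ρ : MonoidAlgebra S M →ₐ[S] S ⊗[R] MonoidAlgebra S M)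
    (h2 : ∀ n, rho₂ ρ (Coalgebra.comul (R := S) n) =
      mapL (R := R) (Bialgebra.comulAlgHom S (MonoidAlgebra S M)) (ρ n))
    (h3 : ∀ n, mapL (R := R) (Bialgebra.counitAlgHom S (MonoidAlgebra S M)) (ρ n) =
      Coalgebra.counit (R := S) n ⊗ₜ[R] (1 : S)) (m : M) :
    IsGroupLikeElem (S ⊗[R] S) (cc R S M (ρ (MonoidAlgebra.single m 1))) := by
  classical
  set x := ρ (MonoidAlgebra.single m 1) with hx
  apply isGroupLikeElem_of_coeff
  · intro g h
    rw [coeff_cc, coeff_cc, ← cf₂_mul, ← cf₂_comul]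
    congr 1
    have hc : Coalgebra.comul (R := S) (MonoidAlgebra.single m (1 : S)) =
        MonoidAlgebra.single m (1 : S) ⊗ₜ[S] MonoidAlgebra.single m (1 : S) := by
      simp
    have := h2 (MonoidAlgebra.single m 1)
    rw [hc, rho₂_tmul] at this
    exact this
  · have h1 := mapL_counit_cc_symm (R := R) (cc R S M x)
    rw [AlgEquiv.symm_apply_apply] at h1
    rw [← h1, hx, h3, MonoidAlgebra.counit_single]
    rfl

end Extract

end Groth.Agent.Lib.Helper77.FFDescent
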