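import Mathlib
import Groth.Agent.Lib.Helper77.FFDescent5

/-!
# The cocycle condition for descent data on group algebras, in coordinates
-/

set_option autoImplicit false
set_option linter.style.haveILetI false
universe u
open TensorProduct

namespace Groth.Agent.Lib.Helper77.FFDescent

section Triple

variable (R : Type u) [CommRing R] (S : Type u) [CommRing S] [Algebra R S]
  (M : Type u) [CommGroup M]

/-- coordinates on `S ⊗[R] (S ⊗[R] S)[M]`. -/
noncomputable abbrev cc' : S ⊗[R] MonoidAlgebra (S ⊗[R] S) M ≃ₐ[S] MonoidAlgebra (S ⊗[R] (S ⊗[R] S)) M :=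
  MonoidAlgebra.rTensorEquivAlgEquiv R S S (S ⊗[R] S)

/-- `a ⊗ b ↦ a ⊗ (1 ⊗ b)`. -/
noncomputable def p₁₃ : S ⊗[R] S →+* S ⊗[R] (S ⊗[R] S) :=
  (Algebra.TensorProduct.map (AlgHom.id S S)
    (Algebra.TensorProduct.includeRight : S →ₐ[R] S ⊗[R] S)).toRingHom

/-- `a ⊗ b ↦ a ⊗ (b ⊗ 1)`. -/
noncomputable def p₁₂ : S ⊗[R] S →+* S ⊗[R] (S ⊗[R] S) :=
  (Algebra.TensorProduct.map (AlgHom.id S S)
    (Algebra.TensorProduct.includeLeft : S →ₐ[R] S ⊗[R] S)).toRingHom

/-- `t ↦ 1 ⊗ t`. -/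
noncomputable def p₂₃ : S ⊗[R] S →+* S ⊗[R] (S ⊗[R] S) :=
  (Algebra.TensorProduct.includeRight : S ⊗[R] S →ₐ[R] S ⊗[R] (S ⊗[R] S)).toRingHom

variable {R S}

@[simp] lemma p₁₃_tmul (a b : S) : p₁₃ R S (a ⊗ₜ[R] b) = a ⊗ₜ[R] ((1 : S) ⊗ₜ[R] b) := by
  simp [p₁₃]

@[simp] lemma p₁₂_tmul (a b : S) : p₁₂ R S (a ⊗ₜ[R] b) = a ⊗ₜ[R] (b ⊗ₜ[R] (1 : S)) := by
  simp [p₁₂]

@[simp] lemma p₂₃_apply (t : S ⊗[R] S) : p₂₃ R S t = (1 : S) ⊗ₜ[R] t := rfl

variable {M}

/-- coordinates on `S ⊗[R] (S ⊗[R] S[M])`. -/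
noncomputable def cc₃ (x : S ⊗[R] (S ⊗[R] MonoidAlgebra S M)) :
    MonoidAlgebra (S ⊗[R] (S ⊗[R] S)) M :=
  cc' R S M (mapL (R := R) ((cc R S M : S ⊗[R] MonoidAlgebra S M →ₐ[S] MonoidAlgebra (S ⊗[R] S) M)) x)

end Triple

section Triple2

variable {R : Type u} [CommRing R] {S : Type u} [CommRing S] [Algebra R S]
  {M : Type u} [CommGroup M]

lemma cc₃_add (x y : S ⊗[R] (S ⊗[R] MonoidAlgebra S M)) : cc₃ (x + y) = cc₃ x + cc₃ y := by
  simp [cc₃]

lemma cc₃_zero : cc₃ (0 : S ⊗[R] (S ⊗[R] MonoidAlgebra S M)) = 0 := by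
  simp [cc₃]

lemma cc₃_injective : Function.Injective (cc₃ (R := R) (S := S) (M := M)) := by
  have h : Function.LeftInverse
      (mapL (R := R) (((cc R S M).symm : MonoidAlgebra (S ⊗[R] S) M →ₐ[S] S ⊗[R] MonoidAlgebra S M)))
      (mapL (R := R) ((cc R S M : S ⊗[R] MonoidAlgebra S M →ₐ[S] MonoidAlgebra (S ⊗[R] S) M))) := by
    intro z
    induction z using TensorProduct.induction_on with
    | zero => simp
    | tmul s n => simp [mapL]
    | add x y hx hy => simp only [map_add, hx, hy]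
  intro x y hxy
  exact h.injective ((cc' R S M).injective hxy)

lemma cc₃_tmul_tmul_single (a a' : S) (g : M) (b : S) :
    cc₃ (a ⊗ₜ[R] (a' ⊗ₜ[R] MonoidAlgebra.single g b)) =
      MonoidAlgebra.single g (a ⊗ₜ[R] (a' ⊗ₜ[R] b)) := by
  simp [cc₃, mapL, MonoidAlgebra.smul_single, TensorProduct.smul_tmul']

/-- `B1`: the second face map in coordinates. -/
lemma cc₃_lTensor_mk (x : S ⊗[R] MonoidAlgebra S M) :
    cc₃ (LinearMap.lTensor S (TensorProduct.mk R S (MonoidAlgebra S M) 1) x) =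
      MonoidAlgebra.mapRingHom M (p₁₃ R S) (cc R S M x) := by
  induction x using TensorProduct.induction_on with
  | zero => simp [cc₃_zero]
  | tmul a n =>
    induction n using MonoidAlgebra.induction_linear with
    | zero => simp [cc₃_zero]
    | add x y hx hy =>
      simp only [TensorProduct.tmul_add, map_add, cc₃_add, hx, hy]
    | single g b =>
      rw [LinearMap.lTensor_tmul, TensorProduct.mk_apply, cc₃_tmul_tmul_single]
      simp [MonoidAlgebra.smul_single, TensorProduct.smul_tmul']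
  | add x y hx hy => simp only [map_add, cc₃_add, hx, hy]

end Triple2

section Face

variable {R : Type u} [CommRing R] {S : Type u} [CommRing S] [Algebra R S]
  {M : Type u} [CommGroup M]

/-- the first face map in coordinates. -/
noncomputable def Bγ (γ : M →* MonoidAlgebra (S ⊗[R] S) M) :
    MonoidAlgebra (S ⊗[R] S) M →+* MonoidAlgebra (S ⊗[R] (S ⊗[R] S)) M :=
  MonoidAlgebra.liftNCRingHom ((MonoidAlgebra.singleOneRingHom).comp (p₁₂ R S))
    (((MonoidAlgebra.mapRingHom M (p₂₃ R S) :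
      MonoidAlgebra (S ⊗[R] S) M →+* MonoidAlgebra (S ⊗[R] (S ⊗[R] S)) M) :
      MonoidAlgebra (S ⊗[R] S) M →* MonoidAlgebra (S ⊗[R] (S ⊗[R] S)) M).comp γ)
    (fun _ _ => @mul_comm (MonoidAlgebra (S ⊗[R] (S ⊗[R] S)) M) inferInstance _ _)

lemma Bγ_single (γ : M →* MonoidAlgebra (S ⊗[R] S) M) (g : M) (t : S ⊗[R] S) :
    Bγ γ (MonoidAlgebra.single g t) =
      MonoidAlgebra.single 1 (p₁₂ R S t) * MonoidAlgebra.mapRingHom M (p₂₃ R S) (γ g) := by
  simp [Bγ, MonoidAlgebra.liftNCRingHom, MonoidAlgebra.liftNC_single]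

lemma cc₃_tmul_cc_symm (a : S) (y : MonoidAlgebra (S ⊗[R] S) M) :
    cc₃ (a ⊗ₜ[R] (cc R S M).symm y) =
      a • MonoidAlgebra.mapRingHom M (p₂₃ R S) y := by
  simp only [cc₃, mapL, Algebra.TensorProduct.map_tmul, AlgHom.id_apply,
    AlgHom.coe_restrictScalars', AlgEquiv.coe_toAlgHom, AlgEquiv.apply_symm_apply,
    MonoidAlgebra.rTensorEquiv_tmulAlgEquiv]
  rfl

/-- `B2`: the first face map in coordinates. -/
lemma cc₃_lTensor_rhoγ (γ : M →* MonoidAlgebra (S ⊗[R] S) M) (x : S ⊗[R] MonoidAlgebra S M) :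
    cc₃ (LinearMap.lTensor S ((rhoγ γ).toLinearMap.restrictScalars R) x) =
      Bγ γ (cc R S M x) := by
  induction x using TensorProduct.induction_on with
  | zero => simp [cc₃_zero]
  | tmul a n =>
    induction n using MonoidAlgebra.induction_linear with
    | zero => simp [cc₃_zero]
    | add x y hx hy =>
      simp only [TensorProduct.tmul_add, map_add, cc₃_add, hx, hy]
    | single g b =>
      rw [LinearMap.lTensor_tmul]
      show cc₃ (a ⊗ₜ[R] rhoγ γ (MonoidAlgebra.single g b)) = _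
      rw [rhoγ_apply, Lγ_single, cc₃_tmul_cc_symm, MonoidAlgebra.rTensorEquiv_tmulAlgEquiv]
      simp only [MonoidAlgebra.mapAlgHom_single, MonoidAlgebra.smul_single,
        Algebra.TensorProduct.includeRight_apply, Bγ_single]
      rw [Algebra.smul_def b (γ g), map_mul, Algebra.smul_def a, ← mul_assoc]
      congr 1
      simp [MonoidAlgebra.coe_algebraMap, Algebra.TensorProduct.algebraMap_apply,
        MonoidAlgebra.single_mul_single, TensorProduct.smul_tmul']
  | add x y hx hy => simp only [map_add, cc₃_add, hx, hy]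

end Face

section Cocycle

variable {R : Type u} [CommRing R] {S : Type u} [CommRing S] [Algebra R S]
  {M : Type u} [CommGroup M] (γ : M →* MonoidAlgebra (S ⊗[R] S) M)

theorem isDescentDatum_rhoγ
    (h1 : ∀ m, MonoidAlgebra.mapRingHom M (muT R S) (γ m) = MonoidAlgebra.single m 1)
    (h2 : ∀ m, Bγ γ (γ m) = MonoidAlgebra.mapRingHom M (p₁₃ R S) (γ m)) :
    IsDescentDatum (rhoγ γ).toLinearMap where
  counit := by
    intro n
    show act R S _ (rhoγ γ n) = n
    induction n using MonoidAlgebra.induction_linear with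
    | zero => simp
    | add x y hx hy => simp only [map_add, hx, hy]
    | single g b =>
      have hb : MonoidAlgebra.single g b = b • MonoidAlgebra.single g (1 : S) := by
        rw [MonoidAlgebra.smul_single, smul_eq_mul, mul_one]
      rw [hb, map_smul, map_smul, rhoγ_single_one, act_cc_symm, h1]
  coassoc := by
    intro n
    show LinearMap.lTensor S ((rhoγ γ).toLinearMap.restrictScalars R) (rhoγ γ n) =
      LinearMap.lTensor S (TensorProduct.mk R S (MonoidAlgebra S M) 1) (rhoγ γ n)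
    apply cc₃_injective
    rw [cc₃_lTensor_rhoγ, cc₃_lTensor_mk, cc_rhoγ]
    induction n using MonoidAlgebra.induction_linear with
    | zero => simp
    | add x y hx hy => simp only [map_add, hx, hy]
    | single g b =>
      rw [Lγ_single, Algebra.smul_def, map_mul, map_mul, h2]
      congr 1
      simp [MonoidAlgebra.coe_algebraMap, Algebra.TensorProduct.algebraMap_apply, Bγ_single]

theorem coord_of_isDescentDatum (h : IsDescentDatum (rhoγ γ).toLinearMap) (m : M) :
    MonoidAlgebra.mapRingHom M (muT R S) (γ m) = MonoidAlgebra.single m 1 ∧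
      Bγ γ (γ m) = MonoidAlgebra.mapRingHom M (p₁₃ R S) (γ m) := by
  constructor
  · have h1 : act R S _ (rhoγ γ (MonoidAlgebra.single m 1)) = MonoidAlgebra.single m 1 :=
      h.counit (MonoidAlgebra.single m 1)
    rw [rhoγ_single_one, act_cc_symm] at h1
    exact h1
  · have h2 : LinearMap.lTensor S ((rhoγ γ).toLinearMap.restrictScalars R)
          (rhoγ γ (MonoidAlgebra.single m 1)) =
        LinearMap.lTensor S (TensorProduct.mk R S (MonoidAlgebra S M) 1)
          (rhoγ γ (MonoidAlgebra.single m 1)) := h.coassoc (MonoidAlgebra.single m 1)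
    have h3 := congrArg cc₃ h2
    rw [cc₃_lTensor_rhoγ, cc₃_lTensor_mk, cc_rhoγ, Lγ_single, one_smul] at h3
    exact h3

end Cocycle

section GLB

open Groth.Agent.Lib.Helper77.DiagSub Groth.Agent.Lib.Helper77.GLLift

variable {R : Type u} [CommRing R] {S : Type u} [CommRing S] [Algebra R S]
  {M : Type u} [CommGroup M]

lemma exists_coi_decomp {B : Type u} [CommRing B] {y : MonoidAlgebra B M}
    (hy : IsGroupLikeElem B y) :
    ∃ (F : Finset M) (e : F → B), CompleteOrthogonalIdempotents e ∧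
      y = ∑ i : F, MonoidAlgebra.single i.1 (e i) := by
  classical
  refine ⟨y.coeff.support, fun i => y.coeff i.1, ?_, ?_⟩
  · refine ⟨(OrthogonalIdempotents.iff_mul_eq).mpr ?_, ?_⟩
    · intro i j
      show y.coeff i.1 * y.coeff j.1 = _
      rw [coeff_mul_coeff_of_isGroupLikeElem hy]
      by_cases hij : i = j
      · rw [if_pos hij, if_pos (congrArg Subtype.val hij)]
      · rw [if_neg hij, if_neg (fun h => hij (Subtype.ext h))]
    · have h2 := hy.counit_eq_one
      rw [counit_eq_sum] at h2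
      rw [← h2]
      exact (Finset.sum_coe_sort y.coeff.support (fun m => y.coeff m))
  · conv_lhs => rw [← MonoidAlgebra.sum_coeff_single y, Finsupp.sum]
    rw [← Finset.sum_coe_sort y.coeff.support]

theorem isGroupLikeElem_Bγ (γ : M →* MonoidAlgebra (S ⊗[R] S) M)
    (hγ : ∀ m, IsGroupLikeElem (S ⊗[R] S) (γ m)) {y : MonoidAlgebra (S ⊗[R] S) M}
    (hy : IsGroupLikeElem (S ⊗[R] S) y) :
    IsGroupLikeElem (S ⊗[R] (S ⊗[R] S)) (Bγ γ y) := by
  classical
  obtain ⟨F, e, he, rfl⟩ := exists_coi_decomp hy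
  rw [map_sum]
  have h1 : ∀ i : F, Bγ γ (MonoidAlgebra.single i.1 (e i)) =
      (p₁₂ R S (e i)) • MonoidAlgebra.mapRingHom M (p₂₃ R S) (γ i.1) := by
    intro i
    rw [Bγ_single, Algebra.smul_def, MonoidAlgebra.coe_algebraMap]
    simp
  simp_rw [h1]
  exact isGroupLikeElem_sum_smul (he.map (p₁₂ R S))
    (fun i => isGroupLikeElem_mapRingHom _ (hγ i.1))

end GLB

end Groth.Agent.Lib.Helper77.FFDescent
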