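import Mathlib
import Groth.Agent.Lib.Helper77.FFDescent6

/-!
# Lifting descent data on group algebras along a henselian thickening
-/

set_option autoImplicit false
set_option linter.style.haveILetI false
universe u
open TensorProduct

namespace Groth.Agent.Lib.Helper77.FFDescent

section TwoLevel

variable {R : Type u} [CommRing R] {S : Type u} [CommRing S] [Algebra R S]
  {R₀ : Type u} [CommRing R₀] {S₀ : Type u} [CommRing S₀] [Algebra R₀ S₀]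
  {M : Type u} [CommGroup M]
  (π : S →+* S₀) (q : S ⊗[R] S →+* S₀ ⊗[R₀] S₀)
  (q₃ : S ⊗[R] (S ⊗[R] S) →+* S₀ ⊗[R₀] (S₀ ⊗[R₀] S₀))
  (hq : ∀ a b, q (a ⊗ₜ[R] b) = π a ⊗ₜ[R₀] π b)
  (hq₃ : ∀ a t, q₃ (a ⊗ₜ[R] t) = π a ⊗ₜ[R₀] q t)

include hq in
lemma pi_muT (t : S ⊗[R] S) : π (muT R S t) = muT R₀ S₀ (q t) := by
  induction t using TensorProduct.induction_on with
  | zero => simp
  | tmul a b => simp [hq]
  | add x y hx hy => simp only [map_add, hx, hy]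

include hq hq₃ in
lemma q₃_p₁₂ (t : S ⊗[R] S) : q₃ (p₁₂ R S t) = p₁₂ R₀ S₀ (q t) := by
  induction t using TensorProduct.induction_on with
  | zero => simp
  | tmul a b => simp [hq, hq₃]
  | add x y hx hy => simp only [map_add, hx, hy]

include hq hq₃ in
lemma q₃_p₁₃ (t : S ⊗[R] S) : q₃ (p₁₃ R S t) = p₁₃ R₀ S₀ (q t) := by
  induction t using TensorProduct.induction_on with
  | zero => simp
  | tmul a b => simp [hq, hq₃]
  | add x y hx hy => simp only [map_add, hx, hy]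

include hq₃ in
lemma q₃_p₂₃ (t : S ⊗[R] S) : q₃ (p₂₃ R S t) = p₂₃ R₀ S₀ (q t) := by
  simp [hq₃]

end TwoLevel

section Lifting

variable {R : Type u} [CommRing R] {S : Type u} [CommRing S] [Algebra R S]
  {R₀ : Type u} [CommRing R₀] {S₀ : Type u} [CommRing S₀] [Algebra R₀ S₀]
  {M : Type u} [CommGroup M]
  (π : S →+* S₀) (q : S ⊗[R] S →+* S₀ ⊗[R₀] S₀)
  (q₃ : S ⊗[R] (S ⊗[R] S) →+* S₀ ⊗[R₀] (S₀ ⊗[R₀] S₀))
  (hq : ∀ a b, q (a ⊗ₜ[R] b) = π a ⊗ₜ[R₀] π b)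
  (hq₃ : ∀ a t, q₃ (a ⊗ₜ[R] t) = π a ⊗ₜ[R₀] q t)
  (γ : M →* MonoidAlgebra (S ⊗[R] S) M) (γ₀ : M →* MonoidAlgebra (S₀ ⊗[R₀] S₀) M)
  (hγγ₀ : ∀ m, MonoidAlgebra.mapRingHom M q (γ m) = γ₀ m)

include hq hq₃ hγγ₀ in
lemma mapRingHom_Bγ (y : MonoidAlgebra (S ⊗[R] S) M) :
    MonoidAlgebra.mapRingHom M q₃ (Bγ γ y) = Bγ γ₀ (MonoidAlgebra.mapRingHom M q y) := by
  induction y using MonoidAlgebra.induction_linear with
  | zero => simp
  | add x y hx hy => simp only [map_add, hx, hy]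
  | single g t =>
    rw [Bγ_single, map_mul, MonoidAlgebra.mapRingHom_single, MonoidAlgebra.mapRingHom_single,
      Bγ_single, q₃_p₁₂ π q q₃ hq hq₃, ← hγγ₀]
    congr 1
    have h1 : (MonoidAlgebra.mapRingHom M q₃).comp (MonoidAlgebra.mapRingHom M (p₂₃ R S)) =
        (MonoidAlgebra.mapRingHom M (p₂₃ R₀ S₀)).comp (MonoidAlgebra.mapRingHom M q) := by
      rw [← MonoidAlgebra.mapRingHom_comp, ← MonoidAlgebra.mapRingHom_comp]
      congr 1
      exact RingHom.ext fun t => q₃_p₂₃ π q q₃ hq₃ t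
    exact congrArg (fun f => f (γ g)) h1

include hq hγγ₀ in
lemma mapRingHom_Lγ (n : MonoidAlgebra S M) :
    MonoidAlgebra.mapRingHom M q (Lγ γ n) = Lγ γ₀ (MonoidAlgebra.mapRingHom M π n) := by
  induction n using MonoidAlgebra.induction_linear with
  | zero => simp
  | add x y hx hy => simp only [map_add, hx, hy]
  | single g b =>
    rw [Lγ_single, MonoidAlgebra.mapRingHom_single, Lγ_single, Algebra.smul_def, map_mul, hγγ₀,
      Algebra.smul_def]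
    congr 1
    simp [MonoidAlgebra.coe_algebraMap, Algebra.TensorProduct.algebraMap_apply, hq]

end Lifting

section Main

variable {R : Type u} [CommRing R] {S : Type u} [CommRing S] [Algebra R S]
  {R₀ : Type u} [CommRing R₀] {S₀ : Type u} [CommRing S₀] [Algebra R₀ S₀]
  {M : Type u} [CommGroup M]
  (π : S →+* S₀) (q : S ⊗[R] S →+* S₀ ⊗[R₀] S₀)
  (q₃ : S ⊗[R] (S ⊗[R] S) →+* S₀ ⊗[R₀] (S₀ ⊗[R₀] S₀))
  (hq : ∀ a b, q (a ⊗ₜ[R] b) = π a ⊗ₜ[R₀] π b)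
  (hq₃ : ∀ a t, q₃ (a ⊗ₜ[R] t) = π a ⊗ₜ[R₀] q t)

include hq hq₃ in
/-- **lifting descent data on group algebras**. -/
theorem exists_lift_descentDatum
    (hqs : Function.Surjective q) [HenselianRing (S ⊗[R] S) (RingHom.ker q)]
    (hπJ : RingHom.ker π ≤ Ideal.jacobson ⊥) (hq₃J : RingHom.ker q₃ ≤ Ideal.jacobson ⊥)
    (γ₀ : M →* MonoidAlgebra (S₀ ⊗[R₀] S₀) M)
    (hγ₀ : ∀ m, IsGroupLikeElem (S₀ ⊗[R₀] S₀) (γ₀ m))
    (hdd₀ : IsDescentDatum (rhoγ γ₀).toLinearMap) :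
    ∃ γ : M →* MonoidAlgebra (S ⊗[R] S) M, (∀ m, IsGroupLikeElem (S ⊗[R] S) (γ m)) ∧
      (∀ m, MonoidAlgebra.mapRingHom M q (γ m) = γ₀ m) ∧
      IsDescentDatum (rhoγ γ).toLinearMap := by
  have hqJ : RingHom.ker q ≤ Ideal.jacobson ⊥ := HenselianRing.jac
  choose γf hγf hqγf using fun m => exists_groupLike_lift (M := M) q hqs (hγ₀ m)
  have h1 : γf 1 = 1 := by
    apply eq_of_mapRingHom_eq q hqJ (hγf 1) IsGroupLikeElem.one
    rw [hqγf, map_one, map_one]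
  have hmul : ∀ m m', γf (m * m') = γf m * γf m' := by
    intro m m'
    apply eq_of_mapRingHom_eq q hqJ (hγf _) ((hγf m).mul (hγf m'))
    rw [hqγf, map_mul, map_mul, hqγf, hqγf]
  let γ : M →* MonoidAlgebra (S ⊗[R] S) M := ⟨⟨γf, h1⟩, hmul⟩
  have hγ : ∀ m, IsGroupLikeElem (S ⊗[R] S) (γ m) := hγf
  have hγγ₀ : ∀ m, MonoidAlgebra.mapRingHom M q (γ m) = γ₀ m := hqγf
  refine ⟨γ, hγ, hγγ₀, ?_⟩
  apply isDescentDatum_rhoγ
  · intro m
    apply eq_of_mapRingHom_eq π hπJ (isGroupLikeElem_mapRingHom _ (hγ m))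
      (MonoidAlgebra.isGroupLikeElem_single_one m)
    have h2 : (MonoidAlgebra.mapRingHom M π).comp (MonoidAlgebra.mapRingHom M (muT R S)) =
        (MonoidAlgebra.mapRingHom M (muT R₀ S₀)).comp (MonoidAlgebra.mapRingHom M q) := by
      rw [← MonoidAlgebra.mapRingHom_comp, ← MonoidAlgebra.mapRingHom_comp]
      congr 1
      exact RingHom.ext fun t => pi_muT π q hq t
    have h3 := congrArg (fun f => f (γ m)) h2
    simp only [RingHom.coe_comp, Function.comp_apply] at h3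
    rw [h3, hγγ₀, (coord_of_isDescentDatum γ₀ hdd₀ m).1, MonoidAlgebra.mapRingHom_single, map_one]
  · intro m
    apply eq_of_mapRingHom_eq q₃ hq₃J (isGroupLikeElem_Bγ γ hγ (hγ m))
      (isGroupLikeElem_mapRingHom _ (hγ m))
    rw [mapRingHom_Bγ π q q₃ hq hq₃ γ γ₀ hγγ₀, hγγ₀, (coord_of_isDescentDatum γ₀ hdd₀ m).2]
    have h2 : (MonoidAlgebra.mapRingHom M q₃).comp (MonoidAlgebra.mapRingHom M (p₁₃ R S)) =
        (MonoidAlgebra.mapRingHom M (p₁₃ R₀ S₀)).comp (MonoidAlgebra.mapRingHom M q) := by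
      rw [← MonoidAlgebra.mapRingHom_comp, ← MonoidAlgebra.mapRingHom_comp]
      congr 1
      exact RingHom.ext fun t => q₃_p₁₃ π q q₃ hq hq₃ t
    have h3 := congrArg (fun f => f (γ m)) h2
    simp only [RingHom.coe_comp, Function.comp_apply] at h3
    rw [h3, hγγ₀]

end Main

section Invariants

variable {R : Type u} [CommRing R] {S : Type u} [CommRing S] [Algebra R S]
  {R₀ : Type u} [CommRing R₀] {S₀ : Type u} [CommRing S₀] [Algebra R₀ S₀]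
  {M : Type u} [CommGroup M]

variable (R S) in
/-- `b ↦ 1 ⊗ b`. -/
noncomputable def p₂ : S →+* S ⊗[R] S :=
  (Algebra.TensorProduct.includeRight : S →ₐ[R] S ⊗[R] S).toRingHom

@[simp] lemma p₂_apply (b : S) : p₂ R S b = (1 : S) ⊗ₜ[R] b := rfl

lemma mem_invA_rhoγ_iff (γ : M →* MonoidAlgebra (S ⊗[R] S) M) (n : MonoidAlgebra S M) :
    n ∈ invA (rhoγ γ) ↔ Lγ γ n = MonoidAlgebra.mapRingHom M (p₂ R S) n := by
  rw [mem_invA, ← (cc R S M).injective.eq_iff, cc_rhoγ, MonoidAlgebra.rTensorEquiv_tmulAlgEquiv,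
    one_smul]
  rfl

variable (π : S →+* S₀) (q : S ⊗[R] S →+* S₀ ⊗[R₀] S₀)
  (hq : ∀ a b, q (a ⊗ₜ[R] b) = π a ⊗ₜ[R₀] π b)
  (γ : M →* MonoidAlgebra (S ⊗[R] S) M) (γ₀ : M →* MonoidAlgebra (S₀ ⊗[R₀] S₀) M)
  (hγγ₀ : ∀ m, MonoidAlgebra.mapRingHom M q (γ m) = γ₀ m)

include hq hγγ₀ in
lemma mapRingHom_mem_invA {k : MonoidAlgebra S M} (hk : k ∈ invA (rhoγ γ)) :
    MonoidAlgebra.mapRingHom M π k ∈ invA (rhoγ γ₀) := by
  rw [mem_invA_rhoγ_iff] at hk ⊢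
  rw [← mapRingHom_Lγ π q hq γ γ₀ hγγ₀, hk]
  have h2 : (MonoidAlgebra.mapRingHom M q).comp (MonoidAlgebra.mapRingHom M (p₂ R S)) =
      (MonoidAlgebra.mapRingHom M (p₂ R₀ S₀)).comp (MonoidAlgebra.mapRingHom M π) := by
    rw [← MonoidAlgebra.mapRingHom_comp, ← MonoidAlgebra.mapRingHom_comp]
    congr 1
    refine RingHom.ext fun b => ?_
    simp [hq]
  exact congrArg (fun f => f k) h2

end Invariants

end Groth.Agent.Lib.Helper77.FFDescent
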