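import Mathlib
import Groth.Agent.Lib.Helper77.FFDescent7
import Groth.Agent.Lib.Helper77.MultBC
import Groth.Agent.Lib.Helper77.DiagNil
import Groth.Agent.Lib.Helper77.HensAlg1
import Groth.Agent.Lib.Helper77.CompDiag11

/-!
# Comparison of the reduction of a descended Hopf algebra
-/

set_option autoImplicit false
set_option linter.style.haveILetI false
universe u
open TensorProduct

namespace Groth.Agent.Lib.Helper77.FFDescent

open Groth.Agent.Lib.Helper77.MultBC Groth.Agent.Lib.Helper77.DiagNil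

section F2

variable {R : Type u} [CommRing R] (I : Ideal R) {S : Type u} [CommRing S] [Algebra R S]
  {S₀ : Type u} [CommRing S₀] [Algebra (R ⧸ I) S₀] [Algebra R S₀] [Algebra S S₀]
  [IsScalarTower R (R ⧸ I) S₀] [IsScalarTower R S S₀] [Module.FaithfullyFlat (R ⧸ I) S₀]
  {K : Type u} [CommRing K] [HopfAlgebra R K] {A₀ : Type u} [CommRing A₀] [HopfAlgebra (R ⧸ I) A₀]
  {M : Type u} [CommGroup M]

theorem nonempty_bialgEquiv_reduction (eK : S ⊗[R] K ≃ₐc[S] MonoidAlgebra S M)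
    (e₀ : S₀ ⊗[R ⧸ I] A₀ ≃ₐc[S₀] MonoidAlgebra S₀ M)
    (h : ∀ k : K, ∃ b : A₀, e₀ ((1 : S₀) ⊗ₜ[R ⧸ I] b) =
      MonoidAlgebra.mapRingHom M (algebraMap S S₀) (eK ((1 : S) ⊗ₜ[R] k))) :
    Nonempty (((R ⧸ I) ⊗[R] K) ≃ₐc[R ⧸ I] A₀) := by
  let Λ : S₀ ⊗[R ⧸ I] ((R ⧸ I) ⊗[R] K) ≃ₐc[S₀] MonoidAlgebra S₀ M :=
    (cancelBC R (R ⧸ I) S₀ K).trans ((cancelBC R S S₀ K).symm.trans
      ((bcEquiv S S₀ eK).trans (monoidAlgebraBC S S₀ M)))
  have hΛ : ∀ k : K, Λ ((1 : S₀) ⊗ₜ[R ⧸ I] ((1 : R ⧸ I) ⊗ₜ[R] k)) =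
      MonoidAlgebra.mapRingHom M (algebraMap S S₀) (eK ((1 : S) ⊗ₜ[R] k)) := by
    intro k
    show monoidAlgebraBC S S₀ M (bcEquiv S S₀ eK ((cancelBC R S S₀ K).symm
      (cancelBC R (R ⧸ I) S₀ K ((1 : S₀) ⊗ₜ[R ⧸ I] ((1 : R ⧸ I) ⊗ₜ[R] k))))) = _
    rw [cancelBC_tmul, one_smul, cancelBC_symm_tmul, bcEquiv_tmul]
    show MonoidAlgebra.scalarTensorEquiv S S₀ _ = _
    rw [MonoidAlgebra.scalarTensorEquiv_tmul, one_smul]
    rfl
  refine nonempty_bialgEquiv_of_baseChange (Λ.trans e₀.symm) ?_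
  intro a
  obtain ⟨k, rfl⟩ := exists_one_tmul_eq I a
  obtain ⟨b, hb⟩ := h k
  refine ⟨b, ?_⟩
  show e₀.symm (Λ _) = _
  rw [hΛ, ← hb, e₀.symm_apply_apply]

end F2

section Red

variable {R : Type u} [CommRing R] (I : Ideal R) {X : Type u} [CommRing X] [Algebra R X]
  {X₀ : Type u} [CommRing X₀] [Algebra (R ⧸ I) X₀] (e : (R ⧸ I) ⊗[R] X ≃ₐ[R ⧸ I] X₀)

/-- the reduction map attached to an identification of the reduction. -/
noncomputable def redHom : X →+* X₀ :=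
  (e : (R ⧸ I) ⊗[R] X →+* X₀).comp
    (Algebra.TensorProduct.includeRight : X →ₐ[R] (R ⧸ I) ⊗[R] X).toRingHom

lemma redHom_apply (x : X) : redHom I e x = e ((1 : R ⧸ I) ⊗ₜ[R] x) := rfl

lemma redHom_surjective : Function.Surjective (redHom I e) := by
  intro y
  obtain ⟨x, hx⟩ := exists_one_tmul_eq I (e.symm y)
  exact ⟨x, by rw [redHom_apply, hx, e.apply_symm_apply]⟩

lemma ker_redHom : RingHom.ker (redHom I e) = I.map (algebraMap R X) := by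
  ext x
  rw [RingHom.mem_ker, redHom_apply, EmbeddingLike.map_eq_zero_iff,
    Groth.Agent.Lib.Helper77.GLLift.one_tmul_eq_zero_iff]

lemma henselianRing_ker_redHom [HenselianRing R I] [Algebra.IsIntegral R X] :
    HenselianRing X (RingHom.ker (redHom I e)) := by
  rw [ker_redHom]
  exact Groth.Agent.Lib.Helper3.henselianRing_map_of_isIntegral I X

lemma redHom_algebraMap (r : R) :
    redHom I e (algebraMap R X r) = algebraMap (R ⧸ I) X₀ (Ideal.Quotient.mk I r) := by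
  rw [redHom_apply, Algebra.algebraMap_eq_smul_one, TensorProduct.tmul_smul,
    TensorProduct.smul_tmul']
  have h1 : r • (1 : R ⧸ I) = Ideal.Quotient.mk I r := by simp [Algebra.smul_def]
  rw [h1, Algebra.algebraMap_eq_smul_one (Ideal.Quotient.mk I r), ← map_one e, ← map_smul]
  congr 1
  rw [Algebra.TensorProduct.one_def, TensorProduct.smul_tmul', smul_eq_mul, mul_one]

end Red

section Assembly

open SGA3b Groth.Agent.Lib.Helper77.HopfLift1 Groth.Agent.Lib.Helper77.CompDiag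

/-- **Isotrivial groups of multiplicative type lift along a complete noetherian thickening.** -/
theorem exists_isotrivial_lift (R : Type u) [CommRing R] [IsNoetherianRing R] (I : Ideal R)
    [IsAdicComplete I R] (A₀ : Type u) [CommRing A₀] [HopfAlgebra (R ⧸ I) A₀]
    (h0 : IsIsotrivial (R ⧸ I) A₀) :
    ∃ (A : Type u) (_ : CommRing A) (_ : HopfAlgebra R A), IsIsotrivial R A ∧
      Nonempty (((R ⧸ I) ⊗[R] A) ≃ₐc[R ⧸ I] A₀) := by
  obtain ⟨S₀, _, _, het₀, hfin₀, hff₀, M, _, ⟨e₀⟩⟩ := h0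
  haveI := het₀
  haveI := hfin₀
  haveI := hff₀
  obtain ⟨S, _, _, hfin, het, ⟨eS⟩⟩ :=
    Groth.Agent.Lib.Helper3.exists_finite_etale_lift_of_pair R I S₀
  haveI := hfin
  haveI := het
  -- reductions
  let π : S →+* S₀ := redHom I eS
  let eT : (R ⧸ I) ⊗[R] (S ⊗[R] S) ≃ₐ[R ⧸ I] S₀ ⊗[R ⧸ I] S₀ := red₂ R (R ⧸ I) eS eS
  let q : S ⊗[R] S →+* S₀ ⊗[R ⧸ I] S₀ := redHom I eT
  let eT₃ : (R ⧸ I) ⊗[R] (S ⊗[R] (S ⊗[R] S)) ≃ₐ[R ⧸ I] S₀ ⊗[R ⧸ I] (S₀ ⊗[R ⧸ I] S₀) :=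
    red₂ R (R ⧸ I) eS eT
  let q₃ : S ⊗[R] (S ⊗[R] S) →+* S₀ ⊗[R ⧸ I] (S₀ ⊗[R ⧸ I] S₀) := redHom I eT₃
  have hq : ∀ a b, q (a ⊗ₜ[R] b) = π a ⊗ₜ[R ⧸ I] π b := by
    intro a b
    simp only [q, π, redHom_apply, eT, red₂_tmul]
  have hq₃ : ∀ a t, q₃ (a ⊗ₜ[R] t) = π a ⊗ₜ[R ⧸ I] q t := by
    intro a t
    simp only [q₃, q, π, redHom_apply, eT₃, red₂_tmul]
  haveI : Algebra.IsIntegral R S := Algebra.IsIntegral.of_finite R S
  haveI : Algebra.IsIntegral R (S ⊗[R] S) := Algebra.IsIntegral.of_finite R _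
  haveI : Algebra.IsIntegral R (S ⊗[R] (S ⊗[R] S)) := Algebra.IsIntegral.of_finite R _
  haveI hHens : HenselianRing (S ⊗[R] S) (RingHom.ker q) := henselianRing_ker_redHom I eT
  have hπJ : RingHom.ker π ≤ Ideal.jacobson ⊥ := (henselianRing_ker_redHom I eS).jac
  have hq₃J : RingHom.ker q₃ ≤ Ideal.jacobson ⊥ := (henselianRing_ker_redHom I eT₃).jac
  -- the datum on the special fibre
  let ρ₀ : MonoidAlgebra S₀ M →ₐ[S₀] S₀ ⊗[R ⧸ I] MonoidAlgebra S₀ M :=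
    transport e₀ (canRhoAlg (R ⧸ I) S₀ A₀)
  have hρ₀ : IsHopfDescentDatum ρ₀ :=
    isHopfDescentDatum_transport e₀ (isHopfDescentDatum_canRhoAlg (R ⧸ I) S₀ A₀)
  let γ₀ : M →* MonoidAlgebra (S₀ ⊗[R ⧸ I] S₀) M :=
    ((((cc (R ⧸ I) S₀ M : S₀ ⊗[R ⧸ I] MonoidAlgebra S₀ M →ₐ[S₀] MonoidAlgebra (S₀ ⊗[R ⧸ I] S₀) M).comp ρ₀ :
      MonoidAlgebra S₀ M →ₐ[S₀] MonoidAlgebra (S₀ ⊗[R ⧸ I] S₀) M) :
      MonoidAlgebra S₀ M →* MonoidAlgebra (S₀ ⊗[R ⧸ I] S₀) M)).comp (MonoidAlgebra.of S₀ M)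
  have hγ₀def : ∀ m, γ₀ m = cc (R ⧸ I) S₀ M (ρ₀ (MonoidAlgebra.single m 1)) := fun m => rfl
  have hγ₀ : ∀ m, IsGroupLikeElem (S₀ ⊗[R ⧸ I] S₀) (γ₀ m) := fun m =>
    isGroupLikeElem_cc_of_compat ρ₀ hρ₀.comul hρ₀.counit m
  have hρ₀eq : ρ₀ = rhoγ γ₀ := by
    refine MonoidAlgebra.algHom_ext ?_ (Subsingleton.elim _ _)
    intro m
    rw [rhoγ_single_one, hγ₀def, AlgEquiv.symm_apply_apply]
  have hdd₀ : IsDescentDatum (rhoγ γ₀).toLinearMap := hρ₀eq ▸ hρ₀.dd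
  obtain ⟨γ, hγ, hγγ₀, hdd⟩ := exists_lift_descentDatum π q q₃ hq hq₃ (redHom_surjective I eT)
    hπJ hq₃J γ₀ hγ₀ hdd₀
  have hρ : IsHopfDescentDatum (rhoγ γ) := isHopfDescentDatum_rhoγ γ hγ hdd
  -- faithful flatness of the lift
  haveI hflat : Module.Flat R S := inferInstance
  haveI hffS : Module.FaithfullyFlat R S :=
    faithfullyFlat_of_lift_jacobson (Ideal.Quotient.mk I) S S₀ Ideal.Quotient.mk_surjective
      (by rw [Ideal.mk_ker]; exact IsAdicComplete.le_jacobson_bot I) π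
      (fun x => redHom_algebraMap I eS x)
  obtain ⟨Δ, hΔ⟩ := exists_comul hρ
  obtain ⟨ε, hε⟩ := exists_counit hρ
  obtain ⟨σ, hσ⟩ := exists_antipode hρ
  letI : HopfAlgebra R (invA (rhoγ γ)) := hopfAlgebraOfDescent (eA hρ.dd) Δ hΔ ε hε σ hσ
  let eK : S ⊗[R] invA (rhoγ γ) ≃ₐc[S] MonoidAlgebra S M :=
    bialgEquivOfDescent (eA hρ.dd) Δ hΔ ε hε σ hσ
  have heK : ∀ k : invA (rhoγ γ), eK ((1 : S) ⊗ₜ[R] k) = (k : MonoidAlgebra S M) := by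
    intro k
    show eA hρ.dd ((1 : S) ⊗ₜ[R] k) = _
    rw [eA_tmul, one_smul]
  refine ⟨invA (rhoγ γ), inferInstance, inferInstance,
    ⟨S, inferInstance, inferInstance, het, hfin, hffS, M, inferInstance, ⟨eK⟩⟩, ?_⟩
  letI : Algebra R S₀ := ((algebraMap (R ⧸ I) S₀).comp (Ideal.Quotient.mk I)).toAlgebra
  haveI : IsScalarTower R (R ⧸ I) S₀ := IsScalarTower.of_algebraMap_eq (fun _ => rfl)
  letI : Algebra S S₀ := π.toAlgebra
  haveI : IsScalarTower R S S₀ :=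
    IsScalarTower.of_algebraMap_eq (fun x => (redHom_algebraMap I eS x).symm)
  apply nonempty_bialgEquiv_reduction I eK e₀
  intro k
  rw [heK]
  have hk : MonoidAlgebra.mapRingHom M π (k : MonoidAlgebra S M) ∈ invA (rhoγ γ₀) :=
    mapRingHom_mem_invA π q hq γ γ₀ hγγ₀ k.2
  rw [← hρ₀eq] at hk
  have hk' : e₀.symm (MonoidAlgebra.mapRingHom M π (k : MonoidAlgebra S M)) ∈
      invA (canRhoAlg (R ⧸ I) S₀ A₀) := by
    rw [← mem_invA_transport e₀, e₀.apply_symm_apply]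
    exact hk
  have hk'' : e₀.symm (MonoidAlgebra.mapRingHom M π (k : MonoidAlgebra S M)) ∈
      inv (canRho (R ⧸ I) S₀ A₀) := by
    rw [mem_inv, ← canRhoAlg_apply]
    exact mem_invA.mp hk'
  obtain ⟨b, hb⟩ := exists_one_tmul_of_mem_inv_canRho (R ⧸ I) S₀ A₀ hk''
  refine ⟨b, ?_⟩
  rw [hb, e₀.apply_symm_apply]
  rfl

end Assembly

end Groth.Agent.Lib.Helper77.FFDescent
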