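import Mathlib
import Groth.Agent.Lib.Helper77.FinOrd9

set_option autoImplicit false
universe u
open TensorProduct WithConv

namespace Groth.Agent.Lib.Helper77.FinEtale

open Groth.Agent.Lib.Helper77.FinOrd

section LemmaU

variable {k : Type u} [Field k] {A : Type u} [CommRing A] [HopfAlgebra k A]

/-- `g ∘ S` is a right inverse of `g` in the convolution monoid. -/
lemma mul_comp_antipode {B : Type u} [CommRing B] [Algebra k B] (g : A →ₐ[k] B) :
    toConv g * toConv (g.comp (HopfAlgebra.antipodeAlgHom k A)) = 1 := by
  have h1 : (toConv (AlgHom.id k A)) * toConv (HopfAlgebra.antipodeAlgHom k A) = 1 := by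
    apply WithConv.ofConv_injective
    apply AlgHom.toLinearMap_injective
    apply WithConv.toConv_injective
    rw [AlgHom.toLinearMap_convMul, AlgHom.toLinearMap_convOne]
    exact LinearMap.id_mul_antipode
  have h2 := AlgHom.comp_convMul_distrib g (toConv (AlgHom.id k A))
    (toConv (HopfAlgebra.antipodeAlgHom k A))
  rw [h1] at h2
  apply WithConv.ofConv_injective
  refine Eq.trans ?_ (Eq.trans h2.symm ?_)
  · rfl
  · apply AlgHom.ext
    intro a
    show g (algebraMap k A (Coalgebra.counit (R := k) a)) = _
    rw [AlgHom.commutes]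
    rfl

/-- `g ∘ S` is a left inverse of `g` in the convolution monoid. -/
lemma comp_antipode_mul {B : Type u} [CommRing B] [Algebra k B] (g : A →ₐ[k] B) :
    toConv (g.comp (HopfAlgebra.antipodeAlgHom k A)) * toConv g = 1 := by
  have h1 : toConv (HopfAlgebra.antipodeAlgHom k A) * (toConv (AlgHom.id k A)) = 1 :=
    AlgHom.antipode_id_cancel
  have h2 := AlgHom.comp_convMul_distrib g (toConv (HopfAlgebra.antipodeAlgHom k A))
    (toConv (AlgHom.id k A))
  rw [h1] at h2
  apply WithConv.ofConv_injective
  refine Eq.trans ?_ (Eq.trans h2.symm ?_)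
  · rfl
  · apply AlgHom.ext
    intro a
    show g (algebraMap k A (Coalgebra.counit (R := k) a)) = _
    rw [AlgHom.commutes]
    rfl

/-- **Lemma U**: if the augmentation ideal is generated by an idempotent the Hopf algebra is
formally unramified. -/
theorem formallyUnramified_of_augI_eq_span (e : A) (he : IsIdempotentElem e)
    (hI : augI k A = Ideal.span {e}) : Algebra.FormallyUnramified k A := by
  rw [Algebra.FormallyUnramified.iff_comp_injective]
  intro B _ _ N hN g₁ g₂ h12
  have heI : e ∈ augI k A := by rw [hI]; exact Ideal.mem_span_singleton_self e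
  set π : B →ₐ[k] B ⧸ N := Ideal.Quotient.mkₐ k N with hπ
  have h12' : π.comp g₁ = π.comp g₂ := h12
  set h : WithConv (A →ₐ[k] B) := toConv g₁ * toConv (g₂.comp (HopfAlgebra.antipodeAlgHom k A))
    with hh
  -- `h` reduces to the trivial point
  have h1 : toConv (π.comp h.ofConv) = 1 := by
    have := AlgHom.comp_convMul_distrib π (toConv g₁)
      (toConv (g₂.comp (HopfAlgebra.antipodeAlgHom k A)))
    rw [hh]
    apply WithConv.ofConv_injective
    refine Eq.trans this ?_
    have e1 : toConv (π.comp (toConv g₁).ofConv) = toConv (π.comp g₂) := by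
      rw [← h12']
    have e2 : toConv (π.comp (toConv (g₂.comp (HopfAlgebra.antipodeAlgHom k A))).ofConv) =
        toConv ((π.comp g₂).comp (HopfAlgebra.antipodeAlgHom k A)) := rfl
    rw [e1, e2, mul_comp_antipode]
  -- `h e = 0`
  have h2 : h.ofConv e ∈ N := by
    have := congrArg (fun f : WithConv (A →ₐ[k] B ⧸ N) => f e) h1
    simp only at this
    have h3 : (1 : WithConv (A →ₐ[k] B ⧸ N)) e = 0 := by
      rw [AlgHom.convOne_apply, mem_augI.mp heI, map_zero]
    rw [h3] at this
    exact Ideal.Quotient.eq_zero_iff_mem.mp this
  have h3 : h.ofConv e = 0 := by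
    have hid : h.ofConv e = h.ofConv e * h.ofConv e := by
      rw [← map_mul, he.eq]
    have : h.ofConv e * h.ofConv e ∈ N ^ 2 := by
      rw [pow_two]; exact Ideal.mul_mem_mul h2 h2
    rw [hN, Ideal.mem_bot] at this
    rw [hid, this]
  -- hence `h = 1`
  have h4 : h = 1 := by
    apply WithConv.ext
    apply AlgHom.ext
    intro a
    have ha := sub_counit_mem (k := k) a
    rw [hI] at ha
    obtain ⟨c, hc⟩ := Ideal.mem_span_singleton'.mp ha
    have : h.ofConv (a - algebraMap k A (Coalgebra.counit (R := k) a)) = 0 := by
      rw [← hc, map_mul, h3, mul_zero]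
    rw [map_sub, sub_eq_zero, AlgHom.commutes] at this
    exact this
  -- conclude
  have h5 : toConv g₁ = toConv g₂ := by
    calc toConv g₁ = toConv g₁ * 1 := (mul_one _).symm
      _ = toConv g₁ * (toConv (g₂.comp (HopfAlgebra.antipodeAlgHom k A)) * toConv g₂) := by
          rw [comp_antipode_mul]
      _ = h * toConv g₂ := by rw [hh, mul_assoc]
      _ = toConv g₂ := by rw [h4, one_mul]
  exact WithConv.toConv_injective h5

end LemmaU

section LemmaX

variable {k : Type u} [Field k] [IsAlgClosed k] {A : Type u} [CommRing A] [HopfAlgebra k A]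
  [FiniteDimensional k A]

/-- over an algebraically closed field, if the order is invertible then the identity component
is trivial: the augmentation ideal is generated by an idempotent. -/
theorem exists_idempotent_augI_eq_span (hn : ((Module.finrank k A : ℕ) : k) ≠ 0) :
    ∃ e : A, IsIdempotentElem e ∧ augI k A = Ideal.span {e} := by
  classical
  obtain ⟨M₀, hM₀⟩ := exists_iInf_pow_eq_bot (k := k) (A := A)
  obtain ⟨M, hM0, hM1, hMst⟩ := exists_stable_pow (k := k) (augI k A) M₀
  have hHopf : ((augI k A) ^ M).IsHopfIdeal k := isHopfIdeal_augI_pow M hM1 hMst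
  have hcount := finrank_eq_card_mul (k := k) (A := A) M (hM₀ M hM0)
  have hJI : (augI k A) ^ M ≤ augI k A := Ideal.pow_le_self (by omega)
  have : IsArtinianRing A := IsArtinianRing.of_finite k A
  -- nilpotency of the augmentation ideal of the quotient
  have hnilB : (augI k (A ⧸ (augI k A) ^ M)) ^ M = ⊥ := by
    have h1 : augI k (A ⧸ (augI k A) ^ M) ≤
        Ideal.map (Ideal.Quotient.mk ((augI k A) ^ M)) (augI k A) := by
      intro a ha
      obtain ⟨b, rfl⟩ := Ideal.Quotient.mk_surjective a
      have h2 : b ∈ augI k A := by
        rw [mem_augI]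
        have h3 := mem_augI.mp ha
        rwa [Bialgebra.Quotient.counit_mk] at h3
      exact Ideal.mem_map_of_mem _ h2
    rw [← le_bot_iff]
    calc (augI k (A ⧸ (augI k A) ^ M)) ^ M
        ≤ (Ideal.map (Ideal.Quotient.mk ((augI k A) ^ M)) (augI k A)) ^ M :=
          Ideal.pow_right_mono h1 M
      _ = Ideal.map (Ideal.Quotient.mk ((augI k A) ^ M)) ((augI k A) ^ M) :=
          (Ideal.map_pow _ _ _).symm
      _ = ⊥ := by rw [Ideal.map_quotient_self]
  -- the order of the identity component is one
  have hq : Module.finrank k (A ⧸ (augI k A) ^ M) = 1 := by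
    obtain ⟨p, hp⟩ := CharP.exists k
    rcases CharP.char_is_prime_or_zero k p with hpp | h0
    · have := Fact.mk hpp
      obtain ⟨r, hr⟩ := finrank_eq_prime_pow k p _ (A ⧸ (augI k A) ^ M) M hnilB rfl
      rcases Nat.eq_zero_or_pos r with hr0 | hrpos
      · rw [hr, hr0, pow_zero]
      · exfalso
        apply hn
        rw [hcount, hr]
        have : (p : k) = 0 := CharP.cast_eq_zero k p
        rw [Nat.cast_mul, Nat.cast_pow, this, zero_pow (by omega), mul_zero]
    · subst h0
      have : CharZero k := CharP.charP_to_charZero k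
      exact finrank_eq_one_of_augI_eq_bot (augI_eq_bot_of_charZero hnilB)
  -- hence `I ^ M = I`
  have hIM : (augI k A) ^ M = augI k A := by
    have h1 : Module.finrank k (A ⧸ augI k A) = 1 := by
      have e : (A ⧸ augI k A) ≃ₐ[k] k :=
        Ideal.quotientKerAlgEquivOfSurjective (f := Bialgebra.counitAlgHom k A)
          (fun l => ⟨algebraMap k A l, by simp⟩)
      rw [e.toLinearEquiv.finrank_eq, Module.finrank_self]
    have h2 := Submodule.finrank_quotient_add_finrank (((augI k A) ^ M).restrictScalars k)
    have h3 := Submodule.finrank_quotient_add_finrank ((augI k A).restrictScalars k)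
    have h4 : Module.finrank k (A ⧸ (((augI k A) ^ M).restrictScalars k)) = 1 := hq
    have h5 : Module.finrank k (A ⧸ ((augI k A).restrictScalars k)) = 1 := h1
    have h6 : Module.finrank k (((augI k A) ^ M).restrictScalars k) =
        Module.finrank k ((augI k A).restrictScalars k) := by omega
    have h7 : ((augI k A) ^ M).restrictScalars k = (augI k A).restrictScalars k :=
      Submodule.eq_of_le_of_finrank_eq (fun x hx => hJI hx) h6
    ext x
    exact (SetLike.ext_iff.mp h7 x)
  have hfg : (augI k A).FG := IsNoetherian.noetherian _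
  have hidem : IsIdempotentElem (augI k A) := by
    have := hMst
    rwa [hIM] at this
  exact (Ideal.isIdempotentElem_iff_of_fg _ hfg).mp hidem

end LemmaX

section LemmaW

attribute [local instance] Algebra.TensorProduct.rightAlgebra

/-- **Lemma W**: a finite group scheme over a field whose order is invertible is unramified. -/
theorem formallyUnramified_of_finrank_ne_zero (k : Type u) [Field k] (A : Type u) [CommRing A]
    [HopfAlgebra k A] [Module.Finite k A] (hn : ((Module.finrank k A : ℕ) : k) ≠ 0) :
    Algebra.FormallyUnramified k A := by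
  let K := AlgebraicClosure k
  have hrank : Module.finrank K (K ⊗[k] A) = Module.finrank k A := Module.finrank_baseChange
  have hnK : ((Module.finrank K (K ⊗[k] A) : ℕ) : K) ≠ 0 := by
    rw [hrank]
    intro h
    apply hn
    have h1 : algebraMap k K ((Module.finrank k A : ℕ) : k) = 0 := by
      rw [map_natCast]; exact h
    exact (map_eq_zero_iff _ (algebraMap k K).injective).mp h1
  obtain ⟨e, he, hI⟩ := exists_idempotent_augI_eq_span (k := K) (A := K ⊗[k] A) hnK
  have hU : Algebra.FormallyUnramified K (K ⊗[k] A) := formallyUnramified_of_augI_eq_span e he hI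
  rw [Algebra.formallyUnramified_iff]
  have h1 : Subsingleton (Ω[(K ⊗[k] A)⁄K]) := hU.subsingleton_kaehlerDifferential
  have h2 : Subsingleton (K ⊗[k] Ω[A⁄k]) :=
    (KaehlerDifferential.tensorKaehlerEquivBase k K A (K ⊗[k] A)).subsingleton
  exact (Module.FaithfullyFlat.subsingleton_tensorProduct_iff_right k K).mp h2

end LemmaW

section LemmaV

attribute [local instance] Algebra.TensorProduct.rightAlgebra

/-- **Lemma V**: a finite algebra is formally unramified as soon as all its fibres are. -/
theorem formallyUnramified_of_fibres (R : Type u) [CommRing R] (A : Type u) [CommRing A]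
    [Algebra R A] [Module.Finite R A]
    (h : ∀ p : PrimeSpectrum R, Algebra.FormallyUnramified p.asIdeal.ResidueField
      (p.asIdeal.ResidueField ⊗[R] A)) : Algebra.FormallyUnramified R A := by
  rw [Algebra.formallyUnramified_iff]
  have : Module.Finite A Ω[A⁄R] := inferInstance
  have : Module.Finite R Ω[A⁄R] := Module.Finite.trans A _
  rw [← Module.support_eq_empty_iff (R := R)]
  ext p
  simp only [Set.mem_empty_iff_false, iff_false]
  rw [Module.mem_support_iff_nontrivial_residueField_tensorProduct, not_nontrivial_iff_subsingleton]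
  have h1 : Subsingleton (Ω[(p.asIdeal.ResidueField ⊗[R] A)⁄p.asIdeal.ResidueField]) :=
    (h p).subsingleton_kaehlerDifferential
  exact (KaehlerDifferential.tensorKaehlerEquivBase R p.asIdeal.ResidueField A
    (p.asIdeal.ResidueField ⊗[R] A)).subsingleton

end LemmaV

section Main

/-- **A finite locally free group scheme whose order is invertible on the base is étale**
(Hopf algebra form). -/
theorem etale_of_rankAtStalk_ne_zero (R : Type u) [CommRing R] (A : Type u) [CommRing A]
    [HopfAlgebra R A] [Module.Finite R A] [Module.Flat R A] [Algebra.FinitePresentation R A]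
    (h : ∀ p : PrimeSpectrum R,
      ((Module.rankAtStalk (R := R) A p : ℕ) : p.asIdeal.ResidueField) ≠ 0) :
    Algebra.Etale R A := by
  have hU : Algebra.FormallyUnramified R A := by
    apply formallyUnramified_of_fibres
    intro p
    apply formallyUnramified_of_finrank_ne_zero
    have h2 := Module.rankAtStalk_baseChange (R := R) (M := A) (S := p.asIdeal.ResidueField)
      (⊥ : PrimeSpectrum p.asIdeal.ResidueField)
    rw [Module.rankAtStalk_eq_finrank_of_free] at h2
    have h3 : (⊥ : PrimeSpectrum p.asIdeal.ResidueField).comap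
        (algebraMap R p.asIdeal.ResidueField) = p := by
      ext1
      exact Ideal.ker_algebraMap_residueField p.asIdeal
    rw [h3] at h2
    simp only [Pi.natCast_def, Nat.cast_id] at h2
    rw [h2]
    exact h p
  exact Algebra.Etale.of_formallyUnramified_of_flat

end Main

end Groth.Agent.Lib.Helper77.FinEtale
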