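import Mathlib
import Groth.Agent.Lib.Helper77.FinEtale1

set_option autoImplicit false
universe u
open CategoryTheory CategoryTheory.Limits MonoidalCategory CartesianMonoidalCategory MonObj GrpObj AlgebraicGeometry

namespace Groth.Agent.Lib.Helper77.FinEtale

/-- the affine case. -/
theorem etale_of_affine_base {R : CommRingCat.{u}} (G : Over (Spec R)) [GrpObj G]
    [IsFinite G.hom] [Flat G.hom] [LocallyOfFinitePresentation G.hom]
    (h : ∀ s : Spec R, ((Scheme.Hom.finrank G.hom s : ℕ) : (Spec R).residueField s) ≠ 0) :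
    Etale G.hom := by
  have hA : IsAffine G.left := isAffine_of_isAffineHom G.hom
  let _ : G.left.Over (Spec R) := ⟨G.hom⟩
  let _ : GrpObj (G.left.asOver (Spec R)) := ‹GrpObj G›
  have hfac' : G.left.isoSpec.inv ≫ G.hom =
      Spec.map (CommRingCat.ofHom (algebraMap R Γ(G.left, ⊤))) := by
    have := Spec.fullyFaithful.map_preimage (G.left.isoSpec.inv ≫ G.left ↘ Spec R)
    exact this.symm
  have hfac : G.hom = G.left.isoSpec.hom ≫
      Spec.map (CommRingCat.ofHom (algebraMap R Γ(G.left, ⊤))) := by
    rw [← hfac', Iso.hom_inv_id_assoc]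
  set φ := CommRingCat.ofHom (algebraMap R Γ(G.left, ⊤)) with hφ
  have hfin : IsFinite (Spec.map φ) := by
    rw [← hfac']; infer_instance
  have hflat : Flat (Spec.map φ) := by
    rw [← hfac']; infer_instance
  have hfp : LocallyOfFinitePresentation (Spec.map φ) := by
    rw [← hfac']; infer_instance
  have i1 : Module.Finite R Γ(G.left, ⊤) :=
    RingHom.finite_algebraMap.mp ((IsFinite.SpecMap_iff φ).mp hfin)
  have i2 : Module.Flat R Γ(G.left, ⊤) :=
    RingHom.flat_algebraMap_iff.mp (Flat.SpecMap_iff.mp hflat)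
  have i3 : Algebra.FinitePresentation R Γ(G.left, ⊤) :=
    RingHom.finitePresentation_algebraMap.mp ((LocallyOfFinitePresentation.SpecMap_iff φ).mp hfp)
  have hE : Algebra.Etale R Γ(G.left, ⊤) := by
    refine @etale_of_rankAtStalk_ne_zero R _ Γ(G.left, ⊤) _ _ i1 i2 i3 ?_
    intro p
    let x : ↥(Spec R) := p
    have h1 := h x
    rw [hfac, Scheme.Hom.finrank_comp_left_of_isIso,
      Scheme.Hom.finrank_SpecMap_algebraMap] at h1
    intro h2
    apply h1
    have h3 := congrArg (Scheme.Spec.residueFieldIso R x).inv.hom h2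
    rw [map_natCast, map_zero] at h3
    exact h3
  rw [hfac, MorphismProperty.cancel_left_of_respectsIso (P := @Etale),
    HasRingHomProperty.Spec_iff (P := @Etale)]
  exact RingHom.etale_algebraMap.mpr hE

/-- the affine case, with the base only propositionally a spectrum. -/
theorem etale_of_affine_base' {S : Scheme.{u}} (hS : ∃ R : CommRingCat.{u}, S = Spec R)
    (G : Over S) [GrpObj G]
    [IsFinite G.hom] [Flat G.hom] [LocallyOfFinitePresentation G.hom]
    (h : ∀ s : S, ((Scheme.Hom.finrank G.hom s : ℕ) : S.residueField s) ≠ 0) :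
    Etale G.hom := by
  obtain ⟨R, rfl⟩ := hS
  exact etale_of_affine_base G h

/-- the general case. -/
theorem etale_of_finrank_ne_zero {S : Scheme.{u}} (G : Over S) [GrpObj G]
    [IsFinite G.hom] [Flat G.hom] [LocallyOfFinitePresentation G.hom]
    (h : ∀ s : S, ((Scheme.Hom.finrank G.hom s : ℕ) : S.residueField s) ≠ 0) : Etale G.hom := by
  rw [IsZariskiLocalAtTarget.iff_of_openCover (P := @Etale) S.affineCover]
  intro i
  let j := S.affineCover.f i
  let G' : Over (S.affineCover.X i) := (Over.pullback j).obj G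
  let _ : GrpObj G' := (Over.pullback j).grpObjObj
  have hG' : G'.hom = pullback.snd G.hom j := rfl
  show Etale (pullback.snd G.hom j)
  rw [← hG']
  have i1 : IsFinite G'.hom := by rw [hG']; infer_instance
  have i2 : Flat G'.hom := by rw [hG']; infer_instance
  have i3 : LocallyOfFinitePresentation G'.hom := by rw [hG']; infer_instance
  refine etale_of_affine_base' (S := S.affineCover.X i) ⟨_, rfl⟩ G' ?_
  intro x
  rw [hG', Scheme.Hom.finrank_pullback_snd]
  intro h2
  apply h (j x)
  have h3 : (j.residueFieldMap x).hom ((Scheme.Hom.finrank G.hom (j x) : ℕ) : S.residueField (j x))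
      = 0 := by
    rw [map_natCast]; exact h2
  exact (map_eq_zero_iff _ (j.residueFieldMap x).hom.injective).mp h3

end Groth.Agent.Lib.Helper77.FinEtale
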