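import Mathlib

set_option autoImplicit false

namespace Groth.Agent.Lib.Helper77

open Matrix

/-- A 2x2 integer matrix of determinant one, of finite order, with a non-zero fixed vector is the
identity. -/
theorem gl2Z_eq_one_of_det_one_of_fixed (M : Matrix (Fin 2) (Fin 2) ℤ) (hdet : M.det = 1)
    (hfix : ∃ v : Fin 2 → ℤ, v ≠ 0 ∧ M *ᵥ v = v) (n : ℕ) (hn : 0 < n) (hMn : M ^ n = 1) : M = 1 := by
  obtain ⟨v, hv0, hv⟩ := hfix
  have hsing : (M - 1).det = 0 := by
    rw [← Matrix.exists_mulVec_eq_zero_iff]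
    exact ⟨v, hv0, by rw [Matrix.sub_mulVec, hv, Matrix.one_mulVec, sub_self]⟩
  rw [Matrix.det_fin_two] at hdet hsing
  simp only [Matrix.sub_apply, Matrix.one_apply_eq, Matrix.one_apply_ne, ne_eq, Fin.isValue,
    zero_ne_one, one_ne_zero, not_false_eq_true, sub_zero] at hsing
  obtain ⟨N, hN⟩ : ∃ N : Matrix (Fin 2) (Fin 2) ℤ, N = M - 1 := ⟨_, rfl⟩
  have hNN : N * N = 0 := by
    have htr : M 0 0 + M 1 1 - 2 = 0 := by linear_combination hdet - hsing
    ext i j
    fin_cases i <;> fin_cases j
    · simp [hN, Matrix.mul_apply, Fin.sum_univ_two]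
      linear_combination (M 0 0) * htr - hdet
    · simp [hN, Matrix.mul_apply, Fin.sum_univ_two]
      linear_combination (M 0 1) * htr
    · simp [hN, Matrix.mul_apply, Fin.sum_univ_two]
      linear_combination (M 1 0) * htr
    · simp [hN, Matrix.mul_apply, Fin.sum_univ_two]
      linear_combination (M 1 1) * htr - hdet
  have hM : M = 1 + N := by rw [hN]; abel
  have hpow : ∀ k : ℕ, M ^ k = 1 + (k : ℤ) • N := by
    intro k
    induction k with
    | zero => simp
    | succ k ih =>
      rw [pow_succ, ih]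
      nth_rewrite 1 [hM]
      rw [add_mul, mul_add, mul_add, smul_mul_assoc, smul_mul_assoc, hNN]
      simp only [one_mul, mul_one, smul_zero, add_zero]
      push_cast
      rw [add_smul, one_smul]
      abel
  have h1 := hpow n
  rw [hMn] at h1
  have h2 : (n : ℤ) • N = 0 := by
    have : (1 : Matrix (Fin 2) (Fin 2) ℤ) + (n : ℤ) • N = 1 + 0 := by rw [← h1, add_zero]
    exact add_left_cancel this
  have h3 : N = 0 := by
    rcases smul_eq_zero.mp h2 with h | h
    · exact absurd h (by exact_mod_cast hn.ne')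
    · exact h
  rw [hM, h3, add_zero]

end Groth.Agent.Lib.Helper77
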