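import Mathlib
import Groth.Prelude.Def_CartDual2
import Groth.Agent.Lib.Helper77.CartDualEval

/-!
# The largest connected multiplicative subgroup (helper77)
-/

set_option autoImplicit false
universe u

namespace Groth.Agent.Lib.Helper77.GMu

open TensorProduct WithConv

/-- Two algebra maps from a formally unramified algebra (essentially of finite type) to a local
augmented algebra which agree after the augmentation are equal. -/
theorem algHom_eq_of_comp_eq {R : Type u} [CommRing R] [Nontrivial R]
    {E : Type u} [CommRing E] [Algebra R E] [Algebra.FormallyUnramified R E] [Algebra.EssFiniteType R E]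
    {Q : Type u} [CommRing Q] [Algebra R Q] [IsLocalRing Q] (εQ : Q →ₐ[R] R)
    (f1 f2 : E →ₐ[R] Q) (h : εQ.comp f1 = εQ.comp f2) : f1 = f2 := by
  let F : E ⊗[R] E →ₐ[R] Q := Algebra.TensorProduct.lift f1 f2 (fun x y => Commute.all (f1 x) (f2 y))
  let t := Algebra.FormallyUnramified.elem R E
  let qq := F t
  have ha : ∀ s : E, (f2 s - f1 s) * qq = 0 := by
    intro s
    have h1 := congrArg F (Algebra.FormallyUnramified.one_tmul_sub_tmul_one_mul_elem (R := R) (S := E) s)
    rw [map_mul, map_sub, map_zero] at h1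
    simpa [F, Algebra.TensorProduct.lift_tmul] using h1
  have hε : εQ qq = 1 := by
    have h2 : εQ.comp F = (εQ.comp f1).comp (Algebra.TensorProduct.lmul' (S := E) R) := by
      apply Algebra.TensorProduct.ext'
      intro a b
      have hb : εQ (f2 b) = εQ (f1 b) := (AlgHom.congr_fun h b).symm
      simp [F, Algebra.TensorProduct.lift_tmul, hb]
    have h3 : εQ qq = (εQ.comp F) t := rfl
    rw [h3, h2, AlgHom.comp_apply, Algebra.FormallyUnramified.lmul_elem, map_one]
  have hunit : IsUnit qq := by
    rcases IsLocalRing.isUnit_or_isUnit_one_sub_self qq with hq | hq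
    · exact hq
    · exfalso
      have h4 : IsUnit (εQ (1 - qq)) := hq.map εQ
      rw [map_sub, map_one, hε, sub_self] at h4
      exact not_isUnit_zero h4
  apply AlgHom.ext
  intro s
  have := (hunit.mul_left_eq_zero).mp (ha s)
  exact (sub_eq_zero.mp this).symm

section
variable (R : Type u) [CommRing R] [Nontrivial R] (H : Type u) [CommRing H] [HopfAlgebra R H]

/-- in a local ring with an augmentation to a nontrivial ring, an idempotent of augmentation `1`
is `1` -/
theorem eq_one_of_idempotent_of_local {Q : Type u} [CommRing Q] [Algebra R Q] [IsLocalRing Q]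
    (εQ : Q →ₐ[R] R) (q : Q) (hq : IsIdempotentElem q) (hε : εQ q = 1) : q = 1 := by
  have hunit : IsUnit q := by
    rcases IsLocalRing.isUnit_or_isUnit_one_sub_self q with h | h
    · exact h
    · exfalso
      have h4 : IsUnit (εQ (1 - q)) := h.map εQ
      rw [map_sub, map_one, hε, sub_self] at h4
      exact not_isUnit_zero h4
  have h1 : q * (q - 1) = 0 := by
    have : q * q = q := hq
    rw [mul_sub, this, mul_one, sub_self]
  have := (hunit.mul_right_eq_zero).mp h1
  exact sub_eq_zero.mp this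

/-- the augmentation of the quotient by `(1 - e)` -/
noncomputable def εQuot (e : H) (hε : Bialgebra.counitAlgHom R H e = 1) :
    (H ⧸ Ideal.span ({1 - e} : Set H)) →ₐ[R] R :=
  Ideal.Quotient.liftₐ _ (Bialgebra.counitAlgHom R H) (by
    intro a ha
    obtain ⟨x, rfl⟩ := Ideal.mem_span_singleton'.mp ha
    rw [map_mul, map_sub, map_one, hε, sub_self, mul_zero])

theorem one_sub_mem_of_local (e : H) (he : IsIdempotentElem e)
    (hε : Bialgebra.counitAlgHom R H e = 1) (J : Ideal H) [J.IsHopfIdeal R] [IsLocalRing (H ⧸ J)] :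
    1 - e ∈ J := by
  let εJ : (H ⧸ J) →ₐ[R] R := Ideal.Quotient.liftₐ J (Bialgebra.counitAlgHom R H) (by
    intro a ha
    exact Submodule.IsCoideal.counit_eq_zero (I := J.restrictScalars R) ha)
  have h1 := eq_one_of_idempotent_of_local R εJ (Ideal.Quotient.mk J e) (he.map (Ideal.Quotient.mk J))
    (by simpa [εJ] using hε)
  rw [← Ideal.Quotient.eq_zero_iff_mem, map_sub, map_one, h1, sub_self]

end

section
variable (R : Type u) [CommRing R] [Nontrivial R]

theorem mul_map_eq_counit_smul {H H' : Type u} [CommRing H] [HopfAlgebra R H] [CommRing H']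
    [HopfAlgebra R H'] [Algebra.FormallyUnramified R H] [Algebra.EssFiniteType R H]
    (T : H →ₐc[R] H') (e' : H') (he' : IsIdempotentElem e')
    (hε' : Bialgebra.counitAlgHom R H' e' = 1)
    [IsLocalRing (H' ⧸ Ideal.span ({1 - e'} : Set H'))] (z : H) :
    e' * T z = Coalgebra.counit (R := R) z • e' := by
  let εQ := εQuot R H' e' hε'
  let f1 : H →ₐ[R] (H' ⧸ Ideal.span ({1 - e'} : Set H')) :=
    (Ideal.Quotient.mkₐ R _).comp (T : H →ₐ[R] H')
  let f2 : H →ₐ[R] (H' ⧸ Ideal.span ({1 - e'} : Set H')) :=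
    (Algebra.ofId R _).comp (Bialgebra.counitAlgHom R H)
  have h12 : f1 = f2 := by
    apply algHom_eq_of_comp_eq εQ
    apply AlgHom.ext
    intro s
    have h1 : εQ (f1 s) = Coalgebra.counit (R := R) (T s) := rfl
    have h2 : εQ (f2 s) = Coalgebra.counit (R := R) s := by
      show εQ (algebraMap R _ (Coalgebra.counit (R := R) s)) = _
      rw [AlgHom.commutes]
      rfl
    show εQ (f1 s) = εQ (f2 s)
    rw [h1, h2]
    exact CoalgHomClass.counit_comp_apply T s
  have h3 : Ideal.Quotient.mk (Ideal.span ({1 - e'} : Set H')) (T z) =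
      Ideal.Quotient.mk (Ideal.span ({1 - e'} : Set H')) (algebraMap R H' (Coalgebra.counit (R := R) z)) :=
    AlgHom.congr_fun h12 z
  have h4 : T z - algebraMap R H' (Coalgebra.counit (R := R) z) ∈ Ideal.span ({1 - e'} : Set H') := by
    rw [← Ideal.Quotient.eq_zero_iff_mem, map_sub, h3, sub_self]
  obtain ⟨w, hw⟩ := Ideal.mem_span_singleton'.mp h4
  have h5 : e' * (T z - algebraMap R H' (Coalgebra.counit (R := R) z)) = 0 := by
    have : e' * e' = e' := he'
    rw [← hw]
    linear_combination (-w) * this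
  rw [mul_sub, sub_eq_zero] at h5
  rw [h5, Algebra.smul_def, mul_comm]

/-- invariance of pulled-back forms -/
theorem invariant_of_map {H H' : Type u} [CommRing H] [HopfAlgebra R H] [CommRing H']
    [HopfAlgebra R H'] [Algebra.FormallyUnramified R H] [Algebra.EssFiniteType R H]
    (T : H →ₐc[R] H') (e' : H') (he' : IsIdempotentElem e')
    (hε' : Bialgebra.counitAlgHom R H' e' = 1)
    [IsLocalRing (H' ⧸ Ideal.span ({1 - e'} : Set H'))] (y : H) :
    LinearMap.lTensor H' (LinearMap.mulLeft R e') (Coalgebra.comul (R := R) (T y)) = T y ⊗ₜ[R] e' := by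
  have 𝓡 := Coalgebra.Repr.arbitrary R y
  have hcom : Coalgebra.comul (R := R) (T y) = TensorProduct.map (T : H →ₗ[R] H') (T : H →ₗ[R] H')
      (Coalgebra.comul (R := R) y) := (CoalgHomClass.map_comp_comul_apply T y).symm
  rw [hcom, ← 𝓡.eq]
  simp only [map_sum, TensorProduct.map_tmul, LinearMap.lTensor_tmul, LinearMap.mulLeft_apply]
  have h1 : ∀ i ∈ 𝓡.index, (T : H →ₗ[R] H') (𝓡.left i) ⊗ₜ[R] (e' * (T : H →ₗ[R] H') (𝓡.right i)) =
      (T (Coalgebra.counit (R := R) (𝓡.right i) • 𝓡.left i)) ⊗ₜ[R] e' := by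
    intro i _
    have := mul_map_eq_counit_smul R T e' he' hε' (𝓡.right i)
    show T (𝓡.left i) ⊗ₜ[R] (e' * T (𝓡.right i)) = _
    rw [this, TensorProduct.tmul_smul, map_smul, TensorProduct.smul_tmul']
  rw [Finset.sum_congr rfl h1, ← TensorProduct.sum_tmul, ← map_sum]
  congr 2
  have h2 := Coalgebra.sum_tmul_counit_eq 𝓡
  have h3 := congrArg (TensorProduct.rid R H) h2
  simp only [map_sum, TensorProduct.rid_tmul, one_smul] at h3
  exact h3

end

section Factor
variable (R : Type u) [CommRing R] {A : Type u} [CommRing A] [HopfAlgebra R A]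
  (I J : Ideal A) [I.IsHopfIdeal R] [J.IsHopfIdeal R] (hIJ : I ≤ J)

/-- the canonical map `A/I → A/J` of quotient Hopf algebras as a bialgebra map -/
noncomputable def factorBialgHom : A ⧸ I →ₐc[R] A ⧸ J :=
  BialgHom.ofAlgHom (Ideal.Quotient.factorₐ R hIJ)
    (by
      apply Ideal.Quotient.algHom_ext R
      apply AlgHom.ext
      intro a
      rfl)
    (by
      apply Ideal.Quotient.algHom_ext R
      apply AlgHom.ext
      intro a
      show (Algebra.TensorProduct.map (Ideal.Quotient.factorₐ R hIJ) (Ideal.Quotient.factorₐ R hIJ))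
        (Coalgebra.comul (R := R) (Ideal.Quotient.mk I a)) =
        Coalgebra.comul (R := R) (Ideal.Quotient.mk J a)
      rw [Bialgebra.Quotient.comul_mk, Bialgebra.Quotient.comul_mk]
      generalize Coalgebra.comul (R := R) a = w
      induction w using TensorProduct.induction_on with
      | zero => simp
      | tmul x y => rfl
      | add x y hx hy => rw [map_add, map_add, map_add, hx, hy])

@[simp] theorem factorBialgHom_mk (a : A) :
    factorBialgHom R I J hIJ (Ideal.Quotient.mk I a) = Ideal.Quotient.mk J a := rfl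

end Factor

section Main

theorem main (R : Type u) [CommRing R]
    [HenselianLocalRing R] [IsNoetherianRing R] (A : Type u) [CommRing A] [HopfAlgebra R A] [Coalgebra.IsCocomm R A]
    [Module.Finite R A] [Module.Projective R A] (e : A) (he : IsIdempotentElem e)
    (hε : Bialgebra.counitAlgHom R A e = 1) [(Ideal.span ({1 - e} : Set A)).IsHopfIdeal R] [IsLocalRing (A ⧸ Ideal.span ({1 - e} : Set A))]
    [Module.Projective R (A ⧸ Ideal.span ({1 - e} : Set A))] [Coalgebra.IsCocomm R (A ⧸ Ideal.span ({1 - e} : Set A))]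
    (e' : CartDual.D R (A ⧸ Ideal.span ({1 - e} : Set A))) (he' : IsIdempotentElem e')
    (hε' : Bialgebra.counitAlgHom R (CartDual.D R (A ⧸ Ideal.span ({1 - e} : Set A))) e' = 1)
    [IsLocalRing (CartDual.D R (A ⧸ Ideal.span ({1 - e} : Set A)) ⧸ Ideal.span ({1 - e'} : Set (CartDual.D R (A ⧸ Ideal.span ({1 - e} : Set A)))))]
    (J : Ideal A) [J.IsHopfIdeal R] [IsLocalRing (A ⧸ J)] [Module.Projective R (A ⧸ J)]
    [Coalgebra.IsCocomm R (A ⧸ J)] [Algebra.Etale R (CartDual.D R (A ⧸ J))]
    (a : A) (ha : ∀ x : CartDual.D R (A ⧸ Ideal.span ({1 - e} : Set A)), LinearMap.lTensor (CartDual.D R (A ⧸ Ideal.span ({1 - e} : Set A))) (LinearMap.mulLeft R e') (Coalgebra.comul (R := R) x) = x ⊗ₜ[R] e' → x (Ideal.Quotient.mk (Ideal.span ({1 - e} : Set A)) a) = 0) :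
    a ∈ J := by
  have hIJ : Ideal.span ({1 - e} : Set A) ≤ J := by
    rw [Ideal.span_le, Set.singleton_subset_iff]
    exact one_sub_mem_of_local R A e he hε J
  let π := factorBialgHom R (Ideal.span ({1 - e} : Set A)) J hIJ
  let T := CartDual.transpose R π
  have hsep : ∀ y : CartDual.D R (A ⧸ J), y (Ideal.Quotient.mk J a) = 0 := by
    intro y
    have hinv := invariant_of_map R T e' he' hε' y
    exact ha (T y) hinv
  rw [← Ideal.Quotient.eq_zero_iff_mem]
  apply Groth.Agent.Lib.Helper77.cartDual_separates R (A ⧸ J)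
  intro x
  rw [hsep]
  show (0 : R) = x.ofConv 0
  rw [map_zero]

end Main

end Groth.Agent.Lib.Helper77.GMu
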