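import Mathlib
import Groth.Agent.Lib.Helper77.GMu

/-!
# Functoriality of the largest connected multiplicative subgroup (helper77)
-/

set_option autoImplicit false
universe u

namespace Groth.Agent.Lib.Helper77.GMu

open TensorProduct WithConv

section QuotMap
variable (R : Type u) [CommRing R] {A B : Type u} [CommRing A] [HopfAlgebra R A]
  [CommRing B] [HopfAlgebra R B]
  (IB : Ideal B) (IA : Ideal A) [IB.IsHopfIdeal R] [IA.IsHopfIdeal R] (ψ : B →ₐc[R] A)
  (hψ : IB ≤ IA.comap (ψ : B →ₐ[R] A))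

/-- the map induced by a bialgebra map on quotients by Hopf ideals, as a bialgebra map -/
noncomputable def quotientMapBialgHom : B ⧸ IB →ₐc[R] A ⧸ IA :=
  BialgHom.ofAlgHom (Ideal.quotientMapₐ IA (ψ : B →ₐ[R] A) hψ)
    (by
      apply Ideal.Quotient.algHom_ext R
      apply AlgHom.ext
      intro b
      show Coalgebra.counit (R := R) (ψ b) = Coalgebra.counit (R := R) b
      exact CoalgHomClass.counit_comp_apply ψ b)
    (by
      apply Ideal.Quotient.algHom_ext R
      apply AlgHom.ext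
      intro b
      show (Algebra.TensorProduct.map (Ideal.quotientMapₐ IA (ψ : B →ₐ[R] A) hψ)
          (Ideal.quotientMapₐ IA (ψ : B →ₐ[R] A) hψ))
        (Coalgebra.comul (R := R) (Ideal.Quotient.mk IB b)) =
        Coalgebra.comul (R := R) (Ideal.Quotient.mk IA (ψ b))
      rw [Bialgebra.Quotient.comul_mk, Bialgebra.Quotient.comul_mk,
        ← CoalgHomClass.map_comp_comul_apply ψ b]
      generalize Coalgebra.comul (R := R) b = w
      induction w using TensorProduct.induction_on with
      | zero => simp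
      | tmul x y => rfl
      | add x y hx hy => rw [map_add, map_add, map_add, map_add, hx, hy])

@[simp] theorem quotientMapBialgHom_mk (b : B) :
    quotientMapBialgHom R IB IA ψ hψ (Ideal.Quotient.mk IB b) = Ideal.Quotient.mk IA (ψ b) := rfl

end QuotMap

section Transfer
variable (R : Type u) [CommRing R] [Nontrivial R]

theorem mul_map_idem {H H' : Type u} [CommRing H] [HopfAlgebra R H] [CommRing H'] [HopfAlgebra R H']
    (T : H →ₐc[R] H') (f : H) (hf : IsIdempotentElem f)
    (hfε : Bialgebra.counitAlgHom R H f = 1)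
    (f' : H') (hf' : IsIdempotentElem f') (hf'ε : Bialgebra.counitAlgHom R H' f' = 1)
    [IsLocalRing (H' ⧸ Ideal.span ({1 - f'} : Set H'))] :
    f' * T f = f' := by
  have hTf : IsIdempotentElem (T f) := by
    have := hf.map (T : H →ₐ[R] H')
    exact this
  have h1 : Ideal.Quotient.mk (Ideal.span ({1 - f'} : Set H')) (T f) = 1 := by
    apply eq_one_of_idempotent_of_local R (εQuot R H' f' hf'ε) _
      (hTf.map (Ideal.Quotient.mk (Ideal.span ({1 - f'} : Set H'))))
    show Coalgebra.counit (R := R) (T f) = 1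
    rw [CoalgHomClass.counit_comp_apply T f]
    exact hfε
  have h2 : 1 - T f ∈ Ideal.span ({1 - f'} : Set H') := by
    rw [← Ideal.Quotient.eq_zero_iff_mem, map_sub, map_one, h1, sub_self]
  obtain ⟨w, hw⟩ := Ideal.mem_span_singleton'.mp h2
  have : f' * f' = f' := hf'
  linear_combination (-f') * hw.symm + w * this

theorem invariant_transfer {H H' : Type u} [CommRing H] [HopfAlgebra R H] [CommRing H']
    [HopfAlgebra R H']
    (T : H →ₐc[R] H') (f : H) (hf : IsIdempotentElem f)
    (hfε : Bialgebra.counitAlgHom R H f = 1)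
    (f' : H') (hf' : IsIdempotentElem f') (hf'ε : Bialgebra.counitAlgHom R H' f' = 1)
    [IsLocalRing (H' ⧸ Ideal.span ({1 - f'} : Set H'))] (x : H)
    (hx : LinearMap.lTensor H (LinearMap.mulLeft R f) (Coalgebra.comul (R := R) x) = x ⊗ₜ[R] f) :
    LinearMap.lTensor H' (LinearMap.mulLeft R f') (Coalgebra.comul (R := R) (T x)) = T x ⊗ₜ[R] f' := by
  have hff := mul_map_idem R T f hf hfε f' hf' hf'ε
  have hcom : Coalgebra.comul (R := R) (T x) = TensorProduct.map (T : H →ₗ[R] H') (T : H →ₗ[R] H')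
      (Coalgebra.comul (R := R) x) := (CoalgHomClass.map_comp_comul_apply T x).symm
  have key : (LinearMap.lTensor H' (LinearMap.mulLeft R f')) ∘ₗ
      (TensorProduct.map (T : H →ₗ[R] H') (T : H →ₗ[R] H')) =
      (TensorProduct.map (T : H →ₗ[R] H') (LinearMap.mulLeft R f' ∘ₗ (T : H →ₗ[R] H'))) ∘ₗ
        (LinearMap.lTensor H (LinearMap.mulLeft R f)) := by
    apply TensorProduct.ext'
    intro a b
    simp only [LinearMap.comp_apply, TensorProduct.map_tmul, LinearMap.lTensor_tmul,
      LinearMap.mulLeft_apply]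
    congr 1
    show f' * T b = f' * T (f * b)
    rw [map_mul, ← mul_assoc, hff]
  rw [hcom]
  have h3 := LinearMap.congr_fun key (Coalgebra.comul (R := R) x)
  simp only [LinearMap.comp_apply] at h3
  rw [h3, hx]
  simp only [TensorProduct.map_tmul, LinearMap.comp_apply, LinearMap.mulLeft_apply]
  congr 1

end Transfer

section Main2

theorem main2 (R : Type u) [CommRing R]
    [HenselianLocalRing R] [IsNoetherianRing R] (A B : Type u) [CommRing A] [HopfAlgebra R A] [Coalgebra.IsCocomm R A]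
    [Module.Finite R A] [Module.Projective R A] [CommRing B] [HopfAlgebra R B] [Coalgebra.IsCocomm R B]
    [Module.Finite R B] [Module.Projective R B] (ψ : B →ₐc[R] A)
    (eA : A) (heA : IsIdempotentElem eA) (heAε : Bialgebra.counitAlgHom R A eA = 1)
    [(Ideal.span ({1 - eA} : Set A)).IsHopfIdeal R] [IsLocalRing (A ⧸ Ideal.span ({1 - eA} : Set A))] [Module.Projective R (A ⧸ Ideal.span ({1 - eA} : Set A))] [Coalgebra.IsCocomm R (A ⧸ Ideal.span ({1 - eA} : Set A))]
    (fA : CartDual.D R (A ⧸ Ideal.span ({1 - eA} : Set A))) (hfA : IsIdempotentElem fA)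
    (hfAε : Bialgebra.counitAlgHom R (CartDual.D R (A ⧸ Ideal.span ({1 - eA} : Set A))) fA = 1)
    [IsLocalRing (CartDual.D R (A ⧸ Ideal.span ({1 - eA} : Set A)) ⧸ Ideal.span ({1 - fA} : Set (CartDual.D R (A ⧸ Ideal.span ({1 - eA} : Set A)))))]
    (eB : B) (heB : IsIdempotentElem eB) (heBε : Bialgebra.counitAlgHom R B eB = 1)
    [(Ideal.span ({1 - eB} : Set B)).IsHopfIdeal R] [IsLocalRing (B ⧸ Ideal.span ({1 - eB} : Set B))] [Module.Projective R (B ⧸ Ideal.span ({1 - eB} : Set B))] [Coalgebra.IsCocomm R (B ⧸ Ideal.span ({1 - eB} : Set B))]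
    (fB : CartDual.D R (B ⧸ Ideal.span ({1 - eB} : Set B))) (hfB : IsIdempotentElem fB)
    (hfBε : Bialgebra.counitAlgHom R (CartDual.D R (B ⧸ Ideal.span ({1 - eB} : Set B))) fB = 1)
    [IsLocalRing (CartDual.D R (B ⧸ Ideal.span ({1 - eB} : Set B)) ⧸ Ideal.span ({1 - fB} : Set (CartDual.D R (B ⧸ Ideal.span ({1 - eB} : Set B)))))]
    (b : B) (hb : ∀ y : CartDual.D R (B ⧸ Ideal.span ({1 - eB} : Set B)), LinearMap.lTensor (CartDual.D R (B ⧸ Ideal.span ({1 - eB} : Set B))) (LinearMap.mulLeft R fB) (Coalgebra.comul (R := R) y) = y ⊗ₜ[R] fB → y (Ideal.Quotient.mk (Ideal.span ({1 - eB} : Set B)) b) = 0)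
    (x : CartDual.D R (A ⧸ Ideal.span ({1 - eA} : Set A))) (hx : LinearMap.lTensor (CartDual.D R (A ⧸ Ideal.span ({1 - eA} : Set A))) (LinearMap.mulLeft R fA) (Coalgebra.comul (R := R) x) = x ⊗ₜ[R] fA) :
    x (Ideal.Quotient.mk (Ideal.span ({1 - eA} : Set A)) (ψ b)) = 0 := by
  have hψ : Ideal.span ({1 - eB} : Set B) ≤
      (Ideal.span ({1 - eA} : Set A)).comap (ψ : B →ₐ[R] A) := by
    rw [Ideal.span_le, Set.singleton_subset_iff]
    show ψ (1 - eB) ∈ Ideal.span ({1 - eA} : Set A)
    rw [map_sub, map_one]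
    have hidem : IsIdempotentElem (ψ eB) := heB.map (ψ : B →ₐ[R] A)
    have hε : Bialgebra.counitAlgHom R A (ψ eB) = 1 := by
      show Coalgebra.counit (R := R) (ψ eB) = 1
      rw [CoalgHomClass.counit_comp_apply ψ eB]
      exact heBε
    exact one_sub_mem_of_local R A (ψ eB) hidem hε (Ideal.span ({1 - eA} : Set A))
  let ψ0 := quotientMapBialgHom R (Ideal.span ({1 - eB} : Set B)) (Ideal.span ({1 - eA} : Set A)) ψ hψ
  let T := CartDual.transpose R ψ0
  have hinv := invariant_transfer R T fA hfA hfAε fB hfB hfBε x hx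
  exact hb (T x) hinv

end Main2

end Groth.Agent.Lib.Helper77.GMu
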