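import Mathlib

set_option autoImplicit false
universe u v
open Polynomial

namespace Groth.Agent.Lib.Helper77.GaGmQuot

section LemmaM

variable {K : Type u} [Field K]

/-- **Lemma M**: if `f` is monic of degree `n ≥ 1` with `f(0) ≠ 0` and the product of the two
universal roots of `f` is again a root, then `f = X ^ n - 1`. -/
theorem eq_X_pow_sub_one (f : K[X]) (hm : f.Monic) (hn : 0 < f.natDegree) (h0 : f.coeff 0 ≠ 0)
    (h : letI B₁ := AdjoinRoot f
      letI Cc := AdjoinRoot (f.map (algebraMap K B₁))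
      eval₂ (algebraMap K Cc) (algebraMap B₁ Cc (AdjoinRoot.root f) *
        AdjoinRoot.root (f.map (algebraMap K B₁))) f = 0) :
    f = X ^ f.natDegree - 1 := by
  set n := f.natDegree with hn'
  set B₁ := AdjoinRoot f with hB₁
  set f₁ := f.map (algebraMap K B₁) with hf₁
  set Cc := AdjoinRoot f₁ with hC
  set r : B₁ := AdjoinRoot.root f with hr
  have hnt : Nontrivial B₁ := AdjoinRoot.nontrivial f (by
    rw [degree_eq_natDegree hm.ne_zero]; exact_mod_cast hn.ne')
  have hm₁ : f₁.Monic := hm.map _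
  have hdeg₁ : f₁.natDegree = n := by rw [hf₁, hm.natDegree_map]
  -- the polynomial D
  set D : B₁[X] := f₁.comp (C r * X) - C (r ^ n) * f₁ with hD
  have hDcoeff : ∀ m, D.coeff m = f₁.coeff m * r ^ m - r ^ n * f₁.coeff m := by
    intro m
    rw [hD, coeff_sub, comp_C_mul_X_coeff, coeff_C_mul]
  have hDdeg : D.degree < f₁.degree := by
    rw [degree_eq_natDegree hm₁.ne_zero, hdeg₁, degree_lt_iff_coeff_zero]
    intro m hmn
    rw [hDcoeff]
    rcases hmn.lt_or_eq with h1 | h1
    · have : f₁.coeff m = 0 := coeff_eq_zero_of_natDegree_lt (by rw [hdeg₁]; exact h1)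
      rw [this]; ring
    · subst h1
      have : f₁.coeff n = 1 := by rw [← hdeg₁]; exact hm₁.coeff_natDegree
      rw [this]; ring
  have hDroot : f₁ ∣ D := by
    rw [← AdjoinRoot.mk_eq_zero]
    have h1 : AdjoinRoot.mk f₁ D = eval₂ (algebraMap B₁ Cc) (AdjoinRoot.root f₁) D := by
      rw [← AdjoinRoot.aeval_eq, aeval_def]
    rw [h1, hD, eval₂_sub, eval₂_mul, eval₂_C, eval₂_comp' , eval₂_mul, eval₂_C, eval₂_X]
    have h2 : eval₂ (algebraMap B₁ Cc) (AdjoinRoot.root f₁) f₁ = 0 := AdjoinRoot.eval₂_root f₁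
    rw [h2, mul_zero, sub_zero]
    have h8 : eval₂ (algebraMap B₁ Cc) ((algebraMap B₁ Cc) r * AdjoinRoot.root f₁) f₁ =
        eval₂ ((algebraMap B₁ Cc).comp (algebraMap K B₁))
          ((algebraMap B₁ Cc) r * AdjoinRoot.root f₁) f := eval₂_map _ _ _
    rw [h8]
    exact h
  have hD0 : D = 0 := by
    by_contra hne
    exact (hm₁.not_dvd_of_degree_lt hne hDdeg) hDroot
  have h3 := hDcoeff 0
  rw [hD0, coeff_zero, pow_zero, mul_one] at h3
  have h4 : f₁.coeff 0 = algebraMap K B₁ (f.coeff 0) := by rw [hf₁, coeff_map]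
  have h5 : r ^ n = 1 := by
    have h6 : algebraMap K B₁ (f.coeff 0) * (1 - r ^ n) = 0 := by
      rw [← h4]; linear_combination (-1 : B₁) * h3
    have hu : IsUnit (algebraMap K B₁ (f.coeff 0)) := (IsUnit.mk0 _ h0).map _
    have := (hu.mul_right_eq_zero).mp h6
    exact (sub_eq_zero.mp this).symm
  have h7 : f ∣ X ^ n - 1 := by
    rw [← AdjoinRoot.mk_eq_zero]
    rw [map_sub, map_pow, AdjoinRoot.mk_X, map_one, ← hr, h5, sub_self]
  have hm2 : (X ^ n - 1 : K[X]).Monic := monic_X_pow_sub_C 1 (Nat.pos_iff_ne_zero.mp hn)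
  have hd2 : (X ^ n - 1 : K[X]).natDegree = n := natDegree_X_pow_sub_C
  exact (eq_of_monic_of_dvd_of_natDegree_le hm hm2 h7 (by rw [hd2])).symm

end LemmaM

section LemmaA

theorem hasseDeriv_map' {R : Type u} {S : Type v} [CommSemiring R] [CommSemiring S] (φ : R →+* S)
    (k : ℕ) (p : R[X]) : hasseDeriv k (p.map φ) = (hasseDeriv k p).map φ := by
  ext m
  simp [hasseDeriv_coeff, coeff_map]

variable {K : Type u} [Field K]

/-- **Lemma A**, first half: if the sum of the two universal roots of the monic `f` is again a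
root, then `f` has no constant term and all its higher Hasse derivatives are constants. -/
theorem hasseDeriv_eq_C_of_root_add (f : K[X]) (hm : f.Monic) (hn : 0 < f.natDegree)
    (h : letI B₁ := AdjoinRoot f
      letI Cc := AdjoinRoot (f.map (algebraMap K B₁))
      eval₂ (algebraMap K Cc) (algebraMap B₁ Cc (AdjoinRoot.root f) +
        AdjoinRoot.root (f.map (algebraMap K B₁))) f = 0) :
    f.coeff 0 = 0 ∧ ∀ j, 0 < j → hasseDeriv j f = C (f.coeff j) := by
  set n := f.natDegree with hn'
  set B₁ := AdjoinRoot f with hB₁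
  set f₁ := f.map (algebraMap K B₁) with hf₁
  set Cc := AdjoinRoot f₁ with hC
  set r : B₁ := AdjoinRoot.root f with hr
  have hnt : Nontrivial B₁ := AdjoinRoot.nontrivial f (by
    rw [degree_eq_natDegree hm.ne_zero]; exact_mod_cast hn.ne')
  have hm₁ : f₁.Monic := hm.map _
  have hdeg₁ : f₁.natDegree = n := by rw [hf₁, hm.natDegree_map]
  set D : B₁[X] := taylor r f₁ - f₁ with hD
  have hDdeg : D.degree < f₁.degree := by
    have h1 : (taylor r f₁).degree = f₁.degree := degree_taylor _ _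
    have h2 := degree_sub_lt_left h1 (by rw [Ne, taylor_eq_zero]; exact hm₁.ne_zero)
      (by rw [leadingCoeff_taylor])
    rw [h1] at h2
    exact h2
  have hDroot : f₁ ∣ D := by
    rw [← AdjoinRoot.mk_eq_zero]
    have h1 : AdjoinRoot.mk f₁ D = eval₂ (algebraMap B₁ Cc) (AdjoinRoot.root f₁) D := by
      rw [← AdjoinRoot.aeval_eq, aeval_def]
    rw [h1, hD, eval₂_sub, taylor_apply, eval₂_comp', eval₂_add, eval₂_C, eval₂_X]
    have h2 : eval₂ (algebraMap B₁ Cc) (AdjoinRoot.root f₁) f₁ = 0 := AdjoinRoot.eval₂_root f₁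
    rw [h2, sub_zero]
    have h8 : eval₂ (algebraMap B₁ Cc) (AdjoinRoot.root f₁ + (algebraMap B₁ Cc) r) f₁ =
        eval₂ ((algebraMap B₁ Cc).comp (algebraMap K B₁))
          (AdjoinRoot.root f₁ + (algebraMap B₁ Cc) r) f := eval₂_map _ _ _
    rw [h8, add_comm]
    exact h
  have hD0 : D = 0 := by
    by_contra hne
    exact (hm₁.not_dvd_of_degree_lt hne hDdeg) hDroot
  have htay : taylor r f₁ = f₁ := sub_eq_zero.mp hD0
  -- coefficientwise
  have hcoeff : ∀ j, aeval r (hasseDeriv j f - C (f.coeff j)) = 0 := by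
    intro j
    have h1 : (taylor r f₁).coeff j = f₁.coeff j := by rw [htay]
    rw [taylor_coeff, hf₁, hasseDeriv_map', eval_map, coeff_map] at h1
    rw [map_sub, aeval_C, aeval_def, h1, sub_self]
  have hdvd : ∀ j, f ∣ hasseDeriv j f - C (f.coeff j) := by
    intro j
    rw [← AdjoinRoot.mk_eq_zero, ← AdjoinRoot.aeval_eq]
    exact hcoeff j
  constructor
  · have h1 := hdvd 0
    rw [hasseDeriv_zero', dvd_sub_self_left] at h1
    by_contra hne
    have h2 : (C (f.coeff 0)).degree < f.degree := by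
      rw [degree_C hne, degree_eq_natDegree hm.ne_zero]
      exact_mod_cast hn
    exact hm.not_dvd_of_degree_lt (by rwa [Ne, C_eq_zero]) h2 h1
  · intro j hj
    by_contra hne
    have h1 := hdvd j
    have hne' : hasseDeriv j f - C (f.coeff j) ≠ 0 := fun h => hne (sub_eq_zero.mp h)
    have h2 : (hasseDeriv j f - C (f.coeff j)).degree < f.degree := by
      rw [degree_eq_natDegree hm.ne_zero, degree_lt_iff_coeff_zero]
      intro m hmn
      rw [coeff_sub, coeff_C, if_neg (by omega : ¬ m = 0), sub_zero]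
      apply coeff_eq_zero_of_natDegree_lt
      have := natDegree_hasseDeriv_le f j
      omega
    exact hm.not_dvd_of_degree_lt hne' h2 h1

/-- **Lemma A**, second half. -/
theorem eval₂_add_of_hasseDeriv (f : K[X]) (h0 : f.coeff 0 = 0)
    (hj : ∀ j, 0 < j → hasseDeriv j f = C (f.coeff j))
    {R : Type v} [CommRing R] (ρ : K →+* R) (a b : R) :
    eval₂ ρ (a + b) f = eval₂ ρ a f + eval₂ ρ b f := by
  have key : taylor a (f.map ρ) = C ((f.map ρ).eval a) + f.map ρ := by
    ext m
    rw [taylor_coeff, hasseDeriv_map', coeff_add, coeff_C, coeff_map]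
    rcases Nat.eq_zero_or_pos m with rfl | hm
    · rw [hasseDeriv_zero', if_pos rfl, h0, map_zero, add_zero]
    · rw [hj m hm, if_neg hm.ne', zero_add, Polynomial.map_C, eval_C]
  have h1 : (taylor a (f.map ρ)).eval b = (C ((f.map ρ).eval a) + f.map ρ).eval b := by rw [key]
  rw [taylor_eval, eval_add, eval_C, eval_map, eval_map, eval_map] at h1
  rw [add_comm a b]
  exact h1

end LemmaA

end Groth.Agent.Lib.Helper77.GaGmQuot
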