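import Mathlib

set_option autoImplicit false
universe u v
open Polynomial

namespace Groth.Agent.Lib.Helper77.GaGmQuot

/-- an injective integral ring map from a Dedekind domain to a domain is faithfully flat. -/
theorem faithfullyFlat_of_injective_of_isIntegral {P : Type u} {Q : Type v} [CommRing P]
    [IsDedekindDomain P] [CommRing Q] [IsDomain Q] (ψ : P →+* Q)
    (hinj : Function.Injective ψ) (hint : ψ.IsIntegral) : ψ.FaithfullyFlat := by
  let _ : Algebra P Q := ψ.toAlgebra
  have h1 : Module.IsTorsionFree P Q := by
    apply Module.IsTorsionFree.of_smul_eq_zero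
    intro r m hrm
    rw [Algebra.smul_def, mul_eq_zero] at hrm
    rcases hrm with h | h
    · left
      exact (map_eq_zero_iff ψ hinj).mp h
    · right; exact h
  have h2 : Module.Flat P Q := inferInstance
  have h3 : FaithfulSMul P Q := (faithfulSMul_iff_algebraMap_injective P Q).mpr hinj
  have h4 : Algebra.IsIntegral P Q := ⟨hint⟩
  exact Module.FaithfullyFlat.of_isIntegral_of_isDomain

variable {K : Type u} [Field K]

theorem compRingHom_injective (f : K[X]) (hn : 0 < f.natDegree) :
    Function.Injective (compRingHom f) := by
  rw [injective_iff_map_eq_zero]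
  intro p hp
  rw [coe_compRingHom_apply, comp_eq_zero_iff] at hp
  rcases hp with h | ⟨_, h⟩
  · exact h
  · exfalso
    rw [h, natDegree_C] at hn
    exact lt_irrefl _ hn

theorem compRingHom_isIntegral (f : K[X]) (hm : f.Monic) (hn : 0 < f.natDegree) :
    (compRingHom f).IsIntegral := by
  have hX : (compRingHom f).IsIntegralElem X := by
    refine ⟨f.map C - C X, ?_, ?_⟩
    · apply (hm.map C).sub_of_left
      rw [degree_C X_ne_zero, degree_eq_natDegree (hm.map C).ne_zero, hm.natDegree_map]
      exact_mod_cast hn
    · rw [eval₂_sub, eval₂_C, eval₂_map, coe_compRingHom_apply, X_comp]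
      have : (compRingHom f).comp C = C := by
        ext a
        simp [coe_compRingHom_apply]
      rw [this, eval₂_C_X, sub_self]
  intro p
  induction p using Polynomial.induction_on' with
  | add p q hp hq => exact RingHom.IsIntegralElem.add _ hp hq
  | monomial n a =>
    rw [← C_mul_X_pow_eq_monomial]
    apply RingHom.IsIntegralElem.mul _
    · have : (C a : K[X]) = compRingHom f (C a) := by simp [coe_compRingHom_apply]
      rw [this]
      exact (compRingHom f).isIntegralElem_map
    · induction n with
      | zero => rw [pow_zero]; exact RingHom.isIntegralElem_one _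
      | succ n ih => rw [pow_succ]; exact RingHom.IsIntegralElem.mul _ ih hX

/-- substitution of a nonconstant monic polynomial is a faithfully flat endomorphism of `K[X]`. -/
theorem compRingHom_faithfullyFlat (f : K[X]) (hm : f.Monic) (hn : 0 < f.natDegree) :
    (compRingHom f).FaithfullyFlat :=
  faithfullyFlat_of_injective_of_isIntegral _ (compRingHom_injective f hn)
    (compRingHom_isIntegral f hm hn)

end Groth.Agent.Lib.Helper77.GaGmQuot
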