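import Mathlib
import Groth.Agent.Lib.Helper77.GaGmQuot2

set_option autoImplicit false
universe u v
open Polynomial

namespace Groth.Agent.Lib.Helper77.GaGmQuot

variable {K : Type u} [Field K]

open scoped LaurentPolynomial

theorem powers_X_le : Submonoid.powers (X : K[X]) ≤ nonZeroDivisors K[X] := by
  apply Submonoid.powers_le.mpr
  exact mem_nonZeroDivisors_of_ne_zero X_ne_zero

instance laurent_isDomain : IsDomain K[T;T⁻¹] :=
  IsLocalization.isDomain_of_le_nonZeroDivisors (R := K[X]) (M := Submonoid.powers (X : K[X]))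
    K[T;T⁻¹] powers_X_le

instance laurent_isDedekindDomain : IsDedekindDomain K[T;T⁻¹] :=
  IsLocalization.isDedekindDomain K[X] (M := Submonoid.powers (X : K[X])) powers_X_le K[T;T⁻¹]

/-- the `n`-th power endomorphism of the Laurent polynomial ring. -/
noncomputable def powHom (n : ℕ) : K[T;T⁻¹] →+* K[T;T⁻¹] :=
  AddMonoidAlgebra.mapDomainRingHom K (nsmulAddMonoidHom (α := ℤ) n)

theorem powHom_C (n : ℕ) (a : K) :
    powHom n (LaurentPolynomial.C a : K[T;T⁻¹]) = LaurentPolynomial.C a := by
  rw [← LaurentPolynomial.single_eq_C]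
  show AddMonoidAlgebra.mapDomain _ _ = _
  rw [AddMonoidAlgebra.mapDomain_single]
  simp

theorem powHom_T (n : ℕ) (m : ℤ) :
    powHom n (LaurentPolynomial.T m : K[T;T⁻¹]) = LaurentPolynomial.T (n * m) := by
  show AddMonoidAlgebra.mapDomain _ (AddMonoidAlgebra.single m 1) = AddMonoidAlgebra.single _ 1
  rw [AddMonoidAlgebra.mapDomain_single]
  simp

theorem powHom_injective (n : ℕ) (hn : 0 < n) : Function.Injective (powHom (K := K) n) := by
  show Function.Injective (AddMonoidAlgebra.mapDomain _)
  apply AddMonoidAlgebra.mapDomain_injective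
  intro a b hab
  simpa [hn.ne'] using hab

theorem powHom_isIntegral (n : ℕ) (hn : 0 < n) : (powHom (K := K) n).IsIntegral := by
  have hT : ∀ m : ℤ, (powHom (K := K) n).IsIntegralElem (LaurentPolynomial.T m) := by
    intro m
    refine ⟨X ^ n - Polynomial.C (LaurentPolynomial.T m), monic_X_pow_sub_C _ hn.ne', ?_⟩
    rw [Polynomial.eval₂_sub, Polynomial.eval₂_pow, Polynomial.eval₂_X, Polynomial.eval₂_C,
      powHom_T, LaurentPolynomial.T_pow, sub_self]
  intro p
  induction p using LaurentPolynomial.induction_on' with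
  | add p q hp hq => exact RingHom.IsIntegralElem.add _ hp hq
  | C_mul_T m a =>
    apply RingHom.IsIntegralElem.mul _
    · rw [← powHom_C n a]
      exact (powHom n).isIntegralElem_map
    · exact hT m

theorem powHom_faithfullyFlat (n : ℕ) (hn : 0 < n) : (powHom (K := K) n).FaithfullyFlat :=
  faithfullyFlat_of_injective_of_isIntegral _ (powHom_injective n hn) (powHom_isIntegral n hn)

end Groth.Agent.Lib.Helper77.GaGmQuot
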