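import Mathlib
import Groth.Agent.Lib.Helper43.GaGm

set_option autoImplicit false
universe u
open CategoryTheory MonoidalCategory CartesianMonoidalCategory MonObj AlgebraicGeometry
open Groth.Agent.Lib.Helper43

namespace Groth.Agent.Lib.Helper77.GaGmQuot

section Rho

variable {K : Type u} [CommRing K]

/-- the structure ring hom `K → Γ(X)` of a scheme over `Spec K`. -/
noncomputable def rho (X : Over (Spec (CommRingCat.of K))) : K →+* Γ(X.left, ⊤) := ptFnHom X.hom

lemma rho_apply (X : Over (Spec (CommRingCat.of K))) (a : K) : rho X a = ptFn X.hom a := rfl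

lemma rho_comp {X Y : Over (Spec (CommRingCat.of K))} (g : Y ⟶ X) (a : K) :
    g.left.appTop (rho X a) = rho Y a := by
  rw [rho_apply, rho_apply, ← ptFn_comp, Over.w]

lemma rho_comp' {X Y : Over (Spec (CommRingCat.of K))} (g : Y ⟶ X) :
    (g.left.appTop.hom).comp (rho X) = rho Y := by
  ext a; exact rho_comp g a

variable {A : Type u} [CommRing A] [Algebra K A]

lemma specOver_hom : (specOver K A).hom = Spec.map (CommRingCat.ofHom (algebraMap K A)) := rfl

lemma ptFnHom_comp_algebraMap {X : Over (Spec (CommRingCat.of K))} (x : X ⟶ specOver K A) :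
    (ptFnHom x.left).comp (algebraMap K A) = rho X := by
  ext a
  simp only [RingHom.comp_apply, ptFnHom_apply, rho_apply]
  have h := Over.w x
  rw [specOver_hom] at h
  change ptFn (X := X.left) (A := A) x.left (algebraMap K A a) = _
  rw [← ptFn_specMap]
  exact congrArg (fun z => ptFn z a) h

lemma ptFn_algebraMap {X : Over (Spec (CommRingCat.of K))} (x : X ⟶ specOver K A) (a : K) :
    ptFn x.left (algebraMap K A a) = rho X a :=
  congr($(ptFnHom_comp_algebraMap x) a)

/-- the point of `Spec A` over `Spec K` attached to a ring hom compatible with the structure maps. -/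
noncomputable def ptOver {X : Over (Spec (CommRingCat.of K))} (φ : A →+* Γ(X.left, ⊤))
    (h : φ.comp (algebraMap K A) = rho X) : X ⟶ specOver K A :=
  Over.homMk (ptOfHom φ) (by
    apply ext_of_ptFnHom
    ext a
    simp only [ptFnHom_apply]
    change ptFn (ptOfHom φ ≫ Spec.map (CommRingCat.ofHom (algebraMap K A))) a = _
    rw [ptFn_specMap, ptFn_ptOfHom]
    exact congr($h a))

lemma ptFn_ptOver {X : Over (Spec (CommRingCat.of K))} (φ : A →+* Γ(X.left, ⊤))
    (h : φ.comp (algebraMap K A) = rho X) (a : A) : ptFn (ptOver φ h).left a = φ a :=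
  ptFn_ptOfHom φ a

lemma specOver_hom_ext {X : Over (Spec (CommRingCat.of K))} {x y : X ⟶ specOver K A}
    (h : ∀ a, ptFn x.left a = ptFn y.left a) : x = y := by
  ext1
  apply ext_of_ptFnHom
  ext a
  exact h a

lemma ptFn_id (a : A) : ptFn (𝟙 (Spec (CommRingCat.of A))) a = (Scheme.ΓSpecIso (CommRingCat.of A)).inv a := by
  simp [ptFn]

lemma ptFn_zero {X : Scheme.{u}} (x : X ⟶ Spec (CommRingCat.of A)) : ptFn x 0 = 0 := by
  rw [← ptFnHom_apply, map_zero]

section Closed

variable {H : Over (Spec (CommRingCat.of K))} (j : H ⟶ specOver K A) (I : Ideal A)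
  (e : H.left ≅ Spec (CommRingCat.of (A ⧸ I)))
  (he : j.left = e.hom ≫ Spec.map (CommRingCat.ofHom (Ideal.Quotient.mk I)))

include he in
lemma ptFn_comp_closed_eq_zero {X : Over (Spec (CommRingCat.of K))} (h : X ⟶ H) (a : A) (ha : a ∈ I) :
    ptFn (h ≫ j).left a = 0 := by
  have h1 : (h ≫ j).left = (h.left ≫ e.hom) ≫ Spec.map (CommRingCat.ofHom (Ideal.Quotient.mk I)) := by
    rw [Category.assoc, ← he]; rfl
  rw [h1, ptFn_specMap, Ideal.Quotient.eq_zero_iff_mem.mpr ha, ptFn_zero]

include he in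
lemma exists_lift_closed {X : Over (Spec (CommRingCat.of K))} (x : X ⟶ specOver K A)
    (hx : ∀ a ∈ I, ptFn x.left a = 0) : ∃ h : X ⟶ H, h ≫ j = x := by
  let ψ : A ⧸ I →+* Γ(X.left, ⊤) := Ideal.Quotient.lift I (ptFnHom x.left) hx
  let h₀ : X.left ⟶ H.left := ptOfHom ψ ≫ e.inv
  have h1 : h₀ ≫ j.left = x.left := by
    have h3 : h₀ ≫ j.left = ptOfHom ψ ≫ Spec.map (CommRingCat.ofHom (Ideal.Quotient.mk I)) := by
      have h4 : (ptOfHom ψ ≫ e.inv) ≫ (e.hom ≫ Spec.map (CommRingCat.ofHom (Ideal.Quotient.mk I))) =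
          ptOfHom ψ ≫ Spec.map (CommRingCat.ofHom (Ideal.Quotient.mk I)) := by simp
      exact (congrArg (fun t => (ptOfHom ψ ≫ e.inv) ≫ t) he).trans h4
    rw [h3]
    apply ext_of_ptFnHom
    ext a
    simp only [ptFnHom_apply]
    rw [ptFn_specMap, ptFn_ptOfHom]
    rfl
  have h2 : h₀ ≫ H.hom = X.hom := by
    rw [← Over.w j, ← Category.assoc, h1, Over.w]
  exact ⟨Over.homMk h₀ h2, by ext1; exact h1⟩

include he in
lemma finite_of_closed [IsFinite H.hom] :
    ((Ideal.Quotient.mk I).comp (algebraMap K A)).Finite := by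
  have h1 : Spec.map (CommRingCat.ofHom ((Ideal.Quotient.mk I).comp (algebraMap K A))) =
      e.inv ≫ H.hom := by
    have h4 : e.inv ≫ (e.hom ≫ Spec.map (CommRingCat.ofHom (Ideal.Quotient.mk I))) ≫
        Spec.map (CommRingCat.ofHom (algebraMap K A)) =
        Spec.map (CommRingCat.ofHom ((Ideal.Quotient.mk I).comp (algebraMap K A))) := by
      simp only [Category.assoc, Iso.inv_hom_id_assoc]
      rw [CommRingCat.ofHom_comp, Spec.map_comp]
    rw [← Over.w j]
    exact h4.symm.trans (congrArg (fun t => e.inv ≫ t ≫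
      Spec.map (CommRingCat.ofHom (algebraMap K A))) he.symm)
  have h2 : IsFinite (Spec.map (CommRingCat.ofHom ((Ideal.Quotient.mk I).comp (algebraMap K A)))) := by
    rw [h1]; infer_instance
  exact (IsFinite.SpecMap_iff _).mp h2

end Closed

omit [Algebra K A] in
lemma nontrivial_of_closed {H : Over (Spec (CommRingCat.of K))} (I : Ideal A)
    (e : H.left ≅ Spec (CommRingCat.of (A ⧸ I))) [Nonempty H.left] : Nontrivial (A ⧸ I) := by
  obtain ⟨z⟩ := ‹Nonempty H.left›
  exact PrimeSpectrum.nonempty_iff_nontrivial.mp ⟨e.hom.base z⟩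


end Rho

section Test

variable {K : Type u} [CommRing K]

variable {A : Type u} [CommRing A] [Algebra K A]

/-- global functions on `Spec A` -/
noncomputable def specFn (K A : Type u) [CommRing K] [CommRing A] [Algebra K A] :
    A →+* Γ((specOver K A).left, ⊤) :=
  (Scheme.ΓSpecIso (CommRingCat.of A)).inv.hom

lemma specFn_injective : Function.Injective (specFn K A) :=
  (ConcreteCategory.bijective_of_isIso (Scheme.ΓSpecIso (CommRingCat.of A)).inv).1

lemma rho_specOver (a : K) : rho (specOver K A) a = specFn K A (algebraMap K A a) := by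
  rw [rho_apply]
  change ptFn (Spec.map (CommRingCat.ofHom (algebraMap K A))) a = _
  rw [← Category.id_comp (Spec.map _), ptFn_specMap, ptFn_id]
  rfl

omit [Algebra K A] in
lemma ptFn_specMap_id {B : Type u} [CommRing B] (φ : A →+* B) (a : A) :
    ptFn (Spec.map (CommRingCat.ofHom φ)) a = (Scheme.ΓSpecIso (CommRingCat.of B)).inv (φ a) := by
  rw [← Category.id_comp (Spec.map _), ptFn_specMap, ptFn_id]

lemma ptFn_id_eq_specFn (a : A) :
    ptFn (𝟙 (Spec (CommRingCat.of A))) a = specFn K A a := ptFn_id a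

lemma specFn_surjective : Function.Surjective (specFn K A) :=
  (ConcreteCategory.bijective_of_isIso (Scheme.ΓSpecIso (CommRingCat.of A)).inv).2

end Test

end Groth.Agent.Lib.Helper77.GaGmQuot
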