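import Mathlib
import Groth.Agent.Lib.Helper77.GaGmQuot4

set_option autoImplicit false
universe u
open CategoryTheory MonoidalCategory CartesianMonoidalCategory MonObj AlgebraicGeometry
open Groth.Agent.Lib.Helper43 Polynomial

namespace Groth.Agent.Lib.Helper77.GaGmQuot

section GaModel

variable (K : Type u) [CommRing K]

/-- the coordinate function of `𝔾_a` over `Spec K`. -/
noncomputable def gaT : Γ((Red.Ga (Spec (CommRingCat.of K))).left, ⊤) :=
  Red.gaFn (𝟙 (Red.Ga (Spec (CommRingCat.of K))))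

variable {K}

lemma gaFn_eq_appTop {X : Over (Spec (CommRingCat.of K))} (x : X ⟶ Red.Ga (Spec (CommRingCat.of K))) :
    Red.gaFn x = x.left.appTop (gaT K) := by
  rw [gaT, ← gaFn_comp, Category.comp_id]

variable (K)

/-- `𝔾_a → Spec K[X]`. -/
noncomputable def gaToPoly : Red.Ga (Spec (CommRingCat.of K)) ⟶ specOver K K[X] :=
  ptOver (Polynomial.eval₂RingHom (rho _) (gaT K)) (by ext a; simp)

/-- the coordinate function on `Spec K[X]`. -/
noncomputable def polyX : Γ((specOver K K[X]).left, ⊤) :=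
  (Scheme.ΓSpecIso (CommRingCat.of K[X])).inv (X : K[X])

lemma exists_polyToGa :
    ∃ v : specOver K K[X] ⟶ Red.Ga (Spec (CommRingCat.of K)), Red.gaFn v = polyX K :=
  gaFn_surjective (polyX K)

/-- `Spec K[X] → 𝔾_a`. -/
noncomputable def polyToGa : specOver K K[X] ⟶ Red.Ga (Spec (CommRingCat.of K)) :=
  (exists_polyToGa K).choose

lemma gaFn_polyToGa : Red.gaFn (polyToGa K) = polyX K :=
  (exists_polyToGa K).choose_spec

variable {K}

lemma ptFn_comp_gaToPoly {X : Over (Spec (CommRingCat.of K))}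
    (x : X ⟶ Red.Ga (Spec (CommRingCat.of K))) (p : K[X]) :
    ptFn (x ≫ gaToPoly K).left p = eval₂ (rho X) (Red.gaFn x) p := by
  rw [Over.comp_left]
  change ptFn (x.left ≫ ((gaToPoly K).left : _ ⟶ Spec (CommRingCat.of K[X]))) p = _
  rw [ptFn_comp, gaToPoly, ptFn_ptOver, coe_eval₂RingHom]
  change x.left.appTop.hom _ = _
  rw [Polynomial.hom_eval₂, gaFn_eq_appTop, rho_comp']

variable (K)

lemma gaToPoly_polyToGa : gaToPoly K ≫ polyToGa K = 𝟙 _ := by
  apply gaFn_injective
  rw [gaFn_comp, gaFn_polyToGa, polyX]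
  change ptFn (gaToPoly K).left X = _
  rw [gaToPoly, ptFn_ptOver, coe_eval₂RingHom, eval₂_X, gaT]

lemma polyToGa_gaToPoly : polyToGa K ≫ gaToPoly K = 𝟙 _ := by
  apply specOver_hom_ext
  intro p
  rw [ptFn_comp_gaToPoly, gaFn_polyToGa, polyX]
  change _ = ptFnHom (𝟙 (Spec (CommRingCat.of K[X]))) p
  induction p using Polynomial.induction_on' with
  | add p q hp hq => rw [eval₂_add, hp, hq, map_add]; rfl
  | monomial n a =>
    rw [eval₂_monomial, ← C_mul_X_pow_eq_monomial, map_mul, map_pow]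
    congr 1
    · rw [rho_apply]
      change ptFn (Spec.map (CommRingCat.ofHom (algebraMap K K[X]))) a = _
      rw [← Category.id_comp (Spec.map _), ptFn_specMap]
      rfl

/-- `𝔾_a ≅ Spec K[X]` over `Spec K`. -/
noncomputable def gaIso : Red.Ga (Spec (CommRingCat.of K)) ≅ specOver K K[X] where
  hom := gaToPoly K
  inv := polyToGa K
  hom_inv_id := gaToPoly_polyToGa K
  inv_hom_id := polyToGa_gaToPoly K

instance : IsIso (gaToPoly K) := (gaIso K).isIso_hom

end GaModel

end Groth.Agent.Lib.Helper77.GaGmQuot
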