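import Mathlib
import Groth.Agent.Lib.Helper77.GaGmQuot1
import Groth.Agent.Lib.Helper77.GaGmQuot2
import Groth.Agent.Lib.Helper77.GaGmQuot5

set_option autoImplicit false
universe u
open CategoryTheory MonoidalCategory CartesianMonoidalCategory MonObj AlgebraicGeometry
open Groth.Agent.Lib.Helper43 Polynomial

namespace Groth.Agent.Lib.Helper77.GaGmQuot

section GaMain

variable {K : Type u} [Field K]

/-- data describing a subscheme of `𝔾_a` by a monic polynomial -/
structure GaCut {H : Over (Spec (CommRingCat.of K))} (i : H ⟶ Red.Ga (Spec (CommRingCat.of K))) where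
  f : K[X]
  monic : f.Monic
  pos : 0 < f.natDegree
  pt_iff : ∀ {X : Over (Spec (CommRingCat.of K))} (x : X ⟶ Red.Ga (Spec (CommRingCat.of K))),
    (∃ h : X ⟶ H, h ≫ i = x) ↔ eval₂ (rho X) (Red.gaFn x) f = 0

lemma isClosedImmersion_of_mono_finite {H G : Over (Spec (CommRingCat.of K))}
    (j : H ⟶ G) [Mono j] [IsFinite H.hom] [IsSeparated G.hom] : IsClosedImmersion j.left := by
  rw [IsClosedImmersion.iff_isFinite_and_mono]
  refine ⟨?_, inferInstance⟩
  have : IsFinite (j.left ≫ G.hom) := by rw [Over.w]; infer_instance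
  exact IsFinite.of_comp j.left G.hom

lemma exists_gaCut {H : Over (Spec (CommRingCat.of K))} (i : H ⟶ Red.Ga (Spec (CommRingCat.of K)))
    [Mono i] [IsFinite H.hom] [Nonempty H.left] : Nonempty (GaCut i) := by
  let j : H ⟶ specOver K K[X] := i ≫ gaToPoly K
  have : IsSeparated (specOver K K[X]).hom := by
    change IsSeparated (Spec.map (CommRingCat.ofHom (algebraMap K K[X])))
    infer_instance
  have hcl : IsClosedImmersion (j.left : H.left ⟶ Spec (CommRingCat.of K[X])) :=
    isClosedImmersion_of_mono_finite j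
  obtain ⟨I, e, he⟩ := IsClosedImmersion.Spec_iff.mp hcl
  have hfin : Module.Finite K (K[X] ⧸ I) := RingHom.finite_algebraMap.mp (finite_of_closed j I e he)
  have hnt : Nontrivial (K[X] ⧸ I) := nontrivial_of_closed I e
  have hint : IsIntegral K (Ideal.Quotient.mk I X) := IsIntegral.of_finite K _
  have hmem : ∀ p : K[X], p ∈ I ↔ minpoly K (Ideal.Quotient.mk I X) ∣ p := by
    intro p
    rw [minpoly.dvd_iff, ← Ideal.Quotient.eq_zero_iff_mem]
    have : aeval (Ideal.Quotient.mk I X) p = Ideal.Quotient.mk I p := by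
      have h1 := Polynomial.aeval_algHom_apply (Ideal.Quotient.mkₐ K I) (X : K[X]) p
      rw [aeval_X_left_apply] at h1
      exact h1
    rw [this]
  refine ⟨⟨minpoly K (Ideal.Quotient.mk I X), minpoly.monic hint, minpoly.natDegree_pos hint, ?_⟩⟩
  intro X x
  constructor
  · rintro ⟨h, rfl⟩
    have h1 := ptFn_comp_closed_eq_zero j I e he h _ ((hmem _).mpr dvd_rfl)
    rw [← Category.assoc, ptFn_comp_gaToPoly] at h1
    exact h1
  · intro hx
    obtain ⟨h, hh⟩ := exists_lift_closed j I e he (x ≫ gaToPoly K) (by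
      intro p hp
      obtain ⟨q, rfl⟩ := (hmem p).mp hp
      rw [ptFn_comp_gaToPoly, eval₂_mul, hx, zero_mul])
    refine ⟨h, ?_⟩
    rw [← cancel_mono (gaToPoly K), Category.assoc]
    exact hh


section Test

variable {A : Type u} [CommRing A] [Algebra K A]

lemma eval₂_rho_specOver (a : A) (f : K[X]) :
    eval₂ (rho (specOver K A)) (specFn K A a) f = specFn K A (eval₂ (algebraMap K A) a f) := by
  rw [Polynomial.hom_eval₂]
  congr 1
  ext b
  exact rho_specOver b

end Test

lemma GaCut.add_root {H : Over (Spec (CommRingCat.of K))} [GrpObj H]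
    {i : H ⟶ Red.Ga (Spec (CommRingCat.of K))} [IsMonHom i] (c : GaCut i)
    {A : Type u} [CommRing A] [Algebra K A] (a b : A)
    (ha : eval₂ (algebraMap K A) a c.f = 0) (hb : eval₂ (algebraMap K A) b c.f = 0) :
    eval₂ (algebraMap K A) (a + b) c.f = 0 := by
  obtain ⟨xa, hxa⟩ := gaFn_surjective (X := specOver K A) (specFn K A a)
  obtain ⟨xb, hxb⟩ := gaFn_surjective (X := specOver K A) (specFn K A b)
  obtain ⟨ha', hha⟩ := (c.pt_iff xa).mpr (by rw [hxa, eval₂_rho_specOver, ha, map_zero])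
  obtain ⟨hb', hhb⟩ := (c.pt_iff xb).mpr (by rw [hxb, eval₂_rho_specOver, hb, map_zero])
  have h1 := (c.pt_iff (xa * xb)).mp ⟨ha' * hb', by rw [MonObj.mul_comp ha' hb' i, hha, hhb]⟩
  rw [gaFn_mul, hxa, hxb, ← map_add, eval₂_rho_specOver] at h1
  exact specFn_injective (h1.trans (map_zero _).symm)

lemma GaCut.additive {H : Over (Spec (CommRingCat.of K))} [GrpObj H]
    {i : H ⟶ Red.Ga (Spec (CommRingCat.of K))} [IsMonHom i] (c : GaCut i) :
    c.f.coeff 0 = 0 ∧ ∀ j, 0 < j → hasseDeriv j c.f = C (c.f.coeff j) := by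
  apply hasseDeriv_eq_C_of_root_add c.f c.monic c.pos
  have h0 : algebraMap K (AdjoinRoot (c.f.map (algebraMap K (AdjoinRoot c.f)))) =
      (algebraMap (AdjoinRoot c.f) (AdjoinRoot (c.f.map (algebraMap K (AdjoinRoot c.f))))).comp
        (algebraMap K (AdjoinRoot c.f)) := IsScalarTower.algebraMap_eq _ _ _
  apply c.add_root
  · rw [h0, ← Polynomial.hom_eval₂]
    erw [AdjoinRoot.eval₂_root]
    rw [map_zero]
  · rw [h0, ← Polynomial.eval₂_map]
    exact AdjoinRoot.eval₂_root _

lemma nonempty_left_of_grpObj (H : Over (Spec (CommRingCat.of K))) [GrpObj H] : Nonempty H.left := by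
  have h1 : Nonempty ↥(𝟙_ (Over (Spec (CommRingCat.of K)))).left :=
    (inferInstance : Nonempty (PrimeSpectrum K))
  obtain ⟨z⟩ := h1
  exact ⟨(η[H]).left.base z⟩

lemma gaFn_comp_of_eval {X : Over (Spec (CommRingCat.of K))} (f : K[X])
    (φ : Red.Ga (Spec (CommRingCat.of K)) ⟶ Red.Ga (Spec (CommRingCat.of K)))
    (hφ : Red.gaFn φ = eval₂ (rho _) (gaT K) f) (x : X ⟶ Red.Ga (Spec (CommRingCat.of K))) :
    Red.gaFn (x ≫ φ) = eval₂ (rho X) (Red.gaFn x) f := by
  rw [gaFn_comp, hφ]
  change x.left.appTop.hom _ = _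
  rw [Polynomial.hom_eval₂, gaFn_eq_appTop x, rho_comp']

theorem ga_main {H : Over (Spec (CommRingCat.of K))} [GrpObj H]
    (i : H ⟶ Red.Ga (Spec (CommRingCat.of K))) [IsMonHom i] [Mono i] [IsFinite H.hom] :
    ∃ φ : Red.Ga (Spec (CommRingCat.of K)) ⟶ Red.Ga (Spec (CommRingCat.of K)),
      IsMonHom φ ∧ IsPullback i (toUnit H) φ η[Red.Ga (Spec (CommRingCat.of K))] ∧
        Flat φ.left ∧ Surjective φ.left := by
  have := nonempty_left_of_grpObj H
  obtain ⟨c⟩ := exists_gaCut i
  obtain ⟨h0, hj⟩ := c.additive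
  obtain ⟨φ, hφ⟩ := gaFn_surjective (X := Red.Ga (Spec (CommRingCat.of K)))
    (eval₂ (rho _) (gaT K) c.f)
  have hcomp := fun {X : Over (Spec (CommRingCat.of K))} (x : X ⟶ Red.Ga (Spec (CommRingCat.of K))) =>
    gaFn_comp_of_eval c.f φ hφ x
  have hzero : ∀ {R : Type u} [CommRing R] (ρ : K →+* R), eval₂ ρ 0 c.f = 0 := by
    intro R _ ρ
    rw [eval₂_at_zero, h0, map_zero]
  refine ⟨φ, ?_, ?_, ?_⟩
  · constructor
    · apply gaFn_injective
      rw [hcomp, one_eq_one, gaFn_one, hzero]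
    · apply gaFn_injective
      rw [hcomp, mul_eq_mul, gaFn_mul, eval₂_add_of_hasseDeriv c.f h0 hj, MonObj.comp_mul, gaFn_mul,
        tensorHom_fst, tensorHom_snd, hcomp, hcomp]
  · have hw : i ≫ φ = toUnit H ≫ η[Red.Ga (Spec (CommRingCat.of K))] := by
      apply gaFn_injective
      rw [hcomp, (c.pt_iff i).mp ⟨𝟙 H, Category.id_comp i⟩, ← Hom.one_def, gaFn_one]
    have hlift : ∀ s : Limits.PullbackCone φ η[Red.Ga (Spec (CommRingCat.of K))],
        ∃ h : s.pt ⟶ H, h ≫ i = s.fst := by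
      intro s
      apply (c.pt_iff s.fst).mpr
      rw [← hcomp, s.condition, toUnit_unique s.snd (toUnit _), ← Hom.one_def, gaFn_one]
    refine ⟨⟨hw⟩, ⟨Limits.PullbackCone.IsLimit.mk _ (fun s => (hlift s).choose) ?_ ?_ ?_⟩⟩
    · intro s
      exact (hlift s).choose_spec
    · intro s
      exact toUnit_unique _ _
    · intro s m hm _
      rw [← cancel_mono i, hm]
      exact ((hlift s).choose_spec).symm
  · have hψ : (polyToGa K ≫ φ ≫ gaToPoly K).left =
        Spec.map (CommRingCat.ofHom (compRingHom c.f)) := by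
      apply ext_of_ptFnHom
      refine RingHom.ext fun p => ?_
      rw [ptFnHom_apply, ptFnHom_apply]
      rw [← Category.assoc, ptFn_comp_gaToPoly, hcomp, gaFn_polyToGa]
      have h1 : polyX K = specFn K K[X] X := rfl
      rw [h1, eval₂_rho_specOver, eval₂_rho_specOver, Polynomial.algebraMap_eq, eval₂_C_X]
      exact (ptFn_specMap_id (compRingHom c.f) p).symm
    have hφ' : φ = gaToPoly K ≫ (polyToGa K ≫ φ ≫ gaToPoly K) ≫ polyToGa K := by
      simp only [Category.assoc, gaToPoly_polyToGa, Category.comp_id]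
      rw [← Category.assoc, gaToPoly_polyToGa, Category.id_comp]
    have hff := (flat_and_surjective_SpecMap_iff (CommRingCat.ofHom (compRingHom c.f))).mpr
      (compRingHom_faithfullyFlat c.f c.monic c.pos)
    rw [← hψ] at hff
    obtain ⟨hfl, hsu⟩ := hff
    have hfl' : Flat (polyToGa K ≫ φ ≫ gaToPoly K).left := hfl
    have hsu' : Surjective (polyToGa K ≫ φ ≫ gaToPoly K).left := hsu
    have h2 : φ.left = (gaToPoly K).left ≫ (polyToGa K ≫ φ ≫ gaToPoly K).left ≫ (polyToGa K).left := by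
      conv_lhs => rw [hφ']
      simp only [Over.comp_left]
    have hi1 : IsIso (gaToPoly K).left :=
      inferInstanceAs (IsIso ((Over.forget _).map (gaToPoly K)))
    have hi2 : IsIso (polyToGa K).left := by
      have : IsIso (polyToGa K) := (gaIso K).isIso_inv
      exact inferInstanceAs (IsIso ((Over.forget _).map (polyToGa K)))
    rw [h2]
    exact ⟨inferInstance, inferInstance⟩

end GaMain

end Groth.Agent.Lib.Helper77.GaGmQuot
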