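import Mathlib
import Groth.Agent.Lib.Helper77.GaGmQuot4

set_option autoImplicit false
universe u
open CategoryTheory MonoidalCategory CartesianMonoidalCategory MonObj AlgebraicGeometry
open Groth.Agent.Lib.Helper43
open scoped LaurentPolynomial

namespace Groth.Agent.Lib.Helper77.GaGmQuot

section LaurentExt

variable {K : Type u} [CommRing K]

lemma laurent_ringHom_ext' {R : Type*} [CommRing R] {g h : K[T;T⁻¹] →+* R}
    (hC : ∀ a, g (LaurentPolynomial.C a) = h (LaurentPolynomial.C a))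
    (hT : g (LaurentPolynomial.T 1) = h (LaurentPolynomial.T 1)) : g = h := by
  have hpos : ∀ n : ℕ, g (LaurentPolynomial.T n) = h (LaurentPolynomial.T n) := by
    intro n
    have : (LaurentPolynomial.T (n : ℤ) : K[T;T⁻¹]) = LaurentPolynomial.T 1 ^ n := by
      rw [LaurentPolynomial.T_pow]; simp
    rw [this, map_pow, map_pow, hT]
  have hneg : ∀ n : ℕ, g (LaurentPolynomial.T (-n)) = h (LaurentPolynomial.T (-n)) := by
    intro n
    have h1 : g (LaurentPolynomial.T (-(n : ℤ))) * g (LaurentPolynomial.T n) = 1 := by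
      rw [← map_mul, ← LaurentPolynomial.T_add]; simp
    have h2 : h (LaurentPolynomial.T (n : ℤ)) * h (LaurentPolynomial.T (-(n : ℤ))) = 1 := by
      rw [← map_mul, ← LaurentPolynomial.T_add]; simp
    calc g (LaurentPolynomial.T (-(n : ℤ)))
        = g (LaurentPolynomial.T (-(n : ℤ))) * (h (LaurentPolynomial.T (n : ℤ)) *
            h (LaurentPolynomial.T (-(n : ℤ)))) := by rw [h2, _root_.mul_one]
      _ = (g (LaurentPolynomial.T (-(n : ℤ))) * g (LaurentPolynomial.T n)) *
            h (LaurentPolynomial.T (-(n : ℤ))) := by rw [hpos n]; ring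
      _ = h (LaurentPolynomial.T (-(n : ℤ))) := by rw [h1, _root_.one_mul]
  have hall : ∀ m : ℤ, g (LaurentPolynomial.T m) = h (LaurentPolynomial.T m) := by
    intro m
    rcases Int.eq_nat_or_neg m with ⟨n, rfl | rfl⟩
    · exact hpos n
    · exact hneg n
  refine RingHom.ext fun p => ?_
  induction p using LaurentPolynomial.induction_on' with
  | add p q hp hq => rw [map_add, map_add, hp, hq]
  | C_mul_T m a => rw [map_mul, map_mul, hC, hall]

lemma laurent_hom_eval₂ {R R' : Type*} [CommRing R] [CommRing R'] (ρ : K →+* R) (u : Rˣ)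
    (g : R →+* R') (p : K[T;T⁻¹]) :
    g (LaurentPolynomial.eval₂ ρ u p) = LaurentPolynomial.eval₂ (g.comp ρ) (Units.map g u) p := by
  have : g.comp (LaurentPolynomial.eval₂ ρ u) =
      LaurentPolynomial.eval₂ (g.comp ρ) (Units.map (g : R →* R') u) := by
    apply laurent_ringHom_ext'
    · intro a
      simp [LaurentPolynomial.eval₂_C]
    · simp [LaurentPolynomial.eval₂_T]
  exact congr($this p)

end LaurentExt

section GmModel

variable (K : Type u) [CommRing K]

/-- the coordinate unit of `𝔾_m` over `Spec K`. -/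
noncomputable def gmU : Γ((Red.Gm (Spec (CommRingCat.of K))).left, ⊤)ˣ :=
  gmHom (𝟙 (Red.Gm (Spec (CommRingCat.of K))))

variable {K}

lemma gmHom_eq_map {X : Over (Spec (CommRingCat.of K))} (x : X ⟶ Red.Gm (Spec (CommRingCat.of K))) :
    gmHom x = Units.map (x.left.appTop.hom : _ →* _) (gmU K) := by
  ext
  rw [gmHom_val, Units.coe_map, gmU, gmHom_val]
  change _ = x.left.appTop _
  rw [← gmFn_comp, Category.comp_id]

variable (K)

/-- `𝔾_m → Spec K[T;T⁻¹]`. -/
noncomputable def gmToLaur : Red.Gm (Spec (CommRingCat.of K)) ⟶ specOver K K[T;T⁻¹] :=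
  ptOver (LaurentPolynomial.eval₂ (rho _) (gmU K)) (by
    ext a
    rw [RingHom.comp_apply, LaurentPolynomial.algebraMap_apply, LaurentPolynomial.eval₂_C]
    rfl)

/-- the coordinate unit on `Spec K[T;T⁻¹]`. -/
noncomputable def laurU : Γ((specOver K K[T;T⁻¹]).left, ⊤)ˣ :=
  Units.map (specFn K K[T;T⁻¹] : _ →* _) (LaurentPolynomial.isUnit_T (R := K) 1).unit

lemma exists_laurToGm :
    ∃ v : specOver K K[T;T⁻¹] ⟶ Red.Gm (Spec (CommRingCat.of K)), Red.gmFn v = laurU K :=
  gmFn_surjective (laurU K)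

/-- `Spec K[T;T⁻¹] → 𝔾_m`. -/
noncomputable def laurToGm : specOver K K[T;T⁻¹] ⟶ Red.Gm (Spec (CommRingCat.of K)) :=
  (exists_laurToGm K).choose

lemma gmFn_laurToGm : Red.gmFn (laurToGm K) = laurU K :=
  (exists_laurToGm K).choose_spec

lemma gmHom_laurToGm : gmHom (laurToGm K) = laurU K := by
  ext
  rw [gmHom_val, gmFn_laurToGm]

variable {K}

lemma ptFn_comp_gmToLaur {X : Over (Spec (CommRingCat.of K))}
    (x : X ⟶ Red.Gm (Spec (CommRingCat.of K))) (p : K[T;T⁻¹]) :
    ptFn (x ≫ gmToLaur K).left p = LaurentPolynomial.eval₂ (rho X) (gmHom x) p := by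
  rw [Over.comp_left]
  change ptFn (x.left ≫ ((gmToLaur K).left : _ ⟶ Spec (CommRingCat.of K[T;T⁻¹]))) p = _
  rw [ptFn_comp, gmToLaur, ptFn_ptOver]
  change x.left.appTop.hom _ = _
  rw [laurent_hom_eval₂, gmHom_eq_map x, rho_comp']

variable (K)

lemma gmToLaur_laurToGm : gmToLaur K ≫ laurToGm K = 𝟙 _ := by
  apply gmFn_injective
  rw [gmFn_comp, gmFn_laurToGm, laurU]
  change ptFn (gmToLaur K).left (LaurentPolynomial.T 1) = _
  rw [gmToLaur, ptFn_ptOver, LaurentPolynomial.eval₂_T, zpow_one, gmU, gmHom_val]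

lemma laurToGm_gmToLaur : laurToGm K ≫ gmToLaur K = 𝟙 _ := by
  apply specOver_hom_ext
  intro p
  rw [ptFn_comp_gmToLaur, gmHom_laurToGm]
  change _ = ptFnHom (𝟙 (Spec (CommRingCat.of K[T;T⁻¹]))) p
  have : LaurentPolynomial.eval₂ (rho (specOver K K[T;T⁻¹])) (laurU K) =
      ptFnHom (𝟙 (Spec (CommRingCat.of K[T;T⁻¹]))) := by
    apply laurent_ringHom_ext'
    · intro a
      rw [LaurentPolynomial.eval₂_C, rho_apply]
      change ptFn (Spec.map (CommRingCat.ofHom (algebraMap K K[T;T⁻¹]))) a = _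
      rw [← Category.id_comp (Spec.map _), ptFn_specMap, LaurentPolynomial.algebraMap_apply]
      rfl
    · rw [LaurentPolynomial.eval₂_T, zpow_one]
      rfl
  exact congr($this p)

/-- `𝔾_m ≅ Spec K[T;T⁻¹]` over `Spec K`. -/
noncomputable def gmIso : Red.Gm (Spec (CommRingCat.of K)) ≅ specOver K K[T;T⁻¹] where
  hom := gmToLaur K
  inv := laurToGm K
  hom_inv_id := gmToLaur_laurToGm K
  inv_hom_id := laurToGm_gmToLaur K

instance : IsIso (gmToLaur K) := (gmIso K).isIso_hom

end GmModel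

end Groth.Agent.Lib.Helper77.GaGmQuot
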