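import Mathlib
import Groth.Agent.Lib.Helper77.GaGmQuot3
import Groth.Agent.Lib.Helper77.GaGmQuot6
import Groth.Agent.Lib.Helper77.GaGmQuot7

set_option autoImplicit false
universe u
open CategoryTheory MonoidalCategory CartesianMonoidalCategory MonObj AlgebraicGeometry
open Groth.Agent.Lib.Helper43 Polynomial
open scoped LaurentPolynomial

namespace Groth.Agent.Lib.Helper77.GaGmQuot

section GmMain

variable {K : Type u} [Field K]

/-- data describing a subscheme of `𝔾_m` by a monic polynomial with nonzero constant term -/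
structure GmCut {H : Over (Spec (CommRingCat.of K))} (i : H ⟶ Red.Gm (Spec (CommRingCat.of K))) where
  f : K[X]
  monic : f.Monic
  pos : 0 < f.natDegree
  coeff_zero : f.coeff 0 ≠ 0
  pt_iff : ∀ {X : Over (Spec (CommRingCat.of K))} (x : X ⟶ Red.Gm (Spec (CommRingCat.of K))),
    (∃ h : X ⟶ H, h ≫ i = x) ↔ eval₂ (rho X) (Red.gmFn x) f = 0

lemma minpoly_coeff_zero_ne_zero_of_isUnit {B : Type*} [CommRing B] [Algebra K B] [Nontrivial B]
    (t : B) (ht : IsUnit t) (hint : IsIntegral K t) : (minpoly K t).coeff 0 ≠ 0 := by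
  intro h0
  have hX : (X : K[X]) ∣ minpoly K t := Polynomial.X_dvd_iff.mpr h0
  obtain ⟨g, hg⟩ := hX
  have hm : (minpoly K t).Monic := minpoly.monic hint
  have hgm : g.Monic := by
    rw [hg] at hm
    exact Monic.of_mul_monic_left monic_X hm
  have h1 : aeval t g = 0 := by
    have h2 := minpoly.aeval K t
    rw [hg, map_mul, aeval_X] at h2
    exact (ht.mul_right_eq_zero).mp h2
  have h3 := minpoly.dvd K t h1
  have h4 := natDegree_le_of_dvd h3 hgm.ne_zero
  have h5 : (minpoly K t).natDegree = 1 + g.natDegree := by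
    conv_lhs => rw [hg]
    rw [Monic.natDegree_mul monic_X hgm, natDegree_X]
  omega

lemma exists_gmCut {H : Over (Spec (CommRingCat.of K))} (i : H ⟶ Red.Gm (Spec (CommRingCat.of K)))
    [Mono i] [IsFinite H.hom] [Nonempty H.left] : Nonempty (GmCut i) := by
  let j : H ⟶ specOver K K[T;T⁻¹] := i ≫ gmToLaur K
  have : IsSeparated (specOver K K[T;T⁻¹]).hom := by
    change IsSeparated (Spec.map (CommRingCat.ofHom (algebraMap K K[T;T⁻¹])))
    infer_instance
  have hcl : IsClosedImmersion (j.left : H.left ⟶ Spec (CommRingCat.of K[T;T⁻¹])) :=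
    isClosedImmersion_of_mono_finite j
  obtain ⟨I, e, he⟩ := IsClosedImmersion.Spec_iff.mp hcl
  have hfin : Module.Finite K (K[T;T⁻¹] ⧸ I) := RingHom.finite_algebraMap.mp (finite_of_closed j I e he)
  have hnt : Nontrivial (K[T;T⁻¹] ⧸ I) := nontrivial_of_closed I e
  have ht : IsUnit (Ideal.Quotient.mk I (LaurentPolynomial.T 1)) :=
    (LaurentPolynomial.isUnit_T 1).map (Ideal.Quotient.mk I)
  have hint : IsIntegral K (Ideal.Quotient.mk I (LaurentPolynomial.T 1)) := IsIntegral.of_finite K _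
  have haeval : ∀ q : K[X], aeval (Ideal.Quotient.mk I (LaurentPolynomial.T 1)) q =
      Ideal.Quotient.mk I (toLaurent q) := by
    intro q
    have h1 := Polynomial.aeval_algHom_apply
      ((Ideal.Quotient.mkₐ K I).comp (Polynomial.toLaurentAlg (R := K))) (X : K[X]) q
    rw [aeval_X_left_apply] at h1
    simpa using h1
  have hdvd : ∀ q : K[X], toLaurent q ∈ I ↔
      minpoly K (Ideal.Quotient.mk I (LaurentPolynomial.T 1)) ∣ q := by
    intro q
    rw [minpoly.dvd_iff, haeval, Ideal.Quotient.eq_zero_iff_mem]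
  refine ⟨⟨minpoly K (Ideal.Quotient.mk I (LaurentPolynomial.T 1)), minpoly.monic hint,
    minpoly.natDegree_pos hint, minpoly_coeff_zero_ne_zero_of_isUnit _ ht hint, ?_⟩⟩
  intro X x
  constructor
  · rintro ⟨h, rfl⟩
    have h1 := ptFn_comp_closed_eq_zero j I e he h _ ((hdvd _).mpr dvd_rfl)
    rw [← Category.assoc, ptFn_comp_gmToLaur, LaurentPolynomial.eval₂_toLaurent, gmHom_val] at h1
    exact h1
  · intro hx
    obtain ⟨h, hh⟩ := exists_lift_closed j I e he (x ≫ gmToLaur K) (by
      intro p hp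
      obtain ⟨n, q, hq⟩ := LaurentPolynomial.exists_T_pow p
      have hqI : toLaurent q ∈ I := by rw [hq]; exact I.mul_mem_right _ hp
      obtain ⟨r, rfl⟩ := (hdvd q).mp hqI
      have h2 : LaurentPolynomial.eval₂ (rho X) (gmHom x) (p * LaurentPolynomial.T n) = 0 := by
        rw [← hq, LaurentPolynomial.eval₂_toLaurent, eval₂_mul, gmHom_val, hx, zero_mul]
      rw [map_mul, LaurentPolynomial.eval₂_T] at h2
      rw [ptFn_comp_gmToLaur]
      exact (Units.mul_left_eq_zero _).mp h2)
    refine ⟨h, ?_⟩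
    rw [← cancel_mono (gmToLaur K), Category.assoc]
    exact hh

lemma isUnit_of_root (f : K[X]) (h0 : f.coeff 0 ≠ 0) {A : Type*} [CommRing A] [Algebra K A] (a : A)
    (ha : eval₂ (algebraMap K A) a f = 0) : IsUnit a := by
  have h1 := Polynomial.X_mul_divX_add f
  rw [← h1, eval₂_add, eval₂_mul, eval₂_X, eval₂_C] at ha
  apply IsUnit.of_mul_eq_one (-(eval₂ (algebraMap K A) a f.divX) * algebraMap K A (f.coeff 0)⁻¹)
  have h2 : algebraMap K A (f.coeff 0) * algebraMap K A (f.coeff 0)⁻¹ = 1 := by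
    rw [← map_mul, mul_inv_cancel₀ h0, map_one]
  have h3 : a * eval₂ (algebraMap K A) a f.divX = - algebraMap K A (f.coeff 0) :=
    eq_neg_of_add_eq_zero_left ha
  calc a * (-(eval₂ (algebraMap K A) a f.divX) * algebraMap K A (f.coeff 0)⁻¹)
      = -(a * eval₂ (algebraMap K A) a f.divX) * algebraMap K A (f.coeff 0)⁻¹ := by ring
    _ = 1 := by rw [h3, neg_neg, h2]

lemma GmCut.mul_root {H : Over (Spec (CommRingCat.of K))} [GrpObj H]
    {i : H ⟶ Red.Gm (Spec (CommRingCat.of K))} [IsMonHom i] (c : GmCut i)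
    {A : Type u} [CommRing A] [Algebra K A] (a b : A)
    (ha : eval₂ (algebraMap K A) a c.f = 0) (hb : eval₂ (algebraMap K A) b c.f = 0) :
    eval₂ (algebraMap K A) (a * b) c.f = 0 := by
  obtain ⟨ua, rfl⟩ := isUnit_of_root c.f c.coeff_zero a ha
  obtain ⟨ub, rfl⟩ := isUnit_of_root c.f c.coeff_zero b hb
  obtain ⟨xa, hxa⟩ := gmFn_surjective (X := specOver K A) (Units.map (specFn K A : _ →* _) ua)
  obtain ⟨xb, hxb⟩ := gmFn_surjective (X := specOver K A) (Units.map (specFn K A : _ →* _) ub)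
  rw [Units.coe_map] at hxa hxb
  change Red.gmFn xa = specFn K A ua at hxa
  change Red.gmFn xb = specFn K A ub at hxb
  obtain ⟨ha', hha⟩ := (c.pt_iff xa).mpr (by rw [hxa, eval₂_rho_specOver, ha, map_zero])
  obtain ⟨hb', hhb⟩ := (c.pt_iff xb).mpr (by rw [hxb, eval₂_rho_specOver, hb, map_zero])
  have h1 := (c.pt_iff (xa * xb)).mp ⟨ha' * hb', by rw [MonObj.mul_comp ha' hb' i, hha, hhb]⟩
  rw [gmFn_mul, hxa, hxb, ← map_mul, eval₂_rho_specOver] at h1
  exact specFn_injective (h1.trans (map_zero _).symm)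

lemma GmCut.eq_X_pow_sub_one {H : Over (Spec (CommRingCat.of K))} [GrpObj H]
    {i : H ⟶ Red.Gm (Spec (CommRingCat.of K))} [IsMonHom i] (c : GmCut i) :
    c.f = X ^ c.f.natDegree - 1 := by
  apply GaGmQuot.eq_X_pow_sub_one c.f c.monic c.pos c.coeff_zero
  have h0 : algebraMap K (AdjoinRoot (c.f.map (algebraMap K (AdjoinRoot c.f)))) =
      (algebraMap (AdjoinRoot c.f) (AdjoinRoot (c.f.map (algebraMap K (AdjoinRoot c.f))))).comp
        (algebraMap K (AdjoinRoot c.f)) := IsScalarTower.algebraMap_eq _ _ _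
  apply c.mul_root
  · rw [h0, ← Polynomial.hom_eval₂]
    erw [AdjoinRoot.eval₂_root]
    rw [map_zero]
  · rw [h0, ← Polynomial.eval₂_map]
    exact AdjoinRoot.eval₂_root _

theorem gm_main {H : Over (Spec (CommRingCat.of K))} [GrpObj H]
    (i : H ⟶ Red.Gm (Spec (CommRingCat.of K))) [IsMonHom i] [Mono i] [IsFinite H.hom] :
    ∃ φ : Red.Gm (Spec (CommRingCat.of K)) ⟶ Red.Gm (Spec (CommRingCat.of K)),
      IsMonHom φ ∧ IsPullback i (toUnit H) φ η[Red.Gm (Spec (CommRingCat.of K))] ∧
        Flat φ.left ∧ Surjective φ.left := by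
  have := nonempty_left_of_grpObj H
  obtain ⟨c⟩ := exists_gmCut i
  have hf := c.eq_X_pow_sub_one
  have hnpos : 0 < c.f.natDegree := c.pos
  generalize c.f.natDegree = n at hf hnpos
  obtain ⟨φ, hφ⟩ := gmFn_surjective (X := Red.Gm (Spec (CommRingCat.of K))) ((gmU K) ^ n)
  have hcomp : ∀ {X : Over (Spec (CommRingCat.of K))} (x : X ⟶ Red.Gm (Spec (CommRingCat.of K))),
      Red.gmFn (x ≫ φ) = Red.gmFn x ^ n := by
    intro X x
    rw [gmFn_comp, hφ, Units.val_pow_eq_pow_val, map_pow, gmU, gmHom_val, ← gmFn_comp, Category.comp_id]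
  have hpt : ∀ {X : Over (Spec (CommRingCat.of K))} (x : X ⟶ Red.Gm (Spec (CommRingCat.of K))),
      (∃ h : X ⟶ H, h ≫ i = x) ↔ Red.gmFn x ^ n = 1 := by
    intro X x
    rw [c.pt_iff, hf, eval₂_sub, eval₂_pow, eval₂_X, eval₂_one, sub_eq_zero]
  refine ⟨φ, ?_, ?_, ?_⟩
  · constructor
    · apply gmFn_injective
      rw [hcomp, one_eq_one, gmFn_one, one_pow]
    · apply gmFn_injective
      rw [hcomp, mul_eq_mul, gmFn_mul, MonObj.comp_mul, gmFn_mul,
        tensorHom_fst, tensorHom_snd, hcomp, hcomp, mul_pow]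
  · have hw : i ≫ φ = toUnit H ≫ η[Red.Gm (Spec (CommRingCat.of K))] := by
      apply gmFn_injective
      rw [hcomp, (hpt i).mp ⟨𝟙 H, Category.id_comp i⟩, ← Hom.one_def, gmFn_one]
    have hlift : ∀ s : Limits.PullbackCone φ η[Red.Gm (Spec (CommRingCat.of K))],
        ∃ h : s.pt ⟶ H, h ≫ i = s.fst := by
      intro s
      apply (hpt s.fst).mpr
      rw [← hcomp, s.condition, toUnit_unique s.snd (toUnit _), ← Hom.one_def, gmFn_one]
    refine ⟨⟨hw⟩, ⟨Limits.PullbackCone.IsLimit.mk _ (fun s => (hlift s).choose) ?_ ?_ ?_⟩⟩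
    · intro s
      exact (hlift s).choose_spec
    · intro s
      exact toUnit_unique _ _
    · intro s m hm _
      rw [← cancel_mono i, hm]
      exact ((hlift s).choose_spec).symm
  · have hψ : (laurToGm K ≫ φ ≫ gmToLaur K).left =
        Spec.map (CommRingCat.ofHom (powHom (K := K) n)) := by
      apply ext_of_ptFnHom
      refine RingHom.ext fun p => ?_
      rw [ptFnHom_apply, ptFnHom_apply]
      rw [← Category.assoc, ptFn_comp_gmToLaur]
      have h1 : LaurentPolynomial.eval₂ (rho (specOver K K[T;T⁻¹])) (gmHom (laurToGm K ≫ φ)) =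
          (specFn K K[T;T⁻¹]).comp (powHom n) := by
        apply laurent_ringHom_ext'
        · intro a
          rw [LaurentPolynomial.eval₂_C, RingHom.comp_apply, powHom_C, rho_specOver,
            LaurentPolynomial.algebraMap_apply]
          rfl
        · rw [LaurentPolynomial.eval₂_T, zpow_one, gmHom_val, hcomp, gmFn_laurToGm, RingHom.comp_apply,
            powHom_T, laurU, Units.coe_map, ← map_pow]
          change specFn K K[T;T⁻¹] ((LaurentPolynomial.T 1 : K[T;T⁻¹]) ^ n) = _
          rw [LaurentPolynomial.T_pow]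
      rw [h1]
      exact (ptFn_specMap_id (powHom (K := K) n) p).symm
    have hφ' : φ = gmToLaur K ≫ (laurToGm K ≫ φ ≫ gmToLaur K) ≫ laurToGm K := by
      simp only [Category.assoc, gmToLaur_laurToGm, Category.comp_id]
      rw [← Category.assoc, gmToLaur_laurToGm, Category.id_comp]
    have hff := (flat_and_surjective_SpecMap_iff (CommRingCat.ofHom (powHom (K := K) n))).mpr
      (powHom_faithfullyFlat n hnpos)
    rw [← hψ] at hff
    obtain ⟨hfl, hsu⟩ := hff
    have hfl' : Flat (laurToGm K ≫ φ ≫ gmToLaur K).left := hfl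
    have hsu' : Surjective (laurToGm K ≫ φ ≫ gmToLaur K).left := hsu
    have h2 : φ.left = (gmToLaur K).left ≫ (laurToGm K ≫ φ ≫ gmToLaur K).left ≫ (laurToGm K).left := by
      conv_lhs => rw [hφ']
      simp only [Over.comp_left]
    have hi1 : IsIso (gmToLaur K).left :=
      inferInstanceAs (IsIso ((Over.forget _).map (gmToLaur K)))
    have hi2 : IsIso (laurToGm K).left := by
      have : IsIso (laurToGm K) := (gmIso K).isIso_inv
      exact inferInstanceAs (IsIso ((Over.forget _).map (laurToGm K)))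
    rw [h2]
    exact ⟨inferInstance, inferInstance⟩

end GmMain

end Groth.Agent.Lib.Helper77.GaGmQuot
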