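import Mathlib
import Groth.Agent.Lib.Helper77.GaGmQuot8

set_option autoImplicit false
universe u
open CategoryTheory MonoidalCategory CartesianMonoidalCategory MonObj AlgebraicGeometry

namespace Groth.Agent.Lib.Helper77.GaGmQuot

theorem transport_main {S : Scheme.{u}} {G G₀ H : Over S} [GrpObj G] [GrpObj G₀] [GrpObj H]
    (ε : Grp.mk G ≅ Grp.mk G₀) (i : H ⟶ G) [IsMonHom i] [Mono i]
    (main : ∀ (i₀ : H ⟶ G₀) [IsMonHom i₀] [Mono i₀], ∃ φ₀ : G₀ ⟶ G₀,
      IsMonHom φ₀ ∧ IsPullback i₀ (toUnit H) φ₀ η[G₀] ∧ Flat φ₀.left ∧ Surjective φ₀.left) :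
    ∃ φ : G ⟶ G, IsMonHom φ ∧ IsPullback i (toUnit H) φ η[G] ∧ Flat φ.left ∧ Surjective φ.left := by
  let a : G ≅ G₀ := (Grp.forget _).mapIso ε
  have ha1 : IsMonHom a.hom := inferInstanceAs (IsMonHom ε.hom.hom.hom)
  have ha2 : IsMonHom a.inv := inferInstanceAs (IsMonHom ε.inv.hom.hom)
  obtain ⟨φ₀, h1, h2, h3, h4⟩ := main (i ≫ a.hom)
  refine ⟨a.hom ≫ φ₀ ≫ a.inv, inferInstance, ?_, ?_, ?_⟩
  · refine h2.of_iso (Iso.refl H) a.symm (Iso.refl _) a.symm ?_ ?_ ?_ ?_
    · simp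
    · simp
    · simp
    · simp only [Iso.symm_hom, Iso.refl_hom, Category.id_comp]
      exact IsMonHom.one_hom a.inv
  · have hi1 : IsIso a.hom.left := inferInstanceAs (IsIso ((Over.forget _).map a.hom))
    have hi2 : IsIso a.inv.left := inferInstanceAs (IsIso ((Over.forget _).map a.inv))
    simp only [Over.comp_left]
    infer_instance
  · have hi1 : IsIso a.hom.left := inferInstanceAs (IsIso ((Over.forget _).map a.hom))
    have hi2 : IsIso a.inv.left := inferInstanceAs (IsIso ((Over.forget _).map a.inv))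
    simp only [Over.comp_left]
    infer_instance

end Groth.Agent.Lib.Helper77.GaGmQuot
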