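import Mathlib

set_option autoImplicit false
universe u v w

namespace Groth.Agent.Lib.Helper77

open DirectSum

section GradedSlice

variable {k : Type u} [CommRing k] {A : Type v} [CommRing A] [Algebra k A]
  {ι : Type w} [AddCommGroup ι] [DecidableEq ι] (𝒜 : ι → Submodule k A) [GradedAlgebra 𝒜]

/-- A homogeneous derivation `D` of degree `l` on a graded algebra with `𝒜 l = ⊥`, in which pieces of
opposite non-zero degrees multiply to zero: if the ideal generated by the pieces of non-zero degree and
the image of `D` is the unit ideal, then `D` has a homogeneous slice of degree `-l`. -/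
theorem exists_homogeneous_slice (D : Derivation k A A) (l : ι)
    (hD : ∀ (i : ι) (a : A), a ∈ 𝒜 i → D a ∈ 𝒜 (i + l)) (hl : 𝒜 l = ⊥)
    (horth : ∀ w : ι, w ≠ 0 → ∀ r ∈ 𝒜 w, ∀ a ∈ 𝒜 (-w), r * a = 0)
    (hJ : Ideal.span ({x : A | ∃ w : ι, w ≠ 0 ∧ x ∈ 𝒜 w} ∪ Set.range D) = ⊤) :
    ∃ s ∈ 𝒜 (-l), D s = 1 := by
  classical
  -- the image of the piece of degree -l
  let E : Submodule k A := (𝒜 (-l)).map (D : A →ₗ[k] A)
  have hEmul : ∀ c ∈ 𝒜 0, ∀ e ∈ E, c * e ∈ E := by
    rintro c hc e ⟨f, hf, rfl⟩
    have hDc : D c = 0 := by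
      have h1 : D c ∈ 𝒜 (0 + l) := hD 0 c hc
      rw [zero_add, hl] at h1
      exact (Submodule.mem_bot k).mp h1
    refine ⟨c * f, ?_, ?_⟩
    · have : c * f ∈ 𝒜 (0 + -l) := SetLike.mul_mem_graded hc hf
      rwa [zero_add] at this
    · change D (c * f) = c * D f
      rw [Derivation.leibniz, hDc, smul_zero, add_zero, smul_eq_mul]
  -- the ideal of elements whose degree-zero part lies in E
  let T : Ideal A :=
    { carrier := {a | (decompose 𝒜 a 0 : A) ∈ E}
      add_mem' := by
        intro a b ha hb
        simp only [Set.mem_ofPred_eq] at *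
        rw [decompose_add, DirectSum.add_apply, Submodule.coe_add]
        exact E.add_mem ha hb
      zero_mem' := by
        simp only [Set.mem_ofPred_eq]
        rw [decompose_zero, DirectSum.zero_apply, Submodule.coe_zero]
        exact E.zero_mem
      smul_mem' := by
        intro r a ha
        simp only [Set.mem_ofPred_eq, smul_eq_mul] at *
        induction r using DirectSum.Decomposition.inductionOn 𝒜 with
        | zero =>
          rw [zero_mul, decompose_zero, DirectSum.zero_apply, Submodule.coe_zero]
          exact E.zero_mem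
        | @homogeneous i m =>
          have h1 : (decompose 𝒜 ((m : A) * a) (i + -i) : A) = (m : A) * decompose 𝒜 a (-i) :=
            DirectSum.coe_decompose_mul_add_of_left_mem 𝒜 m.2
          rw [add_neg_cancel] at h1
          rw [h1]
          by_cases hi : i = 0
          · subst hi
            rw [neg_zero]
            exact hEmul _ m.2 _ ha
          · rw [horth i hi _ m.2 _ (SetLike.coe_mem _)]
            exact E.zero_mem
        | add m m' hm hm' =>
          rw [add_mul, decompose_add, DirectSum.add_apply, Submodule.coe_add]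
          exact E.add_mem hm hm' }
  have hT : ∀ a, a ∈ T ↔ (decompose 𝒜 a 0 : A) ∈ E := fun a => Iff.rfl
  have hJT : Ideal.span ({x : A | ∃ w : ι, w ≠ 0 ∧ x ∈ 𝒜 w} ∪ Set.range D) ≤ T := by
    rw [Ideal.span_le]
    rintro x (⟨w, hw, hx⟩ | ⟨f, rfl⟩)
    · change x ∈ T
      rw [hT, decompose_of_mem_ne 𝒜 hx hw]
      exact E.zero_mem
    · change D f ∈ T
      rw [hT]
      induction f using DirectSum.Decomposition.inductionOn 𝒜 with
      | zero =>
        rw [map_zero, decompose_zero, DirectSum.zero_apply, Submodule.coe_zero]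
        exact E.zero_mem
      | @homogeneous i m =>
        have h1 : D (m : A) ∈ 𝒜 (i + l) := hD i _ m.2
        by_cases hi : i + l = 0
        · rw [hi] at h1
          rw [decompose_of_mem_same 𝒜 h1]
          have : i = -l := eq_neg_of_add_eq_zero_left hi
          subst this
          exact ⟨m, m.2, rfl⟩
        · rw [decompose_of_mem_ne 𝒜 h1 hi]
          exact E.zero_mem
      | add m m' hm hm' =>
        rw [map_add, decompose_add, DirectSum.add_apply, Submodule.coe_add]
        exact E.add_mem hm hm'
  have h1T : (1 : A) ∈ T := by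
    apply hJT
    rw [hJ]
    trivial
  rw [hT, decompose_of_mem_same 𝒜 (SetLike.GradedOne.one_mem)] at h1T
  obtain ⟨s, hs, hDs⟩ := h1T
  exact ⟨s, hs, hDs⟩

end GradedSlice

end Groth.Agent.Lib.Helper77
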