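import Mathlib
import Groth.Agent.Lib.Helper77.HensAlg1
import Groth.Agent.Lib.Helper77.HensDual1

set_option autoImplicit false
universe u
open TensorProduct

namespace Groth.Agent.Lib.Helper77.HensAlg2

open Groth.Agent.Lib.Helper77.HensAlg1 Groth.Agent.Lib.Helper77.HensDual1

variable {A : Type u} [CommRing A] {I : Ideal A} [HenselianRing A I]
  {E : Type u} [CommRing E] [Bialgebra A E] [Algebra.Etale A E]
  {F : Type u} [CommRing F] [Bialgebra A F] [Module.Finite A F]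

/-- reduction is injective on bialgebra maps out of an étale bialgebra. -/
theorem bialgHom_ext_of_one_tmul_eq (φ ψ : E →ₐc[A] F)
    (h : ∀ x, (1 : A ⧸ I) ⊗ₜ[A] φ x = (1 : A ⧸ I) ⊗ₜ[A] ψ x) : φ = ψ := by
  have h1 : (φ : E →ₐ[A] F) = (ψ : E →ₐ[A] F) := algHom_ext_of_one_tmul_eq (I := I) _ _ h
  ext x
  exact congrArg (fun f : E →ₐ[A] F => f x) h1

omit [HenselianRing A I] [Algebra.Etale A E] [Module.Finite A F] in
lemma distrib_map (ψ : E →ₐ[A] F) (ψ₀ : ((A ⧸ I) ⊗[A] E) →ₐ[A ⧸ I] ((A ⧸ I) ⊗[A] F))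
    (h : ∀ x, (1 : A ⧸ I) ⊗ₜ[A] ψ x = ψ₀ ((1 : A ⧸ I) ⊗ₜ[A] x)) (y : E ⊗[A] E) :
    TensorProduct.AlgebraTensorModule.distribBaseChange A (A ⧸ I) F F
        ((1 : A ⧸ I) ⊗ₜ[A] (Algebra.TensorProduct.map ψ ψ y)) =
      Algebra.TensorProduct.map ψ₀ ψ₀
        (TensorProduct.AlgebraTensorModule.distribBaseChange A (A ⧸ I) E E ((1 : A ⧸ I) ⊗ₜ[A] y)) := by
  induction y using TensorProduct.induction_on with
  | zero => simp
  | tmul e e' => simp [h]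
  | add y y' hy hy' => simp only [TensorProduct.tmul_add, map_add, hy, hy']

/-- reduction is surjective on bialgebra maps out of an étale bialgebra. -/
theorem exists_bialgHom_lift (ψ₀ : ((A ⧸ I) ⊗[A] E) →ₐc[A ⧸ I] ((A ⧸ I) ⊗[A] F)) :
    ∃ ψ : E →ₐc[A] F, ∀ x, ψ₀ ((1 : A ⧸ I) ⊗ₜ[A] x) = (1 : A ⧸ I) ⊗ₜ[A] ψ x := by
  let σ₀ : E →ₐ[A] (A ⧸ I) ⊗[A] F :=
    ((ψ₀ : (A ⧸ I) ⊗[A] E →ₐ[A ⧸ I] (A ⧸ I) ⊗[A] F).restrictScalars A).comp
      Algebra.TensorProduct.includeRight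
  obtain ⟨ψ, hψ⟩ := exists_algHom_lift (I := I) σ₀
  have hψ' : ∀ x, (1 : A ⧸ I) ⊗ₜ[A] ψ x = ψ₀ ((1 : A ⧸ I) ⊗ₜ[A] x) := hψ
  have h1 : (Bialgebra.counitAlgHom A F).comp ψ = Bialgebra.counitAlgHom A E := by
    apply algHom_ext_of_sub_mem I HenselianRing.jac
    intro x
    change Coalgebra.counit (R := A) (ψ x) - Coalgebra.counit (R := A) x ∈ I
    rw [← Ideal.Quotient.eq]
    have e1 : Coalgebra.counit (R := A ⧸ I) ((1 : A ⧸ I) ⊗ₜ[A] ψ x) =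
        Coalgebra.counit (R := A ⧸ I) ((1 : A ⧸ I) ⊗ₜ[A] x) := by
      rw [hψ' x]
      exact CoalgHomClass.counit_comp_apply ψ₀ _
    rw [TensorProduct.counit_tmul, TensorProduct.counit_tmul] at e1
    simpa [Algebra.smul_def] using e1
  have h2 : (Algebra.TensorProduct.map ψ ψ).comp (Bialgebra.comulAlgHom A E) =
      (Bialgebra.comulAlgHom A F).comp ψ := by
    apply algHom_ext_of_one_tmul_eq (I := I)
    intro x
    apply (TensorProduct.AlgebraTensorModule.distribBaseChange A (A ⧸ I) F F).injective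
    change TensorProduct.AlgebraTensorModule.distribBaseChange A (A ⧸ I) F F
        ((1 : A ⧸ I) ⊗ₜ[A] (Algebra.TensorProduct.map ψ ψ (Coalgebra.comul (R := A) x))) =
      TensorProduct.AlgebraTensorModule.distribBaseChange A (A ⧸ I) F F
        ((1 : A ⧸ I) ⊗ₜ[A] Coalgebra.comul (R := A) (ψ x))
    rw [distrib_map ψ (ψ₀ : (A ⧸ I) ⊗[A] E →ₐ[A ⧸ I] (A ⧸ I) ⊗[A] F) hψ', ← comul_one_tmul',
      ← comul_one_tmul', hψ' x]
    exact CoalgHomClass.map_comp_comul_apply ψ₀ _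
  refine ⟨BialgHom.ofAlgHom ψ h1 h2, fun x => (hψ' x).symm⟩

end Groth.Agent.Lib.Helper77.HensAlg2
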