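import Mathlib
import Groth.Prelude.Def_CartDual
import Groth.Prelude.Def_SGA3b
import Groth.Agent.Lib.Helper50.SpecConnected

set_option autoImplicit false
universe u

open TensorProduct CartDual WithConv

namespace Groth.Agent.Lib.Helper77.IsoTriv2

section Sep

variable (B : Type u) [CommRing B] (H : Type u) [AddCommGroup H] [Module B H]
  [Module.Finite B H] [Module.Projective B H]

lemma eq_of_forall_apply_eq {h h' : H} (hh : ∀ x : D B H, x h = x h') : h = h' := by
  rw [← sub_eq_zero, ← Module.forall_dual_apply_eq_zero_iff B]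
  intro φ
  have := hh (toConv φ)
  rw [map_sub, sub_eq_zero]
  exact this

lemma eq_of_forall_ev₂ {t t' : H ⊗[B] H}
    (h : ∀ x y : D B H, ev₂ B H (x ⊗ₜ y) t = ev₂ B H (x ⊗ₜ y) t') : t = t' := by
  rw [← sub_eq_zero, ← Module.forall_dual_apply_eq_zero_iff B]
  intro φ
  obtain ⟨z, rfl⟩ := (ev₂ B H).surjective φ
  rw [map_sub, sub_eq_zero]
  induction z using TensorProduct.induction_on with
  | zero => simp
  | tmul x y => exact h x y
  | add z z' hz hz' => simp only [map_add, LinearMap.add_apply, hz, hz']

end Sep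

section Idem

variable {B : Type u} [CommRing B] [Nontrivial B] {n : ℕ}

/-- over a ring with only trivial idempotents, the algebra maps `B^n → B` are the projections. -/
theorem exists_eq_eval (hB : ∀ e : B, IsIdempotentElem e → e = 0 ∨ e = 1)
    (ψ : (Fin n → B) →ₐ[B] B) : ∃ i, ∀ v, ψ v = v i := by
  classical
  set ε : Fin n → B := fun j => ψ (Pi.single j 1) with hε
  have hidem : ∀ j, IsIdempotentElem (ε j) := by
    intro j
    change ψ (Pi.single j 1) * ψ (Pi.single j 1) = ψ (Pi.single j 1)
    rw [← map_mul, ← Pi.single_mul, one_mul]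
  have hsum : ∑ j, ε j = 1 := by
    simp only [hε]
    rw [← map_sum, Finset.univ_sum_single]
    exact map_one ψ
  have hex : ∃ i, ε i ≠ 0 := by
    by_contra hcon
    push Not at hcon
    rw [Finset.sum_eq_zero (fun j _ => hcon j)] at hsum
    exact zero_ne_one hsum
  obtain ⟨i, hi⟩ := hex
  have hi1 : ε i = 1 := (hB _ (hidem i)).resolve_left hi
  have hj0 : ∀ j, j ≠ i → ε j = 0 := by
    intro j hj
    have h1 : ε j * ε i = 0 := by
      change ψ (Pi.single j 1) * ψ (Pi.single i 1) = 0
      rw [← map_mul]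
      have : (Pi.single j (1 : B) : Fin n → B) * Pi.single i 1 = 0 := by
        ext k
        by_cases hk : k = j
        · subst hk; simp [Pi.single_eq_of_ne hj]
        · simp [Pi.single_eq_of_ne hk]
      rw [this, map_zero]
    rwa [hi1, mul_one] at h1
  refine ⟨i, fun v => ?_⟩
  conv_lhs => rw [pi_eq_sum_univ' v]
  rw [map_sum]
  simp only [map_smul, smul_eq_mul]
  rw [Finset.sum_eq_single i]
  · change v i * ε i = v i
    rw [hi1, mul_one]
  · intro j _ hj
    change v j * ε j = 0
    rw [hj0 j hj, mul_zero]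
  · intro h; exact absurd (Finset.mem_univ i) h

end Idem

section GrpLk

variable (B : Type u) [CommRing B] (H : Type u) [CommRing H] [HopfAlgebra B H]
  [Module.Finite B H] [Module.Projective B H]

lemma mul_apply_eq_ev₂ (x y : D B H) (g : H) :
    (x * y) g = ev₂ B H (x ⊗ₜ y) (Coalgebra.comul g) := by
  rw [ev₂_tmul_eq']
  rfl

theorem isGroupLikeElem_of_forall (g : H) (h1 : (1 : D B H) g = 1)
    (hmul : ∀ x y : D B H, (x * y) g = x g * y g) : IsGroupLikeElem B g where
  counit_eq_one := by simpa using h1
  comul_eq_tmul_self := by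
    apply eq_of_forall_ev₂
    intro x y
    rw [← mul_apply_eq_ev₂, hmul, ev₂_tmul]

variable {B H}

theorem mul_apply_of_isGroupLikeElem {g : H} (hg : IsGroupLikeElem B g) (x y : D B H) :
    (x * y) g = x g * y g := by
  rw [mul_apply_eq_ev₂, hg.comul_eq_tmul_self, ev₂_tmul]

theorem one_apply_of_isGroupLikeElem {g : H} (hg : IsGroupLikeElem B g) :
    (1 : D B H) g = 1 := by
  rw [LinearMap.convOne_apply, hg.counit_eq_one]
  simp

/-- evaluation at a group-like element, as an algebra map. -/
noncomputable def evAlg {g : H} (hg : IsGroupLikeElem B g) : D B H →ₐ[B] B :=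
  AlgHom.ofLinearMap (LinearMap.applyₗ g ∘ₗ (toDual B H).toLinearMap)
    (one_apply_of_isGroupLikeElem hg) (mul_apply_of_isGroupLikeElem hg)

lemma evAlg_apply {g : H} (hg : IsGroupLikeElem B g) (x : D B H) : evAlg hg x = x g := rfl

end GrpLk

section Core

variable {B : Type u} [CommRing B] {H : Type u} [CommRing H] [HopfAlgebra B H]
  [Module.Finite B H] [Module.Projective B H] {n : ℕ} (ι : D B H ≃ₐ[B] (Fin n → B))

/-- the characters of the dual algebra given by a splitting. -/
noncomputable def chi (i : Fin n) : D B H →ₐ[B] B :=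
  (Pi.evalAlgHom B (fun _ : Fin n => B) i).comp ι.toAlgHom

lemma chi_apply (i : Fin n) (x : D B H) : chi ι i x = ι x i := rfl

/-- the elements of `H` dual to the characters. -/
noncomputable def gl (i : Fin n) : H :=
  (Module.evalEquiv B H).symm ((chi ι i).toLinearMap ∘ₗ (toDual B H).symm.toLinearMap)

lemma apply_gl (x : D B H) (i : Fin n) : x (gl ι i) = ι x i := by
  have := Module.apply_evalEquiv_symm_apply (R := B) (M := H) x.ofConv
    ((chi ι i).toLinearMap ∘ₗ (toDual B H).symm.toLinearMap)
  rw [CartDual.coe_apply, gl, this]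
  rfl

theorem isGroupLikeElem_gl (i : Fin n) : IsGroupLikeElem B (gl ι i) := by
  apply isGroupLikeElem_of_forall
  · rw [apply_gl, map_one]; rfl
  · intro x y
    rw [apply_gl, apply_gl, apply_gl, map_mul]; rfl

/-- the idempotents of the dual algebra. -/
noncomputable def idem (j : Fin n) : D B H := ι.symm (Pi.single j 1)

lemma idem_apply_gl (i j : Fin n) : idem ι j (gl ι i) = if i = j then 1 else 0 := by
  rw [apply_gl, idem, AlgEquiv.apply_symm_apply, Pi.single_apply]

lemma eq_sum_idem (x : D B H) : x = ∑ j, ι x j • idem ι j := by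
  apply ι.injective
  rw [map_sum]
  simp only [map_smul, idem, AlgEquiv.apply_symm_apply]
  exact pi_eq_sum_univ' (ι x)

/-- coordinates with respect to the `gl i`. -/
noncomputable def reprEquiv : H ≃ₗ[B] (Fin n → B) where
  toFun h := fun j => idem ι j h
  map_add' h h' := by ext j; simp
  map_smul' b h := by ext j; simp
  invFun c := ∑ j, c j • gl ι j
  left_inv h := by
    apply eq_of_forall_apply_eq B H
    intro x
    conv_rhs => rw [eq_sum_idem ι x]
    simp only [map_sum, map_smul, WithConv.ofConv_sum, WithConv.ofConv_smul,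
      LinearMap.sum_apply, LinearMap.smul_apply, smul_eq_mul]
    refine Finset.sum_congr rfl fun j _ => ?_
    rw [← CartDual.coe_apply, ← CartDual.coe_apply, apply_gl, mul_comm]
  right_inv c := by
    ext k
    simp only [map_sum, map_smul, smul_eq_mul]
    simp only [idem_apply_gl]
    simp

/-- the basis of `H` dual to the idempotents. -/
noncomputable def glBasis : Module.Basis (Fin n) B H := Module.Basis.ofEquivFun (reprEquiv ι)

lemma glBasis_apply (i : Fin n) : glBasis ι i = gl ι i := by
  rw [glBasis, Module.Basis.coe_ofEquivFun]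
  change ∑ j, (Pi.single i (1 : B) : Fin n → B) j • gl ι j = gl ι i
  simp [Pi.single_apply]

variable [Nontrivial B]

theorem exists_eq_gl (hB : ∀ e : B, IsIdempotentElem e → e = 0 ∨ e = 1) {g : H}
    (hg : IsGroupLikeElem B g) : ∃ i, g = gl ι i := by
  obtain ⟨i, hi⟩ := exists_eq_eval hB ((evAlg hg).comp ι.symm.toAlgHom)
  refine ⟨i, eq_of_forall_apply_eq B H fun x => ?_⟩
  have h2 : ((evAlg hg).comp (ι.symm : (Fin n → B) →ₐ[B] D B H)) (ι x) = x g := by
    rw [AlgHom.comp_apply]
    have h4 : (ι.symm : (Fin n → B) →ₐ[B] D B H) (ι x) = x := ι.symm_apply_apply x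
    rw [h4, evAlg_apply]
  have h3 := hi (ι x)
  rw [apply_gl, ← h3]
  exact h2.symm

/-- **Core**: a finite projective Hopf algebra over a ring with only trivial idempotents whose dual
algebra is split is diagonalisable. -/
theorem isDiag_of_split {n : ℕ} (ι : D B H ≃ₐ[B] (Fin n → B))
    (hB : ∀ e : B, IsIdempotentElem e → e = 0 ∨ e = 1) : SGA3b.IsDiag B H := by
  have hinj : Function.Injective (fun i : Fin n => (⟨gl ι i, isGroupLikeElem_gl ι i⟩ : GroupLike B H)) := by
    intro i j hij
    have : gl ι i = gl ι j := congrArg GroupLike.val hij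
    rw [← glBasis_apply, ← glBasis_apply] at this
    exact (glBasis ι).injective this
  have hsurj : Function.Surjective
      (fun i : Fin n => (⟨gl ι i, isGroupLikeElem_gl ι i⟩ : GroupLike B H)) := by
    intro γ
    obtain ⟨i, hi⟩ := exists_eq_gl ι hB γ.2
    exact ⟨i, GroupLike.val_injective hi.symm⟩
  let ψ : Fin n ≃ GroupLike B H := Equiv.ofBijective _ ⟨hinj, hsurj⟩
  let b₁ := MonoidAlgebra.basis (GroupLike B H) B
  let b₂ : Module.Basis (GroupLike B H) B H := (glBasis ι).reindex ψ
  let Φ : MonoidAlgebra B (GroupLike B H) →ₐc[B] H := MonoidAlgebra.liftGroupLikeBialgHom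
  have hΦ : (Φ : MonoidAlgebra B (GroupLike B H) →ₗ[B] H) =
      (b₁.equiv b₂ (Equiv.refl _)).toLinearMap := by
    apply b₁.ext
    intro γ
    rw [LinearEquiv.coe_coe, Module.Basis.equiv_apply]
    simp only [b₁, b₂, MonoidAlgebra.basis_apply, Module.Basis.reindex_apply, Equiv.refl_apply,
      glBasis_apply]
    have h1 : gl ι (ψ.symm γ) = γ.val := by
      have := ψ.apply_symm_apply γ
      exact congrArg GroupLike.val this
    rw [h1]
    simp [Φ]
  have hbij : Function.Bijective Φ := by
    have : (Φ : MonoidAlgebra B (GroupLike B H) → H) = (b₁.equiv b₂ (Equiv.refl _)) := by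
      ext z
      exact congrArg (fun f => f z) hΦ
    rw [this]
    exact (b₁.equiv b₂ (Equiv.refl _)).bijective
  exact ⟨GroupLike B H, inferInstance, ⟨(BialgEquiv.ofBijective Φ hbij).symm⟩⟩

end Core

end Groth.Agent.Lib.Helper77.IsoTriv2
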