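import Mathlib
import Groth.Prelude.Def_CartDual
import Groth.Prelude.Def_SGA3b

set_option autoImplicit false
universe u

open TensorProduct CartDual WithConv

namespace Groth.Agent.Lib.Helper77.IsoTriv4

section Congr

variable {B : Type u} [CommRing B] {H H' : Type u} [CommRing H] [Bialgebra B H]
  [CommRing H'] [Bialgebra B H']

/-- precomposition with a coalgebra map, as a map of convolution algebras. -/
noncomputable def dualMap (φ : H' →ₐc[B] H) : D B H →ₐ[B] D B H' :=
  AlgHom.ofLinearMap
    ((toDual B H').symm.toLinearMap ∘ₗ
      (φ : H' →ₗ[B] H).dualMap ∘ₗ (toDual B H).toLinearMap)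
    (by
      apply WithConv.ext
      apply LinearMap.ext
      intro h
      change (1 : D B H) (φ h) = (1 : D B H') h
      rw [LinearMap.convOne_apply, LinearMap.convOne_apply, CoalgHomClass.counit_comp_apply])
    (by
      intro x y
      apply WithConv.ext
      exact LinearMap.convMul_comp_coalgHom_distrib x y (φ : H' →ₗc[B] H))

lemma dualMap_apply (φ : H' →ₐc[B] H) (x : D B H) (h : H') : dualMap φ x h = x (φ h) := rfl

/-- a bialgebra isomorphism induces an isomorphism of dual algebras. -/
noncomputable def dualCongr (E : H ≃ₐc[B] H') : D B H ≃ₐ[B] D B H' :=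
  AlgEquiv.ofAlgHom (dualMap (E.symm : H' →ₐc[B] H)) (dualMap (E : H →ₐc[B] H'))
    (by
      apply AlgHom.ext
      intro x
      apply WithConv.ext
      apply LinearMap.ext
      intro h
      change x (E (E.symm h)) = x h
      rw [BialgEquiv.apply_symm_apply])
    (by
      apply AlgHom.ext
      intro x
      apply WithConv.ext
      apply LinearMap.ext
      intro h
      change x (E.symm (E h)) = x h
      rw [BialgEquiv.symm_apply_apply])

end Congr

section MonAlg

variable (B : Type u) [CommRing B] (M : Type u) [CommGroup M]

lemma mul_apply_groupLike {H : Type u} [CommRing H] [Bialgebra B H] {g : H}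
    (hg : IsGroupLikeElem B g) (x y : D B H) : (x * y) g = x g * y g := by
  rw [LinearMap.convMul_apply, hg.comul_eq_tmul_self]
  simp

/-- the dual algebra of a group algebra is the algebra of functions on the group. -/
noncomputable def dualMonoidAlgebra : D B (MonoidAlgebra B M) ≃ₐ[B] (M → B) :=
  AlgEquiv.ofBijective
    (AlgHom.ofLinearMap
      (LinearMap.pi (fun m => LinearMap.applyₗ (MonoidAlgebra.single m (1 : B)) ∘ₗ
        (toDual B (MonoidAlgebra B M)).toLinearMap))
      (by
        ext m
        change (1 : D B (MonoidAlgebra B M)) (MonoidAlgebra.single m 1) = 1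
        rw [LinearMap.convOne_apply]
        simp)
      (by
        intro x y
        ext m
        exact mul_apply_groupLike B (MonoidAlgebra.isGroupLikeElem_single_one (R := B) (A := B) m) x y))
    (by
      constructor
      · intro x y hxy
        apply WithConv.ext
        apply (MonoidAlgebra.basis M B).ext
        intro m
        exact congrFun hxy m
      · intro c
        refine ⟨toConv ((MonoidAlgebra.basis M B).constr B c), ?_⟩
        ext m
        change (MonoidAlgebra.basis M B).constr B c (MonoidAlgebra.single m 1) = c m
        rw [← MonoidAlgebra.basis_apply, Module.Basis.constr_basis])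

instance etale_dualMonoidAlgebra [Finite M] : Algebra.Etale B (D B (MonoidAlgebra B M)) :=
  Algebra.Etale.of_equiv (dualMonoidAlgebra B M).symm

end MonAlg

end Groth.Agent.Lib.Helper77.IsoTriv4
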