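import Mathlib
import Groth.Prelude.Def_CartDual
import Groth.Prelude.Def_SGA3b
import Groth.Agent.Lib.Helper77.MultBC
import Groth.Agent.Lib.Helper77.GLLift
import Groth.Agent.Lib.Helper77.IsoTriv1
import Groth.Agent.Lib.Helper77.IsoTriv4

set_option autoImplicit false
set_option linter.style.haveILetI false
universe u

open TensorProduct CartDual SGA3b

namespace Groth.Agent.Lib.Helper77.IsoTriv5

section Charts

variable (R : Type u) [CommRing R]

/-- an fpqc chart over the basic open `D(f)`: an `R`-algebra `K'`, faithfully flat over `R_f`,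
with a property `P`. -/
def ChartProp (f : R) (P : ∀ (K' : Type u) [CommRing K'] [Algebra R K'], Prop) : Prop :=
  ∃ (K' : Type u) (_ : CommRing K') (_ : Algebra R K') (_ : Algebra (Localization.Away f) K')
    (_ : IsScalarTower R (Localization.Away f) K'),
    Module.FaithfullyFlat (Localization.Away f) K' ∧ P K'

variable {R}

lemma ChartProp.mono {f : R} {P Q : ∀ (K' : Type u) [CommRing K'] [Algebra R K'], Prop}
    (h : ∀ (K' : Type u) [CommRing K'] [Algebra R K'], P K' → Q K') (hP : ChartProp R f P) :
    ChartProp R f Q := by
  obtain ⟨K', i1, i2, i3, i4, hff, hp⟩ := hP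
  exact ⟨K', i1, i2, i3, i4, hff, h K' hp⟩

/-- an element vanishing on an fpqc cover by charts is zero. -/
theorem eq_zero_of_charts {N : Type u} [AddCommGroup N] [Module R N] (s : Set R)
    (hs : Ideal.span s = ⊤) (z : N)
    (h : ∀ f ∈ s, ChartProp R f (fun K' _ _ => (1 : K') ⊗ₜ[R] z = 0)) : z = 0 := by
  apply GLLift.eq_zero_of_forall_one_tmul_eq_zero s hs z
  intro f hf
  obtain ⟨K', _, _, _, _, hff, hz⟩ := h f hf
  rw [← Module.FaithfullyFlat.one_tmul_eq_zero_iff (Localization.Away f)
    (Localization.Away f ⊗[R] N) (A := K')]
  have h1 : TensorProduct.AlgebraTensorModule.cancelBaseChange R (Localization.Away f) K' K' N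
      ((1 : K') ⊗ₜ[Localization.Away f] ((1 : Localization.Away f) ⊗ₜ[R] z)) =
      (1 : K') ⊗ₜ[R] z := by
    simp
  apply (TensorProduct.AlgebraTensorModule.cancelBaseChange R (Localization.Away f) K' K'
    N).injective
  rw [h1, hz, map_zero]

variable (A : Type u) [CommRing A] [HopfAlgebra R A]

/-- a chart in the sense of `IsMultTypeConst` over `R_f`, seen over `R`. -/
theorem chart_of_isMultTypeConst (f : R)
    (h : IsMultTypeConst (Localization.Away f) (Localization.Away f ⊗[R] A)) :
    ChartProp R f (fun K' _ _ => IsDiag K' (K' ⊗[R] A)) := by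
  obtain ⟨K', _, _, hff, hd⟩ := h
  letI : Algebra R K' :=
    ((algebraMap (Localization.Away f) K').comp (algebraMap R (Localization.Away f))).toAlgebra
  haveI : IsScalarTower R (Localization.Away f) K' := IsScalarTower.of_algebraMap_eq (fun _ => rfl)
  exact ⟨K', inferInstance, inferInstance, inferInstance, inferInstance, hff,
    MultBC.isDiag_of_equiv (MultBC.cancelBC R (Localization.Away f) K' A) hd⟩

end Charts

section Cocomm

/-- a diagonalisable Hopf algebra is cocommutative. -/
theorem isCocomm_of_isDiag {K : Type u} [CommRing K] {H : Type u} [CommRing H] [HopfAlgebra K H]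
    (h : IsDiag K H) : Coalgebra.IsCocomm K H := by
  obtain ⟨M, _, ⟨E⟩⟩ := h
  constructor
  ext x
  have h1 : TensorProduct.map (E : H →ₗ[K] MonoidAlgebra K M) (E : H →ₗ[K] MonoidAlgebra K M)
      (Coalgebra.comul (R := K) x) = Coalgebra.comul (R := K) (E x) :=
    CoalgHomClass.map_comp_comul_apply E x
  have hinj : Function.Injective (TensorProduct.map (E : H →ₗ[K] MonoidAlgebra K M)
      (E : H →ₗ[K] MonoidAlgebra K M)) :=
    (TensorProduct.congr E.toLinearEquiv E.toLinearEquiv).injective
  apply hinj
  have h2 : ∀ t : H ⊗[K] H, TensorProduct.map (E : H →ₗ[K] MonoidAlgebra K M)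
      (E : H →ₗ[K] MonoidAlgebra K M) (TensorProduct.comm K H H t) =
      TensorProduct.comm K _ _ (TensorProduct.map (E : H →ₗ[K] MonoidAlgebra K M)
        (E : H →ₗ[K] MonoidAlgebra K M) t) := by
    intro t
    induction t using TensorProduct.induction_on with
    | zero => simp
    | tmul a b => simp
    | add a b ha hb => simp only [map_add, ha, hb]
  rw [LinearMap.comp_apply, LinearEquiv.coe_coe, h2, h1, Coalgebra.comm_comul]

variable {R : Type u} [CommRing R] (A : Type u) [CommRing A] [HopfAlgebra R A]

/-- a Hopf algebra of multiplicative type is cocommutative. -/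
theorem isCocomm_of_isMultType (hA : IsMultType R A) : Coalgebra.IsCocomm R A := by
  obtain ⟨s, hs, hloc⟩ := hA
  constructor
  ext a
  rw [← sub_eq_zero]
  apply eq_zero_of_charts s hs
  intro f hf
  refine (chart_of_isMultTypeConst A f (hloc f hf)).mono ?_
  intro K' _ _ hd
  haveI := isCocomm_of_isDiag hd
  have h2 : ∀ t : A ⊗[R] A,
      TensorProduct.AlgebraTensorModule.distribBaseChange R K' A A
        ((1 : K') ⊗ₜ[R] (TensorProduct.comm R A A t)) =
      TensorProduct.comm K' _ _ (TensorProduct.AlgebraTensorModule.distribBaseChange R K' A A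
        ((1 : K') ⊗ₜ[R] t)) := by
    intro t
    induction t using TensorProduct.induction_on with
    | zero => simp
    | tmul a b => simp
    | add a b ha hb => simp only [map_add, TensorProduct.tmul_add, ha, hb]
  apply (TensorProduct.AlgebraTensorModule.distribBaseChange R K' A A).injective
  rw [map_zero, LinearMap.comp_apply, LinearEquiv.coe_coe, TensorProduct.tmul_sub, map_sub, h2,
    ← MultBC.comul_one_tmul, Coalgebra.comm_comul, sub_self]

end Cocomm

section Proj

/-- finite + of multiplicative type with constant type ⇒ flat and finitely presented. -/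
theorem flat_fp_of_isMultTypeConst {K : Type u} [CommRing K] (H : Type u) [CommRing H]
    [HopfAlgebra K H] [Module.Finite K H] (h : IsMultTypeConst K H) :
    Module.Flat K H ∧ Module.FinitePresentation K H := by
  obtain ⟨K', _, _, hff, ⟨M, _, ⟨E⟩⟩⟩ := h
  haveI : Module.Projective K' (K' ⊗[K] H) :=
    Module.Projective.of_equiv E.toLinearEquiv.symm
  haveI : Module.FinitePresentation K' (K' ⊗[K] H) := Module.finitePresentation_of_projective _ _
  haveI : Algebra.FinitePresentation K H :=
    Algebra.FinitePresentation.of_finitePresentation_tensorProduct_of_faithfullyFlat K'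
  exact ⟨Module.Flat.of_flat_tensorProduct K H K',
    Module.FinitePresentation.of_finite_of_finitePresentation K H⟩

variable {R : Type u} [CommRing R] (A : Type u) [CommRing A] [HopfAlgebra R A]

/-- a finite Hopf algebra of multiplicative type is projective as a module. -/
theorem projective_of_isMultType [Module.Finite R A] (hA : IsMultType R A) :
    Module.Projective R A := by
  obtain ⟨s, hs, hloc⟩ := hA
  have hloc' : ∀ g : s, Module.Flat (Localization.Away g.1) (Localization.Away g.1 ⊗[R] A) ∧
      Module.FinitePresentation (Localization.Away g.1) (Localization.Away g.1 ⊗[R] A) :=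
    fun g => flat_fp_of_isMultTypeConst _ (hloc g.1 g.2)
  haveI : Module.FinitePresentation R A :=
    Module.FinitePresentation.of_localizationSpan' s hs (Rₚ := fun g => Localization.Away g.1)
      (Mₚ := fun g => Localization.Away g.1 ⊗[R] A)
      (fun g => TensorProduct.mk R (Localization.Away g.1) A 1) (fun g => (hloc' g).2)
  haveI : Module.Flat R A := by
    apply Module.flat_of_isLocalized_span R A s hs (fun g => Localization.Away g.1 ⊗[R] A)
      (fun g => TensorProduct.mk R (Localization.Away g.1) A 1)
    intro g
    haveI := (hloc' g).1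
    exact Module.Flat.trans R (Localization.Away g.1) _
  exact Module.Flat.projective_of_finitePresentation

end Proj

section Unram

variable {R : Type u} [CommRing R]

/-- formal unramifiedness can be checked on an fpqc cover by charts. -/
theorem formallyUnramified_of_charts (S : Type u) [CommRing S] [Algebra R S] (s : Set R)
    (hs : Ideal.span s = ⊤)
    (h : ∀ f ∈ s, ChartProp R f (fun K' _ _ => Algebra.FormallyUnramified K' (K' ⊗[R] S))) :
    Algebra.FormallyUnramified R S := by
  constructor
  refine ⟨fun z w => ?_⟩
  rw [← sub_eq_zero]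
  apply eq_zero_of_charts s hs
  intro f hf
  refine (h f hf).mono ?_
  intro K' _ _ hun
  haveI := hun
  let _ : Algebra S (K' ⊗[R] S) := Algebra.TensorProduct.rightAlgebra
  have : Subsingleton (K' ⊗[R] Ω[S⁄R]) :=
    (KaehlerDifferential.tensorKaehlerEquivBase R K' S (K' ⊗[R] S)).subsingleton
  exact Subsingleton.elim _ _

variable (A : Type u) [CommRing A] [HopfAlgebra R A] [Coalgebra.IsCocomm R A]
  [Module.Finite R A] [Module.Projective R A]

/-- over a chart, the base change of the dual algebra is étale. -/
theorem etale_bc_dual_of_isDiag (K' : Type u) [CommRing K'] [Algebra R K']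
    (hd : IsDiag K' (K' ⊗[R] A)) : Algebra.Etale K' (K' ⊗[R] D R A) := by
  obtain ⟨M, _, ⟨E⟩⟩ := hd
  rcases subsingleton_or_nontrivial K' with hK | hK
  · haveI : Algebra.IsFiniteSplit K' (K' ⊗[R] D R A) := Algebra.IsFiniteSplit.of_subsingleton
    infer_instance
  · haveI : Module.Finite K' (MonoidAlgebra K' M) := Module.Finite.equiv E.toLinearEquiv
    haveI : Finite M := Module.Finite.finite_basis (MonoidAlgebra.basis M K')
    haveI : Algebra.Etale K' (D K' (K' ⊗[R] A)) :=
      Algebra.Etale.of_equiv (IsoTriv4.dualCongr E).symm
    exact Algebra.Etale.of_equiv (IsoTriv1.dualBC R K' A).symm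

/-- the dual algebra of a finite projective Hopf algebra of multiplicative type is étale. -/
theorem etale_dual_of_isMultType (hA : IsMultType R A) : Algebra.Etale R (D R A) := by
  obtain ⟨s, hs, hloc⟩ := hA
  haveI : Algebra.FormallyUnramified R (D R A) :=
    formallyUnramified_of_charts (D R A) s hs (fun f hf =>
      (chart_of_isMultTypeConst A f (hloc f hf)).mono (fun K' _ _ hd => by
        haveI := etale_bc_dual_of_isDiag A K' hd
        infer_instance))
  haveI : Module.FinitePresentation R (D R A) := Module.finitePresentation_of_projective _ _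
  exact Algebra.Etale.of_formallyUnramified_of_flat

end Unram

end Groth.Agent.Lib.Helper77.IsoTriv5
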