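import Mathlib
import Groth.Prelude.Def_CartDual2
import Groth.Agent.Lib.Helper77.HensAlg2
import Groth.Agent.Lib.Helper77.IsoTriv2
import Groth.Agent.Lib.Helper77.IsoTriv5
import Groth.Agent.Lib.Helper77.DiagNil

set_option autoImplicit false
set_option linter.style.haveILetI false
universe u
open TensorProduct CartDual SGA3b

namespace Groth.Agent.Lib.Helper77.HensDual2

open Groth.Agent.Lib.Helper77.HensAlg1 Groth.Agent.Lib.Helper77.HensAlg2
  Groth.Agent.Lib.Helper77.HensDual1 Groth.Agent.Lib.Helper77.IsoTriv1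
  Groth.Agent.Lib.Helper77.IsoTriv2 Groth.Agent.Lib.Helper77.IsoTriv5

variable (A : Type u) [CommRing A] (I : Ideal A) [HenselianRing A I]
  (B : Type u) [CommRing B] [HopfAlgebra A B] [Module.Finite A B]
  (C : Type u) [CommRing C] [HopfAlgebra A C] [Module.Finite A C]

/-- reduction modulo a henselian ideal is injective on homomorphisms between finite groups of
multiplicative type. -/
theorem reduction_injective (hG : IsMultType A B) (hH : IsMultType A C) (φ ψ : C →ₐc[A] B)
    (h : ∀ c, (1 : A ⧸ I) ⊗ₜ[A] φ c = (1 : A ⧸ I) ⊗ₜ[A] ψ c) : φ = ψ := by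
  haveI := isCocomm_of_isMultType B hG
  haveI := isCocomm_of_isMultType C hH
  haveI := projective_of_isMultType B hG
  haveI := projective_of_isMultType C hH
  haveI : Algebra.Etale A (D A B) := etale_dual_of_isMultType B hG
  have key : transpose A φ = transpose A ψ := by
    apply bialgHom_ext_of_one_tmul_eq (I := I)
    intro x
    apply (thetaLin_bijective A (A ⧸ I) C).1
    rw [thetaLin_tmul, thetaLin_tmul]
    congr 1
    apply WithConv.ext
    apply TensorProduct.AlgebraTensorModule.ext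
    intro r c
    change bc A (A ⧸ I) C (transpose A φ x) (r ⊗ₜ[A] c) = bc A (A ⧸ I) C (transpose A ψ x) (r ⊗ₜ[A] c)
    rw [bc_tmul, bc_tmul, transpose_apply, transpose_apply]
    have h1 := congrArg (fun z => bc A (A ⧸ I) B x z) (h c)
    simp only [bc_tmul] at h1
    have h2 := congrArg (fun z => z * r) h1
    simpa only [smul_mul_assoc, one_mul] using h2
  ext c
  apply eq_of_forall_apply_eq A B
  intro x
  have := congrArg (fun f : D A B →ₐc[A] D A C => f x c) key
  simpa using this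


section Eval

variable (R : Type u) [CommRing R] (H : Type u) [CommRing H] [Bialgebra R H]
  [Module.Finite R H] [Module.Projective R H]

lemma eval_bijective : Function.Bijective (eval R H) := by
  have h1 := Module.bijective_dual_eval R H
  have h2 : (eval R H : H → D R (D R H)) =
      (toDual R (D R H)).symm ∘ (toDual R H).dualMap ∘ (Module.Dual.eval R H) := rfl
  rw [h2]
  exact (toDual R (D R H)).symm.bijective.comp ((toDual R H).dualMap.bijective.comp h1)

/-- the double dual of a finite projective bialgebra. -/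
noncomputable def evalEquiv : H ≃ₐc[R] D R (D R H) :=
  BialgEquiv.ofBijective (R := R) (A := H) (B := D R (D R H)) (eval R H) (eval_bijective R H)

lemma evalEquiv_apply (h : H) (x : D R H) : evalEquiv R H h x = x h := rfl

end Eval

/-- reduction modulo a henselian ideal is surjective on homomorphisms between finite groups of
multiplicative type. -/
theorem reduction_surjective (hG : IsMultType A B) (hH : IsMultType A C)
    (φ₀ : ((A ⧸ I) ⊗[A] C) →ₐc[A ⧸ I] ((A ⧸ I) ⊗[A] B)) :
    ∃ φ : C →ₐc[A] B, ∀ c, φ₀ ((1 : A ⧸ I) ⊗ₜ[A] c) = (1 : A ⧸ I) ⊗ₜ[A] φ c := by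
  haveI := isCocomm_of_isMultType B hG
  haveI := isCocomm_of_isMultType C hH
  haveI := projective_of_isMultType B hG
  haveI := projective_of_isMultType C hH
  haveI : Algebra.Etale A (D A B) := etale_dual_of_isMultType B hG
  let θB := dualBCc A (A ⧸ I) B
  let θC := dualBCc A (A ⧸ I) C
  let ψ₀ : ((A ⧸ I) ⊗[A] D A B) →ₐc[A ⧸ I] ((A ⧸ I) ⊗[A] D A C) :=
    (θC.symm : _ →ₐc[A ⧸ I] _).comp ((transpose (A ⧸ I) φ₀).comp (θB : _ →ₐc[A ⧸ I] _))
  obtain ⟨ψ, hψ⟩ := exists_bialgHom_lift (I := I) ψ₀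
  let evB := evalEquiv A B
  let φ : C →ₐc[A] B := (evB.symm : _ →ₐc[A] _).comp ((transpose A ψ).comp (eval A C))
  have hφ : ∀ (x : D A B) (c : C), x (φ c) = ψ x c := by
    intro x c
    have h1 : evB (φ c) = transpose A ψ (eval A C c) := evB.apply_symm_apply _
    have h2 := congrArg (fun f : D A (D A B) => f x) h1
    simpa [evB, evalEquiv_apply] using h2
  refine ⟨φ, fun c => ?_⟩
  apply eq_of_forall_apply_eq (A ⧸ I) ((A ⧸ I) ⊗[A] B)
  intro y
  obtain ⟨z, rfl⟩ := θB.surjective y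
  obtain ⟨x, rfl⟩ := Groth.Agent.Lib.Helper77.DiagNil.exists_one_tmul_eq I z
  have h3 : θC (ψ₀ ((1 : A ⧸ I) ⊗ₜ[A] x)) = transpose (A ⧸ I) φ₀ (θB ((1 : A ⧸ I) ⊗ₜ[A] x)) :=
    θC.apply_symm_apply _
  rw [hψ] at h3
  have h4 := congrArg (fun f : D (A ⧸ I) ((A ⧸ I) ⊗[A] C) => f ((1 : A ⧸ I) ⊗ₜ[A] c)) h3
  simp only [transpose_apply] at h4
  refine h4.symm.trans ?_
  change dualBCc A (A ⧸ I) C ((1 : A ⧸ I) ⊗ₜ[A] ψ x) ((1 : A ⧸ I) ⊗ₜ[A] c) =
    dualBCc A (A ⧸ I) B ((1 : A ⧸ I) ⊗ₜ[A] x) ((1 : A ⧸ I) ⊗ₜ[A] φ c)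
  rw [dualBCc_tmul, dualBCc_tmul, hφ]

end Groth.Agent.Lib.Helper77.HensDual2
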