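import Mathlib
import Groth.Prelude.Def_SGA3b
import Groth.Agent.Lib.Helper77.MultKer

/-!
# The kernel of a homomorphism of groups of multiplicative type (helper77)

Local constancy of the type of the kernel (saturated clopen sets descend along the faithfully
flat chart, which is a quotient map on spectra), and the final assembly `isMultType_of_isKer`.
-/

set_option autoImplicit false
universe u
open TensorProduct

namespace Groth.Agent.Lib.Helper77.MultKer

open SGA3b Groth.Agent.Lib.Helper77.MultMono Groth.Agent.Lib.Helper77.MultBC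
  Groth.Agent.Lib.Helper77.MultRigid Groth.Agent.Lib.Helper77.MultTors
  Groth.Agent.Lib.Helper77.GLLift Groth.Agent.Lib.Helper77.DiagNil

section Sat

variable {k K : Type u} [CommRing k] [CommRing K] [Algebra k K] [Module.FaithfullyFlat k K]
  {ι : Type*} [Fintype ι] (e : ι → K) (he : CompleteOrthogonalIdempotents e) (Good : Set ι)

include he in
/-- a union of pieces of a finite clopen partition of `Spec K` which is saturated for the
faithfully flat map `Spec K → Spec k` contains the preimage of a basic open neighbourhood of any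
point of its image. -/
theorem exists_away_of_saturated
    (hsat : ∀ (q q' : Ideal K) [q.IsPrime] [q'.IsPrime],
      q.comap (algebraMap k K) = q'.comap (algebraMap k K) →
      ∀ i i', e i ∉ q → e i' ∉ q' → i ∈ Good → i' ∈ Good)
    (p : Ideal k) (q₀ : Ideal K) [q₀.IsPrime] (hq₀ : q₀.comap (algebraMap k K) = p)
    (i₀ : ι) (hi₀ : i₀ ∈ Good) (hi₀q : e i₀ ∉ q₀) :
    ∃ a : k, a ∉ p ∧ ∀ i, i ∉ Good → ∃ n : ℕ, algebraMap k K a ^ n * e i = 0 := by
  classical
  let f : PrimeSpectrum K → PrimeSpectrum k := PrimeSpectrum.comap (algebraMap k K)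
  have hf : Topology.IsQuotientMap f :=
    PrimeSpectrum.isQuotientMap_of_generalizingMap
      PrimeSpectrum.comap_surjective_of_faithfullyFlat
      (RingHom.Flat.generalizingMap_comap (RingHom.flat_algebraMap_iff.mpr inferInstance))
  let W : Set (PrimeSpectrum K) := ⋃ i ∈ Good, (PrimeSpectrum.basicOpen (e i) : Set _)
  have hWo : IsOpen W :=
    isOpen_biUnion (fun i _ => (PrimeSpectrum.basicOpen (e i)).isOpen)
  have hmemW : ∀ x : PrimeSpectrum K, x ∈ W ↔ ∃ i ∈ Good, e i ∉ x.asIdeal := by
    intro x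
    simp only [W, Set.mem_iUnion, SetLike.mem_coe, PrimeSpectrum.mem_basicOpen, exists_prop]
  have hsatW : f ⁻¹' (f '' W) = W := by
    apply Set.Subset.antisymm
    · rintro x ⟨y, hy, hyx⟩
      obtain ⟨i, hiG, hi⟩ := (hmemW y).mp hy
      -- some `e i'` is not in `x`
      have hx : ∃ i', e i' ∉ x.asIdeal := by
        by_contra hcon
        push Not at hcon
        have h1 : (1 : K) ∈ x.asIdeal := by
          rw [← he.complete]
          exact Ideal.sum_mem _ (fun i _ => hcon i)
        exact x.isPrime.ne_top ((Ideal.eq_top_iff_one _).mpr h1)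
      obtain ⟨i', hi'⟩ := hx
      refine (hmemW x).mpr ⟨i', ?_, hi'⟩
      have hcomap : y.asIdeal.comap (algebraMap k K) = x.asIdeal.comap (algebraMap k K) :=
        congrArg PrimeSpectrum.asIdeal hyx
      exact hsat y.asIdeal x.asIdeal hcomap i i' hi hi' hiG
    · exact Set.subset_preimage_image f W
  have himo : IsOpen (f '' W) := by
    rw [← hf.isOpen_preimage, hsatW]
    exact hWo
  have hp : p.IsPrime := hq₀ ▸ Ideal.IsPrime.comap _
  let P : PrimeSpectrum k := ⟨p, hp⟩
  let Q₀ : PrimeSpectrum K := ⟨q₀, inferInstance⟩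
  have hPW : P ∈ f '' W := by
    refine ⟨Q₀, (hmemW Q₀).mpr ⟨i₀, hi₀, hi₀q⟩, ?_⟩
    exact PrimeSpectrum.ext hq₀
  obtain ⟨_, ⟨a, rfl⟩, haP, haW⟩ :=
    PrimeSpectrum.isTopologicalBasis_basic_opens.exists_subset_of_mem_open hPW himo
  refine ⟨a, (PrimeSpectrum.mem_basicOpen a P).mp haP, ?_⟩
  intro i hi
  have hnil : IsNilpotent (algebraMap k K a * e i) := by
    rw [nilpotent_iff_mem_prime]
    intro J hJ
    by_cases haJ : algebraMap k K a ∈ J
    · exact J.mul_mem_right _ haJ
    · let x : PrimeSpectrum K := ⟨J, hJ⟩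
      have h1 : f x ∈ (PrimeSpectrum.basicOpen a : Set (PrimeSpectrum k)) := by
        show f x ∈ PrimeSpectrum.basicOpen a
        rw [PrimeSpectrum.mem_basicOpen]
        exact haJ
      have h2 : x ∈ W := by
        rw [← hsatW]
        exact haW h1
      obtain ⟨j, hjG, hj⟩ := (hmemW x).mp h2
      have hij : i ≠ j := fun h => hi (h ▸ hjG)
      have h3 : e i * e j ∈ J := by
        rw [he.ortho hij]
        exact J.zero_mem
      rcases hJ.mem_or_mem h3 with h4 | h4
      · exact J.mul_mem_left _ h4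
      · exact absurd h4 hj
  obtain ⟨n, hn⟩ := hnil
  refine ⟨n, ?_⟩
  rw [mul_pow] at hn
  rcases Nat.eq_zero_or_pos n with h0 | hpos
  · subst h0
    rw [pow_zero, pow_zero, mul_one] at hn
    rw [pow_zero, one_mul, ← mul_one (e i), hn, mul_zero]
  · obtain ⟨m, rfl⟩ := Nat.exists_eq_succ_of_ne_zero hpos.ne'
    rw [(he.idem i).pow_succ_eq m] at hn
    exact hn

end Sat

section PropP

variable {k : Type u} [CommRing k] {B : Type u} [CommRing B] [HopfAlgebra k B]
  {K : Type u} [CommRing K] [Algebra k K]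
  {M : Type u} [CommGroup M] [DecidableEq M]
  {ι₀ : Type u} [Fintype ι₀] [DecidableEq ι₀]
  (w : ι₀ → MonoidAlgebra K M) (hw : ∀ i, IsGroupLikeElem K (w i))
  (ρ : MonoidAlgebra K M →ₐc[K] K ⊗[k] B) (hρ : Function.Surjective ρ)
  (hker : RingHom.ker (ρ : MonoidAlgebra K M →ₐ[K] K ⊗[k] B) =
    Ideal.span (Set.range fun i => w i - 1))

include hw hρ hker

/-- over a `K`-algebra in which `e_σ` becomes `1`, the kernel is diagonalisable of type
`M / ⟨σ⟩`. -/
theorem isDiagOf_of_eSig_eq_one (L : Type u) [CommRing L] [Algebra k L] [Algebra K L]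
    [IsScalarTower k K L] (σ : ι₀ → M) (h : algebraMap K L (eSig w σ) = 1) :
    IsDiagOf (M ⧸ Subgroup.closure (Set.range σ)) L (L ⊗[k] B) := by
  have h1 := isDiagOf_of_coeff L w ρ hρ hker σ (coeff_map_of_eSig_eq_one w hw L σ h)
  exact isDiagOf_of_equiv (cancelBC k K L B) h1

/-- **Local constancy of the type of the kernel.** -/
theorem exists_away_isMultTypeConst [Module.FaithfullyFlat k K] (p : Ideal k) [p.IsPrime] :
    ∃ a : k, a ∉ p ∧ IsMultTypeConst (Localization.Away a) (Localization.Away a ⊗[k] B) := by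
  classical
  obtain ⟨Q₀, hQ₀⟩ := PrimeSpectrum.comap_surjective_of_faithfullyFlat (A := k) (B := K)
    ⟨p, inferInstance⟩
  have hq₀ : Q₀.asIdeal.comap (algebraMap k K) = p := congrArg PrimeSpectrum.asIdeal hQ₀
  have hcoi := coi_eSig w hw
  have hex : ∃ σ₀ : ↥(Sig w), eSig w σ₀.1 ∉ Q₀.asIdeal := by
    by_contra hcon
    push Not at hcon
    have h1 : (1 : K) ∈ Q₀.asIdeal := by
      rw [← hcoi.complete]
      exact Ideal.sum_mem _ (fun i _ => hcon i)
    exact Q₀.isPrime.ne_top ((Ideal.eq_top_iff_one _).mpr h1)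
  obtain ⟨σ₀, hσ₀⟩ := hex
  let Good : Set ↥(Sig w) := {σ | Nonempty ((M ⧸ Subgroup.closure (Set.range σ.1)) ≃*
    (M ⧸ Subgroup.closure (Set.range σ₀.1)))}
  have hsat : ∀ (q q' : Ideal K) [q.IsPrime] [q'.IsPrime],
      q.comap (algebraMap k K) = q'.comap (algebraMap k K) →
      ∀ σ σ' : ↥(Sig w), eSig w σ.1 ∉ q → eSig w σ'.1 ∉ q' → σ ∈ Good → σ' ∈ Good := by
    intro q q' _ _ hqq σ σ' hσ hσ' hG
    obtain ⟨Ω, _, _, _, j, j', hj, hj'⟩ := exists_domain_of_comap_eq q q' hqq
    have hone : ∀ (q : Ideal K) [q.IsPrime] (j : K →ₐ[k] Ω) (hj : ∀ x ∈ q, j x = 0)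
        (σ : ι₀ → M) (hσ : eSig w σ ∉ q), j (eSig w σ) = 1 := by
      intro q _ j hj σ hσ
      have h1 : eSig w σ * (1 - eSig w σ) ∈ q := by
        rw [mul_sub, mul_one, (eSig_idem w hw σ).eq, sub_self]
        exact q.zero_mem
      have h2 : 1 - eSig w σ ∈ q := (Ideal.IsPrime.mem_or_mem inferInstance h1).resolve_left hσ
      have h3 := hj _ h2
      rw [map_sub, map_one, sub_eq_zero] at h3
      exact h3.symm
    have h1 : IsDiagOf (M ⧸ Subgroup.closure (Set.range σ.1)) Ω (Ω ⊗[k] B) := by
      let _ : Algebra K Ω := j.toRingHom.toAlgebra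
      have : IsScalarTower k K Ω := IsScalarTower.of_algebraMap_eq (fun r => (j.commutes r).symm)
      exact isDiagOf_of_eSig_eq_one w hw ρ hρ hker Ω σ.1 (hone q j hj σ.1 hσ)
    have h2 : IsDiagOf (M ⧸ Subgroup.closure (Set.range σ'.1)) Ω (Ω ⊗[k] B) := by
      let _ : Algebra K Ω := j'.toRingHom.toAlgebra
      have : IsScalarTower k K Ω := IsScalarTower.of_algebraMap_eq (fun r => (j'.commutes r).symm)
      exact isDiagOf_of_eSig_eq_one w hw ρ hρ hker Ω σ'.1 (hone q' j' hj' σ'.1 hσ')
    obtain ⟨E1⟩ := h1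
    obtain ⟨E2⟩ := h2
    obtain ⟨m⟩ := nonempty_mulEquiv_of_bialgEquiv (E2.symm.trans E1)
    obtain ⟨g⟩ := hG
    exact ⟨m.trans g⟩
  obtain ⟨a, hap, ha⟩ := exists_away_of_saturated (fun σ : ↥(Sig w) => eSig w σ.1) hcoi Good hsat p
    Q₀.asIdeal hq₀ σ₀ ⟨MulEquiv.refl _⟩ hσ₀
  refine ⟨a, hap, ?_⟩
  let L := Localization.Away a ⊗[k] K
  let _ : Algebra K L := Algebra.TensorProduct.rightAlgebra
  refine ⟨L, inferInstance, inferInstance, inferInstance, ?_⟩
  apply isDiag_of_equiv (cancelBC k (Localization.Away a) L B).symm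
  apply IsDiagOf.isDiag (Q := M ⧸ Subgroup.closure (Set.range σ₀.1))
  let ē : ↥(Sig w) → L := fun σ => algebraMap K L (eSig w σ.1)
  have hē : CompleteOrthogonalIdempotents ē := hcoi.map (algebraMap K L)
  apply isDiagOf_of_coi ē hē
  intro σ
  by_cases hσ : σ ∈ Good
  · obtain ⟨g⟩ := hσ
    have h1 : IsDiagOf (M ⧸ Subgroup.closure (Set.range σ.1)) (Localization.Away (ē σ))
        (Localization.Away (ē σ) ⊗[k] B) :=
      isDiagOf_of_eSig_eq_one w hw ρ hρ hker (Localization.Away (ē σ)) σ.1 (by
        rw [IsScalarTower.algebraMap_apply K L (Localization.Away (ē σ))]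
        exact algebraMap_away_idem (hē.idem σ))
    exact isDiagOf_of_equiv (cancelBC k L (Localization.Away (ē σ)) B).symm (isDiagOf_congr g h1)
  · obtain ⟨n, hn⟩ := ha σ hσ
    have h0 : ē σ = 0 := by
      have h1 : algebraMap K L (algebraMap k K a ^ n * eSig w σ.1) = 0 := by rw [hn, map_zero]
      rw [map_mul, map_pow, ← IsScalarTower.algebraMap_apply k K L,
        IsScalarTower.algebraMap_apply k (Localization.Away a) L] at h1
      have hu : IsUnit (algebraMap (Localization.Away a) L (algebraMap k (Localization.Away a) a)) :=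
        (IsLocalization.Away.algebraMap_isUnit a).map _
      exact (hu.pow n).mul_right_eq_zero.mp h1
    have : Subsingleton (Localization.Away (ē σ)) := by
      rw [h0]
      exact IsLocalization.subsingleton (M := Submonoid.powers (0 : L)) ⟨1, pow_one 0⟩
    exact isDiagOf_of_subsingleton _ _ _

end PropP

section Crit

variable {R : Type u} [CommRing R] {B : Type u} [CommRing B] [HopfAlgebra R B]

/-- pointwise criterion for being of multiplicative type. -/
theorem isMultType_of_forall_prime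
    (h : ∀ (p : Ideal R) [p.IsPrime], ∃ f : R, f ∉ p ∧
      IsMultTypeConst (Localization.Away f) (Localization.Away f ⊗[R] B)) :
    IsMultType R B := by
  refine ⟨{f | IsMultTypeConst (Localization.Away f) (Localization.Away f ⊗[R] B)}, ?_,
    fun f hf => hf⟩
  by_contra hne
  obtain ⟨m, hm, hle⟩ := Ideal.exists_le_maximal _ hne
  have := hm.isPrime
  obtain ⟨f, hfm, hf⟩ := h m
  exact hfm (hle (Ideal.subset_span hf))

/-- transfer of constant multiplicative type to an algebra in which `a` is invertible. -/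
theorem isMultTypeConst_of_isUnit (a : R)
    (h : IsMultTypeConst (Localization.Away a) (Localization.Away a ⊗[R] B))
    (R' : Type u) [CommRing R'] [Algebra R R'] (hu : IsUnit (algebraMap R R' a)) :
    IsMultTypeConst R' (R' ⊗[R] B) := by
  let g : Localization.Away a →ₐ[R] R' :=
    IsLocalization.liftAlgHom (M := Submonoid.powers a) (f := Algebra.ofId R R') (by
      rintro ⟨_, n, rfl⟩
      show IsUnit (algebraMap R R' (a ^ n))
      rw [map_pow]
      exact hu.pow n)
  let _ : Algebra (Localization.Away a) R' := g.toRingHom.toAlgebra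
  have : IsScalarTower R (Localization.Away a) R' :=
    IsScalarTower.of_algebraMap_eq (fun r => (g.commutes r).symm)
  exact isMultTypeConst_tower (Localization.Away a) R' h

theorem isMultTypeConst_of_subsingleton [Subsingleton R] : IsMultTypeConst R B :=
  isMultTypeConst_of_isDiag (isDiagOf_of_subsingleton PUnit R B).isDiag

end Crit

section Chart

variable {k : Type u} [CommRing k] {A C : Type u} [CommRing A] [HopfAlgebra k A]
  [CommRing C] [HopfAlgebra k C]

theorem exists_common_chart (hA : IsMultTypeConst k A) (hC : IsMultTypeConst k C) :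
    ∃ (K : Type u) (_ : CommRing K) (_ : Algebra k K), Module.FaithfullyFlat k K ∧
      IsDiag K (K ⊗[k] A) ∧ IsDiag K (K ⊗[k] C) := by
  obtain ⟨K₁, _, _, hff₁, hd₁⟩ := hA
  obtain ⟨K₂, _, _, hff₂, hd₂⟩ := hC
  refine ⟨K₁ ⊗[k] K₂, inferInstance, inferInstance,
    Module.FaithfullyFlat.trans k K₁ (K₁ ⊗[k] K₂), isDiag_tower K₁ (K₁ ⊗[k] K₂) hd₁, ?_⟩
  let _ : Algebra K₂ (K₁ ⊗[k] K₂) := Algebra.TensorProduct.rightAlgebra
  exact isDiag_tower K₂ (K₁ ⊗[k] K₂) hd₂

end Chart

section Step3

variable {k : Type u} [CommRing k] {A C B : Type u} [CommRing A] [HopfAlgebra k A]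
  [CommRing C] [HopfAlgebra k C] [CommRing B] [HopfAlgebra k B]

open MonoidAlgebra

theorem exists_away_isMultTypeConst_of_isKer (φ : C →ₐc[k] A) (π : A →ₐc[k] B) (h : IsKer φ π)
    (hA : IsMultTypeConst k A) (hC : IsMultTypeConst k C) (hCft : Algebra.FiniteType k C)
    (p : Ideal k) [p.IsPrime] :
    ∃ a : k, a ∉ p ∧ IsMultTypeConst (Localization.Away a) (Localization.Away a ⊗[k] B) := by
  classical
  obtain ⟨K, _, _, hff, ⟨M, _, ⟨εA⟩⟩, ⟨N, _, ⟨εC⟩⟩⟩ := exists_common_chart hA hC
  have hk : Nontrivial k := by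
    refine ⟨⟨0, 1, fun h01 => ?_⟩⟩
    exact (Ideal.IsPrime.ne_top inferInstance) ((Ideal.eq_top_iff_one p).mpr (h01 ▸ p.zero_mem))
  have hK : Nontrivial K :=
    (FaithfulSMul.algebraMap_injective k K).nontrivial
  -- `N` is finitely generated
  have hNfg : Group.FG N := by
    have h1 : Algebra.FiniteType K (K ⊗[k] C) := inferInstance
    have h2 : Algebra.FiniteType K (MonoidAlgebra K N) := h1.equiv (εC : K ⊗[k] C ≃ₐ[K] MonoidAlgebra K N)
    exact MonoidAlgebra.finiteType_iff_group_fg.mp h2
  obtain ⟨S, hS, hfin⟩ := Group.fg_iff.mp hNfg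
  have : Fintype ↥S := hfin.fintype
  let ψ : MonoidAlgebra K N →ₐc[K] MonoidAlgebra K M :=
    ((εA : K ⊗[k] A →ₐc[K] MonoidAlgebra K M).comp (bcHom k K φ)).comp
      (εC.symm : MonoidAlgebra K N →ₐc[K] K ⊗[k] C)
  let ρ : MonoidAlgebra K M →ₐc[K] K ⊗[k] B :=
    (bcHom k K π).comp (εA.symm : MonoidAlgebra K M →ₐc[K] K ⊗[k] A)
  have hKer : IsKer ψ ρ := (h.baseChange K).of_equiv εA εC
  have hker := ker_eq_span_of_isKer ψ ρ hKer S hS
  let w : ↥S → MonoidAlgebra K M := fun i => ψ (single i.1 1)
  have hw : ∀ i, IsGroupLikeElem K (w i) :=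
    fun i => (MonoidAlgebra.isGroupLikeElem_single_one i.1).map ψ
  have hker' : RingHom.ker (ρ : MonoidAlgebra K M →ₐ[K] K ⊗[k] B) =
      Ideal.span (Set.range fun i => w i - 1) := by
    rw [hker, Set.image_eq_range]
  exact exists_away_isMultTypeConst w hw ρ hKer.1 hker' p

end Step3

section Final

variable {R : Type u} [CommRing R] {A C B : Type u} [CommRing A] [HopfAlgebra R A]
  [CommRing C] [HopfAlgebra R C] [CommRing B] [HopfAlgebra R B]

theorem isMultType_of_isKer (φ : C →ₐc[R] A) (π : A →ₐc[R] B) (h : IsKer φ π)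
    (hA : IsMultType R A) (hC : IsMultType R C) (hCft : Algebra.FiniteType R C) :
    IsMultType R B := by
  apply isMultType_of_forall_prime
  intro p _
  obtain ⟨sA, hsA, hA'⟩ := hA
  obtain ⟨sC, hsC, hC'⟩ := hC
  have hex : ∀ s : Set R, Ideal.span s = ⊤ → ∃ f ∈ s, f ∉ p := by
    intro s hs
    by_contra hcon
    push Not at hcon
    have h1 : Ideal.span s ≤ p := Ideal.span_le.mpr hcon
    rw [hs] at h1
    exact (Ideal.IsPrime.ne_top inferInstance) (top_le_iff.mp h1)
  obtain ⟨f, hfA, hfp⟩ := hex sA hsA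
  obtain ⟨g, hgC, hgp⟩ := hex sC hsC
  have hh₀ : f * g ∉ p := fun hmem => (Ideal.IsPrime.mem_or_mem inferInstance hmem).elim hfp hgp
  have hunit : ∀ (x y : R), x ∣ y → IsUnit (algebraMap R (Localization.Away y) x) := by
    rintro x _ ⟨c, rfl⟩
    have h1 : IsUnit (algebraMap R (Localization.Away (x * c)) (x * c)) :=
      IsLocalization.Away.algebraMap_isUnit (x * c)
    rw [map_mul] at h1
    exact isUnit_of_mul_isUnit_left h1
  have hAk : IsMultTypeConst (Localization.Away (f * g)) (Localization.Away (f * g) ⊗[R] A) :=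
    isMultTypeConst_of_isUnit f (hA' f hfA) _ (hunit f (f * g) (dvd_mul_right f g))
  have hCk : IsMultTypeConst (Localization.Away (f * g)) (Localization.Away (f * g) ⊗[R] C) :=
    isMultTypeConst_of_isUnit g (hC' g hgC) _ (hunit g (f * g) (dvd_mul_left g f))
  obtain ⟨P', hP'⟩ : ∃ P' : PrimeSpectrum (Localization.Away (f * g)),
      PrimeSpectrum.comap (algebraMap R (Localization.Away (f * g))) P' = ⟨p, inferInstance⟩ := by
    have h1 : (⟨p, inferInstance⟩ : PrimeSpectrum R) ∈
        Set.range (PrimeSpectrum.comap (algebraMap R (Localization.Away (f * g)))) := by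
      rw [PrimeSpectrum.localization_away_comap_range (Localization.Away (f * g)) (f * g)]
      exact hh₀
    exact h1
  have hP'p : P'.asIdeal.comap (algebraMap R (Localization.Away (f * g))) = p :=
    congrArg PrimeSpectrum.asIdeal hP'
  obtain ⟨a', ha'P, ha'⟩ := exists_away_isMultTypeConst_of_isKer
    (bcHom R (Localization.Away (f * g)) φ) (bcHom R (Localization.Away (f * g)) π)
    (h.baseChange (Localization.Away (f * g))) hAk hCk inferInstance P'.asIdeal
  obtain ⟨⟨r, ⟨_, n, rfl⟩⟩, hr⟩ := IsLocalization.surj (Submonoid.powers (f * g)) a'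
  have hr' : a' * algebraMap R (Localization.Away (f * g)) ((f * g) ^ n) =
      algebraMap R (Localization.Away (f * g)) r := hr
  have hrp : r ∉ p := by
    intro hmem
    have h1 : algebraMap R (Localization.Away (f * g)) r ∈ P'.asIdeal := by
      rw [← hP'p] at hmem
      exact hmem
    rw [← hr'] at h1
    rcases P'.isPrime.mem_or_mem h1 with h2 | h2
    · exact ha'P h2
    · have h3 : IsUnit (algebraMap R (Localization.Away (f * g)) ((f * g) ^ n)) := by
        rw [map_pow]
        exact (IsLocalization.Away.algebraMap_isUnit (f * g)).pow n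
      exact P'.isPrime.ne_top (Ideal.eq_top_of_isUnit_mem _ h2 h3)
  refine ⟨f * g * r, fun hmem => (Ideal.IsPrime.mem_or_mem inferInstance hmem).elim hh₀ hrp, ?_⟩
  let i : Localization.Away (f * g) →ₐ[R] Localization.Away (f * g * r) :=
    awayHom (f * g) (f * g * r) (dvd_mul_right _ _)
  let _ : Algebra (Localization.Away (f * g)) (Localization.Away (f * g * r)) :=
    i.toRingHom.toAlgebra
  have : IsScalarTower R (Localization.Away (f * g)) (Localization.Away (f * g * r)) :=
    IsScalarTower.of_algebraMap_eq (fun x => (i.commutes x).symm)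
  have hu : IsUnit (algebraMap (Localization.Away (f * g)) (Localization.Away (f * g * r)) a') := by
    have h1 : algebraMap (Localization.Away (f * g)) (Localization.Away (f * g * r))
        (a' * algebraMap R (Localization.Away (f * g)) ((f * g) ^ n)) =
        algebraMap R (Localization.Away (f * g * r)) r := by
      rw [hr', ← IsScalarTower.algebraMap_apply]
    rw [map_mul] at h1
    have h2 : IsUnit (algebraMap R (Localization.Away (f * g * r)) r) :=
      hunit r (f * g * r) (dvd_mul_left r (f * g))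
    rw [← h1] at h2
    exact isUnit_of_mul_isUnit_left h2
  have h1 := isMultTypeConst_of_isUnit a' ha' (Localization.Away (f * g * r)) hu
  exact isMultTypeConst_of_equiv (cancelBC R (Localization.Away (f * g))
    (Localization.Away (f * g * r)) B) h1

end Final

end Groth.Agent.Lib.Helper77.MultKer
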