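import Mathlib
import Groth.Prelude.Def_SGA3b
import Groth.Agent.Lib.Helper77.DiagSub
import Groth.Agent.Lib.Helper77.MultTors
import Groth.Agent.Lib.Helper77.MultRigid
import Groth.Agent.Lib.Helper77.MultKer2
import Groth.Agent.Lib.Helper77.MultBC
import Groth.Agent.Lib.Helper77.Deligne

/-!
# Closed subgroups of groups of multiplicative type with trivial closed fibre (helper77)

Over a local ring `R`: a Hopf quotient `C` (of finite presentation) of a Hopf algebra `A` of
multiplicative type and of finite type whose closed fibre is trivial, is trivial.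
-/

set_option autoImplicit false
universe u
open TensorProduct

namespace Groth.Agent.Lib.Helper77.HopfTriv1

open SGA3b Groth.Agent.Lib.Helper77.DiagSub Groth.Agent.Lib.Helper77.MultRigid
  Groth.Agent.Lib.Helper77.MultTors Groth.Agent.Lib.Helper77.MultMono
  Groth.Agent.Lib.Helper77.MultBC Groth.Agent.Lib.Helper77.MultKer

section Field

variable {L : Type u} [Field L] {B : Type u} [CommRing B] [HopfAlgebra L B]
  {M : Type u} [CommGroup M]

/-- over a field, the map `L[M/N] → B` induced by a bialgebra map `θ : L[M] → B` is injective. -/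
theorem thetaBar_injective_of_field (θ : MonoidAlgebra L M →ₐc[L] B) :
    Function.Injective (thetaBar θ) := by
  have hli : LinearIndependent L (fun q : QGrp θ => ubar θ q) := by
    have h := linearIndep_groupLikeVal (R := L) (A := B)
    exact h.comp (QuotientGroup.kerLift (glHom θ)) (QuotientGroup.kerLift_injective _)
  have key : ∀ x : MonoidAlgebra L (QGrp θ),
      thetaBarAlg θ x = Finsupp.linearCombination L (fun q => ubar θ q) x.coeff := by
    intro x
    induction x using MonoidAlgebra.induction_on with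
    | of q =>
      rw [MonoidAlgebra.of_apply, thetaBarAlg_single, one_smul]
      simp
    | add x y hx hy => simp only [map_add, MonoidAlgebra.coeff_add, hx, hy]
    | smul r x hx => simp only [map_smul, MonoidAlgebra.coeff_smul, hx]
  rw [injective_iff_map_eq_zero]
  intro x hx
  rw [thetaBar_apply, key] at hx
  have h0 := (linearIndependent_iff.mp hli) x.coeff hx
  exact MonoidAlgebra.coeff_injective (h0.trans MonoidAlgebra.coeff_zero.symm)

/-- over a field, a quotient of a group algebra `L[M]` (`M` finitely generated) whose augmentation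
ideal lies in all torsion ideals is trivial. -/
theorem ker_counit_eq_bot_of_field_diag [Group.FG M] (θ : MonoidAlgebra L M →ₐc[L] B)
    (hθ : Function.Surjective θ)
    (h : ∀ n : ℕ, 0 < n → RingHom.ker (Bialgebra.counitAlgHom L B) ≤ torsionIdeal L B n) :
    RingHom.ker (Bialgebra.counitAlgHom L B) = ⊥ := by
  classical
  have : Group.FG (QGrp θ) := inferInstance
  let E : MonoidAlgebra L (QGrp θ) ≃ₐc[L] B :=
    BialgEquiv.ofBijective (thetaBar θ) ⟨thetaBar_injective_of_field θ, thetaBar_surjective θ hθ⟩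
  have hQ : ∀ q : QGrp θ, q = 1 := by
    intro q
    by_contra hq
    obtain ⟨n, hn, hqn⟩ := exists_pos_notMem_powSubgroup (QGrp θ) q hq
    have h1 : E (MonoidAlgebra.single q 1) - 1 ∈ RingHom.ker (Bialgebra.counitAlgHom L B) := by
      rw [RingHom.mem_ker, map_sub, map_one, sub_eq_zero]
      exact ((MonoidAlgebra.isGroupLikeElem_single_one q).map E).counit_eq_one
    have h2 := h n hn h1
    have h3 : MonoidAlgebra.single q (1 : L) - 1 ∈ torsionIdeal L (MonoidAlgebra L (QGrp θ)) n := by
      have h4 := map_torsionIdeal_le (E.symm : B →ₐc[L] MonoidAlgebra L (QGrp θ)) n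
        (Ideal.mem_map_of_mem _ h2)
      have h5 : ((E.symm : B →ₐc[L] MonoidAlgebra L (QGrp θ)) : B →ₐ[L] MonoidAlgebra L (QGrp θ))
          (E (MonoidAlgebra.single q 1) - 1) = MonoidAlgebra.single q (1 : L) - 1 := by
        change E.symm (E (MonoidAlgebra.single q 1) - 1) = _
        rw [map_sub, map_one, E.symm_apply_apply]
      rwa [h5] at h4
    have h6 := torsionIdeal_le_ker_mapDomain L (QGrp θ) n h3
    rw [RingHom.mem_ker, map_sub, map_one, sub_eq_zero] at h6
    have h7 : MonoidAlgebra.of L (QGrp θ ⧸ powSubgroup (QGrp θ) n)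
        ((QuotientGroup.mk' (powSubgroup (QGrp θ) n)) q) =
        MonoidAlgebra.of L (QGrp θ ⧸ powSubgroup (QGrp θ) n) 1 := by
      rw [map_one, ← h6]
      simp
    have h9 := MonoidAlgebra.of_injective h7
    exact hqn ((QuotientGroup.eq_one_iff q).mp h9)
  have hall : ∀ x : MonoidAlgebra L (QGrp θ),
      x = Coalgebra.counit (R := L) x • (1 : MonoidAlgebra L (QGrp θ)) := by
    intro x
    induction x using MonoidAlgebra.induction_on with
    | of q =>
      rw [hQ q, map_one]
      simp
    | add x y hx hy =>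
      rw [map_add, add_smul]
      exact congrArg₂ (· + ·) hx hy
    | smul r x hx =>
      rw [map_smul, smul_assoc]
      exact congrArg (r • ·) hx
  rw [eq_bot_iff]
  intro b hb
  rw [Ideal.mem_bot]
  obtain ⟨x, rfl⟩ := E.surjective b
  rw [RingHom.mem_ker] at hb
  have h10 : Coalgebra.counit (R := L) x = 0 := by
    have := CoalgHomClass.counit_comp_apply E x
    rw [← this]
    exact hb
  rw [hall x, h10, zero_smul, map_zero]

end Field

section Field2

variable {L : Type u} [Field L] {B : Type u} [CommRing B] [HopfAlgebra L B]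
  {C : Type u} [CommRing C] [HopfAlgebra L C]

/-- hypothesis transfer under base change. -/
lemma ker_counit_le_torsionIdeal_baseChange {K : Type u} [CommRing K] {C : Type u} [CommRing C]
    [HopfAlgebra K C] (K' : Type u) [CommRing K'] [Algebra K K']
    (h : ∀ n : ℕ, 0 < n → RingHom.ker (Bialgebra.counitAlgHom K C) ≤ torsionIdeal K C n)
    (n : ℕ) (hn : 0 < n) :
    RingHom.ker (Bialgebra.counitAlgHom K' (K' ⊗[K] C)) ≤ torsionIdeal K' (K' ⊗[K] C) n := by
  rw [ker_counit_baseChange, torsionIdeal_baseChange]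
  exact Ideal.map_mono (h n hn)

/-- field case, after a field extension `L'` diagonalising `B`. -/
theorem ker_counit_eq_bot_of_field_aux (L' : Type u) [Field L'] [Algebra L L']
    (hd : IsDiag L' (L' ⊗[L] B)) (hft : Algebra.FiniteType L B)
    (π : B →ₐc[L] C) (hπ : Function.Surjective π)
    (h : ∀ n : ℕ, 0 < n → RingHom.ker (Bialgebra.counitAlgHom L C) ≤ torsionIdeal L C n) :
    RingHom.ker (Bialgebra.counitAlgHom L C) = ⊥ := by
  obtain ⟨M, _, ⟨E⟩⟩ := hd
  have hft1 : Algebra.FiniteType L' (L' ⊗[L] B) := inferInstance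
  have hft' : Algebra.FiniteType L' (MonoidAlgebra L' M) :=
    Algebra.FiniteType.equiv hft1 (E : (L' ⊗[L] B) ≃ₐ[L'] MonoidAlgebra L' M)
  have hfg : Group.FG M := MonoidAlgebra.finiteType_iff_group_fg.mp hft'
  let θ : MonoidAlgebra L' M →ₐc[L'] L' ⊗[L] C :=
    (bcHom L L' π).comp (E.symm : MonoidAlgebra L' M →ₐc[L'] L' ⊗[L] B)
  have hθ : Function.Surjective θ := by
    intro y
    obtain ⟨z, hz⟩ := bcHom_surjective L L' π hπ y
    exact ⟨E z, by
      show (bcHom L L' π) (E.symm (E z)) = y
      rw [E.symm_apply_apply, hz]⟩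
  have h0 := ker_counit_eq_bot_of_field_diag θ hθ (ker_counit_le_torsionIdeal_baseChange L' h)
  rw [eq_bot_iff]
  intro c hc
  rw [Ideal.mem_bot]
  have h1 : (1 : L') ⊗ₜ[L] c ∈ RingHom.ker (Bialgebra.counitAlgHom L' (L' ⊗[L] C)) := by
    rw [ker_counit_baseChange]
    exact Ideal.mem_map_of_mem _ hc
  rw [h0, Ideal.mem_bot] at h1
  exact (Module.FaithfullyFlat.one_tmul_eq_zero_iff L C c).mp h1

theorem ker_counit_eq_bot_of_field (hB : IsMultTypeConst L B) (hft : Algebra.FiniteType L B)
    (π : B →ₐc[L] C) (hπ : Function.Surjective π)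
    (h : ∀ n : ℕ, 0 < n → RingHom.ker (Bialgebra.counitAlgHom L C) ≤ torsionIdeal L C n) :
    RingHom.ker (Bialgebra.counitAlgHom L C) = ⊥ := by
  obtain ⟨K', _, _, hff, hd⟩ := hB
  have hnt : Nontrivial K' := by
    by_contra hne
    rw [not_nontrivial_iff_subsingleton] at hne
    have h1 : (1 : K') ⊗ₜ[L] (1 : L) = 0 := Subsingleton.elim _ _
    have := (Module.FaithfullyFlat.one_tmul_eq_zero_iff L L (A := K') (1 : L)).mp h1
    exact one_ne_zero this
  obtain ⟨𝔫, h𝔫⟩ := Ideal.exists_maximal K'
  let _ : Field (K' ⧸ 𝔫) := Ideal.Quotient.field 𝔫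
  have hd' : IsDiag (K' ⧸ 𝔫) ((K' ⧸ 𝔫) ⊗[L] B) := isDiag_tower K' (K' ⧸ 𝔫) hd
  exact ker_counit_eq_bot_of_field_aux (K' ⧸ 𝔫) hd' hft π hπ h

end Field2

section Gen

variable {R : Type u} [CommRing R] {C : Type u} [CommRing C] [HopfAlgebra R C]

open WithConv in
lemma counit_comp_powConv (n : ℕ) :
    (Bialgebra.counitAlgHom R C).comp (powConv R C n) = Bialgebra.counitAlgHom R C := by
  have h1 := Groth.Agent.Lib.Helper77.Deligne.comp_convPow (Bialgebra.counitAlgHom R C)
    (toConv (AlgHom.id R C)) n
  have h2 : toConv ((Bialgebra.counitAlgHom R C).comp (toConv (AlgHom.id R C)).ofConv) =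
      (1 : WithConv (C →ₐ[R] R)) := by
    apply WithConv.ext
    apply AlgHom.ext
    intro a
    show Coalgebra.counit (R := R) a = (1 : WithConv (C →ₐ[R] R)) a
    rw [AlgHom.convOne_apply]
    rfl
  rw [h2, one_pow] at h1
  have h3 := congrArg WithConv.ofConv h1
  apply AlgHom.ext
  intro a
  have h4 := DFunLike.congr_fun h3 a
  have h5 : (1 : WithConv (C →ₐ[R] R)).ofConv a = Coalgebra.counit (R := R) a := by
    show (1 : WithConv (C →ₐ[R] R)) a = _
    rw [AlgHom.convOne_apply]
    rfl
  rw [h5] at h4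
  exact h4

lemma torsionIdeal_le_ker_counit (n : ℕ) :
    torsionIdeal R C n ≤ RingHom.ker (Bialgebra.counitAlgHom R C) := by
  unfold torsionIdeal
  rw [Ideal.map_le_iff_le_comap]
  intro a ha
  rw [Ideal.mem_comap, RingHom.mem_ker]
  rw [RingHom.mem_ker] at ha
  have := DFunLike.congr_fun (counit_comp_powConv (R := R) (C := C) n) a
  exact this.trans ha

/-- the projection `c ↦ c - ε(c)` onto the augmentation ideal. -/
noncomputable def augProj : C →ₗ[R] C :=
  LinearMap.id - (Algebra.linearMap R C).comp (Coalgebra.counit (R := R) (A := C))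

lemma augProj_apply (c : C) :
    augProj (R := R) c = c - algebraMap R C (Coalgebra.counit (R := R) c) := rfl

lemma augProj_mem (c : C) : augProj (R := R) c ∈ RingHom.ker (Bialgebra.counitAlgHom R C) := by
  rw [RingHom.mem_ker, augProj_apply, map_sub, AlgHom.commutes]
  simp

lemma augProj_of_mem {c : C} (hc : c ∈ RingHom.ker (Bialgebra.counitAlgHom R C)) :
    augProj (R := R) c = c := by
  rw [RingHom.mem_ker] at hc
  have : Coalgebra.counit (R := R) c = 0 := hc
  rw [augProj_apply, this, map_zero, sub_zero]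

lemma ker_counit_le_smul (𝔠 : Ideal R)
    (h : RingHom.ker (Bialgebra.counitAlgHom R C) ≤ Ideal.map (algebraMap R C) 𝔠) :
    (RingHom.ker (Bialgebra.counitAlgHom R C)).restrictScalars R ≤
      𝔠 • (RingHom.ker (Bialgebra.counitAlgHom R C)).restrictScalars R := by
  intro c hc
  have hc' : c ∈ RingHom.ker (Bialgebra.counitAlgHom R C) := hc
  have h1 : c ∈ (𝔠 • ⊤ : Submodule R C) := by
    rw [Ideal.smul_top_eq_map]
    exact h hc'
  have h2 := Submodule.mem_map_of_mem (f := augProj (R := R) (C := C)) h1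
  rw [Submodule.map_smul'', augProj_of_mem hc'] at h2
  refine Submodule.smul_mono le_rfl ?_ h2
  rintro _ ⟨x, -, rfl⟩
  exact augProj_mem x

end Gen

section Local

variable {R : Type u} [CommRing R] [IsLocalRing R] {C : Type u} [CommRing C] [HopfAlgebra R C]

theorem ker_counit_le_of_finite (T : Ideal C)
    (hT : T ≤ RingHom.ker (Bialgebra.counitAlgHom R C)) [Module.Finite R (C ⧸ T)]
    (h : RingHom.ker (Bialgebra.counitAlgHom R C) ≤
      Ideal.map (algebraMap R C) (IsLocalRing.maximalIdeal R)) :
    RingHom.ker (Bialgebra.counitAlgHom R C) ≤ T := by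
  let q : C →ₗ[R] C ⧸ T := (Ideal.Quotient.mkₐ R T).toLinearMap
  let εbar : (C ⧸ T) →ₐ[R] R := Ideal.Quotient.liftₐ T (Bialgebra.counitAlgHom R C)
    (fun a ha => hT ha)
  let pbar : (C ⧸ T) →ₗ[R] (C ⧸ T) :=
    LinearMap.id - (Algebra.linearMap R (C ⧸ T)).comp εbar.toLinearMap
  have hpq : ∀ c : C, pbar (q c) = q (augProj (R := R) c) := by
    intro c
    show Ideal.Quotient.mk T c - algebraMap R (C ⧸ T) (εbar (Ideal.Quotient.mk T c)) =
      Ideal.Quotient.mk T (c - algebraMap R C (Coalgebra.counit (R := R) c))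
    rw [map_sub]
    rfl
  let N : Submodule R (C ⧸ T) := LinearMap.range pbar
  have hNfg : N.FG := by
    show (LinearMap.range pbar).FG
    rw [LinearMap.range_eq_map]
    exact (Module.Finite.fg_top).map pbar
  have hIN : Submodule.map q ((RingHom.ker (Bialgebra.counitAlgHom R C)).restrictScalars R) ≤ N := by
    rintro _ ⟨c, hc, rfl⟩
    refine ⟨q c, ?_⟩
    rw [hpq, augProj_of_mem hc]
  have hle : N ≤ IsLocalRing.maximalIdeal R • N := by
    rintro _ ⟨d, rfl⟩
    obtain ⟨c, rfl⟩ := Ideal.Quotient.mk_surjective d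
    have h1 : augProj (R := R) c ∈ (RingHom.ker (Bialgebra.counitAlgHom R C)).restrictScalars R :=
      augProj_mem c
    have h2 := ker_counit_le_smul _ h h1
    have h3 := Submodule.mem_map_of_mem (f := q) h2
    rw [Submodule.map_smul''] at h3
    have h4 : pbar (Ideal.Quotient.mk T c) = q (augProj (R := R) c) := hpq c
    rw [h4]
    exact Submodule.smul_mono le_rfl hIN h3
  have hbot := Submodule.eq_bot_of_le_smul_of_le_jacobson_bot _ N hNfg hle
    (IsLocalRing.maximalIdeal_le_jacobson _)
  intro c hc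
  have h1 : q c ∈ N := hIN ⟨c, hc, rfl⟩
  rw [hbot, Submodule.mem_bot] at h1
  exact Ideal.Quotient.eq_zero_iff_mem.mp h1

end Local

section Main

variable {R : Type u} [CommRing R] [IsLocalRing R] {A : Type u} [CommRing A] [HopfAlgebra R A]
  {C : Type u} [CommRing C] [HopfAlgebra R C]

/-- a Hopf quotient of finite presentation of a Hopf algebra of multiplicative type and of finite
type over a local ring, with trivial closed fibre, is trivial. -/
theorem ker_counit_eq_bot_of_local (hft : Algebra.FiniteType R A) (hH : IsMultType R A)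
    (π : A →ₐc[R] C) (hπ : Function.Surjective π) (hK : Algebra.FinitePresentation R C)
    (h : RingHom.ker (Bialgebra.counitAlgHom R C) ≤
      Ideal.map (algebraMap R C) (IsLocalRing.maximalIdeal R)) :
    RingHom.ker (Bialgebra.counitAlgHom R C) = ⊥ := by
  have hfin := (torsFinite_and_torsDense_of_isMultType_local hH hft).1
  -- step B
  have hB : ∀ n : ℕ, 0 < n →
      RingHom.ker (Bialgebra.counitAlgHom R C) ≤ torsionIdeal R C n := by
    intro n hn
    have := hfin n hn
    have hle : torsionIdeal R A n ≤ (torsionIdeal R C n).comap (π : A →ₐ[R] C) :=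
      Ideal.map_le_iff_le_comap.mp (map_torsionIdeal_le π n)
    let g : (A ⧸ torsionIdeal R A n) →ₐ[R] (C ⧸ torsionIdeal R C n) :=
      Ideal.quotientMapₐ (torsionIdeal R C n) (π : A →ₐ[R] C) hle
    have : Module.Finite R (C ⧸ torsionIdeal R C n) :=
      Module.Finite.of_surjective g.toLinearMap (Ideal.quotientMap_surjective (H := hle) hπ)
    exact ker_counit_le_of_finite _ (torsionIdeal_le_ker_counit n) h
  -- step C
  have hfield : ∀ (L : Type u) [Field L] [Algebra R L],
      RingHom.ker (Bialgebra.counitAlgHom L (L ⊗[R] C)) = ⊥ := by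
    intro L _ _
    obtain ⟨s, hs, hloc⟩ := hH
    obtain ⟨f, hf, hfu⟩ := exists_isUnit_of_span_eq_top s hs
    have h1 : IsMultTypeConst L (L ⊗[R] A) :=
      isMultTypeConst_of_isUnit f (hloc f hf) L (hfu.map _)
    exact ker_counit_eq_bot_of_field h1 inferInstance (bcHom R L π) (bcHom_surjective R L π hπ)
      (ker_counit_le_torsionIdeal_baseChange L hB)
  -- step D
  have hsurj : Function.Surjective (Bialgebra.counitAlgHom R C) := fun r =>
    ⟨algebraMap R C r, by rw [AlgHom.commutes]; rfl⟩
  have hfg : (RingHom.ker (Bialgebra.counitAlgHom R C)).FG :=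
    Algebra.FinitePresentation.ker_fG_of_surjective (Bialgebra.counitAlgHom R C) hsurj
  have hle : RingHom.ker (Bialgebra.counitAlgHom R C) ≤
      Ideal.map (algebraMap R C) (IsLocalRing.maximalIdeal R) •
        RingHom.ker (Bialgebra.counitAlgHom R C) := by
    intro c hc
    have h1 := ker_counit_le_smul _ h (show c ∈ (RingHom.ker
      (Bialgebra.counitAlgHom R C)).restrictScalars R from hc)
    have h2 : IsLocalRing.maximalIdeal R •
        (RingHom.ker (Bialgebra.counitAlgHom R C)).restrictScalars R ≤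
        (Ideal.map (algebraMap R C) (IsLocalRing.maximalIdeal R) •
          RingHom.ker (Bialgebra.counitAlgHom R C)).restrictScalars R := by
      rw [Submodule.smul_le]
      intro r hr n hn
      show r • n ∈ Ideal.map (algebraMap R C) (IsLocalRing.maximalIdeal R) •
          RingHom.ker (Bialgebra.counitAlgHom R C)
      have hrn : r • n = algebraMap R C r • n := by rw [Algebra.smul_def, smul_eq_mul]
      rw [hrn]
      exact Submodule.smul_mem_smul (Ideal.mem_map_of_mem (algebraMap R C) hr) hn
    exact h2 h1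
  obtain ⟨c, hc1, hc0⟩ := Submodule.exists_sub_one_mem_and_smul_eq_zero_of_fg_of_le_smul
    _ _ hfg hle
  -- step E
  have hεc : IsUnit (Coalgebra.counit (R := R) c) := by
    have h1 : Ideal.map (algebraMap R C) (IsLocalRing.maximalIdeal R) ≤
        (IsLocalRing.maximalIdeal R).comap (Bialgebra.counitAlgHom R C) := by
      rw [Ideal.map_le_iff_le_comap]
      intro r hr
      rw [Ideal.mem_comap, Ideal.mem_comap, AlgHom.commutes]
      exact hr
    have h2 := h1 hc1
    rw [Ideal.mem_comap, map_sub, map_one] at h2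
    by_contra hnu
    have h3 : Coalgebra.counit (R := R) c ∈ IsLocalRing.maximalIdeal R :=
      (IsLocalRing.mem_maximalIdeal _).mpr hnu
    have h4 : (1 : R) ∈ IsLocalRing.maximalIdeal R := by
      have := sub_mem h3 h2
      simp at this
    exact (IsLocalRing.maximalIdeal.isMaximal R).ne_top ((Ideal.eq_top_iff_one _).mpr h4)
  have hcu : IsUnit c := by
    by_contra hnu
    obtain ⟨q, hq, hcq⟩ := exists_max_ideal_of_mem_nonunits (show c ∈ nonunits C from hnu)
    let _ : Field (C ⧸ q) := Ideal.Quotient.field q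
    have h0 := hfield (C ⧸ q)
    let m : (C ⧸ q) ⊗[R] C →ₐ[R] C ⧸ q :=
      Algebra.TensorProduct.productMap (AlgHom.id R (C ⧸ q)) (Ideal.Quotient.mkₐ R q)
    have hIq : RingHom.ker (Bialgebra.counitAlgHom R C) ≤ q := by
      intro x hx
      have h1 : (1 : C ⧸ q) ⊗ₜ[R] x ∈
          RingHom.ker (Bialgebra.counitAlgHom (C ⧸ q) ((C ⧸ q) ⊗[R] C)) := by
        rw [ker_counit_baseChange]
        exact Ideal.mem_map_of_mem _ hx
      rw [h0, Ideal.mem_bot] at h1
      have h2 : m ((1 : C ⧸ q) ⊗ₜ[R] x) = Ideal.Quotient.mk q x := by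
        show Algebra.TensorProduct.productMap (AlgHom.id R (C ⧸ q)) (Ideal.Quotient.mkₐ R q)
          ((1 : C ⧸ q) ⊗ₜ[R] x) = _
        rw [Algebra.TensorProduct.productMap_apply_tmul]
        simp
      rw [h1, map_zero] at h2
      exact Ideal.Quotient.eq_zero_iff_mem.mp h2.symm
    have h3 : algebraMap R C (Coalgebra.counit (R := R) c) ∈ q := by
      have h4 := hIq (augProj_mem (R := R) c)
      rw [augProj_apply] at h4
      have := sub_mem hcq h4
      simpa using this
    exact hq.ne_top (Ideal.eq_top_of_isUnit_mem _ h3 (hεc.map _))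
  rw [eq_bot_iff]
  intro x hx
  rw [Ideal.mem_bot]
  have h1 := hc0 x hx
  rw [smul_eq_mul] at h1
  exact (hcu.mul_right_eq_zero).mp h1

/-- **SGA3 IX 6.? (Hopf-ideal form)**: a closed subgroup `Spec A/J` of finite presentation of a group
of multiplicative type and of finite type over a local ring, with trivial closed fibre, is
trivial. -/
theorem hopfIdeal_eq_ker_counit (hft : Algebra.FiniteType R A) (hH : IsMultType R A)
    (J : Ideal A) [J.IsHopfIdeal R] (hK : Algebra.FinitePresentation R (A ⧸ J))
    (hs : J ⊔ Ideal.map (algebraMap R A) (IsLocalRing.maximalIdeal R) =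
      RingHom.ker (Bialgebra.counitAlgHom R A) ⊔
        Ideal.map (algebraMap R A) (IsLocalRing.maximalIdeal R)) :
    J = RingHom.ker (Bialgebra.counitAlgHom R A) := by
  let π : A →ₐc[R] A ⧸ J := Bialgebra.Quotient.mkBialgHom J
  have hπ : Function.Surjective π := Ideal.Quotient.mk_surjective
  have hπε : ∀ a : A, Coalgebra.counit (R := R) (π a) = Coalgebra.counit (R := R) a :=
    fun a => CoalgHomClass.counit_comp_apply π a
  have hπ0 : ∀ a : A, π a = 0 ↔ a ∈ J := fun a => Ideal.Quotient.eq_zero_iff_mem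
  have h : RingHom.ker (Bialgebra.counitAlgHom R (A ⧸ J)) ≤
      Ideal.map (algebraMap R (A ⧸ J)) (IsLocalRing.maximalIdeal R) := by
    intro c hc
    obtain ⟨a, rfl⟩ := hπ c
    rw [RingHom.mem_ker] at hc
    have ha : a ∈ RingHom.ker (Bialgebra.counitAlgHom R A) := by
      rw [RingHom.mem_ker]
      exact (hπε a).symm.trans hc
    have ha' : a ∈ J ⊔ Ideal.map (algebraMap R A) (IsLocalRing.maximalIdeal R) := by
      rw [hs]
      exact Ideal.mem_sup_left ha
    obtain ⟨j, hj, m, hm, rfl⟩ := Submodule.mem_sup.mp ha'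
    rw [map_add, (hπ0 j).mpr hj, zero_add]
    have h1 := Ideal.mem_map_of_mem ((π : A →ₐ[R] A ⧸ J) : A →+* A ⧸ J) hm
    rw [Ideal.map_map] at h1
    have h2 : ((π : A →ₐ[R] A ⧸ J) : A →+* A ⧸ J).comp (algebraMap R A) =
        algebraMap R (A ⧸ J) := (π : A →ₐ[R] A ⧸ J).comp_algebraMap
    rw [h2] at h1
    exact h1
  have hbot := ker_counit_eq_bot_of_local hft hH π hπ hK h
  apply le_antisymm
  · intro a ha
    rw [RingHom.mem_ker]
    show Coalgebra.counit (R := R) a = 0
    rw [← hπε a, (hπ0 a).mpr ha, map_zero]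
  · intro a ha
    rw [RingHom.mem_ker] at ha
    have h1 : π a ∈ RingHom.ker (Bialgebra.counitAlgHom R (A ⧸ J)) := by
      rw [RingHom.mem_ker]
      exact (hπε a).trans ha
    rw [hbot, Ideal.mem_bot] at h1
    exact (hπ0 a).mp h1

end Main

end Groth.Agent.Lib.Helper77.HopfTriv1
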