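import Mathlib
import Groth.Prelude.Def_SGA3b
import Groth.Agent.Lib.Helper77.HopfTriv1

/-!
# Variant of `HopfTriv1.ker_counit_eq_bot_of_local` with a finitely generated augmentation ideal
(helper77)
-/

set_option autoImplicit false
universe u
open TensorProduct

namespace Groth.Agent.Lib.Helper77.HopfTriv1

open SGA3b Groth.Agent.Lib.Helper77.DiagSub Groth.Agent.Lib.Helper77.MultRigid
  Groth.Agent.Lib.Helper77.MultTors Groth.Agent.Lib.Helper77.MultMono
  Groth.Agent.Lib.Helper77.MultBC Groth.Agent.Lib.Helper77.MultKer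

section Main2

variable {R : Type u} [CommRing R] [IsLocalRing R] {A : Type u} [CommRing A] [HopfAlgebra R A]
  {C : Type u} [CommRing C] [HopfAlgebra R C]

/-- a Hopf quotient of finite presentation of a Hopf algebra of multiplicative type and of finite
type over a local ring, with trivial closed fibre, is trivial. -/
theorem ker_counit_eq_bot_of_local' (hft : Algebra.FiniteType R A) (hH : IsMultType R A)
    (π : A →ₐc[R] C) (hπ : Function.Surjective π)
    (hfg : (RingHom.ker (Bialgebra.counitAlgHom R C)).FG)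
    (h : RingHom.ker (Bialgebra.counitAlgHom R C) ≤
      Ideal.map (algebraMap R C) (IsLocalRing.maximalIdeal R)) :
    RingHom.ker (Bialgebra.counitAlgHom R C) = ⊥ := by
  have hfin := (torsFinite_and_torsDense_of_isMultType_local hH hft).1
  -- step B
  have hB : ∀ n : ℕ, 0 < n →
      RingHom.ker (Bialgebra.counitAlgHom R C) ≤ torsionIdeal R C n := by
    intro n hn
    have := hfin n hn
    have hle : torsionIdeal R A n ≤ (torsionIdeal R C n).comap (π : A →ₐ[R] C) :=
      Ideal.map_le_iff_le_comap.mp (map_torsionIdeal_le π n)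
    let g : (A ⧸ torsionIdeal R A n) →ₐ[R] (C ⧸ torsionIdeal R C n) :=
      Ideal.quotientMapₐ (torsionIdeal R C n) (π : A →ₐ[R] C) hle
    have : Module.Finite R (C ⧸ torsionIdeal R C n) :=
      Module.Finite.of_surjective g.toLinearMap (Ideal.quotientMap_surjective (H := hle) hπ)
    exact ker_counit_le_of_finite _ (torsionIdeal_le_ker_counit n) h
  -- step C
  have hfield : ∀ (L : Type u) [Field L] [Algebra R L],
      RingHom.ker (Bialgebra.counitAlgHom L (L ⊗[R] C)) = ⊥ := by
    intro L _ _
    obtain ⟨s, hs, hloc⟩ := hH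
    obtain ⟨f, hf, hfu⟩ := exists_isUnit_of_span_eq_top s hs
    have h1 : IsMultTypeConst L (L ⊗[R] A) :=
      isMultTypeConst_of_isUnit f (hloc f hf) L (hfu.map _)
    exact ker_counit_eq_bot_of_field h1 inferInstance (bcHom R L π) (bcHom_surjective R L π hπ)
      (ker_counit_le_torsionIdeal_baseChange L hB)
  -- step D
  have hle : RingHom.ker (Bialgebra.counitAlgHom R C) ≤
      Ideal.map (algebraMap R C) (IsLocalRing.maximalIdeal R) •
        RingHom.ker (Bialgebra.counitAlgHom R C) := by
    intro c hc
    have h1 := ker_counit_le_smul _ h (show c ∈ (RingHom.ker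
      (Bialgebra.counitAlgHom R C)).restrictScalars R from hc)
    have h2 : IsLocalRing.maximalIdeal R •
        (RingHom.ker (Bialgebra.counitAlgHom R C)).restrictScalars R ≤
        (Ideal.map (algebraMap R C) (IsLocalRing.maximalIdeal R) •
          RingHom.ker (Bialgebra.counitAlgHom R C)).restrictScalars R := by
      rw [Submodule.smul_le]
      intro r hr n hn
      show r • n ∈ Ideal.map (algebraMap R C) (IsLocalRing.maximalIdeal R) •
          RingHom.ker (Bialgebra.counitAlgHom R C)
      have hrn : r • n = algebraMap R C r • n := by rw [Algebra.smul_def, smul_eq_mul]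
      rw [hrn]
      exact Submodule.smul_mem_smul (Ideal.mem_map_of_mem (algebraMap R C) hr) hn
    exact h2 h1
  obtain ⟨c, hc1, hc0⟩ := Submodule.exists_sub_one_mem_and_smul_eq_zero_of_fg_of_le_smul
    _ _ hfg hle
  -- step E
  have hεc : IsUnit (Coalgebra.counit (R := R) c) := by
    have h1 : Ideal.map (algebraMap R C) (IsLocalRing.maximalIdeal R) ≤
        (IsLocalRing.maximalIdeal R).comap (Bialgebra.counitAlgHom R C) := by
      rw [Ideal.map_le_iff_le_comap]
      intro r hr
      rw [Ideal.mem_comap, Ideal.mem_comap, AlgHom.commutes]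
      exact hr
    have h2 := h1 hc1
    rw [Ideal.mem_comap, map_sub, map_one] at h2
    by_contra hnu
    have h3 : Coalgebra.counit (R := R) c ∈ IsLocalRing.maximalIdeal R :=
      (IsLocalRing.mem_maximalIdeal _).mpr hnu
    have h4 : (1 : R) ∈ IsLocalRing.maximalIdeal R := by
      have := sub_mem h3 h2
      simp at this
    exact (IsLocalRing.maximalIdeal.isMaximal R).ne_top ((Ideal.eq_top_iff_one _).mpr h4)
  have hcu : IsUnit c := by
    by_contra hnu
    obtain ⟨q, hq, hcq⟩ := exists_max_ideal_of_mem_nonunits (show c ∈ nonunits C from hnu)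
    let _ : Field (C ⧸ q) := Ideal.Quotient.field q
    have h0 := hfield (C ⧸ q)
    let m : (C ⧸ q) ⊗[R] C →ₐ[R] C ⧸ q :=
      Algebra.TensorProduct.productMap (AlgHom.id R (C ⧸ q)) (Ideal.Quotient.mkₐ R q)
    have hIq : RingHom.ker (Bialgebra.counitAlgHom R C) ≤ q := by
      intro x hx
      have h1 : (1 : C ⧸ q) ⊗ₜ[R] x ∈
          RingHom.ker (Bialgebra.counitAlgHom (C ⧸ q) ((C ⧸ q) ⊗[R] C)) := by
        rw [ker_counit_baseChange]
        exact Ideal.mem_map_of_mem _ hx
      rw [h0, Ideal.mem_bot] at h1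
      have h2 : m ((1 : C ⧸ q) ⊗ₜ[R] x) = Ideal.Quotient.mk q x := by
        show Algebra.TensorProduct.productMap (AlgHom.id R (C ⧸ q)) (Ideal.Quotient.mkₐ R q)
          ((1 : C ⧸ q) ⊗ₜ[R] x) = _
        rw [Algebra.TensorProduct.productMap_apply_tmul]
        simp
      rw [h1, map_zero] at h2
      exact Ideal.Quotient.eq_zero_iff_mem.mp h2.symm
    have h3 : algebraMap R C (Coalgebra.counit (R := R) c) ∈ q := by
      have h4 := hIq (augProj_mem (R := R) c)
      rw [augProj_apply] at h4
      have := sub_mem hcq h4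
      simpa using this
    exact hq.ne_top (Ideal.eq_top_of_isUnit_mem _ h3 (hεc.map _))
  rw [eq_bot_iff]
  intro x hx
  rw [Ideal.mem_bot]
  have h1 := hc0 x hx
  rw [smul_eq_mul] at h1
  exact (hcu.mul_right_eq_zero).mp h1


end Main2

end Groth.Agent.Lib.Helper77.HopfTriv1
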