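import Mathlib
import Groth.Prelude.Def_SGA3b
import Groth.Agent.Lib.Helper77.HopfTriv2
import Groth.Agent.Lib.Helper77.MultKer2
import Groth.Agent.Lib.Helper77.GLLift

set_option autoImplicit false
universe u
open TensorProduct

namespace Groth.Agent.Lib.Helper77.KerMT

open SGA3b Groth.Agent.Lib.Helper77.DiagSub Groth.Agent.Lib.Helper77.MultRigid
  Groth.Agent.Lib.Helper77.MultTors Groth.Agent.Lib.Helper77.MultMono
  Groth.Agent.Lib.Helper77.MultBC Groth.Agent.Lib.Helper77.MultKer
  Groth.Agent.Lib.Helper77.HopfTriv1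

section CProj

variable {K : Type u} [CommRing K] {X Y : Type u} [CommRing X] [HopfAlgebra K X]
  [CommRing Y] [HopfAlgebra K Y]

/-- `x ↦ ∑ f(x₂) x₁` -/
noncomputable def cproj (f : X →ₗ[K] K) : X →ₗ[K] X :=
  (TensorProduct.rid K X).toLinearMap ∘ₗ LinearMap.lTensor X f ∘ₗ Coalgebra.comul

lemma cproj_map (θ : X →ₐc[K] Y) (g : Y →ₗ[K] K) (x : X) :
    cproj g (θ x) = θ (cproj (g ∘ₗ ((θ : X →ₐ[K] Y) : X →ₗ[K] Y)) x) := by
  unfold cproj
  simp only [LinearMap.comp_apply, LinearEquiv.coe_coe]
  rw [← CoalgHomClass.map_comp_comul_apply θ x]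
  generalize Coalgebra.comul (R := K) x = t
  induction t using TensorProduct.induction_on with
  | zero => simp
  | tmul a b =>
    simp only [TensorProduct.map_tmul, LinearMap.lTensor_tmul, TensorProduct.rid_tmul,
      LinearMap.comp_apply]
    rw [map_smul]
    rfl
  | add a b ha hb => simp only [map_add, ha, hb]

end CProj

section MT

variable {R : Type u} [CommRing R] {A : Type u} [CommRing A] [HopfAlgebra R A]

theorem isMultType_of_isMultTypeConst (h : IsMultTypeConst R A) : IsMultType R A := by
  apply isMultType_of_forall_prime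
  intro p hp
  refine ⟨1, fun h1 => hp.ne_top ((Ideal.eq_top_iff_one p).mpr h1), ?_⟩
  exact isMultTypeConst_baseChange _ h

theorem isMultType_monoidAlgebra (M : Type u) [CommGroup M] :
    IsMultType R (MonoidAlgebra R M) :=
  isMultType_of_isMultTypeConst
    (isMultTypeConst_of_isDiag ⟨M, inferInstance, ⟨BialgEquiv.refl R _⟩⟩)

end MT

section Theta

variable {R : Type u} [CommRing R] {B : Type u} [CommRing B] [HopfAlgebra R B]
  {M : Type u} [CommGroup M]

lemma theta_eq_thetaBar_comp (θ : MonoidAlgebra R M →ₐc[R] B) (x : MonoidAlgebra R M) :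
    θ x = thetaBar θ (MonoidAlgebra.mapDomainBialgHom R (QuotientGroup.mk' (glHom θ).ker) x) := by
  induction x using MonoidAlgebra.induction_linear with
  | zero => simp
  | add x y hx hy => rw [map_add, map_add, map_add, hx, hy]
  | single m r =>
    rw [MonoidAlgebra.mapDomainBialgHom_single, thetaBar_apply, thetaBarAlg_single]
    have h1 : (MonoidAlgebra.single m r : MonoidAlgebra R M) = r • MonoidAlgebra.single m 1 := by
      rw [MonoidAlgebra.smul_single, smul_eq_mul, mul_one]
    rw [h1, map_smul]
    rfl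

/-- over a field the kernel of a bialgebra map from a group algebra is the kernel of the quotient
map. -/
lemma mapDomain_eq_zero_of_field {L : Type u} [Field L] {B : Type u} [CommRing B] [HopfAlgebra L B]
    (θ : MonoidAlgebra L M →ₐc[L] B) (x : MonoidAlgebra L M) (hx : θ x = 0) :
    MonoidAlgebra.mapDomainBialgHom L (QuotientGroup.mk' (glHom θ).ker) x = 0 := by
  apply thetaBar_injective_of_field θ
  rw [← theta_eq_thetaBar_comp, hx, map_zero]

end Theta

section Nat

variable {K : Type u} [CommRing K] (L : Type u) [CommRing L] [Algebra K L]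
  {M Q : Type u} [CommGroup M] [CommGroup Q]

lemma mapDomain_monoidAlgebraBC (p : M →* Q) (x : MonoidAlgebra K M) :
    MonoidAlgebra.mapDomainBialgHom L p (monoidAlgebraBC K L M ((1 : L) ⊗ₜ[K] x)) =
      monoidAlgebraBC K L Q ((1 : L) ⊗ₜ[K] MonoidAlgebra.mapDomainBialgHom K p x) := by
  induction x using MonoidAlgebra.induction_linear with
  | zero => simp
  | add x y hx hy => simp only [TensorProduct.tmul_add, map_add, hx, hy]
  | single m r =>
    rw [monoidAlgebraBC_tmul_single, MonoidAlgebra.mapDomainBialgHom_single,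
      MonoidAlgebra.mapDomainBialgHom_single, monoidAlgebraBC_tmul_single]

end Nat

end Groth.Agent.Lib.Helper77.KerMT
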