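import Mathlib
import Groth.Agent.Lib.Helper77.FFDescent8
import Groth.Agent.Lib.Helper3.EtaleQuotLift

/-!
# Lifting quasi-isotrivial groups of constant type along a nil ideal
-/

set_option autoImplicit false
set_option linter.style.haveILetI false
universe u
open TensorProduct Polynomial

namespace Groth.Agent.Lib.Helper77.QILift

section Hens

variable {X : Type u} [CommRing X]

lemma isUnit_of_isUnit_mk_of_nil (J : Ideal X) (hJ : ∀ x ∈ J, IsNilpotent x) {x : X}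
    (hx : IsUnit (Ideal.Quotient.mk J x)) : IsUnit x := by
  obtain ⟨y', hy'⟩ := hx.exists_right_inv
  obtain ⟨y, rfl⟩ := Ideal.Quotient.mk_surjective y'
  have h1 : x * y - 1 ∈ J := by
    rw [← Ideal.Quotient.eq_zero_iff_mem, map_sub, map_mul, hy', map_one, sub_self]
  have h2 : IsUnit (x * y) := by
    have := (hJ _ h1).isUnit_add_one
    rwa [sub_add_cancel] at this
  exact isUnit_of_mul_isUnit_left h2

lemma nil_le_jacobson (J : Ideal X) (hJ : ∀ x ∈ J, IsNilpotent x) : J ≤ Ideal.jacobson ⊥ := by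
  intro x hx
  have h1 : x ∈ Ideal.radical (⊥ : Ideal X) := by
    obtain ⟨n, hn⟩ := hJ x hx
    exact ⟨n, by rw [hn]; exact Ideal.zero_mem _⟩
  exact Ideal.radical_le_jacobson h1

/-- a nil ideal is Henselian. -/
theorem henselianRing_of_nil (J : Ideal X) (hJ : ∀ x ∈ J, IsNilpotent x) : HenselianRing X J := by
  refine ⟨nil_le_jacobson J hJ, ?_⟩
  intro f _ a₀ hf hu
  have hu' : IsUnit (f.derivative.eval a₀) := isUnit_of_isUnit_mk_of_nil J hJ hu
  have h1 : IsNilpotent (aeval a₀ f) := by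
    rw [Polynomial.coe_aeval_eq_eval]; exact hJ _ hf
  have h2 : IsUnit (aeval a₀ (derivative f)) := by
    rw [Polynomial.coe_aeval_eq_eval]; exact hu'
  obtain ⟨r, ⟨hr1, hr2⟩, -⟩ := Polynomial.existsUnique_nilpotent_sub_and_aeval_eq_zero h1 h2
  refine ⟨r, ?_, ?_⟩
  · rw [Polynomial.IsRoot.def, ← Polynomial.coe_aeval_eq_eval]; exact hr2
  · -- uniqueness in the quotient
    let Q := X ⧸ J
    have h1' : IsNilpotent (aeval (Ideal.Quotient.mk J a₀ : Q) f) := by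
      have : aeval (Ideal.Quotient.mk J a₀ : Q) f = Ideal.Quotient.mk J (aeval a₀ f) := by
        rw [← Ideal.Quotient.algebraMap_eq, Polynomial.aeval_algebraMap_apply]
      rw [this]
      exact h1.map _
    have h2' : IsUnit (aeval (Ideal.Quotient.mk J a₀ : Q) (derivative f)) := by
      have : aeval (Ideal.Quotient.mk J a₀ : Q) (derivative f) =
          Ideal.Quotient.mk J (aeval a₀ (derivative f)) := by
        rw [← Ideal.Quotient.algebraMap_eq, Polynomial.aeval_algebraMap_apply]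
      rw [this]
      exact h2.map _
    obtain ⟨r', -, huniq⟩ := Polynomial.existsUnique_nilpotent_sub_and_aeval_eq_zero h1' h2'
    have e1 : (Ideal.Quotient.mk J a₀ : Q) = r' := by
      apply huniq
      refine ⟨by rw [sub_self]; exact IsNilpotent.zero, ?_⟩
      have : aeval (Ideal.Quotient.mk J a₀ : Q) f = Ideal.Quotient.mk J (aeval a₀ f) := by
        rw [← Ideal.Quotient.algebraMap_eq, Polynomial.aeval_algebraMap_apply]
      rw [this, Polynomial.coe_aeval_eq_eval, Ideal.Quotient.eq_zero_iff_mem]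
      exact hf
    have e2 : (Ideal.Quotient.mk J r : Q) = r' := by
      apply huniq
      refine ⟨?_, ?_⟩
      · rw [← map_sub]; exact hr1.map _
      · have : aeval (Ideal.Quotient.mk J r : Q) f = Ideal.Quotient.mk J (aeval r f) := by
          rw [← Ideal.Quotient.algebraMap_eq, Polynomial.aeval_algebraMap_apply]
        rw [this, hr2, map_zero]
    rw [← Ideal.Quotient.eq_zero_iff_mem, map_sub, e1, e2, sub_self]

end Hens

section ES

variable {R : Type u} [CommRing R] (I : Ideal R) {S : Type u} [CommRing S] [Algebra R S]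
  {S₀ : Type u} [CommRing S₀] [Algebra (R ⧸ I) S₀] [Algebra R S₀] [IsScalarTower R (R ⧸ I) S₀]

/-- the identification of the reduction attached to a surjection with the expected kernel. -/
noncomputable def eSOf (ψ : S →ₐ[R] S₀) (hψ : Function.Surjective ψ)
    (hker : RingHom.ker ψ = I.map (algebraMap R S)) : (R ⧸ I) ⊗[R] S ≃ₐ[R ⧸ I] S₀ :=
  AlgEquiv.ofBijective
    (Algebra.TensorProduct.lift (Algebra.ofId (R ⧸ I) S₀) ψ (fun _ _ => Commute.all _ _)) (by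
      constructor
      · rw [injective_iff_map_eq_zero]
        intro z hz
        obtain ⟨s, rfl⟩ := Groth.Agent.Lib.Helper77.DiagNil.exists_one_tmul_eq I z
        rw [Algebra.TensorProduct.lift_tmul, map_one, one_mul] at hz
        rw [Groth.Agent.Lib.Helper77.GLLift.one_tmul_eq_zero_iff]
        have : s ∈ RingHom.ker ψ := hz
        rw [hker] at this
        exact this
      · intro y
        obtain ⟨s, rfl⟩ := hψ y
        exact ⟨(1 : R ⧸ I) ⊗ₜ[R] s, by rw [Algebra.TensorProduct.lift_tmul, map_one, one_mul]⟩)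

lemma eSOf_one_tmul (ψ : S →ₐ[R] S₀) (hψ : Function.Surjective ψ)
    (hker : RingHom.ker ψ = I.map (algebraMap R S)) (s : S) :
    eSOf I ψ hψ hker ((1 : R ⧸ I) ⊗ₜ[R] s) = ψ s := by
  rw [eSOf, AlgEquiv.coe_ofBijective, Algebra.TensorProduct.lift_tmul, map_one, one_mul]

end ES

section Assembly

open SGA3b Groth.Agent.Lib.Helper77.HopfLift1 Groth.Agent.Lib.Helper77.CompDiag
  Groth.Agent.Lib.Helper77.FFDescent

lemma nil_ker_redHom {R : Type u} [CommRing R] (I : Ideal R) (hI : ∀ x ∈ I, IsNilpotent x)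
    {X : Type u} [CommRing X] [Algebra R X] {X₀ : Type u} [CommRing X₀] [Algebra (R ⧸ I) X₀]
    (e : (R ⧸ I) ⊗[R] X ≃ₐ[R ⧸ I] X₀) : ∀ x ∈ RingHom.ker (redHom I e), IsNilpotent x := by
  rw [ker_redHom]
  exact Groth.Agent.Lib.Helper77.GLLift.nil_map R X hI

/-- **Quasi-isotrivial groups of constant type lift along a nil ideal.** -/
theorem exists_const_lift_nil (R : Type u) [CommRing R] (I : Ideal R)
    (hI : ∀ x ∈ I, IsNilpotent x) (A₀ : Type u) [CommRing A₀] [HopfAlgebra (R ⧸ I) A₀]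
    (h0 : IsQuasiIsotrivialConst (R ⧸ I) A₀) :
    ∃ (A : Type u) (_ : CommRing A) (_ : HopfAlgebra R A), IsQuasiIsotrivialConst R A ∧
      Nonempty (((R ⧸ I) ⊗[R] A) ≃ₐc[R ⧸ I] A₀) := by
  obtain ⟨S₀, _, _, het₀, hff₀, M, _, ⟨e₀⟩⟩ := h0
  haveI := het₀
  haveI := hff₀
  obtain ⟨S, _, _, het, ψ, hψsurj, hψker, hψalg⟩ :=
    Groth.Agent.Lib.Helper3.exists_etale_lift_of_quotient I S₀
  haveI := het
  letI : Algebra R S₀ := ((algebraMap (R ⧸ I) S₀).comp (Ideal.Quotient.mk I)).toAlgebra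
  haveI : IsScalarTower R (R ⧸ I) S₀ := IsScalarTower.of_algebraMap_eq (fun _ => rfl)
  let ψa : S →ₐ[R] S₀ := { ψ with commutes' := fun r => hψalg r }
  let eS : (R ⧸ I) ⊗[R] S ≃ₐ[R ⧸ I] S₀ := eSOf I ψa hψsurj hψker
  -- reductions
  let π : S →+* S₀ := redHom I eS
  have hπψ : ∀ s, π s = ψ s := fun s => eSOf_one_tmul I ψa hψsurj hψker s
  let eT : (R ⧸ I) ⊗[R] (S ⊗[R] S) ≃ₐ[R ⧸ I] S₀ ⊗[R ⧸ I] S₀ := red₂ R (R ⧸ I) eS eS
  let q : S ⊗[R] S →+* S₀ ⊗[R ⧸ I] S₀ := redHom I eT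
  let eT₃ : (R ⧸ I) ⊗[R] (S ⊗[R] (S ⊗[R] S)) ≃ₐ[R ⧸ I] S₀ ⊗[R ⧸ I] (S₀ ⊗[R ⧸ I] S₀) :=
    red₂ R (R ⧸ I) eS eT
  let q₃ : S ⊗[R] (S ⊗[R] S) →+* S₀ ⊗[R ⧸ I] (S₀ ⊗[R ⧸ I] S₀) := redHom I eT₃
  have hq : ∀ a b, q (a ⊗ₜ[R] b) = π a ⊗ₜ[R ⧸ I] π b := by
    intro a b
    simp only [q, π, redHom_apply, eT, red₂_tmul]
  have hq₃ : ∀ a t, q₃ (a ⊗ₜ[R] t) = π a ⊗ₜ[R ⧸ I] q t := by
    intro a t
    simp only [q₃, q, π, redHom_apply, eT₃, red₂_tmul]
  haveI hHens : HenselianRing (S ⊗[R] S) (RingHom.ker q) :=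
    henselianRing_of_nil _ (nil_ker_redHom I hI eT)
  have hπJ : RingHom.ker π ≤ Ideal.jacobson ⊥ := nil_le_jacobson _ (nil_ker_redHom I hI eS)
  have hq₃J : RingHom.ker q₃ ≤ Ideal.jacobson ⊥ := nil_le_jacobson _ (nil_ker_redHom I hI eT₃)
  -- the datum on the special fibre
  let ρ₀ : MonoidAlgebra S₀ M →ₐ[S₀] S₀ ⊗[R ⧸ I] MonoidAlgebra S₀ M :=
    transport e₀ (canRhoAlg (R ⧸ I) S₀ A₀)
  have hρ₀ : IsHopfDescentDatum ρ₀ :=
    isHopfDescentDatum_transport e₀ (isHopfDescentDatum_canRhoAlg (R ⧸ I) S₀ A₀)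
  let γ₀ : M →* MonoidAlgebra (S₀ ⊗[R ⧸ I] S₀) M :=
    ((((cc (R ⧸ I) S₀ M : S₀ ⊗[R ⧸ I] MonoidAlgebra S₀ M →ₐ[S₀] MonoidAlgebra (S₀ ⊗[R ⧸ I] S₀) M).comp ρ₀ :
      MonoidAlgebra S₀ M →ₐ[S₀] MonoidAlgebra (S₀ ⊗[R ⧸ I] S₀) M) :
      MonoidAlgebra S₀ M →* MonoidAlgebra (S₀ ⊗[R ⧸ I] S₀) M)).comp (MonoidAlgebra.of S₀ M)
  have hγ₀def : ∀ m, γ₀ m = cc (R ⧸ I) S₀ M (ρ₀ (MonoidAlgebra.single m 1)) := fun m => rfl
  have hγ₀ : ∀ m, IsGroupLikeElem (S₀ ⊗[R ⧸ I] S₀) (γ₀ m) := fun m =>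
    isGroupLikeElem_cc_of_compat ρ₀ hρ₀.comul hρ₀.counit m
  have hρ₀eq : ρ₀ = rhoγ γ₀ := by
    refine MonoidAlgebra.algHom_ext ?_ (Subsingleton.elim _ _)
    intro m
    rw [rhoγ_single_one, hγ₀def, AlgEquiv.symm_apply_apply]
  have hdd₀ : IsDescentDatum (rhoγ γ₀).toLinearMap := hρ₀eq ▸ hρ₀.dd
  obtain ⟨γ, hγ, hγγ₀, hdd⟩ := exists_lift_descentDatum π q q₃ hq hq₃ (redHom_surjective I eT)
    hπJ hq₃J γ₀ hγ₀ hdd₀
  have hρ : IsHopfDescentDatum (rhoγ γ) := isHopfDescentDatum_rhoγ γ hγ hdd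
  -- faithful flatness of the lift
  haveI hflat : Module.Flat R S := inferInstance
  haveI hffS : Module.FaithfullyFlat R S :=
    faithfullyFlat_of_lift_jacobson (Ideal.Quotient.mk I) S S₀ Ideal.Quotient.mk_surjective
      (by rw [Ideal.mk_ker]; exact nil_le_jacobson I hI) π
      (fun x => redHom_algebraMap I eS x)
  obtain ⟨Δ, hΔ⟩ := exists_comul hρ
  obtain ⟨ε, hε⟩ := exists_counit hρ
  obtain ⟨σ, hσ⟩ := exists_antipode hρ
  letI : HopfAlgebra R (invA (rhoγ γ)) := hopfAlgebraOfDescent (eA hρ.dd) Δ hΔ ε hε σ hσ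
  let eK : S ⊗[R] invA (rhoγ γ) ≃ₐc[S] MonoidAlgebra S M :=
    bialgEquivOfDescent (eA hρ.dd) Δ hΔ ε hε σ hσ
  have heK : ∀ k : invA (rhoγ γ), eK ((1 : S) ⊗ₜ[R] k) = (k : MonoidAlgebra S M) := by
    intro k
    show eA hρ.dd ((1 : S) ⊗ₜ[R] k) = _
    rw [eA_tmul, one_smul]
  refine ⟨invA (rhoγ γ), inferInstance, inferInstance,
    ⟨S, inferInstance, inferInstance, het, hffS, M, inferInstance, ⟨eK⟩⟩, ?_⟩
  letI : Algebra S S₀ := π.toAlgebra
  haveI : IsScalarTower R S S₀ :=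
    IsScalarTower.of_algebraMap_eq (fun x => (redHom_algebraMap I eS x).symm)
  apply nonempty_bialgEquiv_reduction I eK e₀
  intro k
  rw [heK]
  have hk : MonoidAlgebra.mapRingHom M π (k : MonoidAlgebra S M) ∈ invA (rhoγ γ₀) :=
    mapRingHom_mem_invA π q hq γ γ₀ hγγ₀ k.2
  rw [← hρ₀eq] at hk
  have hk' : e₀.symm (MonoidAlgebra.mapRingHom M π (k : MonoidAlgebra S M)) ∈
      invA (canRhoAlg (R ⧸ I) S₀ A₀) := by
    rw [← mem_invA_transport e₀, e₀.apply_symm_apply]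
    exact hk
  have hk'' : e₀.symm (MonoidAlgebra.mapRingHom M π (k : MonoidAlgebra S M)) ∈
      inv (canRho (R ⧸ I) S₀ A₀) := by
    rw [mem_inv, ← canRhoAlg_apply]
    exact mem_invA.mp hk'
  obtain ⟨b, hb⟩ := exists_one_tmul_of_mem_inv_canRho (R ⧸ I) S₀ A₀ hk''
  refine ⟨b, ?_⟩
  rw [hb, e₀.apply_symm_apply]
  rfl

end Assembly

end Groth.Agent.Lib.Helper77.QILift
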