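import Mathlib
import Groth.Agent.Lib.Helper77.MultBC

/-!
# Restriction of a bialgebra along a split surjection of rings, and finite products of Hopf algebras
over a decomposed ring
-/

set_option autoImplicit false
set_option linter.style.haveILetI false
universe u
open TensorProduct
open scoped Coalgebra

namespace Groth.Agent.Lib.Helper77.QILift

section Restrict

variable {P : Type u} [CommRing P] {T : Type u} [CommRing T] [Algebra P T]
  (sec : T →ₗ[P] P) (hsec : ∀ t, algebraMap P T (sec t) = t)

include hsec in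
lemma compatibleSMul_of_sec (M N : Type u) [AddCommGroup M] [Module P M] [Module T M]
    [IsScalarTower P T M] [AddCommGroup N] [Module P N] [Module T N] [IsScalarTower P T N] :
    TensorProduct.CompatibleSMul P T M N := by
  refine ⟨fun t m n => ?_⟩
  rw [← hsec t, algebraMap_smul, algebraMap_smul, TensorProduct.smul_tmul]

include hsec in
lemma sec_smul {M : Type u} [AddCommGroup M] [Module P M] [Module T M] [IsScalarTower P T M]
    (t : T) (m : M) : sec t • m = t • m := by
  conv_rhs => rw [← hsec t]
  rw [algebraMap_smul]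

variable (B : Type u) [CommRing B] [Algebra P B] [HopfAlgebra T B] [IsScalarTower P T B]

/-- the comultiplication over the smaller ring. -/
noncomputable def comulP : B →ₗ[P] B ⊗[P] B :=
  haveI := compatibleSMul_of_sec sec hsec B B
  (TensorProduct.mapOfCompatibleSMul P T P B B) ∘ₗ
    ((Coalgebra.comul (R := T) (A := B)).restrictScalars P)

/-- the counit over the smaller ring. -/
noncomputable def counitP : B →ₗ[P] P :=
  sec ∘ₗ ((Coalgebra.counit (R := T) (A := B)).restrictScalars P)

lemma counitP_apply (b : B) : counitP sec B b = sec (Coalgebra.counit (R := T) b) := rfl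

lemma comulP_eq_sum {ι : Type*} {b : B} (𝓡 : Coalgebra.Repr T b ι) :
    comulP sec hsec B b = ∑ k ∈ 𝓡.index, 𝓡.left k ⊗ₜ[P] 𝓡.right k := by
  haveI := compatibleSMul_of_sec sec hsec B B
  show TensorProduct.mapOfCompatibleSMul P T P B B (Coalgebra.comul (R := T) b) = _
  rw [← 𝓡.eq, map_sum]
  rfl

open Coalgebra in
lemma sum_counit_smul_left {ι : Type*} {b : B} (𝓡 : Coalgebra.Repr T b ι) :
    ∑ k ∈ 𝓡.index, Coalgebra.counit (R := T) (𝓡.right k) • 𝓡.left k = b := by
  have h := Coalgebra.sum_tmul_counit_eq 𝓡
  have h2 := congrArg (TensorProduct.rid T B) h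
  simpa only [map_sum, TensorProduct.rid_tmul, one_smul] using h2

/-- the triple comparison map. -/
noncomputable def map₃ : B ⊗[T] (B ⊗[T] B) →ₗ[P] B ⊗[P] (B ⊗[P] B) :=
  haveI := compatibleSMul_of_sec sec hsec B B
  haveI := compatibleSMul_of_sec sec hsec B (B ⊗[P] B)
  (TensorProduct.mapOfCompatibleSMul P T P B (B ⊗[P] B)) ∘ₗ
    ((LinearMap.lTensor B (TensorProduct.mapOfCompatibleSMul P T T B B)).restrictScalars P)

lemma map₃_tmul (x y z : B) :
    map₃ sec hsec B (x ⊗ₜ[T] (y ⊗ₜ[T] z)) = x ⊗ₜ[P] (y ⊗ₜ[P] z) := rfl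

/-- the coalgebra structure over the smaller ring. -/
@[reducible] noncomputable def restrictCoalgebra : Coalgebra P B where
  comul := comulP sec hsec B
  counit := counitP sec B
  coassoc := by
    refine LinearMap.ext fun b => ?_
    show TensorProduct.assoc P B B B ((comulP sec hsec B).rTensor B (comulP sec hsec B b)) =
      (comulP sec hsec B).lTensor B (comulP sec hsec B b)
    have h := Coalgebra.sum_tmul_tmul_eq (ℛ T b) (fun k => ℛ T ((ℛ T b).left k))
      (fun k => ℛ T ((ℛ T b).right k))
    have h2 := congrArg (map₃ sec hsec B) h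
    simp only [map_sum, map₃_tmul] at h2
    rw [comulP_eq_sum sec hsec B (ℛ T b)]
    simp only [map_sum, LinearMap.rTensor_tmul, LinearMap.lTensor_tmul]
    have e1 : ∀ k ∈ (ℛ T b).index, (TensorProduct.assoc P B B B)
        (comulP sec hsec B ((ℛ T b).left k) ⊗ₜ[P] (ℛ T b).right k) =
        ∑ j ∈ (ℛ T ((ℛ T b).left k)).index, (ℛ T ((ℛ T b).left k)).left j ⊗ₜ[P]
          ((ℛ T ((ℛ T b).left k)).right j ⊗ₜ[P] (ℛ T b).right k) := by
      intro k _
      rw [comulP_eq_sum sec hsec B (ℛ T ((ℛ T b).left k)), TensorProduct.sum_tmul, map_sum]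
      rfl
    have e2 : ∀ k ∈ (ℛ T b).index,
        (ℛ T b).left k ⊗ₜ[P] comulP sec hsec B ((ℛ T b).right k) =
        ∑ j ∈ (ℛ T ((ℛ T b).right k)).index, (ℛ T b).left k ⊗ₜ[P]
          ((ℛ T ((ℛ T b).right k)).left j ⊗ₜ[P] (ℛ T ((ℛ T b).right k)).right j) := by
      intro k _
      rw [comulP_eq_sum sec hsec B (ℛ T ((ℛ T b).right k)), TensorProduct.tmul_sum]
    rw [Finset.sum_congr rfl e1, Finset.sum_congr rfl e2]
    exact h2
  rTensor_counit_comp_comul := by
    refine LinearMap.ext fun b => ?_
    show (counitP sec B).rTensor B (comulP sec hsec B b) = (1 : P) ⊗ₜ[P] b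
    rw [comulP_eq_sum sec hsec B (ℛ T b)]
    simp only [map_sum, LinearMap.rTensor_tmul, counitP_apply]
    have e1 : ∀ k ∈ (ℛ T b).index,
        sec (Coalgebra.counit (R := T) ((ℛ T b).left k)) ⊗ₜ[P] (ℛ T b).right k =
        (1 : P) ⊗ₜ[P] (Coalgebra.counit (R := T) ((ℛ T b).left k) • (ℛ T b).right k) := by
      intro k _
      rw [← sec_smul sec hsec, ← TensorProduct.smul_tmul, smul_eq_mul, mul_one]
    rw [Finset.sum_congr rfl e1, ← TensorProduct.tmul_sum, Coalgebra.sum_counit_smul]
  lTensor_counit_comp_comul := by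
    refine LinearMap.ext fun b => ?_
    show (counitP sec B).lTensor B (comulP sec hsec B b) = b ⊗ₜ[P] (1 : P)
    rw [comulP_eq_sum sec hsec B (ℛ T b)]
    simp only [map_sum, LinearMap.lTensor_tmul, counitP_apply]
    have e1 : ∀ k ∈ (ℛ T b).index,
        (ℛ T b).left k ⊗ₜ[P] sec (Coalgebra.counit (R := T) ((ℛ T b).right k)) =
        (Coalgebra.counit (R := T) ((ℛ T b).right k) • (ℛ T b).left k) ⊗ₜ[P] (1 : P) := by
      intro k _
      rw [← sec_smul sec hsec, TensorProduct.smul_tmul, smul_eq_mul, mul_one]
    rw [Finset.sum_congr rfl e1, ← TensorProduct.sum_tmul, sum_counit_smul_left]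

end Restrict

section Sec

variable {P : Type u} [CommRing P] {ι : Type u} [Fintype ι] [DecidableEq ι]
  (T : ι → Type u) [∀ i, CommRing (T i)] [∀ i, Algebra P (T i)]
  (hbij : Function.Bijective (algebraMap P (Π i, T i)))

/-- the decomposition of the ring as a ring isomorphism. -/
noncomputable def eR : P ≃+* Π i, T i := RingEquiv.ofBijective (algebraMap P (Π i, T i)) hbij

lemma eR_apply (p : P) (j : ι) : eR T hbij p j = algebraMap P (T j) p := rfl

/-- the section of `P → T i` with image the `i`-th factor. -/
noncomputable def secI (i : ι) : T i →ₗ[P] P where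
  toFun t := (eR T hbij).symm (Pi.single i t)
  map_add' a b := by rw [Pi.single_add, map_add]
  map_smul' p t := by
    have h1 : (Pi.single i (p • t) : Π i, T i) = eR T hbij p * Pi.single i t := by
      funext j
      by_cases hj : j = i
      · subst hj
        simp [eR_apply, Algebra.smul_def]
      · simp [Pi.single_eq_of_ne hj]
    rw [h1, map_mul, RingEquiv.symm_apply_apply, RingHom.id_apply, smul_eq_mul]

lemma eR_secI (i : ι) (t : T i) : eR T hbij (secI T hbij i t) = Pi.single i t :=
  (eR T hbij).apply_symm_apply _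

lemma algebraMap_secI (i j : ι) (t : T i) :
    algebraMap P (T j) (secI T hbij i t) = (Pi.single i t : Π i, T i) j := by
  rw [← eR_apply T hbij, eR_secI]

lemma algebraMap_secI_self (i : ι) (t : T i) : algebraMap P (T i) (secI T hbij i t) = t := by
  rw [algebraMap_secI, Pi.single_eq_same]

lemma algebraMap_secI_ne {i j : ι} (h : j ≠ i) (t : T i) :
    algebraMap P (T j) (secI T hbij i t) = 0 := by
  rw [algebraMap_secI, Pi.single_eq_of_ne h]

lemma secI_mul (i : ι) (t t' : T i) :
    secI T hbij i (t * t') = secI T hbij i t * secI T hbij i t' := by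
  show (eR T hbij).symm _ = (eR T hbij).symm _ * (eR T hbij).symm _
  rw [← map_mul, Pi.single_mul]

lemma sum_secI_one : ∑ i, secI T hbij i 1 = 1 := by
  apply (eR T hbij).injective
  rw [map_sum, map_one]
  simp_rw [eR_secI]
  exact Finset.univ_sum_single (1 : Π i, T i)

lemma secI_mul_secI_of_ne {i j : ι} (h : i ≠ j) (t : T i) (t' : T j) :
    secI T hbij i t * secI T hbij j t' = 0 := by
  apply (eR T hbij).injective
  rw [map_mul, eR_secI, eR_secI, map_zero]
  funext k
  by_cases hk : k = i
  · subst hk
    simp [Pi.single_eq_of_ne h]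
  · simp [Pi.single_eq_of_ne hk]

end Sec

section PiHopf

variable {P : Type u} [CommRing P] {ι : Type u} [Fintype ι] [DecidableEq ι]
  (T : ι → Type u) [∀ i, CommRing (T i)] [∀ i, Algebra P (T i)]
  (hbij : Function.Bijective (algebraMap P (Π i, T i)))
  (B : ι → Type u) [∀ i, CommRing (B i)] [∀ i, Algebra P (B i)] [∀ i, HopfAlgebra (T i) (B i)]
  [∀ i, IsScalarTower P (T i) (B i)]

/-- the coalgebra structure of a factor over the decomposed ring. -/
@[reducible] noncomputable def coalgB (i : ι) : Coalgebra P (B i) :=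
  restrictCoalgebra (secI T hbij i) (algebraMap_secI_self T hbij i) (B i)

/-- the `i`-th comultiplication over `P`. -/
noncomputable abbrev cmP (i : ι) : B i →ₗ[P] B i ⊗[P] B i :=
  comulP (secI T hbij i) (algebraMap_secI_self T hbij i) (B i)

/-- the inclusion of the `i`-th tensor square. -/
noncomputable abbrev mI (i : ι) : B i ⊗[P] B i →ₗ[P] (Π i, B i) ⊗[P] (Π i, B i) :=
  TensorProduct.map (LinearMap.single P B i) (LinearMap.single P B i)

lemma cmP_mul (i : ι) (a b : B i) : cmP T hbij B i (a * b) = cmP T hbij B i a * cmP T hbij B i b := by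
  haveI := compatibleSMul_of_sec (secI T hbij i) (algebraMap_secI_self T hbij i) (B i) (B i)
  show (Algebra.TensorProduct.equivOfCompatibleSMul P (T i) P (B i) (B i))
      (Coalgebra.comul (R := T i) (a * b)) =
    (Algebra.TensorProduct.equivOfCompatibleSMul P (T i) P (B i) (B i))
      (Coalgebra.comul (R := T i) a) *
    (Algebra.TensorProduct.equivOfCompatibleSMul P (T i) P (B i) (B i))
      (Coalgebra.comul (R := T i) b)
  rw [Bialgebra.comul_mul, map_mul]

lemma cmP_one (i : ι) : cmP T hbij B i 1 = 1 := by
  haveI := compatibleSMul_of_sec (secI T hbij i) (algebraMap_secI_self T hbij i) (B i) (B i)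
  show (Algebra.TensorProduct.equivOfCompatibleSMul P (T i) P (B i) (B i))
      (Coalgebra.comul (R := T i) (1 : B i)) = 1
  rw [Bialgebra.comul_one, map_one]

omit [Fintype ι] [∀ i, HopfAlgebra (T i) (B i)] in
lemma mI_mul (i : ι) (u v : B i ⊗[P] B i) : mI B i (u * v) = mI B i u * mI B i v := by
  induction u using TensorProduct.induction_on with
  | zero => simp
  | tmul a b =>
    induction v using TensorProduct.induction_on with
    | zero => simp
    | tmul c d =>
      simp only [Algebra.TensorProduct.tmul_mul_tmul, TensorProduct.map_tmul,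
        LinearMap.coe_single, Pi.single_mul]
    | add x y hx hy => rw [mul_add, map_add, hx, hy, map_add, mul_add]
  | add x y hx hy => rw [add_mul, map_add, hx, hy, map_add, add_mul]

omit [Fintype ι] [∀ i, HopfAlgebra (T i) (B i)] in
lemma single_mul_single_of_ne {i j : ι} (h : i ≠ j) (a : B i) (c : B j) :
    (Pi.single i a : Π i, B i) * Pi.single j c = 0 := by
  funext k
  by_cases hk : k = i
  · subst hk
    simp [Pi.single_eq_of_ne h]
  · simp [Pi.single_eq_of_ne hk]

omit [Fintype ι] [∀ i, HopfAlgebra (T i) (B i)] in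
lemma mI_mul_of_ne {i j : ι} (h : i ≠ j) (u : B i ⊗[P] B i) (v : B j ⊗[P] B j) :
    mI B i u * mI B j v = 0 := by
  induction u using TensorProduct.induction_on with
  | zero => simp
  | tmul a b =>
    induction v using TensorProduct.induction_on with
    | zero => simp
    | tmul c d =>
      simp only [Algebra.TensorProduct.tmul_mul_tmul, TensorProduct.map_tmul,
        LinearMap.coe_single, single_mul_single_of_ne B h, TensorProduct.zero_tmul]
    | add x y hx hy => rw [map_add, mul_add, hx, hy, add_zero]
  | add x y hx hy => rw [map_add, add_mul, hx, hy, add_zero]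

lemma pi_comul_apply (x : Π i, B i) :
    letI := coalgB T hbij B
    Coalgebra.comul (R := P) x = ∑ i, mI B i (cmP T hbij B i (x i)) := by
  letI := coalgB T hbij B
  show (LinearMap.lsum P B P fun i => mI B i ∘ₗ cmP T hbij B i) x = _
  rw [LinearMap.lsum_apply, LinearMap.sum_apply]
  rfl

lemma pi_counit_apply (x : Π i, B i) :
    letI := coalgB T hbij B
    Coalgebra.counit (R := P) x = ∑ i, secI T hbij i (Coalgebra.counit (R := T i) (x i)) := by
  letI := coalgB T hbij B
  show (LinearMap.lsum P B P fun i => counitP (secI T hbij i) (B i)) x = _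
  rw [LinearMap.lsum_apply, LinearMap.sum_apply]
  rfl

lemma secI_one_smul_single (i : ι) (a : B i) :
    secI T hbij i 1 • (Pi.single i a : Π i, B i) = Pi.single i a := by
  rw [← Pi.single_smul, ← algebraMap_smul (T i), algebraMap_secI_self, one_smul]

lemma secI_one_smul_single_of_ne {i j : ι} (h : j ≠ i) (c : B j) :
    secI T hbij i 1 • (Pi.single j c : Π i, B i) = 0 := by
  rw [← Pi.single_smul, ← algebraMap_smul (T j), algebraMap_secI_ne T hbij h, zero_smul,
    Pi.single_zero]

include hbij in
lemma single_tmul_single_of_ne {i j : ι} (h : j ≠ i) (a : B i) (c : B j) :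
    (Pi.single i a : Π i, B i) ⊗ₜ[P] (Pi.single j c : Π i, B i) = 0 := by
  rw [← secI_one_smul_single T hbij B i a, TensorProduct.smul_tmul,
    secI_one_smul_single_of_ne T hbij B h, TensorProduct.tmul_zero]

/-- the bialgebra structure on a finite product of bialgebras over the factors of a decomposed
ring. -/
@[reducible] noncomputable def piBialgebra : Bialgebra P (Π i, B i) :=
  letI := coalgB T hbij B
  Bialgebra.mk' P (Π i, B i)
    (by
      rw [pi_counit_apply]
      simp only [Pi.one_apply, Bialgebra.counit_one]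
      exact sum_secI_one T hbij)
    (by
      intro a b
      rw [pi_counit_apply, pi_counit_apply, pi_counit_apply, Finset.sum_mul_sum]
      refine Finset.sum_congr rfl fun i _ => ?_
      rw [Finset.sum_eq_single i]
      · rw [Pi.mul_apply, Bialgebra.counit_mul, secI_mul]
      · intro j _ hj
        exact secI_mul_secI_of_ne T hbij (Ne.symm hj) _ _
      · intro h; exact absurd (Finset.mem_univ i) h)
    (by
      rw [pi_comul_apply]
      simp only [Pi.one_apply, cmP_one]
      have h1 : (1 : (Π i, B i) ⊗[P] (Π i, B i)) =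
          (∑ i, (Pi.single i (1 : B i) : Π i, B i)) ⊗ₜ[P] (∑ j, (Pi.single j (1 : B j) : Π i, B i)) := by
        have h0 : ∑ i, (Pi.single i (1 : B i) : Π i, B i) = 1 :=
          Finset.univ_sum_single (1 : Π i, B i)
        rw [h0]
        rfl
      rw [h1, TensorProduct.sum_tmul]
      refine Finset.sum_congr rfl fun i _ => ?_
      rw [TensorProduct.tmul_sum, Finset.sum_eq_single i]
      · rfl
      · intro j _ hj
        exact single_tmul_single_of_ne T hbij B hj _ _
      · intro h; exact absurd (Finset.mem_univ i) h)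
    (by
      intro a b
      rw [pi_comul_apply, pi_comul_apply, pi_comul_apply, Finset.sum_mul_sum]
      refine Finset.sum_congr rfl fun i _ => ?_
      rw [Finset.sum_eq_single i]
      · rw [Pi.mul_apply, cmP_mul, mI_mul]
      · intro j _ hj
        exact mI_mul_of_ne B (Ne.symm hj) _ _
      · intro h; exact absurd (Finset.mem_univ i) h)

variable (P) in
/-- the componentwise antipode. -/
noncomputable def piAntipode : (Π i, B i) →ₗ[P] (Π i, B i) :=
  LinearMap.pi fun i =>
    ((HopfAlgebra.antipode (T i) (A := B i)).restrictScalars P) ∘ₗ LinearMap.proj i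

lemma piAntipode_apply (x : Π i, B i) (i : ι) :
    piAntipode P T B x i = HopfAlgebra.antipode (T i) (x i) := rfl

lemma piAntipode_single (i : ι) (b : B i) :
    piAntipode P T B (Pi.single i b) = Pi.single i (HopfAlgebra.antipode (T i) b) := by
  funext j
  rw [piAntipode_apply]
  by_cases hj : j = i
  · subst hj
    rw [Pi.single_eq_same, Pi.single_eq_same]
  · rw [Pi.single_eq_of_ne hj, Pi.single_eq_of_ne hj, map_zero]

lemma mul_antipode_rTensor_mI (i : ι) (b : B i) :
    LinearMap.mul' P (Π i, B i) ((piAntipode P T B).rTensor (Π i, B i)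
      (mI B i (cmP T hbij B i b))) =
    Pi.single i (algebraMap (T i) (B i) (Coalgebra.counit (R := T i) b)) := by
  rw [comulP_eq_sum _ _ (B i) (ℛ (T i) b)]
  simp only [map_sum, TensorProduct.map_tmul, LinearMap.rTensor_tmul, LinearMap.mul'_apply,
    LinearMap.coe_single, piAntipode_single, ← Pi.single_mul]
  rw [← HopfAlgebra.sum_antipode_mul_eq_algebraMap_counit (ℛ (T i) b)]
  exact (map_sum (AddMonoidHom.single B i) _ _).symm

lemma mul_antipode_lTensor_mI (i : ι) (b : B i) :
    LinearMap.mul' P (Π i, B i) ((piAntipode P T B).lTensor (Π i, B i)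
      (mI B i (cmP T hbij B i b))) =
    Pi.single i (algebraMap (T i) (B i) (Coalgebra.counit (R := T i) b)) := by
  rw [comulP_eq_sum _ _ (B i) (ℛ (T i) b)]
  simp only [map_sum, TensorProduct.map_tmul, LinearMap.lTensor_tmul, LinearMap.mul'_apply,
    LinearMap.coe_single, piAntipode_single, ← Pi.single_mul]
  rw [← HopfAlgebra.sum_mul_antipode_eq_algebraMap_counit (ℛ (T i) b)]
  exact (map_sum (AddMonoidHom.single B i) _ _).symm

lemma algebraMap_pi_counit (x : Π i, B i) :
    algebraMap P (Π i, B i) (∑ i, secI T hbij i (Coalgebra.counit (R := T i) (x i))) =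
    ∑ i, Pi.single i (algebraMap (T i) (B i) (Coalgebra.counit (R := T i) (x i))) := by
  funext j
  rw [Pi.algebraMap_apply, map_sum, Finset.sum_apply]
  refine Finset.sum_congr rfl fun i _ => ?_
  rw [IsScalarTower.algebraMap_apply P (T j) (B j), algebraMap_secI]
  by_cases hj : j = i
  · subst hj
    rw [Pi.single_eq_same, Pi.single_eq_same]
  · rw [Pi.single_eq_of_ne hj, Pi.single_eq_of_ne hj, map_zero]

/-- the Hopf algebra structure on a finite product of Hopf algebras over the factors of a
decomposed ring. -/
@[reducible] noncomputable def piHopfAlgebra : HopfAlgebra P (Π i, B i) :=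
  letI := coalgB T hbij B
  { piBialgebra T hbij B with
    antipode := piAntipode P T B
    mul_antipode_rTensor_comul := by
      refine LinearMap.ext fun x => ?_
      show LinearMap.mul' P (Π i, B i) ((piAntipode P T B).rTensor (Π i, B i)
        (Coalgebra.comul (R := P) x)) = algebraMap P (Π i, B i) (Coalgebra.counit (R := P) x)
      rw [pi_comul_apply, pi_counit_apply, algebraMap_pi_counit]
      simp only [map_sum, mul_antipode_rTensor_mI]
    mul_antipode_lTensor_comul := by
      refine LinearMap.ext fun x => ?_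
      show LinearMap.mul' P (Π i, B i) ((piAntipode P T B).lTensor (Π i, B i)
        (Coalgebra.comul (R := P) x)) = algebraMap P (Π i, B i) (Coalgebra.counit (R := P) x)
      rw [pi_comul_apply, pi_counit_apply, algebraMap_pi_counit]
      simp only [map_sum, mul_antipode_lTensor_mI] }

end PiHopf

section Kappa

variable {P : Type u} [CommRing P] {ι : Type u} [Fintype ι] [DecidableEq ι]
  (T : ι → Type u) [∀ i, CommRing (T i)] [∀ i, Algebra P (T i)]
  (hbij : Function.Bijective (algebraMap P (Π i, T i)))
  (B : ι → Type u) [∀ i, CommRing (B i)] [∀ i, Algebra P (B i)] [∀ i, HopfAlgebra (T i) (B i)]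
  [∀ i, IsScalarTower P (T i) (B i)]

variable (P) in
/-- the projection of the localisation of the product onto a factor. -/
noncomputable def kappaHom (i : ι) : T i ⊗[P] (Π j, B j) →ₐ[T i] B i :=
  Algebra.TensorProduct.lift (Algebra.ofId (T i) (B i)) (Pi.evalAlgHom P B i)
    (fun _ _ => Commute.all _ _)

lemma kappaHom_tmul (i : ι) (t : T i) (x : Π j, B j) :
    kappaHom P T B i (t ⊗ₜ[P] x) = algebraMap (T i) (B i) t * x i := by
  simp [kappaHom, Algebra.ofId_apply]

include hbij in
lemma exists_one_tmul_single (i : ι) (z : T i ⊗[P] (Π j, B j)) :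
    ∃ b : B i, z = (1 : T i) ⊗ₜ[P] (Pi.single i b : Π j, B j) := by
  induction z using TensorProduct.induction_on with
  | zero => exact ⟨0, by simp⟩
  | tmul t x =>
    refine ⟨secI T hbij i t • x i, ?_⟩
    have h1 : t ⊗ₜ[P] x = (1 : T i) ⊗ₜ[P] (secI T hbij i t • x) := by
      rw [← TensorProduct.smul_tmul, Algebra.smul_def, algebraMap_secI_self, mul_one]
    have h2 : (1 : T i) ⊗ₜ[P] x = (1 : T i) ⊗ₜ[P] (Pi.single i (x i) : Π j, B j) := by
      conv_lhs => rw [← Finset.univ_sum_single x]
      rw [TensorProduct.tmul_sum, Finset.sum_eq_single i]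
      · intro j _ hj
        have : (1 : T i) = secI T hbij i 1 • (1 : T i) := by
          rw [Algebra.smul_def, algebraMap_secI_self, mul_one]
        rw [this, TensorProduct.smul_tmul, secI_one_smul_single_of_ne T hbij B hj,
          TensorProduct.tmul_zero]
      · intro h; exact absurd (Finset.mem_univ i) h
    rw [h1, TensorProduct.tmul_smul, h2, ← TensorProduct.tmul_smul, ← Pi.single_smul]
  | add a b ha hb =>
    obtain ⟨x, rfl⟩ := ha
    obtain ⟨y, rfl⟩ := hb
    exact ⟨x + y, by rw [Pi.single_add, TensorProduct.tmul_add]⟩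

include hbij in
lemma kappaHom_bijective (i : ι) : Function.Bijective (kappaHom P T B i) := by
  constructor
  · rw [injective_iff_map_eq_zero]
    intro z hz
    obtain ⟨b, rfl⟩ := exists_one_tmul_single T hbij B i z
    rw [kappaHom_tmul, map_one, one_mul, Pi.single_eq_same] at hz
    rw [hz, Pi.single_zero, TensorProduct.tmul_zero]
  · intro b
    exact ⟨(1 : T i) ⊗ₜ[P] (Pi.single i b : Π j, B j), by
      rw [kappaHom_tmul, map_one, one_mul, Pi.single_eq_same]⟩

lemma map_kappa_distrib_mI_of_ne {i j : ι} (h : j ≠ i) (u : B j ⊗[P] B j) :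
    TensorProduct.map (kappaHom P T B i).toLinearMap (kappaHom P T B i).toLinearMap
      (TensorProduct.AlgebraTensorModule.distribBaseChange P (T i) (Π j, B j) (Π j, B j)
        ((1 : T i) ⊗ₜ[P] mI B j u)) = 0 := by
  induction u using TensorProduct.induction_on with
  | zero => simp
  | tmul a c =>
    rw [TensorProduct.map_tmul, TensorProduct.AlgebraTensorModule.distribBaseChange_tmul,
      TensorProduct.map_tmul]
    simp only [AlgHom.toLinearMap_apply, kappaHom_tmul, LinearMap.coe_single, map_one, one_mul,
      Pi.single_eq_of_ne (Ne.symm h), TensorProduct.zero_tmul]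
  | add x y hx hy => simp only [map_add, TensorProduct.tmul_add, hx, hy, add_zero]

lemma map_kappa_distrib_mI_same (i : ι) (b : B i) :
    TensorProduct.map (kappaHom P T B i).toLinearMap (kappaHom P T B i).toLinearMap
      (TensorProduct.AlgebraTensorModule.distribBaseChange P (T i) (Π j, B j) (Π j, B j)
        ((1 : T i) ⊗ₜ[P] mI B i (cmP T hbij B i b))) = Coalgebra.comul (R := T i) b := by
  rw [comulP_eq_sum _ _ (B i) (ℛ (T i) b), ← (ℛ (T i) b).eq]
  simp only [map_sum, TensorProduct.tmul_sum, TensorProduct.map_tmul,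
    TensorProduct.AlgebraTensorModule.distribBaseChange_tmul, AlgHom.toLinearMap_apply,
    kappaHom_tmul, LinearMap.coe_single, map_one, one_mul, Pi.single_eq_same]

/-- the localisation of the product Hopf algebra at a factor is that factor. -/
theorem nonempty_kappa (i : ι) :
    letI := piHopfAlgebra T hbij B
    Nonempty (T i ⊗[P] (Π j, B j) ≃ₐc[T i] B i) := by
  letI := coalgB T hbij B
  letI := piHopfAlgebra T hbij B
  let κ : T i ⊗[P] (Π j, B j) ≃ₐ[T i] B i :=
    AlgEquiv.ofBijective (kappaHom P T B i) (kappaHom_bijective T hbij B i)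
  have hκ : ∀ z, κ z = kappaHom P T B i z := fun _ => rfl
  refine ⟨BialgEquiv.ofAlgEquiv κ ?_ ?_⟩
  · apply Algebra.TensorProduct.ext
    · ext
    · refine AlgHom.ext fun x => ?_
      show Coalgebra.counit (R := T i) (κ ((1 : T i) ⊗ₜ[P] x)) =
        Coalgebra.counit (R := T i) ((1 : T i) ⊗ₜ[P] x)
      rw [hκ, kappaHom_tmul, map_one, one_mul, TensorProduct.counit_tmul]
      have h1 : Coalgebra.counit (R := P) x =
          ∑ j, secI T hbij j (Coalgebra.counit (R := T j) (x j)) := pi_counit_apply T hbij B x
      rw [h1, Algebra.smul_def, map_sum]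
      simp only [Bialgebra.counit_one, mul_one]
      rw [Finset.sum_eq_single i]
      · rw [algebraMap_secI_self]
      · intro j _ hj
        exact algebraMap_secI_ne T hbij (Ne.symm hj) _
      · intro h; exact absurd (Finset.mem_univ i) h
  · apply Algebra.TensorProduct.ext
    · ext
    · refine AlgHom.ext fun x => ?_
      show TensorProduct.map κ.toLinearMap κ.toLinearMap
          (Coalgebra.comul (R := T i) ((1 : T i) ⊗ₜ[P] x)) =
        Coalgebra.comul (R := T i) (κ ((1 : T i) ⊗ₜ[P] x))
      rw [hκ, kappaHom_tmul, map_one, one_mul,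
        Groth.Agent.Lib.Helper77.MultBC.comul_one_tmul P (T i) (Π j, B j)]
      have h1 : Coalgebra.comul (R := P) x = ∑ j, mI B j (cmP T hbij B j (x j)) :=
        pi_comul_apply T hbij B x
      rw [h1, TensorProduct.tmul_sum, map_sum, map_sum, Finset.sum_eq_single i]
      · exact map_kappa_distrib_mI_same T hbij B i (x i)
      · intro j _ hj
        exact map_kappa_distrib_mI_of_ne T B hj _
      · intro h; exact absurd (Finset.mem_univ i) h

end Kappa

end Groth.Agent.Lib.Helper77.QILift
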