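import Mathlib
import Groth.Agent.Lib.Helper77.MultBC

/-!
# Localisation principle for a finite decomposition of a ring, and gluing of bialgebra isomorphisms
-/

set_option autoImplicit false
set_option linter.style.haveILetI false
universe u
open TensorProduct

namespace Groth.Agent.Lib.Helper77.QILift

section Loc

variable (P : Type u) [CommRing P] {ι : Type u} [Fintype ι] [DecidableEq ι]
  (T : ι → Type u) [∀ i, CommRing (T i)] [∀ i, Algebra P (T i)]
  (Y : Type u) [AddCommGroup Y] [Module P Y]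

/-- the family of all localisation maps `y ↦ 1 ⊗ y`. -/
noncomputable def locMap : Y →ₗ[P] Π i, T i ⊗[P] Y :=
  LinearMap.pi fun i => TensorProduct.mk P (T i) Y 1

@[simp] lemma locMap_apply (y : Y) (i : ι) : locMap P T Y y i = (1 : T i) ⊗ₜ[P] y := rfl

variable (hbij : Function.Bijective (algebraMap P (Π i, T i)))

include hbij in
theorem locMap_bijective : Function.Bijective (locMap P T Y) := by
  let eP : P ≃ₗ[P] (Π i, T i) := LinearEquiv.ofBijective (Algebra.linearMap P (Π i, T i)) hbij
  let E : Y ≃ₗ[P] Π i, T i ⊗[P] Y :=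
    ((TensorProduct.lid P Y).symm.trans (TensorProduct.congr eP (LinearEquiv.refl P Y))).trans
      (TensorProduct.piLeft P Y T)
  have hE : ∀ y, E y = locMap P T Y y := by
    intro y
    funext i
    simp [E, eP]
  have : (locMap P T Y : Y → Π i, T i ⊗[P] Y) = E := funext fun y => (hE y).symm
  rw [this]
  exact E.bijective

include hbij in
lemma loc_ext {y y' : Y} (h : ∀ i, (1 : T i) ⊗ₜ[P] y = (1 : T i) ⊗ₜ[P] y') : y = y' :=
  (locMap_bijective P T Y hbij).1 (funext h)

include hbij in
lemma loc_exists (w : Π i, T i ⊗[P] Y) : ∃ y : Y, ∀ i, (1 : T i) ⊗ₜ[P] y = w i := by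
  obtain ⟨y, hy⟩ := (locMap_bijective P T Y hbij).2 w
  exact ⟨y, fun i => congrFun hy i⟩

end Loc

section Glue

variable {P : Type u} [CommRing P] {ι : Type u} [Fintype ι] [DecidableEq ι]
  (T : ι → Type u) [∀ i, CommRing (T i)] [∀ i, Algebra P (T i)]
  (hbij : Function.Bijective (algebraMap P (Π i, T i)))
  {H₁ H₂ : Type u} [CommRing H₁] [CommRing H₂] [HopfAlgebra P H₁] [HopfAlgebra P H₂]

include hbij in
/-- **gluing of local bialgebra isomorphisms** over a finite decomposition of the base ring. -/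
theorem exists_bialgEquiv_of_local (θ : ∀ i, T i ⊗[P] H₁ ≃ₐc[T i] T i ⊗[P] H₂) :
    ∃ Θ : H₁ ≃ₐc[P] H₂, ∀ i h, (1 : T i) ⊗ₜ[P] Θ h = θ i ((1 : T i) ⊗ₜ[P] h) := by
  choose f hf using fun h : H₁ => loc_exists P T H₂ hbij (fun i => θ i ((1 : T i) ⊗ₜ[P] h))
  choose g hg using fun h : H₂ => loc_exists P T H₁ hbij (fun i => (θ i).symm ((1 : T i) ⊗ₜ[P] h))
  have hfg : ∀ h, f (g h) = h := by
    intro h
    apply loc_ext P T H₂ hbij
    intro i
    rw [hf, hg, (θ i).apply_symm_apply]
  have hgf : ∀ h, g (f h) = h := by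
    intro h
    apply loc_ext P T H₁ hbij
    intro i
    rw [hg, hf, (θ i).symm_apply_apply]
  have hadd : ∀ a b, f (a + b) = f a + f b := by
    intro a b
    apply loc_ext P T H₂ hbij
    intro i
    rw [hf, TensorProduct.tmul_add, map_add, TensorProduct.tmul_add, hf, hf]
  have hmul : ∀ a b, f (a * b) = f a * f b := by
    intro a b
    apply loc_ext P T H₂ hbij
    intro i
    have h1 : (1 : T i) ⊗ₜ[P] (a * b) = ((1 : T i) ⊗ₜ[P] a) * ((1 : T i) ⊗ₜ[P] b) := by
      rw [Algebra.TensorProduct.tmul_mul_tmul, mul_one]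
    have h2 : (1 : T i) ⊗ₜ[P] (f a * f b) = ((1 : T i) ⊗ₜ[P] f a) * ((1 : T i) ⊗ₜ[P] f b) := by
      rw [Algebra.TensorProduct.tmul_mul_tmul, mul_one]
    rw [hf, h1, map_mul, h2, hf, hf]
  have halg : ∀ p : P, f (algebraMap P H₁ p) = algebraMap P H₂ p := by
    intro p
    apply loc_ext P T H₂ hbij
    intro i
    rw [hf, Algebra.algebraMap_eq_smul_one, Algebra.algebraMap_eq_smul_one, TensorProduct.tmul_smul,
      TensorProduct.tmul_smul, ← Algebra.TensorProduct.one_def, ← Algebra.TensorProduct.one_def]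
    have h1 : p • (1 : T i ⊗[P] H₁) = (algebraMap P (T i) p) • (1 : T i ⊗[P] H₁) := by
      rw [algebraMap_smul]
    have h2 : p • (1 : T i ⊗[P] H₂) = (algebraMap P (T i) p) • (1 : T i ⊗[P] H₂) := by
      rw [algebraMap_smul]
    rw [h1, h2, map_smul, map_one]
  let Θa : H₁ ≃ₐ[P] H₂ :=
    { toFun := f
      invFun := g
      left_inv := hgf
      right_inv := hfg
      map_mul' := hmul
      map_add' := hadd
      commutes' := halg }
  have hΘa : ∀ h, Θa h = f h := fun _ => rfl
  refine ⟨BialgEquiv.ofAlgEquiv Θa ?_ ?_, fun i h => hf h i⟩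
  · -- counit
    refine AlgHom.ext fun h => ?_
    show Coalgebra.counit (R := P) (f h) = Coalgebra.counit (R := P) h
    apply loc_ext P T P hbij
    intro i
    have key : ∀ {H : Type u} [CommRing H] [HopfAlgebra P H] (x : H),
        (1 : T i) ⊗ₜ[P] (Coalgebra.counit (R := P) x : P) =
          (Coalgebra.counit (R := T i) ((1 : T i) ⊗ₜ[P] x)) ⊗ₜ[P] (1 : P) := by
      intro H _ _ x
      rw [TensorProduct.counit_tmul]
      simp only [Bialgebra.counit_one]
      rw [TensorProduct.smul_tmul, smul_eq_mul, mul_one]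
    rw [key, key, hf]
    congr 1
    exact CoalgHomClass.counit_comp_apply (θ i) _
  · -- comultiplication
    refine AlgHom.ext fun h => ?_
    show TensorProduct.map Θa.toLinearMap Θa.toLinearMap (Coalgebra.comul (R := P) h) =
      Coalgebra.comul (R := P) (f h)
    apply loc_ext P T (H₂ ⊗[P] H₂) hbij
    intro i
    apply (TensorProduct.AlgebraTensorModule.distribBaseChange P (T i) H₂ H₂).injective
    have hL : ∀ t : H₁ ⊗[P] H₁,
        TensorProduct.AlgebraTensorModule.distribBaseChange P (T i) H₂ H₂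
          ((1 : T i) ⊗ₜ[P] TensorProduct.map Θa.toLinearMap Θa.toLinearMap t) =
        TensorProduct.map (θ i).toLinearMap (θ i).toLinearMap
          (TensorProduct.AlgebraTensorModule.distribBaseChange P (T i) H₁ H₁
            ((1 : T i) ⊗ₜ[P] t)) := by
      intro t
      induction t using TensorProduct.induction_on with
      | zero => simp
      | tmul a b =>
        rw [TensorProduct.map_tmul, TensorProduct.AlgebraTensorModule.distribBaseChange_tmul,
          TensorProduct.AlgebraTensorModule.distribBaseChange_tmul, TensorProduct.map_tmul]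
        show ((1 : T i) ⊗ₜ[P] f a) ⊗ₜ[T i] ((1 : T i) ⊗ₜ[P] f b) = _
        rw [hf, hf]
        rfl
      | add x y hx hy => simp only [map_add, TensorProduct.tmul_add, hx, hy]
    rw [hL, ← Groth.Agent.Lib.Helper77.MultBC.comul_one_tmul,
      ← Groth.Agent.Lib.Helper77.MultBC.comul_one_tmul, hf]
    exact CoalgHomClass.map_comp_comul_apply (θ i) _

end Glue

section T2

open Groth.Agent.Lib.Helper77.MultBC

variable {R : Type u} [CommRing R] {F : Type u} [Fintype F] [DecidableEq F]
  (S : F → Type u) [∀ f, CommRing (S f)] [∀ f, Algebra R (S f)]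
  (K : Type u) [CommRing K] [HopfAlgebra R K]

/-- the evaluation algebra structure on a factor of a product ring. -/
@[reducible] noncomputable def evalAlgebra (f : F) : Algebra (Π f, S f) (S f) :=
  (Pi.evalRingHom S f).toAlgebra

lemma bijective_algebraMap_pi_eval :
    letI := fun f => evalAlgebra S f
    Function.Bijective (algebraMap (Π f, S f) (Π f, S f)) := by
  letI := fun f => evalAlgebra S f
  have : (algebraMap (Π f, S f) (Π f, S f) : (Π f, S f) → (Π f, S f)) = id := by
    funext x
    rfl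
  rw [this]
  exact Function.bijective_id

/-- local isomorphisms over the factors of a finite product ring glue. -/
theorem nonempty_bialgEquiv_pi {K' : Type u} [CommRing K'] [HopfAlgebra R K']
    (e : ∀ f, S f ⊗[R] K ≃ₐc[S f] S f ⊗[R] K') :
    Nonempty ((Π f, S f) ⊗[R] K ≃ₐc[Π f, S f] (Π f, S f) ⊗[R] K') := by
  letI := fun f => evalAlgebra S f
  haveI : ∀ f, IsScalarTower R (Π f, S f) (S f) := fun f =>
    IsScalarTower.of_algebraMap_eq (fun _ => rfl)
  let θ : ∀ f, S f ⊗[Π f, S f] ((Π f, S f) ⊗[R] K) ≃ₐc[S f]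
      S f ⊗[Π f, S f] ((Π f, S f) ⊗[R] K') := fun f =>
    ((cancelBC R (Π f, S f) (S f) K).trans (e f)).trans (cancelBC R (Π f, S f) (S f) K').symm
  obtain ⟨Θ, -⟩ := exists_bialgEquiv_of_local (P := Π f, S f) S (bijective_algebraMap_pi_eval S) θ
  exact ⟨Θ⟩

/-- a Hopf algebra which is diagonalisable of type `M` over each factor of a finite product ring is
diagonalisable of type `M` over the product. -/
theorem nonempty_bialgEquiv_monoidAlgebra_pi (M : Type u) [CommGroup M]
    (e : ∀ f, S f ⊗[R] K ≃ₐc[S f] MonoidAlgebra (S f) M) :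
    Nonempty ((Π f, S f) ⊗[R] K ≃ₐc[Π f, S f] MonoidAlgebra (Π f, S f) M) := by
  obtain ⟨Θ⟩ := nonempty_bialgEquiv_pi S K (K' := MonoidAlgebra R M)
    (fun f => (e f).trans (monoidAlgebraBC R (S f) M).symm)
  exact ⟨Θ.trans (monoidAlgebraBC R (Π f, S f) M)⟩

end T2

end Groth.Agent.Lib.Helper77.QILift
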