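import Mathlib
import Groth.Agent.Lib.Helper77.MultBC

/-!
# The type of a group of multiplicative type is locally constant
-/

set_option autoImplicit false
set_option linter.style.haveILetI false
universe u
open TensorProduct

namespace Groth.Agent.Lib.Helper77.QILift

open Groth.Agent.Lib.Helper77.MultBC

section Field

/-- over a domain, isomorphic group algebras have isomorphic groups. -/
theorem nonempty_mulEquiv_of_bialgEquiv {Ω : Type u} [CommRing Ω] [IsDomain Ω]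
    {M₁ M₂ : Type u} [CommGroup M₁] [CommGroup M₂]
    (e : MonoidAlgebra Ω M₁ ≃ₐc[Ω] MonoidAlgebra Ω M₂) : Nonempty (M₁ ≃* M₂) := by
  let f : MonoidAlgebra Ω M₁ →ₐc[Ω] MonoidAlgebra Ω M₂ := e
  let g : MonoidAlgebra Ω M₂ →ₐc[Ω] MonoidAlgebra Ω M₁ := e.symm
  have hgf : g.comp f = BialgHom.id Ω _ := by
    refine BialgHom.ext fun x => ?_
    exact e.symm_apply_apply x
  have hfg : f.comp g = BialgHom.id Ω _ := by
    refine BialgHom.ext fun x => ?_
    exact e.apply_symm_apply x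
  refine ⟨{ toFun := MonoidAlgebra.mapDomainOfBialgHom f
            invFun := MonoidAlgebra.mapDomainOfBialgHom g
            left_inv := ?_
            right_inv := ?_
            map_mul' := map_mul _ }⟩
  · intro m
    have := MonoidAlgebra.mapDomainOfBialgHom_comp g f
    rw [hgf, MonoidAlgebra.mapDomainOfBialgHom_id] at this
    exact (DFunLike.congr_fun this m).symm
  · intro m
    have := MonoidAlgebra.mapDomainOfBialgHom_comp f g
    rw [hfg, MonoidAlgebra.mapDomainOfBialgHom_id] at this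
    exact (DFunLike.congr_fun this m).symm

end Field

section Primes

variable {R : Type u} [CommRing R]
  {S₁ S₂ : Type u} [CommRing S₁] [CommRing S₂] [Algebra R S₁] [Algebra R S₂]

/-- a common field receiving two algebras having primes over a common prime of the base. -/
theorem exists_common_field
    (𝔭 : Ideal R) [𝔭.IsPrime] (𝔮₁ : Ideal S₁) [𝔮₁.IsPrime] [𝔮₁.LiesOver 𝔭]
    (𝔮₂ : Ideal S₂) [𝔮₂.IsPrime] [𝔮₂.LiesOver 𝔭] :
    ∃ (Ω : Type u) (_ : Field Ω) (φ₁ : S₁ →+* Ω) (φ₂ : S₂ →+* Ω),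
      φ₁.comp (algebraMap R S₁) = φ₂.comp (algebraMap R S₂) := by
  let D := R ⧸ 𝔭
  let D₁ := S₁ ⧸ 𝔮₁
  let D₂ := S₂ ⧸ 𝔮₂
  haveI : Nontrivial (D₁ ⊗[D] D₂) :=
    Algebra.TensorProduct.nontrivial_of_algebraMap_injective_of_isDomain D D₁ D₂
      (FaithfulSMul.algebraMap_injective D D₁) (FaithfulSMul.algebraMap_injective D D₂)
  obtain ⟨𝔪, h𝔪⟩ := Ideal.exists_maximal (D₁ ⊗[D] D₂)
  refine ⟨(D₁ ⊗[D] D₂) ⧸ 𝔪, Ideal.Quotient.field 𝔪,
    (Ideal.Quotient.mk 𝔪).comp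
      ((Algebra.TensorProduct.includeLeft : D₁ →ₐ[D] D₁ ⊗[D] D₂).toRingHom.comp
        (Ideal.Quotient.mk 𝔮₁)),
    (Ideal.Quotient.mk 𝔪).comp
      ((Algebra.TensorProduct.includeRight : D₂ →ₐ[D] D₁ ⊗[D] D₂).toRingHom.comp
        (Ideal.Quotient.mk 𝔮₂)), ?_⟩
  refine RingHom.ext fun r => ?_
  show Ideal.Quotient.mk 𝔪 ((Ideal.Quotient.mk 𝔮₁ (algebraMap R S₁ r)) ⊗ₜ[D] (1 : D₂)) =
    Ideal.Quotient.mk 𝔪 ((1 : D₁) ⊗ₜ[D] (Ideal.Quotient.mk 𝔮₂ (algebraMap R S₂ r)))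
  congr 1
  have h1 : Ideal.Quotient.mk 𝔮₁ (algebraMap R S₁ r) =
      algebraMap D D₁ (Ideal.Quotient.mk 𝔭 r) := rfl
  have h2 : Ideal.Quotient.mk 𝔮₂ (algebraMap R S₂ r) =
      algebraMap D D₂ (Ideal.Quotient.mk 𝔭 r) := rfl
  rw [h1, h2, Algebra.algebraMap_eq_smul_one, Algebra.algebraMap_eq_smul_one,
    TensorProduct.smul_tmul]

variable (A : Type u) [CommRing A] [HopfAlgebra R A]
  {M₁ M₂ : Type u} [CommGroup M₁] [CommGroup M₂]

/-- two trivialisations of a Hopf algebra over algebras having primes over a common prime of the base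
have isomorphic types. -/
theorem nonempty_mulEquiv_of_primes
    (e₁ : S₁ ⊗[R] A ≃ₐc[S₁] MonoidAlgebra S₁ M₁) (e₂ : S₂ ⊗[R] A ≃ₐc[S₂] MonoidAlgebra S₂ M₂)
    (𝔭 : Ideal R) [𝔭.IsPrime] (𝔮₁ : Ideal S₁) [𝔮₁.IsPrime] [𝔮₁.LiesOver 𝔭]
    (𝔮₂ : Ideal S₂) [𝔮₂.IsPrime] [𝔮₂.LiesOver 𝔭] : Nonempty (M₁ ≃* M₂) := by
  obtain ⟨Ω, _, φ₁, φ₂, hφ⟩ := exists_common_field 𝔭 𝔮₁ 𝔮₂
  letI : Algebra S₁ Ω := φ₁.toAlgebra
  letI : Algebra S₂ Ω := φ₂.toAlgebra
  letI : Algebra R Ω := (φ₁.comp (algebraMap R S₁)).toAlgebra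
  haveI : IsScalarTower R S₁ Ω := IsScalarTower.of_algebraMap_eq (fun _ => rfl)
  haveI : IsScalarTower R S₂ Ω :=
    IsScalarTower.of_algebraMap_eq (fun r => congrArg (fun f : R →+* Ω => f r) hφ)
  let E : MonoidAlgebra Ω M₁ ≃ₐc[Ω] MonoidAlgebra Ω M₂ :=
    (monoidAlgebraBC S₁ Ω M₁).symm.trans ((bcEquiv S₁ Ω e₁).symm.trans
      ((cancelBC R S₁ Ω A).trans ((cancelBC R S₂ Ω A).symm.trans
        ((bcEquiv S₂ Ω e₂).trans (monoidAlgebraBC S₂ Ω M₂)))))
  exact nonempty_mulEquiv_of_bialgEquiv E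

end Primes

section Away

variable {R : Type u} [CommRing R]

lemma exists_prime_liesOver_of_away (f : R) (S : Type u) [CommRing S]
    [Algebra (Localization.Away f) S] [Algebra R S] [IsScalarTower R (Localization.Away f) S]
    [Module.FaithfullyFlat (Localization.Away f) S] (𝔭 : Ideal R) [h𝔭 : 𝔭.IsPrime] (hf : f ∉ 𝔭) :
    ∃ 𝔮 : Ideal S, 𝔮.IsPrime ∧ 𝔮.LiesOver 𝔭 := by
  have hd : Disjoint (Submonoid.powers f : Set R) (𝔭 : Set R) := by
    rw [Set.disjoint_left]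
    rintro x ⟨n, rfl⟩ hx
    exact hf (h𝔭.mem_of_pow_mem n hx)
  haveI h1 : (Ideal.map (algebraMap R (Localization.Away f)) 𝔭).IsPrime :=
    IsLocalization.isPrime_of_isPrime_disjoint (Submonoid.powers f) _ 𝔭 h𝔭 hd
  haveI h2 : (Ideal.map (algebraMap R (Localization.Away f)) 𝔭).LiesOver 𝔭 :=
    ⟨(IsLocalization.under_map_of_isPrime_disjoint (Submonoid.powers f) _ h𝔭 hd).symm⟩
  obtain ⟨𝔮, h𝔮, h𝔮'⟩ := Ideal.exists_isPrime_liesOver_of_faithfullyFlat (B := S)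
    (Ideal.map (algebraMap R (Localization.Away f)) 𝔭)
  exact ⟨𝔮, h𝔮, Ideal.LiesOver.trans 𝔮 (Ideal.map (algebraMap R (Localization.Away f)) 𝔭) 𝔭⟩

variable (A : Type u) [CommRing A] [HopfAlgebra R A]

/-- **the type of a quasi-isotrivial group is locally constant.** -/
theorem nonempty_mulEquiv_of_away (f g : R)
    (S₁ : Type u) [CommRing S₁] [Algebra (Localization.Away f) S₁]
    [Module.FaithfullyFlat (Localization.Away f) S₁]
    (S₂ : Type u) [CommRing S₂] [Algebra (Localization.Away g) S₂]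
    [Module.FaithfullyFlat (Localization.Away g) S₂]
    {M₁ M₂ : Type u} [CommGroup M₁] [CommGroup M₂]
    (e₁ : S₁ ⊗[Localization.Away f] (Localization.Away f ⊗[R] A) ≃ₐc[S₁] MonoidAlgebra S₁ M₁)
    (e₂ : S₂ ⊗[Localization.Away g] (Localization.Away g ⊗[R] A) ≃ₐc[S₂] MonoidAlgebra S₂ M₂)
    (𝔭 : Ideal R) [𝔭.IsPrime] (hf : f ∉ 𝔭) (hg : g ∉ 𝔭) : Nonempty (M₁ ≃* M₂) := by
  letI : Algebra R S₁ :=
    ((algebraMap (Localization.Away f) S₁).comp (algebraMap R (Localization.Away f))).toAlgebra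
  haveI : IsScalarTower R (Localization.Away f) S₁ := IsScalarTower.of_algebraMap_eq (fun _ => rfl)
  letI : Algebra R S₂ :=
    ((algebraMap (Localization.Away g) S₂).comp (algebraMap R (Localization.Away g))).toAlgebra
  haveI : IsScalarTower R (Localization.Away g) S₂ := IsScalarTower.of_algebraMap_eq (fun _ => rfl)
  obtain ⟨𝔮₁, _, _⟩ := exists_prime_liesOver_of_away f S₁ 𝔭 hf
  obtain ⟨𝔮₂, _, _⟩ := exists_prime_liesOver_of_away g S₂ 𝔭 hg
  exact nonempty_mulEquiv_of_primes A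
    ((cancelBC R (Localization.Away f) S₁ A).symm.trans e₁)
    ((cancelBC R (Localization.Away g) S₂ A).symm.trans e₂) 𝔭 𝔮₁ 𝔮₂

end Away

end Groth.Agent.Lib.Helper77.QILift
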