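import Mathlib
import Groth.Prelude.Def_SGA3b
import Groth.Agent.Lib.Helper77.QILift2
import Groth.Agent.Lib.Helper77.QILift4

/-!
# Decomposition of a quasi-isotrivial group into pieces of constant type
-/

set_option autoImplicit false
set_option linter.style.haveILetI false
universe u
open TensorProduct

namespace Groth.Agent.Lib.Helper77.QILift

open SGA3b Groth.Agent.Lib.Helper77.MultBC

section Merge

variable {R : Type u} [CommRing R] (A : Type u) [CommRing A] [HopfAlgebra R A]

/-- merging local trivialisations of the same type over a basic open set. -/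
theorem isQuasiIsotrivialConst_of_cover (e : R) {F : Type u} [Fintype F] [DecidableEq F] (φ : F → R)
    (hcov : ∀ 𝔭 : Ideal R, 𝔭.IsPrime → (e ∉ 𝔭 ↔ ∃ f, φ f ∉ 𝔭))
    (S : F → Type u) [∀ f, CommRing (S f)] [∀ f, Algebra (Localization.Away (φ f)) (S f)]
    [∀ f, Algebra.Etale (Localization.Away (φ f)) (S f)]
    [∀ f, Module.FaithfullyFlat (Localization.Away (φ f)) (S f)]
    (M : Type u) [CommGroup M]
    (iso : ∀ f, S f ⊗[Localization.Away (φ f)] (Localization.Away (φ f) ⊗[R] A) ≃ₐc[S f]
      MonoidAlgebra (S f) M) :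
    IsQuasiIsotrivialConst (Localization.Away e) (Localization.Away e ⊗[R] A) := by
  letI algRS : ∀ f, Algebra R (S f) := fun f =>
    ((algebraMap (Localization.Away (φ f)) (S f)).comp
      (algebraMap R (Localization.Away (φ f)))).toAlgebra
  haveI towφ : ∀ f, IsScalarTower R (Localization.Away (φ f)) (S f) := fun f =>
    IsScalarTower.of_algebraMap_eq (fun _ => rfl)
  -- `e` becomes a unit in each `S f`
  have hrad : ∀ f, φ f ∈ (Ideal.span {e}).radical := by
    intro f
    rw [Ideal.radical_eq_sInf, Ideal.mem_sInf]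
    rintro J ⟨hJ, hJp⟩
    by_contra hφ
    have he : e ∉ J := ((hcov J hJp).mpr ⟨f, hφ⟩)
    exact he (hJ (Ideal.subset_span rfl))
  have hunit : ∀ f, IsUnit (algebraMap R (S f) e) := by
    intro f
    obtain ⟨n, hn⟩ := hrad f
    obtain ⟨a, ha⟩ := Ideal.mem_span_singleton'.mp hn
    have h1 : IsUnit (algebraMap R (Localization.Away (φ f)) (φ f ^ n)) := by
      rw [map_pow]
      exact (IsLocalization.Away.algebraMap_isUnit (φ f)).pow n
    rw [← ha, map_mul] at h1
    have h2 := isUnit_of_mul_isUnit_right h1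
    exact h2.map (algebraMap (Localization.Away (φ f)) (S f))
  letI algES : ∀ f, Algebra (Localization.Away e) (S f) := fun f =>
    (IsLocalization.Away.lift e (hunit f)).toAlgebra
  haveI towE : ∀ f, IsScalarTower R (Localization.Away e) (S f) := fun f =>
    IsScalarTower.of_algebraMap_eq (fun r => (IsLocalization.Away.lift_eq e (hunit f) r).symm)
  -- étaleness
  haveI etR : ∀ f, Algebra.Etale R (S f) := fun f =>
    Algebra.Etale.comp R (Localization.Away (φ f)) (S f)
  haveI etE : ∀ f, Algebra.Etale (Localization.Away e) (S f) := fun f =>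
    Algebra.Etale.of_restrictScalars R (Localization.Away e) (S f)
  haveI : Algebra.Etale (Localization.Away e) (Π f, S f) := inferInstance
  haveI : Module.Flat (Localization.Away e) (Π f, S f) := inferInstance
  -- faithful flatness
  have hff : Module.FaithfullyFlat (Localization.Away e) (Π f, S f) := by
    apply Module.FaithfullyFlat.of_comap_surjective
    intro 𝔮'
    let 𝔭 : Ideal R := 𝔮'.asIdeal.comap (algebraMap R (Localization.Away e))
    haveI : 𝔭.IsPrime := Ideal.comap_isPrime _ _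
    have he : e ∉ 𝔭 := by
      intro he
      have : IsUnit (algebraMap R (Localization.Away e) e) :=
        IsLocalization.Away.algebraMap_isUnit e
      exact 𝔮'.isPrime.ne_top (Ideal.eq_top_of_isUnit_mem _ he this)
    obtain ⟨f, hf⟩ := (hcov 𝔭 inferInstance).mp he
    obtain ⟨𝔮, h𝔮, h𝔮'⟩ := exists_prime_liesOver_of_away (φ f) (S f) 𝔭 hf
    let 𝔔 : PrimeSpectrum (Π f, S f) := ⟨𝔮.comap (Pi.evalRingHom S f), Ideal.comap_isPrime _ _⟩
    refine ⟨𝔔, ?_⟩
    apply PrimeSpectrum.localization_comap_injective (Localization.Away e) (Submonoid.powers e)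
    ext r
    show algebraMap (Localization.Away e) (Π f, S f) (algebraMap R (Localization.Away e) r) f ∈ 𝔮 ↔
      algebraMap R (Localization.Away e) r ∈ 𝔮'.asIdeal
    rw [Pi.algebraMap_apply, ← IsScalarTower.algebraMap_apply R (Localization.Away e) (S f)]
    have := h𝔮'.over
    show r ∈ 𝔮.comap (algebraMap R (S f)) ↔ r ∈ 𝔭
    rw [Ideal.under_def] at this
    rw [← this]
  -- the trivialisation
  obtain ⟨Θ⟩ := nonempty_bialgEquiv_monoidAlgebra_pi S (Localization.Away e ⊗[R] A) M
    (fun f => (cancelBC R (Localization.Away e) (S f) A).trans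
      ((cancelBC R (Localization.Away (φ f)) (S f) A).symm.trans (iso f)))
  exact ⟨(Π f, S f), inferInstance, inferInstance, inferInstance, hff, M, inferInstance, ⟨Θ⟩⟩

end Merge

section Decomp

variable (R : Type u) [CommRing R] (A : Type u) [CommRing A] [HopfAlgebra R A]

/-- an idempotent which is nilpotent vanishes. -/
lemma eq_zero_of_idem_of_nilpotent {x : R} (h1 : IsIdempotentElem x) (h2 : IsNilpotent x) : x = 0 := by
  obtain ⟨n, hn⟩ := h2
  rcases Nat.eq_zero_or_pos n with rfl | hpos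
  · have : (1 : R) = 0 := by simpa using hn
    rw [← mul_one x, this, mul_zero]
  · rw [← h1.pow_succ_eq (n - 1), Nat.sub_add_cancel hpos, hn]

open Classical in
/-- **A quasi-isotrivial group is of constant type over the members of a finite decomposition of the
base into open and closed pieces.** -/
theorem exists_idempotent_decomposition (h : IsQuasiIsotrivial R A) :
    ∃ (ι : Type u) (_ : Fintype ι) (_ : DecidableEq ι) (e : ι → R),
      CompleteOrthogonalIdempotents e ∧
      ∀ c, IsQuasiIsotrivialConst (Localization.Away (e c)) (Localization.Away (e c) ⊗[R] A) := by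
  obtain ⟨s, hs, hloc⟩ := h
  obtain ⟨s', hs's, hs'⟩ := (Ideal.span_eq_top_iff_finite s).mp hs
  let F := {f : R // f ∈ s'}
  have hF : ∀ f : F, IsQuasiIsotrivialConst (Localization.Away f.1)
      (Localization.Away f.1 ⊗[R] A) := fun f => hloc f.1 (hs's f.2)
  choose S instS algS hS using hF
  letI := instS
  letI := algS
  haveI het : ∀ f, Algebra.Etale (Localization.Away f.1) (S f) := fun f => (hS f).1
  haveI hff : ∀ f, Module.FaithfullyFlat (Localization.Away f.1) (S f) := fun f => (hS f).2.1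
  have hD : ∀ f : F, IsDiag (S f) (S f ⊗[Localization.Away f.1] (Localization.Away f.1 ⊗[R] A)) :=
    fun f => (hS f).2.2
  choose M instM hiso using hD
  letI := instM
  have iso : ∀ f : F, S f ⊗[Localization.Away f.1] (Localization.Away f.1 ⊗[R] A) ≃ₐc[S f]
      MonoidAlgebra (S f) (M f) := fun f => (hiso f).some
  -- the types are locally constant
  have key : ∀ (f g : F) (𝔭 : Ideal R), 𝔭.IsPrime → f.1 ∉ 𝔭 → g.1 ∉ 𝔭 → Nonempty (M f ≃* M g) := by
    intro f g 𝔭 h𝔭 hf hg
    haveI := h𝔭
    exact nonempty_mulEquiv_of_away A f.1 g.1 (S f) (S g) (iso f) (iso g) 𝔭 hf hg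
  letI st : Setoid F :=
    ⟨fun f g => Nonempty (M f ≃* M g),
      ⟨fun f => ⟨MulEquiv.refl _⟩, fun ⟨a⟩ => ⟨a.symm⟩, fun ⟨a⟩ ⟨b⟩ => ⟨a.trans b⟩⟩⟩
  let ι := Quotient st
  haveI : Fintype F := inferInstance
  haveI : Fintype ι := Quotient.fintype st
  let U : ι → Set (PrimeSpectrum R) := fun c => {x | ∃ f : F, (⟦f⟧ : ι) = c ∧ f.1 ∉ x.asIdeal}
  have hUopen : ∀ c, IsOpen (U c) := by
    intro c
    have : U c = ⋃ (f : F) (_ : (⟦f⟧ : ι) = c), (PrimeSpectrum.basicOpen f.1 : Set _) := by
      ext x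
      simp only [U, Set.mem_iUnion, SetLike.mem_coe,
        PrimeSpectrum.mem_basicOpen, exists_prop]
      rfl
    rw [this]
    exact isOpen_iUnion fun f => isOpen_iUnion fun _ => (PrimeSpectrum.basicOpen f.1).isOpen
  have hcover : ∀ x : PrimeSpectrum R, ∃ c, x ∈ U c := by
    intro x
    by_contra hx
    push Not at hx
    have h1 : Ideal.span (↑s' : Set R) ≤ x.asIdeal := by
      rw [Ideal.span_le]
      intro f hf
      by_contra hfx
      exact hx ⟦(⟨f, hf⟩ : F)⟧ ⟨⟨f, hf⟩, rfl, hfx⟩
    rw [hs'] at h1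
    exact x.isPrime.ne_top (top_le_iff.mp h1)
  have hdisj : ∀ (x : PrimeSpectrum R) (c c' : ι), x ∈ U c → x ∈ U c' → c = c' := by
    rintro x c c' ⟨f, rfl, hf⟩ ⟨g, rfl, hg⟩
    exact Quotient.sound (key f g x.asIdeal x.isPrime hf hg)
  have hclopen : ∀ c, IsClopen (U c) := by
    intro c
    refine ⟨?_, hUopen c⟩
    have : (U c)ᶜ = ⋃ (c' : ι) (_ : c' ≠ c), U c' := by
      ext x
      simp only [Set.mem_compl_iff, Set.mem_iUnion, exists_prop]
      constructor
      · intro hx
        obtain ⟨c', hc'⟩ := hcover x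
        refine ⟨c', ?_, hc'⟩
        rintro rfl
        exact hx hc'
      · rintro ⟨c', hne, hc'⟩ hx
        exact hne (hdisj x c' c hc' hx)
    rw [← isOpen_compl_iff, this]
    exact isOpen_iUnion fun c' => isOpen_iUnion fun _ => hUopen c'
  choose e he_idem he_eq using fun c => PrimeSpectrum.isClopen_iff.mp (hclopen c)
  have hmem : ∀ (c : ι) (x : PrimeSpectrum R), e c ∉ x.asIdeal ↔ x ∈ U c := by
    intro c x
    rw [he_eq c]
    rfl
  have hortho : Pairwise (fun c c' => e c * e c' = 0) := by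
    intro c c' hne
    apply eq_zero_of_idem_of_nilpotent R ((he_idem c).mul (he_idem c'))
    rw [← PrimeSpectrum.basicOpen_eq_bot_iff, PrimeSpectrum.basicOpen_mul]
    ext x
    simp only [TopologicalSpace.Opens.coe_inf, Set.mem_inter_iff, SetLike.mem_coe,
      PrimeSpectrum.mem_basicOpen, TopologicalSpace.Opens.coe_bot, Set.mem_empty_iff_false,
      iff_false, not_and]
    intro h1 h2
    exact hne (hdisj x c c' ((hmem c x).mp h1) ((hmem c' x).mp h2))
  have hOI : OrthogonalIdempotents e := ⟨he_idem, hortho⟩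
  have hcomplete : ∑ c, e c = 1 := by
    have h1 : IsIdempotentElem (∑ c, e c) := hOI.isIdempotentElem_sum
    have h2 : IsNilpotent (1 - ∑ c, e c) := by
      rw [nilpotent_iff_mem_prime]
      intro J hJ
      obtain ⟨c, hc⟩ := hcover ⟨J, hJ⟩
      have h3 : e c ∉ J := (hmem c ⟨J, hJ⟩).mpr hc
      have h4 : (1 - ∑ c, e c) * e c = 0 := by
        rw [sub_mul, one_mul, mul_comm, hOI.mul_sum_of_mem (Finset.mem_univ c), sub_self]
      have h5 : (1 - ∑ c, e c) * e c ∈ J := by rw [h4]; exact J.zero_mem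
      exact (hJ.mem_or_mem h5).resolve_right h3
    have h3 := eq_zero_of_idem_of_nilpotent R h1.one_sub h2
    exact (sub_eq_zero.mp h3).symm
  refine ⟨ι, inferInstance, inferInstance, e, ⟨hOI, hcomplete⟩, ?_⟩
  intro c
  let Fc := {f : F // (⟦f⟧ : ι) = c}
  have hμ : ∀ f : Fc, Nonempty (M f.1 ≃* M (Quotient.out c)) := by
    intro f
    have h1 : (⟦f.1⟧ : ι) = ⟦Quotient.out c⟧ := by rw [f.2, Quotient.out_eq]
    exact Quotient.exact h1
  have μ : ∀ f : Fc, M f.1 ≃* M (Quotient.out c) := fun f => (hμ f).some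
  refine isQuasiIsotrivialConst_of_cover A (e c) (F := Fc) (fun f => f.1.1) ?_
    (fun f => S f.1) (M (Quotient.out c))
    (fun f => (iso f.1).trans (MonoidAlgebra.domCongrBialgEquiv (S f.1) (S f.1) (μ f)))
  intro 𝔭 h𝔭
  rw [hmem c ⟨𝔭, h𝔭⟩]
  constructor
  · rintro ⟨f, hf, hfx⟩
    exact ⟨⟨f, hf⟩, hfx⟩
  · rintro ⟨f, hfx⟩
    exact ⟨f.1, f.2, hfx⟩

end Decomp

end Groth.Agent.Lib.Helper77.QILift
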