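import Mathlib
import Groth.Prelude.Def_SGA3b
import Groth.Agent.Lib.Helper77.QILift1
import Groth.Agent.Lib.Helper77.QILift3
import Groth.Agent.Lib.Helper77.QILift5

/-!
# Quasi-isotrivial groups of multiplicative type lift along a nil ideal
-/

set_option autoImplicit false
set_option linter.style.haveILetI false
universe u
open TensorProduct

namespace Groth.Agent.Lib.Helper77.QILift

open SGA3b Groth.Agent.Lib.Helper77.MultBC

section Const

variable {K : Type u} [CommRing K] {B : Type u} [CommRing B] [HopfAlgebra K B]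

theorem isQIConst_of_equiv {B' : Type u} [CommRing B'] [HopfAlgebra K B'] (e : B ≃ₐc[K] B')
    (h : IsQuasiIsotrivialConst K B) : IsQuasiIsotrivialConst K B' := by
  obtain ⟨K', _, _, het, hff, hd⟩ := h
  exact ⟨K', inferInstance, inferInstance, het, hff, isDiag_of_equiv (bcEquiv K K' e) hd⟩

variable (T : Type u) [CommRing T] [Algebra K T]

theorem isQIConst_baseChange (h : IsQuasiIsotrivialConst K B) :
    IsQuasiIsotrivialConst T (T ⊗[K] B) := by
  obtain ⟨K', _, _, het, hff, hd⟩ := h
  haveI := het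
  haveI := hff
  refine ⟨T ⊗[K] K', inferInstance, inferInstance, inferInstance, inferInstance, ?_⟩
  apply isDiag_of_equiv (cancelBC K T (T ⊗[K] K') B).symm
  let _ : Algebra K' (T ⊗[K] K') := Algebra.TensorProduct.rightAlgebra
  exact isDiag_tower K' (T ⊗[K] K') hd

variable (T' : Type u) [CommRing T'] [Algebra K T'] [Algebra T T'] [IsScalarTower K T T']

theorem isQIConst_tower (h : IsQuasiIsotrivialConst T (T ⊗[K] B)) :
    IsQuasiIsotrivialConst T' (T' ⊗[K] B) :=
  isQIConst_of_equiv (cancelBC K T T' B) (isQIConst_baseChange T' h)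

end Const

section AwayPi

variable {R : Type u} [CommRing R] {ι : Type u} [Fintype ι] [DecidableEq ι] {e : ι → R}

lemma algebraMap_away_self (he : CompleteOrthogonalIdempotents e) (c : ι) :
    algebraMap R (Localization.Away (e c)) (e c) = 1 := by
  have hu : IsUnit (algebraMap R (Localization.Away (e c)) (e c)) :=
    IsLocalization.Away.algebraMap_isUnit (e c)
  have h2 : algebraMap R (Localization.Away (e c)) (e c) *
      algebraMap R (Localization.Away (e c)) (e c) =
      algebraMap R (Localization.Away (e c)) (e c) * 1 := by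
    rw [← map_mul, (he.idem c).eq, mul_one]
  exact hu.mul_left_cancel h2

lemma algebraMap_away_of_ne (he : CompleteOrthogonalIdempotents e) {c c' : ι} (h : c ≠ c') :
    algebraMap R (Localization.Away (e c')) (e c) = 0 := by
  rw [← mul_one (algebraMap R (Localization.Away (e c')) (e c)), ← algebraMap_away_self he c',
    ← map_mul, he.ortho h, map_zero]

theorem bijective_algebraMap_pi_away (he : CompleteOrthogonalIdempotents e) :
    Function.Bijective (algebraMap R (Π c, Localization.Away (e c))) := by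
  constructor
  · rw [injective_iff_map_eq_zero]
    intro r hr
    have h1 : ∀ c, e c * r = 0 := by
      intro c
      have h2 : algebraMap R (Localization.Away (e c)) r = 0 := congrFun hr c
      rw [IsLocalization.map_eq_zero_iff (Submonoid.powers (e c))] at h2
      obtain ⟨⟨_, n, rfl⟩, hm⟩ := h2
      have hm' : e c ^ n * r = 0 := hm
      rcases Nat.eq_zero_or_pos n with rfl | hpos
      · simp only [pow_zero, one_mul] at hm'
        rw [hm', mul_zero]
      · have : e c ^ n = e c := by
          rw [← Nat.sub_add_cancel hpos, (he.idem c).pow_succ_eq]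
        rwa [this] at hm'
    rw [← one_mul r, ← he.complete, Finset.sum_mul]
    exact Finset.sum_eq_zero fun c _ => h1 c
  · intro y
    have h1 : ∀ c, ∃ r : R, algebraMap R (Localization.Away (e c)) r = y c := by
      intro c
      obtain ⟨⟨r, ⟨_, n, rfl⟩⟩, hr⟩ := IsLocalization.surj (Submonoid.powers (e c)) (y c)
      refine ⟨r, ?_⟩
      have hr' : y c * algebraMap R (Localization.Away (e c)) (e c ^ n) =
          algebraMap R (Localization.Away (e c)) r := hr
      rw [map_pow, algebraMap_away_self he, one_pow, mul_one] at hr'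
      exact hr'.symm
    choose r hr using h1
    refine ⟨∑ c, e c * r c, ?_⟩
    funext c'
    rw [Pi.algebraMap_apply, map_sum, Finset.sum_eq_single c']
    · rw [map_mul, algebraMap_away_self he, one_mul, hr]
    · intro c _ hc
      rw [map_mul, algebraMap_away_of_ne he hc, zero_mul]
    · intro h; exact absurd (Finset.mem_univ c') h

end AwayPi

section QuotPi

variable {P : Type u} [CommRing P] {ι : Type u} [Fintype ι] [DecidableEq ι]
  (T : ι → Type u) [∀ i, CommRing (T i)] [∀ i, Algebra P (T i)]
  (hbij : Function.Bijective (algebraMap P (Π i, T i))) (I : Ideal P)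

lemma secI_mem (c : ι) {t : T c} (ht : t ∈ I.map (algebraMap P (T c))) : secI T hbij c t ∈ I := by
  induction ht using Submodule.span_induction with
  | mem x hx =>
    obtain ⟨a, ha, rfl⟩ := hx
    rw [Algebra.algebraMap_eq_smul_one, map_smul, smul_eq_mul]
    exact I.mul_mem_right _ ha
  | zero => rw [map_zero]; exact I.zero_mem
  | add x y _ _ hx hy => rw [map_add]; exact I.add_mem hx hy
  | smul a x _ hx =>
    rw [smul_eq_mul, secI_mul]
    exact I.mul_mem_left _ hx

lemma sum_secI_algebraMap (p : P) : ∑ c, secI T hbij c (algebraMap P (T c) p) = p := by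
  apply (eR T hbij).injective
  rw [map_sum]
  simp_rw [eR_secI]
  exact Finset.univ_sum_single (eR T hbij p)

/-- the reduction of the decomposition modulo an ideal. -/
noncomputable def quotPiHom : P ⧸ I →+* Π c, T c ⧸ I.map (algebraMap P (T c)) :=
  RingHom.pi fun c =>
    Ideal.quotientMap (I.map (algebraMap P (T c))) (algebraMap P (T c)) Ideal.le_comap_map

lemma quotPiHom_mk (p : P) (c : ι) :
    quotPiHom T I (Ideal.Quotient.mk I p) c = Ideal.Quotient.mk _ (algebraMap P (T c) p) := rfl

include hbij in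
theorem quotPiHom_bijective : Function.Bijective (quotPiHom T I) := by
  constructor
  · rw [injective_iff_map_eq_zero]
    intro x hx
    obtain ⟨p, rfl⟩ := Ideal.Quotient.mk_surjective x
    rw [Ideal.Quotient.eq_zero_iff_mem, ← sum_secI_algebraMap T hbij p]
    refine I.sum_mem fun c _ => secI_mem T hbij I c ?_
    rw [← Ideal.Quotient.eq_zero_iff_mem, ← quotPiHom_mk, hx]
    rfl
  · intro y
    choose t ht using fun c => Ideal.Quotient.mk_surjective (y c)
    refine ⟨Ideal.Quotient.mk I ((eR T hbij).symm t), ?_⟩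
    funext c
    rw [quotPiHom_mk, ← eR_apply T hbij, RingEquiv.apply_symm_apply, ht]

end QuotPi

section Main

variable {R : Type u} [CommRing R] {ι : Type u}

/-- the localisation at the `c`-th idempotent. -/
abbrev Rc (e : ι → R) (c : ι) : Type u := Localization.Away (e c)

/-- the extension of the ideal to the `c`-th piece. -/
abbrev Ic (I : Ideal R) (e : ι → R) (c : ι) : Ideal (Rc e c) := I.map (algebraMap R (Rc e c))

/-- the reduction of the `c`-th piece. -/
abbrev Tb (I : Ideal R) (e : ι → R) (c : ι) : Type u := Rc e c ⧸ Ic I e c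

/-- the reduction of the `c`-th piece as an algebra over the reduction of the ring. -/
@[reducible] noncomputable def algQ (I : Ideal R) (e : ι → R) (c : ι) :
    Algebra (R ⧸ I) (Tb I e c) :=
  (Ideal.quotientMap (Ic I e c) (algebraMap R (Rc e c)) Ideal.le_comap_map).toAlgebra

/-- **Quasi-isotrivial groups of multiplicative type lift along a nil ideal** (SGA3 X 2.1). -/
theorem exists_quasiIsotrivial_lift (R : Type u) [CommRing R] (I : Ideal R)
    (hI : ∀ x ∈ I, IsNilpotent x) (A₀ : Type u) [CommRing A₀] [HopfAlgebra (R ⧸ I) A₀]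
    (h0 : IsQuasiIsotrivial (R ⧸ I) A₀) :
    ∃ (A : Type u) (_ : CommRing A) (_ : HopfAlgebra R A), IsQuasiIsotrivial R A ∧
      Nonempty (((R ⧸ I) ⊗[R] A) ≃ₐc[R ⧸ I] A₀) := by
  obtain ⟨ι, _, _, ē, hē, hloc⟩ := exists_idempotent_decomposition (R ⧸ I) A₀ h0
  obtain ⟨e, he, hee⟩ := CompleteOrthogonalIdempotents.lift_of_isNilpotent_ker
    (Ideal.Quotient.mk I) (by rw [Ideal.mk_ker]; exact hI) hē
    (fun i => Ideal.Quotient.mk_surjective (ē i))
  have hee' : ∀ c, Ideal.Quotient.mk I (e c) = ē c := fun c => congrFun hee c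
  have hIc : ∀ c, ∀ x ∈ Ic I e c, IsNilpotent x := fun c =>
    Groth.Agent.Lib.Helper77.GLLift.nil_map R (Rc e c) hI
  letI := fun c => algQ I e c
  haveI towQ : ∀ c, IsScalarTower R (R ⧸ I) (Tb I e c) := fun c =>
    IsScalarTower.of_algebraMap_eq (fun _ => rfl)
  have hunit : ∀ c, IsUnit (algebraMap (R ⧸ I) (Tb I e c) (ē c)) := by
    intro c
    rw [← hee' c]
    show IsUnit (Ideal.Quotient.mk (Ic I e c) (algebraMap R (Rc e c) (e c)))
    rw [algebraMap_away_self he, map_one]
    exact isUnit_one
  letI algL : ∀ c, Algebra (Localization.Away (ē c)) (Tb I e c) := fun c =>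
    (IsLocalization.Away.lift (ē c) (hunit c)).toAlgebra
  haveI towL : ∀ c, IsScalarTower (R ⧸ I) (Localization.Away (ē c)) (Tb I e c) := fun c =>
    IsScalarTower.of_algebraMap_eq (fun x => (IsLocalization.Away.lift_eq (ē c) (hunit c) x).symm)
  have hQ : ∀ c, IsQuasiIsotrivialConst (Tb I e c) (Tb I e c ⊗[R ⧸ I] A₀) := fun c =>
    isQIConst_tower (Localization.Away (ē c)) (Tb I e c) (hloc c)
  have hlift : ∀ c, ∃ (A : Type u) (_ : CommRing A) (_ : HopfAlgebra (Rc e c) A),
      IsQuasiIsotrivialConst (Rc e c) A ∧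
      Nonempty ((Tb I e c ⊗[Rc e c] A) ≃ₐc[Tb I e c] (Tb I e c ⊗[R ⧸ I] A₀)) := fun c =>
    exists_const_lift_nil (Rc e c) (Ic I e c) (hIc c) _ (hQ c)
  choose A instCR instH hQI hiso using hlift
  letI := instCR
  letI := instH
  letI algRA : ∀ c, Algebra R (A c) := fun c =>
    ((algebraMap (Rc e c) (A c)).comp (algebraMap R (Rc e c))).toAlgebra
  haveI towA : ∀ c, IsScalarTower R (Rc e c) (A c) := fun c =>
    IsScalarTower.of_algebraMap_eq (fun _ => rfl)
  have hbij : Function.Bijective (algebraMap R (Π c, Rc e c)) := bijective_algebraMap_pi_away he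
  letI hopfH : HopfAlgebra R (Π c, A c) := piHopfAlgebra (Rc e) hbij A
  have hκ : ∀ c, Nonempty (Rc e c ⊗[R] (Π c, A c) ≃ₐc[Rc e c] A c) := fun c =>
    nonempty_kappa (Rc e) hbij A c
  refine ⟨Π c, A c, inferInstance, hopfH, ?_, ?_⟩
  · refine ⟨Set.range e, ?_, ?_⟩
    · rw [Ideal.eq_top_iff_one, ← he.complete]
      exact Ideal.sum_mem _ fun c _ => Ideal.subset_span ⟨c, rfl⟩
    · rintro _ ⟨c, rfl⟩
      obtain ⟨κ⟩ := hκ c
      exact isQIConst_of_equiv κ.symm (hQI c)
  · have hbij' : Function.Bijective (algebraMap (R ⧸ I) (Π c, Tb I e c)) :=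
      quotPiHom_bijective (Rc e) hbij I
    let θ : ∀ c, (Tb I e c) ⊗[R ⧸ I] ((R ⧸ I) ⊗[R] (Π c, A c)) ≃ₐc[Tb I e c]
        (Tb I e c) ⊗[R ⧸ I] A₀ := fun c =>
      (cancelBC R (R ⧸ I) (Tb I e c) (Π c, A c)).trans
        ((cancelBC R (Rc e c) (Tb I e c) (Π c, A c)).symm.trans
          ((bcEquiv (Rc e c) (Tb I e c) (hκ c).some).trans (hiso c).some))
    obtain ⟨Θ, -⟩ := exists_bialgEquiv_of_local (P := R ⧸ I) (fun c => Tb I e c) hbij' θ
    exact ⟨Θ⟩

end Main

end Groth.Agent.Lib.Helper77.QILift
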