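import Mathlib
import Groth.Prelude.Def_SGA3b
import Groth.Agent.Lib.Helper77.QILift6
import Groth.Agent.Lib.Helper77.IsoTriv5
import Groth.Agent.Lib.Helper77.IsoTriv6
import Groth.Agent.Lib.Helper77.KerMT1
import Groth.Agent.S2987

/-!
# Lifting homomorphisms into quasi-isotrivial groups (helper77), part 1: generalities
-/

set_option autoImplicit false
set_option linter.style.haveILetI false
universe u
open TensorProduct

namespace Groth.Agent.Lib.Helper77.HomLift

open SGA3b Groth.Agent.Lib.Helper77.MultBC Groth.Agent.Lib.Helper77.QILift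

section QI

variable {R : Type u} [CommRing R] {A : Type u} [CommRing A] [HopfAlgebra R A]

theorem isQuasiIsotrivial_of_equiv {A' : Type u} [CommRing A'] [HopfAlgebra R A'] (e : A ≃ₐc[R] A')
    (h : IsQuasiIsotrivial R A) : IsQuasiIsotrivial R A' := by
  obtain ⟨s, hs, hloc⟩ := h
  exact ⟨s, hs, fun f hf => isQIConst_of_equiv (bcEquiv R (Localization.Away f) e) (hloc f hf)⟩

theorem isMultType_of_isQuasiIsotrivial (h : IsQuasiIsotrivial R A) : IsMultType R A := by
  obtain ⟨s, hs, hloc⟩ := h
  refine ⟨s, hs, fun f hf => ?_⟩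
  obtain ⟨R', _, _, _, hff, hd⟩ := hloc f hf
  exact ⟨R', inferInstance, inferInstance, hff, hd⟩

theorem isCocomm_of_isQuasiIsotrivial (h : IsQuasiIsotrivial R A) : Coalgebra.IsCocomm R A :=
  Groth.Agent.Lib.Helper77.IsoTriv5.isCocomm_of_isMultType A (isMultType_of_isQuasiIsotrivial h)

variable (A) (T : Type u) [CommRing T] [Algebra R T]

/-- quasi-isotrivial groups are stable under base change. -/
theorem isQuasiIsotrivial_baseChange (h : IsQuasiIsotrivial R A) :
    IsQuasiIsotrivial T (T ⊗[R] A) := by
  obtain ⟨s, hs, hloc⟩ := h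
  refine ⟨algebraMap R T '' s, ?_, ?_⟩
  · rw [← Ideal.map_span, hs, Ideal.map_top]
  · rintro _ ⟨f, hf, rfl⟩
    letI : Algebra (Localization.Away f) (Localization.Away (algebraMap R T f)) :=
      (Localization.awayMap (algebraMap R T) f).toAlgebra
    haveI : IsScalarTower R (Localization.Away f) (Localization.Away (algebraMap R T f)) := by
      apply IsScalarTower.of_algebraMap_eq
      intro x
      change _ = Localization.awayMap (algebraMap R T) f (algebraMap R (Localization.Away f) x)
      rw [Localization.awayMap, IsLocalization.Away.map, IsLocalization.map_eq]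
      rfl
    have h2 : IsQuasiIsotrivialConst (Localization.Away (algebraMap R T f))
        (Localization.Away (algebraMap R T f) ⊗[R] A) :=
      isQIConst_tower (Localization.Away f) _ (hloc f hf)
    exact isQIConst_of_equiv
      (cancelBC R T (Localization.Away (algebraMap R T f)) A).symm h2

variable (T' : Type u) [CommRing T'] [Algebra R T'] [Algebra T T'] [IsScalarTower R T T']

theorem isQuasiIsotrivial_tower (h : IsQuasiIsotrivial T (T ⊗[R] A)) :
    IsQuasiIsotrivial T' (T' ⊗[R] A) :=
  isQuasiIsotrivial_of_equiv (cancelBC R T T' A) (isQuasiIsotrivial_baseChange (T ⊗[R] A) T' h)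

end QI

section Abs

variable (K : Type u) [CommRing K] (K₀ : Type u) [CommRing K₀] [Algebra K K₀]
  (D : Type u) [CommRing D] [HopfAlgebra K D]

/-- `S2987` for a surjection with nilpotent kernel instead of a quotient by a nilpotent ideal. -/
theorem isQuasiIsotrivial_of_flat_of_surjective [Module.Flat K D]
    (hsurj : Function.Surjective (algebraMap K K₀))
    (hnil : IsNilpotent (RingHom.ker (algebraMap K K₀)))
    (h0 : IsQuasiIsotrivial K₀ (K₀ ⊗[K] D)) : IsQuasiIsotrivial K D := by
  let e : (K ⧸ RingHom.ker (algebraMap K K₀)) ≃ₐ[K] K₀ :=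
    Ideal.quotientKerAlgEquivOfSurjective (f := Algebra.ofId K K₀) hsurj
  letI : Algebra K₀ (K ⧸ RingHom.ker (algebraMap K K₀)) := e.symm.toAlgHom.toRingHom.toAlgebra
  haveI : IsScalarTower K K₀ (K ⧸ RingHom.ker (algebraMap K K₀)) :=
    IsScalarTower.of_algebraMap_eq (fun x => (e.symm.commutes x).symm)
  have h1 : IsQuasiIsotrivial (K ⧸ RingHom.ker (algebraMap K K₀))
      ((K ⧸ RingHom.ker (algebraMap K K₀)) ⊗[K] D) :=
    isQuasiIsotrivial_tower D K₀ _ h0
  exact Groth.Agent.S2987.quasiIsotrivial_lift K D _ hnil h1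

end Abs

end Groth.Agent.Lib.Helper77.HomLift
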