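import Mathlib
import Groth.Prelude.Def_SGA3b
import Groth.Agent.Lib.Helper77.FFDescent3
import Groth.Agent.Lib.Helper77.QILift2

/-!
# Lifting homomorphisms into quasi-isotrivial groups (helper77), part 2: descent of homomorphisms
-/

set_option autoImplicit false
set_option linter.style.haveILetI false
universe u
open TensorProduct

namespace Groth.Agent.Lib.Helper77.HomLift

open SGA3b Groth.Agent.Lib.Helper77.MultBC Groth.Agent.Lib.Helper77.QILift
  Groth.Agent.Lib.Helper77.FFDescent Groth.Agent.Lib.Helper77.MultMono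
  Groth.Agent.Lib.Helper77.HensDual1 Groth.Agent.Lib.Helper77.HopfLift2

section DescentHom

variable {R : Type u} [CommRing R] {S : Type u} [CommRing S] [Algebra R S]
  [Module.FaithfullyFlat R S]
  {A : Type u} [CommRing A] [Bialgebra R A] {B : Type u} [CommRing B] [Bialgebra R B]

/-- **descent of bialgebra homomorphisms** along a faithfully flat ring map. -/
theorem exists_bialgHom_of_baseChange (Ξ : S ⊗[R] A →ₐc[S] S ⊗[R] B)
    (hΞ : ∀ a : A, ∃ b : B, Ξ ((1 : S) ⊗ₜ[R] a) = (1 : S) ⊗ₜ[R] b) :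
    ∃ ψ : A →ₐc[R] B, ∀ a, Ξ ((1 : S) ⊗ₜ[R] a) = (1 : S) ⊗ₜ[R] ψ a := by
  let ιB : B →ₐ[R] S ⊗[R] B := Algebra.TensorProduct.includeRight
  have hιB : Function.Injective ιB := one_tmul_injective (S := S) B
  let f : A →ₐ[R] S ⊗[R] B :=
    ((Ξ : S ⊗[R] A →ₐ[S] S ⊗[R] B).restrictScalars R).comp
      Algebra.TensorProduct.includeRight
  have hf : ∀ a, f a ∈ ιB.range := by
    intro a
    obtain ⟨b, hb⟩ := hΞ a
    exact ⟨b, hb.symm⟩
  obtain ⟨ψ, hψ⟩ := exists_algHom_factor ιB hιB f hf
  have hψ' : ∀ a, Ξ ((1 : S) ⊗ₜ[R] a) = (1 : S) ⊗ₜ[R] ψ a := fun a => (hψ a).symm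
  have hinjS : Function.Injective (algebraMap R S) := FaithfulSMul.algebraMap_injective R S
  refine ⟨BialgHom.ofAlgHom ψ ?_ ?_, hψ'⟩
  · apply AlgHom.ext
    intro a
    apply hinjS
    have h1 : ∀ b : B, algebraMap R S (Coalgebra.counit (R := R) b) =
        Coalgebra.counit (R := S) ((1 : S) ⊗ₜ[R] b) := by
      intro b
      rw [TensorProduct.counit_tmul]
      simp [Algebra.smul_def]
    have h2 : ∀ a : A, algebraMap R S (Coalgebra.counit (R := R) a) =
        Coalgebra.counit (R := S) ((1 : S) ⊗ₜ[R] a) := by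
      intro a
      rw [TensorProduct.counit_tmul]
      simp [Algebra.smul_def]
    show algebraMap R S (Coalgebra.counit (R := R) (ψ a)) =
      algebraMap R S (Coalgebra.counit (R := R) a)
    rw [h1, h2, ← hψ']
    exact CoalgHomClass.counit_comp_apply Ξ _
  · apply AlgHom.ext
    intro a
    have hinj2 : Function.Injective (fun w : B ⊗[R] B =>
        TensorProduct.AlgebraTensorModule.distribBaseChange R S B B ((1 : S) ⊗ₜ[R] w)) :=
      (TensorProduct.AlgebraTensorModule.distribBaseChange R S B B).injective.comp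
        (one_tmul_injective (S := S) (B ⊗[R] B))
    apply hinj2
    have hw : ∀ w : A ⊗[R] A, TensorProduct.map (Ξ : S ⊗[R] A →ₗ[S] S ⊗[R] B)
          (Ξ : S ⊗[R] A →ₗ[S] S ⊗[R] B)
          (TensorProduct.AlgebraTensorModule.distribBaseChange R S A A ((1 : S) ⊗ₜ[R] w)) =
        TensorProduct.AlgebraTensorModule.distribBaseChange R S B B
          ((1 : S) ⊗ₜ[R] (Algebra.TensorProduct.map ψ ψ w)) := by
      intro w
      induction w using TensorProduct.induction_on with
      | zero => simp
      | tmul a₁ a₂ =>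
        simp only [TensorProduct.AlgebraTensorModule.distribBaseChange_tmul,
          Algebra.TensorProduct.map_tmul]
        rw [TensorProduct.map_tmul]
        congr 1
        · exact hψ' a₁
        · exact hψ' a₂
      | add x y hx hy => simp only [TensorProduct.tmul_add, map_add, hx, hy]
    show TensorProduct.AlgebraTensorModule.distribBaseChange R S B B ((1 : S) ⊗ₜ[R]
        (Algebra.TensorProduct.map ψ ψ (Coalgebra.comul (R := R) a))) =
      TensorProduct.AlgebraTensorModule.distribBaseChange R S B B ((1 : S) ⊗ₜ[R]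
        (Coalgebra.comul (R := R) (ψ a)))
    rw [← hw, ← comul_one_tmul', ← comul_one_tmul', ← hψ']
    exact CoalgHomClass.map_comp_comul_apply Ξ _

end DescentHom

section GlueHom

variable {P : Type u} [CommRing P] {ι : Type u} [Fintype ι] [DecidableEq ι]
  (T : ι → Type u) [∀ i, CommRing (T i)] [∀ i, Algebra P (T i)]
  (hbij : Function.Bijective (algebraMap P (Π i, T i)))
  {H₁ H₂ : Type u} [CommRing H₁] [CommRing H₂] [HopfAlgebra P H₁] [HopfAlgebra P H₂]

include hbij in
/-- **gluing of local bialgebra homomorphisms** over a finite decomposition of the base ring. -/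
theorem exists_bialgHom_of_local (θ : ∀ i, T i ⊗[P] H₁ →ₐc[T i] T i ⊗[P] H₂) :
    ∃ Θ : H₁ →ₐc[P] H₂, ∀ i h, (1 : T i) ⊗ₜ[P] Θ h = θ i ((1 : T i) ⊗ₜ[P] h) := by
  choose f hf using fun h : H₁ => loc_exists P T H₂ hbij (fun i => θ i ((1 : T i) ⊗ₜ[P] h))
  have hadd : ∀ a b, f (a + b) = f a + f b := by
    intro a b
    apply loc_ext P T H₂ hbij
    intro i
    rw [hf, TensorProduct.tmul_add, map_add, TensorProduct.tmul_add, hf, hf]
  have hmul : ∀ a b, f (a * b) = f a * f b := by
    intro a b
    apply loc_ext P T H₂ hbij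
    intro i
    have h1 : (1 : T i) ⊗ₜ[P] (a * b) = ((1 : T i) ⊗ₜ[P] a) * ((1 : T i) ⊗ₜ[P] b) := by
      rw [Algebra.TensorProduct.tmul_mul_tmul, mul_one]
    have h2 : (1 : T i) ⊗ₜ[P] (f a * f b) = ((1 : T i) ⊗ₜ[P] f a) * ((1 : T i) ⊗ₜ[P] f b) := by
      rw [Algebra.TensorProduct.tmul_mul_tmul, mul_one]
    rw [hf, h1, map_mul, h2, hf, hf]
  have halg : ∀ p : P, f (algebraMap P H₁ p) = algebraMap P H₂ p := by
    intro p
    apply loc_ext P T H₂ hbij
    intro i
    rw [hf, Algebra.algebraMap_eq_smul_one, Algebra.algebraMap_eq_smul_one, TensorProduct.tmul_smul,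
      TensorProduct.tmul_smul, ← Algebra.TensorProduct.one_def, ← Algebra.TensorProduct.one_def]
    have h1 : p • (1 : T i ⊗[P] H₁) = (algebraMap P (T i) p) • (1 : T i ⊗[P] H₁) := by
      rw [algebraMap_smul]
    have h2 : p • (1 : T i ⊗[P] H₂) = (algebraMap P (T i) p) • (1 : T i ⊗[P] H₂) := by
      rw [algebraMap_smul]
    rw [h1, h2, map_smul, map_one]
  have hone : f 1 = 1 := by
    have := halg 1
    rwa [map_one, map_one] at this
  have hzero : f 0 = 0 := by
    have := halg 0
    rwa [map_zero, map_zero] at this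
  let Θa : H₁ →ₐ[P] H₂ :=
    { toFun := f
      map_one' := hone
      map_mul' := hmul
      map_zero' := hzero
      map_add' := hadd
      commutes' := halg }
  have hΘa : ∀ h, Θa h = f h := fun _ => rfl
  refine ⟨BialgHom.ofAlgHom Θa ?_ ?_, fun i h => hf h i⟩
  · -- counit
    refine AlgHom.ext fun h => ?_
    show Coalgebra.counit (R := P) (f h) = Coalgebra.counit (R := P) h
    apply loc_ext P T P hbij
    intro i
    have key : ∀ {H : Type u} [CommRing H] [HopfAlgebra P H] (x : H),
        (1 : T i) ⊗ₜ[P] (Coalgebra.counit (R := P) x : P) =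
          (Coalgebra.counit (R := T i) ((1 : T i) ⊗ₜ[P] x)) ⊗ₜ[P] (1 : P) := by
      intro H _ _ x
      rw [TensorProduct.counit_tmul]
      simp only [Bialgebra.counit_one]
      rw [TensorProduct.smul_tmul, smul_eq_mul, mul_one]
    rw [key, key, hf]
    congr 1
    exact CoalgHomClass.counit_comp_apply (θ i) _
  · -- comultiplication
    refine AlgHom.ext fun h => ?_
    show TensorProduct.map Θa.toLinearMap Θa.toLinearMap (Coalgebra.comul (R := P) h) =
      Coalgebra.comul (R := P) (f h)
    apply loc_ext P T (H₂ ⊗[P] H₂) hbij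
    intro i
    apply (TensorProduct.AlgebraTensorModule.distribBaseChange P (T i) H₂ H₂).injective
    have hL : ∀ t : H₁ ⊗[P] H₁,
        TensorProduct.AlgebraTensorModule.distribBaseChange P (T i) H₂ H₂
          ((1 : T i) ⊗ₜ[P] TensorProduct.map Θa.toLinearMap Θa.toLinearMap t) =
        TensorProduct.map (θ i).toLinearMap (θ i).toLinearMap
          (TensorProduct.AlgebraTensorModule.distribBaseChange P (T i) H₁ H₁
            ((1 : T i) ⊗ₜ[P] t)) := by
      intro t
      induction t using TensorProduct.induction_on with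
      | zero => simp
      | tmul a b =>
        rw [TensorProduct.map_tmul, TensorProduct.AlgebraTensorModule.distribBaseChange_tmul,
          TensorProduct.AlgebraTensorModule.distribBaseChange_tmul, TensorProduct.map_tmul]
        show ((1 : T i) ⊗ₜ[P] f a) ⊗ₜ[T i] ((1 : T i) ⊗ₜ[P] f b) = _
        rw [hf, hf]
        rfl
      | add x y hx hy => simp only [map_add, TensorProduct.tmul_add, hx, hy]
    rw [hL, ← Groth.Agent.Lib.Helper77.MultBC.comul_one_tmul,
      ← Groth.Agent.Lib.Helper77.MultBC.comul_one_tmul, hf]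
    exact CoalgHomClass.map_comp_comul_apply (θ i) _

end GlueHom

section BcAlong

variable {K : Type u} [CommRing K] {S : Type u} [CommRing S] [Algebra K S]
  {T : Type u} [CommRing T] [Algebra K T]
  {D : Type u} [CommRing D] [HopfAlgebra K D] {B : Type u} [CommRing B] [HopfAlgebra K B]

/-- base change of a homomorphism over `S` along a `K`-algebra map `S → T`. -/
theorem exists_bcAlong (g : S →ₐ[K] T) (Φ : S ⊗[K] D →ₐc[S] S ⊗[K] B) :
    ∃ Φ' : T ⊗[K] D →ₐc[T] T ⊗[K] B, ∀ d : D,
      Φ' ((1 : T) ⊗ₜ[K] d) = Algebra.TensorProduct.map g (AlgHom.id K B) (Φ ((1 : S) ⊗ₜ[K] d)) := by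
  letI : Algebra S T := g.toRingHom.toAlgebra
  haveI : IsScalarTower K S T := IsScalarTower.of_algebraMap_eq (fun x => (g.commutes x).symm)
  refine ⟨((cancelBC K S T B : _ →ₐc[T] _).comp (bcHom S T Φ)).comp
    ((cancelBC K S T D).symm : _ →ₐc[T] _), fun d => ?_⟩
  have h3 : ∀ z : S ⊗[K] B, cancelBC K S T B ((1 : T) ⊗ₜ[S] z) =
      Algebra.TensorProduct.map g (AlgHom.id K B) z := by
    intro z
    induction z using TensorProduct.induction_on with
    | zero => simp
    | tmul k b =>
      rw [cancelBC_tmul, Algebra.TensorProduct.map_tmul, AlgHom.id_apply, Algebra.smul_def, mul_one]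
      rfl
    | add x y hx hy => rw [TensorProduct.tmul_add, map_add, map_add, hx, hy]
  show cancelBC K S T B (bcHom S T Φ ((cancelBC K S T D).symm ((1 : T) ⊗ₜ[K] d))) = _
  rw [cancelBC_symm_tmul, bcHom_tmul, h3]

end BcAlong

end Groth.Agent.Lib.Helper77.HomLift
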