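import Mathlib
import Groth.Prelude.Def_SGA3b
import Groth.Agent.Lib.Helper77.HomLift1
import Groth.Agent.Lib.Helper77.HomLift2
import Groth.Agent.Lib.Helper77.DiagNil
import Groth.Agent.Lib.Helper26.MultRigid

/-!
# Lifting homomorphisms into quasi-isotrivial groups (helper77), part 3: the diagonalisable case
-/

set_option autoImplicit false
set_option linter.style.haveILetI false
universe u
open TensorProduct

namespace Groth.Agent.Lib.Helper77.HomLift

open SGA3b Groth.Agent.Lib.Helper77.MultBC Groth.Agent.Lib.Helper77.QILift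
  Groth.Agent.Lib.Helper77.MultMono Groth.Agent.Lib.Helper77.GLLift
  Groth.Agent.Lib.Helper77.DiagNil

section Diag

variable {K : Type u} [CommRing K] (J : Ideal K) (hJ : ∀ x ∈ J, IsNilpotent x)
  {D : Type u} [CommRing D] [HopfAlgebra K D] {B : Type u} [CommRing B] [HopfAlgebra K B]
  (Ψ₀ : (K ⧸ J) ⊗[K] D →ₐc[K ⧸ J] (K ⧸ J) ⊗[K] B)

include hJ in
/-- **the diagonalisable case**: a homomorphism modulo a nil ideal from a group of multiplicative
type to a diagonalisable group lifts. -/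
theorem exists_lift_of_isDiag (hD : IsDiag K D) (hB : IsMultType K B) :
    ∃ Ψ : D →ₐc[K] B, ∀ d : D, Ψ₀ ((1 : K ⧸ J) ⊗ₜ[K] d) = (1 : K ⧸ J) ⊗ₜ[K] Ψ d := by
  obtain ⟨M, _, ⟨ε⟩⟩ := hD
  have hex : ∀ m : M, ∃ u : B, IsGroupLikeElem K u ∧
      (1 : K ⧸ J) ⊗ₜ[K] u = Ψ₀ ((1 : K ⧸ J) ⊗ₜ[K] ε.symm (MonoidAlgebra.single m 1)) := by
    intro m
    have hg : IsGroupLikeElem K (ε.symm (MonoidAlgebra.single m (1 : K))) :=
      (MonoidAlgebra.isGroupLikeElem_single_one m).map ε.symm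
    have hz : IsGroupLikeElem (K ⧸ J)
        (Ψ₀ ((1 : K ⧸ J) ⊗ₜ[K] ε.symm (MonoidAlgebra.single m 1))) :=
      (Groth.Agent.Lib.Helper77.DiagSub.isGroupLikeElem_one_tmul K (K ⧸ J) hg).map Ψ₀
    obtain ⟨x, hx⟩ := exists_one_tmul_eq J
      (Ψ₀ ((1 : K ⧸ J) ⊗ₜ[K] ε.symm (MonoidAlgebra.single m 1)))
    rw [← hx] at hz
    obtain ⟨u, hu, hux⟩ := exists_lift_of_isMultType hJ hB (GLMod.of_quot hz)
    refine ⟨u, hu, ?_⟩
    rw [← hx, ← sub_eq_zero, ← TensorProduct.tmul_sub, one_tmul_eq_zero_iff]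
    exact hux
  choose u hu hu1 using hex
  have hmul : ∀ m n, u (m * n) = u m * u n := by
    intro m n
    apply eq_of_isMultType hJ hB (hu _) ((hu m).mul (hu n))
    rw [← one_tmul_eq_zero_iff, TensorProduct.tmul_sub, sub_eq_zero, hu1]
    have h1 : (1 : K ⧸ J) ⊗ₜ[K] (u m * u n) =
        ((1 : K ⧸ J) ⊗ₜ[K] u m) * ((1 : K ⧸ J) ⊗ₜ[K] u n) := by
      rw [Algebra.TensorProduct.tmul_mul_tmul, one_mul]
    rw [h1, hu1, hu1, ← map_mul, Algebra.TensorProduct.tmul_mul_tmul, one_mul, ← map_mul,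
      MonoidAlgebra.single_mul_single, one_mul]
  have hone : u 1 = 1 := by
    apply eq_of_isMultType hJ hB (hu 1) (IsGroupLikeElem.one (R := K) (A := B))
    rw [← one_tmul_eq_zero_iff, TensorProduct.tmul_sub, sub_eq_zero, hu1, ← MonoidAlgebra.one_def,
      map_one, ← Algebra.TensorProduct.one_def, map_one, Algebra.TensorProduct.one_def]
  let uG : M →* GroupLike K B :=
    { toFun := fun m => ⟨u m, hu m⟩
      map_one' := GroupLike.ext hone
      map_mul' := fun m n => GroupLike.ext (hmul m n) }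
  let θ : MonoidAlgebra K M →ₐc[K] B :=
    (MonoidAlgebra.liftGroupLikeBialgHom (R := K) (A := B)).comp (MonoidAlgebra.mapDomainBialgHom K uG)
  have hθ : ∀ m, θ (MonoidAlgebra.single m 1) = u m := by
    intro m
    simp [θ, uG]
  refine ⟨θ.comp (ε : D →ₐc[K] MonoidAlgebra K M), ?_⟩
  -- check on the basis
  have key : ∀ p : MonoidAlgebra K M, Ψ₀ ((1 : K ⧸ J) ⊗ₜ[K] ε.symm p) = (1 : K ⧸ J) ⊗ₜ[K] θ p := by
    intro p
    induction p using MonoidAlgebra.induction_on with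
    | of m => rw [MonoidAlgebra.of_apply, hθ, hu1]
    | add x y hx hy => rw [map_add, TensorProduct.tmul_add, map_add, hx, hy, map_add,
        TensorProduct.tmul_add]
    | smul r x hx =>
      have h1 : Ψ₀ ((1 : K ⧸ J) ⊗ₜ[K] ε.symm (r • x)) = r • Ψ₀ ((1 : K ⧸ J) ⊗ₜ[K] ε.symm x) := by
        rw [map_smul, TensorProduct.tmul_smul, ← algebraMap_smul (K ⧸ J) r, map_smul,
          algebraMap_smul]
      rw [h1, hx, map_smul, TensorProduct.tmul_smul]
  intro d
  have := key (ε d)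
  rw [ε.symm_apply_apply] at this
  rw [this]
  rfl

end Diag

end Groth.Agent.Lib.Helper77.HomLift
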