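import Mathlib
import Groth.Prelude.Def_SGA3b
import Groth.Agent.Lib.Helper77.HomLift3

/-!
# Lifting homomorphisms into quasi-isotrivial groups (helper77), part 4: the lifting problem after
base change, uniqueness
-/

set_option autoImplicit false
set_option linter.style.haveILetI false
universe u
open TensorProduct

namespace Groth.Agent.Lib.Helper77.HomLift

open SGA3b Groth.Agent.Lib.Helper77.MultBC Groth.Agent.Lib.Helper77.QILift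
  Groth.Agent.Lib.Helper77.MultMono Groth.Agent.Lib.Helper77.GLLift
  Groth.Agent.Lib.Helper77.DiagNil

section Problem

variable {K : Type u} [CommRing K] (J : Ideal K)
  {D : Type u} [CommRing D] [HopfAlgebra K D] {B : Type u} [CommRing B] [HopfAlgebra K B]
  (Ψ₀ : (K ⧸ J) ⊗[K] D →ₐc[K ⧸ J] (K ⧸ J) ⊗[K] B)

/-- the homomorphism `Φ` over `T` lifts (the base change of) `Ψ₀`. -/
def Lifts (T : Type u) [CommRing T] [Algebra K T] (Φ : T ⊗[K] D →ₐc[T] T ⊗[K] B) : Prop :=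
  ∀ (d : D) (b : B), Ψ₀ ((1 : K ⧸ J) ⊗ₜ[K] d) = (1 : K ⧸ J) ⊗ₜ[K] b →
    Φ ((1 : T) ⊗ₜ[K] d) - (1 : T) ⊗ₜ[K] b ∈ extI K J (T ⊗[K] B)

variable {J Ψ₀}

lemma Lifts.of_bcAlong {S : Type u} [CommRing S] [Algebra K S] {T : Type u} [CommRing T]
    [Algebra K T] (g : S →ₐ[K] T) {Φ : S ⊗[K] D →ₐc[S] S ⊗[K] B} (hΦ : Lifts J Ψ₀ S Φ)
    {Φ' : T ⊗[K] D →ₐc[T] T ⊗[K] B}
    (hΦ' : ∀ d : D, Φ' ((1 : T) ⊗ₜ[K] d) =
      Algebra.TensorProduct.map g (AlgHom.id K B) (Φ ((1 : S) ⊗ₜ[K] d))) :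
    Lifts J Ψ₀ T Φ' := by
  intro d b hdb
  have h1 := algHom_mem K (Algebra.TensorProduct.map g (AlgHom.id K B)) J (hΦ d b hdb)
  rw [map_sub, Algebra.TensorProduct.map_tmul, map_one, AlgHom.id_apply, ← hΦ'] at h1
  exact h1

/-- uniqueness of liftings. -/
theorem Lifts.unique (hJ : IsNilpotent J) (hB : IsMultType K B) (hD : IsMultType K D)
    {T : Type u} [CommRing T] [Algebra K T] {Φ₁ Φ₂ : T ⊗[K] D →ₐc[T] T ⊗[K] B}
    (h₁ : Lifts J Ψ₀ T Φ₁) (h₂ : Lifts J Ψ₀ T Φ₂) : Φ₁ = Φ₂ := by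
  have hBT : IsMultType T (T ⊗[K] B) := Groth.Agent.Lib.Helper77.IsoTriv6.isMultType_baseChange B T hB
  haveI : Coalgebra.IsCocomm T (T ⊗[K] D) :=
    Groth.Agent.Lib.Helper77.IsoTriv5.isCocomm_of_isMultType _
      (Groth.Agent.Lib.Helper77.IsoTriv6.isMultType_baseChange D T hD)
  have hnil : IsNilpotent (Ideal.map (algebraMap K T) J) := by
    obtain ⟨n, hn⟩ := hJ
    exact ⟨n, by rw [← Ideal.map_pow, hn, Ideal.zero_eq_bot, Ideal.map_bot]; rfl⟩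
  refine Groth.Agent.Lib.Helper26.MultRigid.eq_of_reduction T _ hnil (T ⊗[K] B) hBT (T ⊗[K] D)
    Φ₁ Φ₂ ?_
  intro z
  rw [← sub_eq_zero, ← TensorProduct.tmul_sub, one_tmul_eq_zero_iff, extI_tower]
  induction z using TensorProduct.induction_on with
  | zero => simp
  | tmul t d =>
    obtain ⟨b, hb⟩ := exists_one_tmul_eq J (Ψ₀ ((1 : K ⧸ J) ⊗ₜ[K] d))
    have h3 : t ⊗ₜ[K] d = t • ((1 : T) ⊗ₜ[K] d) := by
      rw [TensorProduct.smul_tmul', smul_eq_mul, mul_one]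
    have h4 : Φ₁ (t ⊗ₜ[K] d) - Φ₂ (t ⊗ₜ[K] d) =
        algebraMap T (T ⊗[K] B) t * ((Φ₁ ((1 : T) ⊗ₜ[K] d) - (1 : T) ⊗ₜ[K] b) -
          (Φ₂ ((1 : T) ⊗ₜ[K] d) - (1 : T) ⊗ₜ[K] b)) := by
      rw [h3, map_smul, map_smul, Algebra.smul_def, Algebra.smul_def]
      ring
    rw [h4]
    exact Ideal.mul_mem_left _ _ (sub_mem (h₁ d b hb.symm) (h₂ d b hb.symm))
  | add x y hx hy =>
    have : Φ₁ (x + y) - Φ₂ (x + y) = (Φ₁ x - Φ₂ x) + (Φ₁ y - Φ₂ y) := by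
      rw [map_add, map_add]; ring
    rw [this]
    exact add_mem hx hy

end Problem

section BcProblem

variable {K : Type u} [CommRing K] (J : Ideal K)
  {D : Type u} [CommRing D] [HopfAlgebra K D] {B : Type u} [CommRing B] [HopfAlgebra K B]
  (Ψ₀ : (K ⧸ J) ⊗[K] D →ₐc[K ⧸ J] (K ⧸ J) ⊗[K] B)
  (S : Type u) [CommRing S] [Algebra K S]

/-- the lifting problem after base change to `S`. -/
theorem exists_bcProblem :
    ∃ Ψ₀S : (S ⧸ Ideal.map (algebraMap K S) J) ⊗[S] (S ⊗[K] D) →ₐc[S ⧸ Ideal.map (algebraMap K S) J]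
        (S ⧸ Ideal.map (algebraMap K S) J) ⊗[S] (S ⊗[K] B),
      ∀ (d : D) (b : B), Ψ₀ ((1 : K ⧸ J) ⊗ₜ[K] d) = (1 : K ⧸ J) ⊗ₜ[K] b →
        Ψ₀S ((1 : S ⧸ Ideal.map (algebraMap K S) J) ⊗ₜ[S] ((1 : S) ⊗ₜ[K] d)) =
          (1 : S ⧸ Ideal.map (algebraMap K S) J) ⊗ₜ[S] ((1 : S) ⊗ₜ[K] b) := by
  letI : Algebra (K ⧸ J) (S ⧸ Ideal.map (algebraMap K S) J) :=
    (Ideal.quotientMap (Ideal.map (algebraMap K S) J) (algebraMap K S) Ideal.le_comap_map).toAlgebra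
  haveI : IsScalarTower K (K ⧸ J) (S ⧸ Ideal.map (algebraMap K S) J) :=
    IsScalarTower.of_algebraMap_eq (fun x => rfl)
  refine ⟨(((cancelBC K S (S ⧸ Ideal.map (algebraMap K S) J) B).symm.toBialgHom.comp
    (cancelBC K (K ⧸ J) (S ⧸ Ideal.map (algebraMap K S) J) B).toBialgHom).comp
    (bcHom (K ⧸ J) (S ⧸ Ideal.map (algebraMap K S) J) Ψ₀)).comp
    ((cancelBC K (K ⧸ J) (S ⧸ Ideal.map (algebraMap K S) J) D).symm.toBialgHom.comp
      (cancelBC K S (S ⧸ Ideal.map (algebraMap K S) J) D).toBialgHom), ?_⟩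
  intro d b hdb
  show (cancelBC K S (S ⧸ Ideal.map (algebraMap K S) J) B).symm
    (cancelBC K (K ⧸ J) (S ⧸ Ideal.map (algebraMap K S) J) B
      (bcHom (K ⧸ J) (S ⧸ Ideal.map (algebraMap K S) J) Ψ₀
        ((cancelBC K (K ⧸ J) (S ⧸ Ideal.map (algebraMap K S) J) D).symm
          (cancelBC K S (S ⧸ Ideal.map (algebraMap K S) J) D
            ((1 : S ⧸ Ideal.map (algebraMap K S) J) ⊗ₜ[S] ((1 : S) ⊗ₜ[K] d)))))) = _
  rw [cancelBC_tmul, one_smul, cancelBC_symm_tmul, bcHom_tmul, hdb, cancelBC_tmul, one_smul,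
    cancelBC_symm_tmul]

variable {J Ψ₀}

/-- the diagonalisable case after base change. -/
theorem exists_lifts_of_isDiag (hJ : ∀ x ∈ J, IsNilpotent x) (hB : IsMultType K B)
    (hS : IsDiag S (S ⊗[K] D)) : ∃ Φ : S ⊗[K] D →ₐc[S] S ⊗[K] B, Lifts J Ψ₀ S Φ := by
  obtain ⟨Ψ₀S, hΨ₀S⟩ := exists_bcProblem J Ψ₀ S
  obtain ⟨Φ, hΦ⟩ := exists_lift_of_isDiag (Ideal.map (algebraMap K S) J) (nil_map K S hJ) Ψ₀S hS
    (Groth.Agent.Lib.Helper77.IsoTriv6.isMultType_baseChange B S hB)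
  refine ⟨Φ, fun d b hdb => ?_⟩
  rw [← extI_tower K S, ← one_tmul_eq_zero_iff, TensorProduct.tmul_sub, sub_eq_zero, ← hΦ]
  exact hΨ₀S d b hdb

end BcProblem

end Groth.Agent.Lib.Helper77.HomLift
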