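import Mathlib
import Groth.Prelude.Def_SGA3b
import Groth.Agent.Lib.Helper77.HomLift4

/-!
# Lifting homomorphisms into quasi-isotrivial groups (helper77), part 5: descent
-/

set_option autoImplicit false
set_option linter.style.haveILetI false
universe u
open TensorProduct

namespace Groth.Agent.Lib.Helper77.HomLift

open SGA3b Groth.Agent.Lib.Helper77.MultBC Groth.Agent.Lib.Helper77.QILift
  Groth.Agent.Lib.Helper77.MultMono Groth.Agent.Lib.Helper77.GLLift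
  Groth.Agent.Lib.Helper77.DiagNil

section Const

variable {K : Type u} [CommRing K] {J : Ideal K}
  {D : Type u} [CommRing D] [HopfAlgebra K D] {B : Type u} [CommRing B] [HopfAlgebra K B]
  {Ψ₀ : (K ⧸ J) ⊗[K] D →ₐc[K ⧸ J] (K ⧸ J) ⊗[K] B}

/-- **the case of constant type**: descent from an étale covering. -/
theorem exists_lift_of_isQIConst (hJ : IsNilpotent J) (hD : IsQuasiIsotrivialConst K D)
    (hB : IsMultType K B) :
    ∃ Ψ : D →ₐc[K] B, ∀ d : D, Ψ₀ ((1 : K ⧸ J) ⊗ₜ[K] d) = (1 : K ⧸ J) ⊗ₜ[K] Ψ d := by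
  have hJ' : ∀ x ∈ J, IsNilpotent x := by
    intro x hx
    obtain ⟨n, hn⟩ := hJ
    exact ⟨n, by have := Ideal.pow_mem_pow hx n; rwa [hn] at this⟩
  have hDm : IsMultType K D := by
    obtain ⟨S, _, _, _, hff, hd⟩ := hD
    exact Groth.Agent.Lib.Helper77.KerMT.isMultType_of_isMultTypeConst
      ⟨S, inferInstance, inferInstance, hff, hd⟩
  obtain ⟨S, _, _, _, hff, hd⟩ := hD
  haveI := hff
  obtain ⟨Φ, hΦ⟩ := exists_lifts_of_isDiag (Ψ₀ := Ψ₀) S hJ' hB hd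
  -- the two pull-backs agree
  obtain ⟨Φ₁, hΦ₁⟩ := exists_bcAlong (Algebra.TensorProduct.includeLeft : S →ₐ[K] S ⊗[K] S) Φ
  obtain ⟨Φ₂, hΦ₂⟩ := exists_bcAlong (Algebra.TensorProduct.includeRight : S →ₐ[K] S ⊗[K] S) Φ
  have h12 : Φ₁ = Φ₂ := Lifts.unique hJ hB hDm (hΦ.of_bcAlong _ hΦ₁) (hΦ.of_bcAlong _ hΦ₂)
  have hmapr : ∀ (g : S →ₐ[K] S ⊗[K] S) (z : S ⊗[K] B),
      Algebra.TensorProduct.map g (AlgHom.id K B) z = LinearMap.rTensor B g.toLinearMap z := by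
    intro g z
    induction z using TensorProduct.induction_on with
    | zero => simp
    | tmul s b => simp
    | add x y hx hy => rw [map_add, map_add, hx, hy]
  have hΞ : ∀ d : D, ∃ b : B, Φ ((1 : S) ⊗ₜ[K] d) = (1 : S) ⊗ₜ[K] b := by
    intro d
    apply exists_eq_one_tmul_of_rTensor_eq K S B
    rw [← hmapr, ← hmapr, ← hΦ₁, ← hΦ₂, h12]
  obtain ⟨Ψ, hΨ⟩ := exists_bialgHom_of_baseChange Φ hΞ
  refine ⟨Ψ, fun d => ?_⟩
  obtain ⟨b, hb⟩ := exists_one_tmul_eq J (Ψ₀ ((1 : K ⧸ J) ⊗ₜ[K] d))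
  rw [← hb, eq_comm, ← sub_eq_zero, ← TensorProduct.tmul_sub, one_tmul_eq_zero_iff]
  apply mem_of_one_tmul_mem K S J
  rw [extI_tower, TensorProduct.tmul_sub, ← hΨ]
  exact hΦ d b hb.symm

end Const

section QI

variable {K : Type u} [CommRing K] {J : Ideal K}
  {D : Type u} [CommRing D] [HopfAlgebra K D] {B : Type u} [CommRing B] [HopfAlgebra K B]
  {Ψ₀ : (K ⧸ J) ⊗[K] D →ₐc[K ⧸ J] (K ⧸ J) ⊗[K] B}

/-- **Lifting homomorphisms modulo a nilpotent ideal**: `B` of multiplicative type, `D`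
quasi-isotrivial; every bialgebra map `D/J → B/J` lifts to a bialgebra map `D → B`. -/
theorem exists_lift_of_isQuasiIsotrivial (hJ : IsNilpotent J) (hD : IsQuasiIsotrivial K D)
    (hB : IsMultType K B) :
    ∃ Ψ : D →ₐc[K] B, ∀ d : D, Ψ₀ ((1 : K ⧸ J) ⊗ₜ[K] d) = (1 : K ⧸ J) ⊗ₜ[K] Ψ d := by
  obtain ⟨ι, _, _, e, he, hc⟩ := exists_idempotent_decomposition K D hD
  have hbij := bijective_algebraMap_pi_away he
  have hloc : ∀ c, ∃ Ψc : Localization.Away (e c) ⊗[K] D →ₐc[Localization.Away (e c)]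
      Localization.Away (e c) ⊗[K] B, Lifts J Ψ₀ (Localization.Away (e c)) Ψc := by
    intro c
    obtain ⟨Ψ₀c, hΨ₀c⟩ := exists_bcProblem J Ψ₀ (Localization.Away (e c))
    have hnil : IsNilpotent (Ideal.map (algebraMap K (Localization.Away (e c))) J) := by
      obtain ⟨n, hn⟩ := hJ
      exact ⟨n, by rw [← Ideal.map_pow, hn, Ideal.zero_eq_bot, Ideal.map_bot]; rfl⟩
    obtain ⟨Ψc, hΨc⟩ := exists_lift_of_isQIConst (Ψ₀ := Ψ₀c) hnil (hc c)
      (Groth.Agent.Lib.Helper77.IsoTriv6.isMultType_baseChange B (Localization.Away (e c)) hB)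
    refine ⟨Ψc, fun d b hdb => ?_⟩
    rw [← extI_tower K (Localization.Away (e c)), ← one_tmul_eq_zero_iff, TensorProduct.tmul_sub,
      sub_eq_zero, ← hΨc]
    exact hΨ₀c d b hdb
  choose Ψc hΨc using hloc
  obtain ⟨Ψ, hΨ⟩ := exists_bialgHom_of_local (fun c => Localization.Away (e c)) hbij Ψc
  refine ⟨Ψ, fun d => ?_⟩
  obtain ⟨b, hb⟩ := exists_one_tmul_eq J (Ψ₀ ((1 : K ⧸ J) ⊗ₜ[K] d))
  rw [← hb, eq_comm, ← sub_eq_zero, ← TensorProduct.tmul_sub, one_tmul_eq_zero_iff]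
  have hspan : Ideal.span (Set.range e) = ⊤ := by
    rw [Ideal.eq_top_iff_one, ← he.complete]
    exact Ideal.sum_mem _ (fun c _ => Ideal.subset_span ⟨c, rfl⟩)
  apply mem_of_forall_one_tmul_mem (Set.range e) hspan J
  rintro _ ⟨c, rfl⟩
  rw [extI_tower, TensorProduct.tmul_sub, hΨ]
  exact hΨc c d b hb.symm

end QI

section Abs

variable (K : Type u) [CommRing K] (K₀ : Type u) [CommRing K₀] [Algebra K K₀]
  {D : Type u} [CommRing D] [HopfAlgebra K D] {B : Type u} [CommRing B] [HopfAlgebra K B]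

/-- `exists_lift_of_isQuasiIsotrivial` for a surjection `K → K₀` with nilpotent kernel. -/
theorem exists_lift_of_surjective (hsurj : Function.Surjective (algebraMap K K₀))
    (hnil : IsNilpotent (RingHom.ker (algebraMap K K₀)))
    (hD : IsQuasiIsotrivial K D) (hB : IsMultType K B)
    (Ψ₀ : K₀ ⊗[K] D →ₐc[K₀] K₀ ⊗[K] B) :
    ∃ Ψ : D →ₐc[K] B, ∀ d : D, Ψ₀ ((1 : K₀) ⊗ₜ[K] d) = (1 : K₀) ⊗ₜ[K] Ψ d := by
  let e : (K ⧸ RingHom.ker (algebraMap K K₀)) ≃ₐ[K] K₀ :=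
    Ideal.quotientKerAlgEquivOfSurjective (f := Algebra.ofId K K₀) hsurj
  letI : Algebra K₀ (K ⧸ RingHom.ker (algebraMap K K₀)) := e.symm.toAlgHom.toRingHom.toAlgebra
  haveI : IsScalarTower K K₀ (K ⧸ RingHom.ker (algebraMap K K₀)) :=
    IsScalarTower.of_algebraMap_eq (fun x => (e.symm.commutes x).symm)
  let Ψ₀' : (K ⧸ RingHom.ker (algebraMap K K₀)) ⊗[K] D →ₐc[K ⧸ RingHom.ker (algebraMap K K₀)]
      (K ⧸ RingHom.ker (algebraMap K K₀)) ⊗[K] B :=
    ((cancelBC K K₀ (K ⧸ RingHom.ker (algebraMap K K₀)) B).toBialgHom.comp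
      (bcHom K₀ (K ⧸ RingHom.ker (algebraMap K K₀)) Ψ₀)).comp
      (cancelBC K K₀ (K ⧸ RingHom.ker (algebraMap K K₀)) D).symm.toBialgHom
  obtain ⟨Ψ, hΨ⟩ := exists_lift_of_isQuasiIsotrivial (Ψ₀ := Ψ₀') hnil hD hB
  refine ⟨Ψ, fun d => ?_⟩
  have h3 : ∀ z : K₀ ⊗[K] B, cancelBC K K₀ (K ⧸ RingHom.ker (algebraMap K K₀)) B
      ((1 : K ⧸ RingHom.ker (algebraMap K K₀)) ⊗ₜ[K₀] z) =
      Algebra.TensorProduct.map e.symm.toAlgHom (AlgHom.id K B) z := by
    intro z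
    induction z using TensorProduct.induction_on with
    | zero => simp
    | tmul k b =>
      rw [cancelBC_tmul, Algebra.TensorProduct.map_tmul, AlgHom.id_apply, Algebra.smul_def, mul_one]
      rfl
    | add x y hx hy => rw [TensorProduct.tmul_add, map_add, map_add, hx, hy]
  have h4 : Ψ₀' ((1 : K ⧸ RingHom.ker (algebraMap K K₀)) ⊗ₜ[K] d) =
      Algebra.TensorProduct.map e.symm.toAlgHom (AlgHom.id K B) (Ψ₀ ((1 : K₀) ⊗ₜ[K] d)) := by
    show cancelBC K K₀ (K ⧸ RingHom.ker (algebraMap K K₀)) B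
      (bcHom K₀ (K ⧸ RingHom.ker (algebraMap K K₀)) Ψ₀
        ((cancelBC K K₀ (K ⧸ RingHom.ker (algebraMap K K₀)) D).symm
          ((1 : K ⧸ RingHom.ker (algebraMap K K₀)) ⊗ₜ[K] d))) = _
    rw [cancelBC_symm_tmul, bcHom_tmul, h3]
  have hinj : Function.Injective (Algebra.TensorProduct.map e.symm.toAlgHom (AlgHom.id K B)) := by
    have : (Algebra.TensorProduct.map e.symm.toAlgHom (AlgHom.id K B) : K₀ ⊗[K] B → _) =
        Algebra.TensorProduct.congr e.symm (AlgEquiv.refl (R := K) (A₁ := B)) := by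
      funext z
      rfl
    rw [this]
    exact (Algebra.TensorProduct.congr e.symm (AlgEquiv.refl (R := K) (A₁ := B))).injective
  apply hinj
  rw [← h4, hΨ, Algebra.TensorProduct.map_tmul, map_one, AlgHom.id_apply]

/-- uniqueness for a surjection `K → K₀` with nilpotent kernel. -/
theorem eq_of_reduction_of_surjective (hsurj : Function.Surjective (algebraMap K K₀))
    (hnil : IsNilpotent (RingHom.ker (algebraMap K K₀)))
    (hD : IsQuasiIsotrivial K D) (hB : IsMultType K B) (Ψ Ψ' : D →ₐc[K] B)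
    (h : ∀ d : D, (1 : K₀) ⊗ₜ[K] Ψ d = (1 : K₀) ⊗ₜ[K] Ψ' d) : Ψ = Ψ' := by
  let e : (K ⧸ RingHom.ker (algebraMap K K₀)) ≃ₐ[K] K₀ :=
    Ideal.quotientKerAlgEquivOfSurjective (f := Algebra.ofId K K₀) hsurj
  haveI : Coalgebra.IsCocomm K D := isCocomm_of_isQuasiIsotrivial hD
  refine Groth.Agent.Lib.Helper26.MultRigid.eq_of_reduction K _ hnil B hB D Ψ Ψ' ?_
  intro d
  have := congrArg (Algebra.TensorProduct.map e.symm.toAlgHom (AlgHom.id K B)) (h d)
  rwa [Algebra.TensorProduct.map_tmul, Algebra.TensorProduct.map_tmul, map_one, AlgHom.id_apply,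
    AlgHom.id_apply] at this

end Abs

end Groth.Agent.Lib.Helper77.HomLift
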