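import Mathlib
import Groth.Prelude.Def_SGA3b
import Groth.Agent.Lib.Helper77.HomLift5
import Groth.Agent.Lib.Helper77.CompDiag13
import Groth.Agent.Lib.Helper58.HL8

/-!
# Lifting homomorphisms into quasi-isotrivial groups (helper77), part 6: the levels `R ⧸ 𝔞`
-/

set_option autoImplicit false
set_option linter.style.haveILetI false
universe u
open TensorProduct

namespace Groth.Agent.Lib.Helper77.HomLift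

open SGA3b Groth.Agent.Lib.Helper77.MultBC Groth.Agent.Lib.Helper77.QILift
  Groth.Agent.Lib.Helper77.MultMono Groth.Agent.Lib.Helper77.GLLift
  Groth.Agent.Lib.Helper58.HL8

section Level

variable {R : Type u} [CommRing R] {I 𝔞 : Ideal R} (h : 𝔞 ≤ I) (n : ℕ) (hn : I ^ n ≤ 𝔞)
  (C : Type u) [CommRing C] [HopfAlgebra R C] (B : Type u) [CommRing B] [HopfAlgebra R B]

include hn in
lemma isNilpotent_ker_factor : IsNilpotent (RingHom.ker (Ideal.Quotient.factor h)) := by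
  refine ⟨n, ?_⟩
  rw [Ideal.Quotient.factor_ker, ← Ideal.map_pow, Ideal.zero_eq_bot, eq_bot_iff]
  refine (Ideal.map_mono hn).trans ?_
  rw [Ideal.map_quotient_self]

include h hn in
/-- the level `R ⧸ 𝔞` of a group, flat at the points over `V(I)`, with quasi-isotrivial reduction
modulo `I` is quasi-isotrivial. -/
theorem isQuasiIsotrivial_level
    (hfl : ∀ (q : Ideal C) [q.IsPrime], Ideal.map (algebraMap R C) I ≤ q →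
      Module.Flat R (Localization.AtPrime q))
    (h0 : IsQuasiIsotrivial (R ⧸ I) ((R ⧸ I) ⊗[R] C)) :
    IsQuasiIsotrivial (R ⧸ 𝔞) ((R ⧸ 𝔞) ⊗[R] C) := by
  letI : Algebra (R ⧸ 𝔞) (R ⧸ I) := (Ideal.Quotient.factor h).toAlgebra
  haveI : IsScalarTower R (R ⧸ 𝔞) (R ⧸ I) := IsScalarTower.of_algebraMap_eq (fun x => rfl)
  haveI : Module.Flat (R ⧸ 𝔞) ((R ⧸ 𝔞) ⊗[R] C) := by
    apply Groth.Agent.Lib.Helper77.CompDiag.flat_baseChange_of_flat_at_primes I C hfl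
    intro a ha
    refine ⟨n, ?_⟩
    rw [← map_pow]
    exact Ideal.Quotient.eq_zero_iff_mem.mpr (hn (Ideal.pow_mem_pow ha n))
  refine isQuasiIsotrivial_of_flat_of_surjective (R ⧸ 𝔞) (R ⧸ I) _
    (Ideal.Quotient.factor_surjective h) (isNilpotent_ker_factor h n hn) ?_
  exact isQuasiIsotrivial_of_equiv (cancelBC R (R ⧸ 𝔞) (R ⧸ I) C).symm h0

variable {C B}

lemma cancelBC_one_tmul_eq_tr [Algebra (R ⧸ 𝔞) (R ⧸ I)] [IsScalarTower R (R ⧸ 𝔞) (R ⧸ I)]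
    (halg : algebraMap (R ⧸ 𝔞) (R ⧸ I) = Ideal.Quotient.factor h) (z : (R ⧸ 𝔞) ⊗[R] B) :
    cancelBC R (R ⧸ 𝔞) (R ⧸ I) B ((1 : R ⧸ I) ⊗ₜ[R ⧸ 𝔞] z) = tr h B z := by
  induction z using TensorProduct.induction_on with
  | zero => simp
  | tmul k b =>
    rw [cancelBC_tmul, Algebra.TensorProduct.map_tmul, AlgHom.id_apply, Algebra.smul_def, mul_one,
      halg]
    rfl
  | add x y hx hy => rw [TensorProduct.tmul_add, map_add, map_add, hx, hy]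

include hn in
/-- existence of the lifting to the level `R ⧸ 𝔞`. -/
theorem exists_level_lift (hqi : IsQuasiIsotrivial (R ⧸ 𝔞) ((R ⧸ 𝔞) ⊗[R] C))
    (hB : IsMultType R B) (φ₀ : (R ⧸ I) ⊗[R] C →ₐc[R ⧸ I] (R ⧸ I) ⊗[R] B) :
    ∃ Ψ : (R ⧸ 𝔞) ⊗[R] C →ₐc[R ⧸ 𝔞] (R ⧸ 𝔞) ⊗[R] B,
      ∀ c : C, tr h B (Ψ ((1 : R ⧸ 𝔞) ⊗ₜ[R] c)) = φ₀ ((1 : R ⧸ I) ⊗ₜ[R] c) := by
  letI : Algebra (R ⧸ 𝔞) (R ⧸ I) := (Ideal.Quotient.factor h).toAlgebra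
  haveI : IsScalarTower R (R ⧸ 𝔞) (R ⧸ I) := IsScalarTower.of_algebraMap_eq (fun x => rfl)
  let Ψ₀ : (R ⧸ I) ⊗[R ⧸ 𝔞] ((R ⧸ 𝔞) ⊗[R] C) →ₐc[R ⧸ I] (R ⧸ I) ⊗[R ⧸ 𝔞] ((R ⧸ 𝔞) ⊗[R] B) :=
    ((cancelBC R (R ⧸ 𝔞) (R ⧸ I) B).symm.toBialgHom.comp φ₀).comp
      (cancelBC R (R ⧸ 𝔞) (R ⧸ I) C).toBialgHom
  obtain ⟨Ψ, hΨ⟩ := exists_lift_of_surjective (R ⧸ 𝔞) (R ⧸ I)
    (Ideal.Quotient.factor_surjective h) (isNilpotent_ker_factor h n hn) hqi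
    (Groth.Agent.Lib.Helper77.IsoTriv6.isMultType_baseChange B (R ⧸ 𝔞) hB) Ψ₀
  refine ⟨Ψ, fun c => ?_⟩
  rw [← cancelBC_one_tmul_eq_tr h rfl, ← hΨ]
  show cancelBC R (R ⧸ 𝔞) (R ⧸ I) B ((cancelBC R (R ⧸ 𝔞) (R ⧸ I) B).symm
    (φ₀ (cancelBC R (R ⧸ 𝔞) (R ⧸ I) C ((1 : R ⧸ I) ⊗ₜ[R ⧸ 𝔞] ((1 : R ⧸ 𝔞) ⊗ₜ[R] c))))) = _
  rw [BialgEquiv.apply_symm_apply, cancelBC_tmul, one_smul]

include hn in
/-- uniqueness of the lifting to the level `R ⧸ 𝔞`. -/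
theorem level_unique (hqi : IsQuasiIsotrivial (R ⧸ 𝔞) ((R ⧸ 𝔞) ⊗[R] C))
    (hB : IsMultType R B) (Ψ Ψ' : (R ⧸ 𝔞) ⊗[R] C →ₐc[R ⧸ 𝔞] (R ⧸ 𝔞) ⊗[R] B)
    (hΨ : ∀ c : C, tr h B (Ψ ((1 : R ⧸ 𝔞) ⊗ₜ[R] c)) = tr h B (Ψ' ((1 : R ⧸ 𝔞) ⊗ₜ[R] c))) :
    Ψ = Ψ' := by
  letI : Algebra (R ⧸ 𝔞) (R ⧸ I) := (Ideal.Quotient.factor h).toAlgebra
  haveI : IsScalarTower R (R ⧸ 𝔞) (R ⧸ I) := IsScalarTower.of_algebraMap_eq (fun x => rfl)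
  refine eq_of_reduction_of_surjective (R ⧸ 𝔞) (R ⧸ I)
    (Ideal.Quotient.factor_surjective h) (isNilpotent_ker_factor h n hn) hqi
    (Groth.Agent.Lib.Helper77.IsoTriv6.isMultType_baseChange B (R ⧸ 𝔞) hB) Ψ Ψ' ?_
  intro d
  induction d using TensorProduct.induction_on with
  | zero => simp
  | tmul k c =>
    have h3 : k ⊗ₜ[R] c = k • ((1 : R ⧸ 𝔞) ⊗ₜ[R] c) := by
      rw [TensorProduct.smul_tmul', smul_eq_mul, mul_one]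
    rw [h3, map_smul, map_smul, TensorProduct.tmul_smul, TensorProduct.tmul_smul]
    congr 1
    apply (cancelBC R (R ⧸ 𝔞) (R ⧸ I) B).injective
    show cancelBC R (R ⧸ 𝔞) (R ⧸ I) B ((1 : R ⧸ I) ⊗ₜ[R ⧸ 𝔞] Ψ ((1 : R ⧸ 𝔞) ⊗ₜ[R] c)) =
      cancelBC R (R ⧸ 𝔞) (R ⧸ I) B ((1 : R ⧸ I) ⊗ₜ[R ⧸ 𝔞] Ψ' ((1 : R ⧸ 𝔞) ⊗ₜ[R] c))
    rw [cancelBC_one_tmul_eq_tr h rfl, cancelBC_one_tmul_eq_tr h rfl]
    exact hΨ c
  | add x y hx hy => rw [map_add, map_add, TensorProduct.tmul_add, TensorProduct.tmul_add, hx, hy]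

end Level

end Groth.Agent.Lib.Helper77.HomLift
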