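import Mathlib
import Groth.Prelude.Def_SGA3b
import Groth.Agent.Lib.Helper58.HL13
import Groth.Agent.Lib.Helper77.FFDescent2

/-!
# Algebraisation of a compatible system of homomorphisms without flatness (helper77)

Variant of helper58's `HL12.exists_elt` / `HL13`: the target group `Spec C` is not assumed flat;
the finiteness of the support of the limit comes from a Noetherian rank argument.
-/

set_option autoImplicit false
set_option linter.style.haveILetI false
universe u
open TensorProduct WithConv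

namespace Groth.Agent.Lib.Helper77.HomLift

open Groth.Agent.Lib.Helper58.HL1 Groth.Agent.Lib.Helper58.HL2 Groth.Agent.Lib.Helper58.HL3
  Groth.Agent.Lib.Helper58.HL4 Groth.Agent.Lib.Helper58.HL8 Groth.Agent.Lib.Helper58.HL9
  Groth.Agent.Lib.Helper58.HL10 Groth.Agent.Lib.Helper58.HL11 Groth.Agent.Lib.Helper77.MultBC

attribute [local instance] convGroup'

variable {R : Type u} [CommRing R] {B : Type u} [CommRing B] [HopfAlgebra R B]
  {C : Type u} [CommRing C] [HopfAlgebra R C]
  {R' : Type u} [CommRing R'] [Algebra R R'] {M : Type u} [CommGroup M]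

section Coord2

variable [DecidableEq M] (e : (R' ⊗[R] B) ≃ₐc[R'] MonoidAlgebra R' M)

/-- `b ⊗ b' ↦ lam m b * lam m' b'`. -/
noncomputable def nu₂ (m m' : M) : B ⊗[R] B →ₗ[R] R' :=
  (LinearMap.mul' R R') ∘ₗ (TensorProduct.map (lam e m) (lam e m'))

@[simp] lemma nu₂_tmul (m m' : M) (b b' : B) :
    nu₂ e m m' (b ⊗ₜ[R] b') = lam e m b * lam e m' b' := by
  simp [nu₂]

/-- the coordinates are orthogonal idempotents for the convolution. -/
theorem nu₂_comul (m m' : M) (b : B) :
    nu₂ e m m' (Coalgebra.comul (R := R) b) = if m = m' then lam e m b else 0 := by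
  let cc : MonoidAlgebra R' M ⊗[R'] MonoidAlgebra R' M →ₗ[R'] R' :=
    (LinearMap.mul' R' R') ∘ₗ (TensorProduct.map
      ((Finsupp.lapply m).comp (MonoidAlgebra.coeffLinearEquiv R').toLinearMap)
      ((Finsupp.lapply m').comp (MonoidAlgebra.coeffLinearEquiv R').toLinearMap))
  have hcc : ∀ u v : MonoidAlgebra R' M, cc (u ⊗ₜ[R'] v) = u.coeff m * v.coeff m' := by
    intro u v
    rfl
  have hcc' : ∀ u : MonoidAlgebra R' M,
      cc (Coalgebra.comul (R := R') u) = if m = m' then u.coeff m else 0 := by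
    intro u
    induction u using MonoidAlgebra.induction_on with
    | of n =>
      rw [MonoidAlgebra.of_apply, MonoidAlgebra.comul_single]
      simp only [CommSemiring.comul_apply, TensorProduct.map_tmul, MonoidAlgebra.lsingle_apply]
      rw [hcc, MonoidAlgebra.coeff_single, Finsupp.single_apply, Finsupp.single_apply]
      by_cases h1 : m = m'
      · subst h1
        rw [if_pos rfl]
        by_cases h2 : n = m
        · rw [if_pos h2, mul_one]
        · rw [if_neg h2, mul_zero]
      · rw [if_neg h1]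
        by_cases h2 : n = m
        · subst h2
          rw [if_neg h1, mul_zero]
        · rw [if_neg h2, zero_mul]
    | add x y hx hy =>
      rw [map_add, map_add, hx, hy, MonoidAlgebra.coeff_add, Finsupp.add_apply]
      split_ifs <;> simp
    | smul r x hx =>
      rw [map_smul, map_smul, hx, MonoidAlgebra.coeff_smul, Finsupp.smul_apply]
      split_ifs <;> simp
  let UU : B ⊗[R] B →ₗ[R] MonoidAlgebra R' M ⊗[R'] MonoidAlgebra R' M :=
    ((TensorProduct.map (e : (R' ⊗[R] B) →ₗ[R'] MonoidAlgebra R' M)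
      (e : (R' ⊗[R] B) →ₗ[R'] MonoidAlgebra R' M)).restrictScalars R) ∘ₗ
    ((TensorProduct.AlgebraTensorModule.distribBaseChange R R' B B).toLinearMap.restrictScalars R) ∘ₗ
    (TensorProduct.mk R R' (B ⊗[R] B) 1)
  have hUU : ∀ x y, UU (x ⊗ₜ[R] y) = uu e x ⊗ₜ[R'] uu e y := by
    intro x y
    simp [UU, uu_apply]
  have hUUc : UU (Coalgebra.comul (R := R) b) = Coalgebra.comul (R := R') (uu e b) := by
    change TensorProduct.map (e : (R' ⊗[R] B) →ₗ[R'] MonoidAlgebra R' M)
      (e : (R' ⊗[R] B) →ₗ[R'] MonoidAlgebra R' M)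
      (TensorProduct.AlgebraTensorModule.distribBaseChange R R' B B
        ((1 : R') ⊗ₜ[R] Coalgebra.comul (R := R) b)) = _
    rw [← comul_one_tmul, uu_apply]
    exact CoalgHomClass.map_comp_comul_apply e _
  have key : ∀ z : B ⊗[R] B, nu₂ e m m' z = cc (UU z) := by
    intro z
    induction z using TensorProduct.induction_on with
    | zero => simp
    | tmul x y => rw [nu₂_tmul, hUU, hcc]; rfl
    | add x y hx hy => simp only [map_add, hx, hy]
  rw [key, hUUc, hcc']
  rfl

variable (𝔞 : Ideal R)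

lemma barL_nu₂_Δ₀ (m m' : M) (y : (R ⧸ 𝔞) ⊗[R] B) :
    barL 𝔞 (nu₂ e m m') (bar 𝔞 (Δ₀ R B) y) = if m = m' then Lc e 𝔞 m y else 0 := by
  induction y using TensorProduct.induction_on with
  | zero => simp
  | tmul q b =>
    simp only [Algebra.TensorProduct.map_tmul, AlgHom.id_apply, LinearMap.lTensor_tmul,
      Bialgebra.comulAlgHom_apply, nu₂_comul]
    split_ifs <;> simp
  | add x y hx hy =>
    simp only [map_add, hx, hy]
    split_ifs <;> simp

lemma barL_nu₂_mul (m m' : M) (u v : (R ⧸ 𝔞) ⊗[R] B) :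
    barL 𝔞 (nu₂ e m m') (bar 𝔞 (i₁ R B) u * bar 𝔞 (i₂ R B) v) = Lc e 𝔞 m u * Lc e 𝔞 m' v := by
  induction u using TensorProduct.induction_on with
  | zero => simp
  | tmul q b =>
    induction v using TensorProduct.induction_on with
    | zero => simp
    | tmul q' b' => simp [Algebra.TensorProduct.tmul_mul_tmul]
    | add x y hx hy => simp only [map_add, mul_add, hx, hy]
  | add x y hx hy => simp only [map_add, add_mul, hx, hy]

/-- the coordinates of a homomorphism are orthogonal idempotents for the convolution. -/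
theorem Lc₂_hom (m m' : M) (f : WithConv (C →ₐ[R] (R ⧸ 𝔞) ⊗[R] B)) (hf : IsHomAt 𝔞 f) (x : C) :
    (if m = m' then Lc e 𝔞 m (f.ofConv x) else 0) =
      (LinearMap.mul' R ((R ⧸ 𝔞) ⊗[R] R'))
        (TensorProduct.map ((Lc e 𝔞 m) ∘ₗ f.ofConv.toLinearMap)
          ((Lc e 𝔞 m') ∘ₗ f.ofConv.toLinearMap) (Coalgebra.comul (R := R) x)) := by
  have h1 := congrArg (fun k : WithConv (C →ₐ[R] (R ⧸ 𝔞) ⊗[R] (B ⊗[R] B)) =>
    barL 𝔞 (nu₂ e m m') (k.ofConv x)) hf
  simp only [push_apply] at h1
  rw [barL_nu₂_Δ₀, mul_apply] at h1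
  rw [h1]
  generalize Coalgebra.comul (R := R) x = z
  induction z using TensorProduct.induction_on with
  | zero => simp
  | tmul x y =>
    rw [Algebra.TensorProduct.lift_tmul, push_apply, push_apply, barL_nu₂_mul]
    rfl
  | add x y hx hy => simp only [map_add, hx, hy]

end Coord2

section Elt

variable [IsNoetherianRing R]
  [Module.Finite R R'] [Module.FaithfullyFlat R R']
  (e : (R' ⊗[R] B) ≃ₐc[R'] MonoidAlgebra R' M)
  (I : Ideal R) [IsAdicComplete I R]
  (F : ∀ k, WithConv (C →ₐ[R] (R ⧸ idl I k) ⊗[R] B))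
  (hF : ∀ k, IsHomAt (idl I k) (F k))
  (hcompat : ∀ k, push (tr (idl_succ_le I k) B) (F (k + 1)) = F k)

include e hF hcompat in
/-- every element of `C` has an image in `B` (no flatness assumption on `C`). -/
theorem exists_elt' (c : C) : ∃ b : B, ∀ k, red (idl I k) B b = (F k).ofConv c := by
  classical
  have hI : I ≤ Ideal.jacobson ⊥ := IsAdicComplete.le_jacobson_bot I
  -- the coordinates are compatible
  have hcomp : ∀ (z : C) m k, tr (idl_succ_le I k) R' (Lc e (idl I (k + 1)) m ((F (k + 1)).ofConv z)) =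
      Lc e (idl I k) m ((F k).ofConv z) := by
    intro z m k
    rw [tr_barL]
    congr 1
    have := congrArg (fun g : WithConv (C →ₐ[R] (R ⧸ idl I k) ⊗[R] B) => g.ofConv z) (hcompat k)
    simpa [push_apply] using this
  haveI : IsPrecomplete I R' := isPrecomplete_of_finite I R'
  choose ℓ hℓ using fun (m : M) (z : C) =>
    exists_limit I R' (fun k => Lc e (idl I k) m ((F k).ofConv z)) (hcomp z m)
  -- separatedness of `R'`
  have hsep : ∀ d : R', (∀ k, red (idl I k) R' d = 0) → d = 0 := by
    intro d hd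
    exact eq_zero_of_coords I hI (fun _ : Unit => (LinearMap.id : R' →ₗ[R] R'))
      (fun x hx => hx ()) d hd
  -- the comultiplication of `c`
  obtain ⟨S, hS⟩ := TensorProduct.exists_finset (Coalgebra.comul (R := R) c)
  -- the orthogonality relations in the limit
  have hrel : ∀ m m' : M, (if m = m' then ℓ m c else 0) = ∑ p ∈ S, ℓ m p.1 * ℓ m' p.2 := by
    intro m m'
    rw [← sub_eq_zero]
    apply hsep
    intro k
    rw [map_sub, sub_eq_zero, map_sum]
    have h1 := Lc₂_hom e (idl I k) m m' (F k) (hF k) c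
    rw [hS, map_sum, map_sum] at h1
    have h2 : red (idl I k) R' (if m = m' then ℓ m c else 0) =
        if m = m' then Lc e (idl I k) m ((F k).ofConv c) else 0 := by
      split_ifs
      · exact hℓ m c k
      · exact map_zero _
    rw [h2, h1]
    refine Finset.sum_congr rfl (fun p _ => ?_)
    rw [map_mul, hℓ, hℓ, TensorProduct.map_tmul, LinearMap.mul'_apply]
    rfl
  -- the Noetherian argument
  let v : M → (S → R') := fun m' p => ℓ m' p.1.2
  have hfg : (Submodule.span R (Set.range v)).FG := IsNoetherian.noetherian _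
  obtain ⟨s', hs'sub, hs'⟩ := (Submodule.fg_span_iff_fg_span_finset_subset (Set.range v)).mp hfg
  have hpre : ∀ w ∈ s', ∃ m', v m' = w := fun w hw => hs'sub hw
  choose! g hg using hpre
  obtain ⟨T, hTdef⟩ : ∃ T : Finset M, T = s'.image g := ⟨_, rfl⟩
  have hzero : ∀ m, m ∉ T → ℓ m c = 0 := by
    intro m hm
    let U : (S → R') →ₗ[R] R' :=
      ∑ p : S, (LinearMap.mulLeft R (ℓ m p.1.1)) ∘ₗ (LinearMap.proj p)
    have hU : ∀ w, U w = ∑ p : S, ℓ m p.1.1 * w p := by
      intro w
      simp [U, LinearMap.sum_apply]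
    have hUv : ∀ m', U (v m') = if m = m' then ℓ m c else 0 := by
      intro m'
      rw [hU, hrel m m', ← Finset.sum_coe_sort S]
    have hker : Submodule.span R (Set.range v) ≤ LinearMap.ker U := by
      rw [hs', Submodule.span_le]
      intro w hw
      rw [SetLike.mem_coe, LinearMap.mem_ker, ← hg w hw, hUv, if_neg]
      intro hmg
      apply hm
      rw [hTdef, hmg]
      exact Finset.mem_image_of_mem g hw
    have h3 : U (v m) = 0 := hker (Submodule.subset_span ⟨m, rfl⟩)
    rw [hUv, if_pos rfl] at h3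
    exact h3
  have hvan : ∀ m, m ∉ T → ∀ k, Lc e (idl I k) m ((F k).ofConv c) = 0 := by
    intro m hm k
    rw [← hℓ m c k, hzero m hm, map_zero]
  -- the candidate in `R'[M]`
  obtain ⟨b', hb'def⟩ : ∃ b' : MonoidAlgebra R' M,
      b' = ∑ m ∈ T, MonoidAlgebra.single m (ℓ m c) := ⟨_, rfl⟩
  have hb' : ∀ m, b'.coeff m = if m ∈ T then ℓ m c else 0 := by
    intro m
    rw [hb'def, MonoidAlgebra.coeff_sum, Finsupp.finsetSum_apply]
    simp only [MonoidAlgebra.coeff_single, Finsupp.single_apply]
    rw [Finset.sum_ite_eq' T m (fun m => ℓ m c)]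
  have hdag : ∀ k, barL (idl I k) (uu e) ((F k).ofConv c) = (1 : R ⧸ idl I k) ⊗ₜ[R] b' := by
    intro k
    rw [← sub_eq_zero]
    apply coord_injective (R := R) (R' := R') (M := M) (R ⧸ idl I k)
    intro m
    rw [map_sub, sub_eq_zero, LinearMap.lTensor_tmul, cf_apply, hb', ← LinearMap.comp_apply,
      ← LinearMap.lTensor_comp]
    by_cases hm : m ∈ T
    · rw [if_pos hm]
      exact (hℓ m c k).symm
    · rw [if_neg hm, tmul_zero]
      exact hvan m hm k
  -- the candidate in `R' ⊗ B`
  obtain ⟨β, hβdef⟩ : ∃ β : R' ⊗[R] B, β = e.symm b' := ⟨_, rfl⟩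
  have hβ : ∀ k, (kap (R := R) (B := B) (R' := R')).lTensor (R ⧸ idl I k) ((F k).ofConv c) =
      (1 : R ⧸ idl I k) ⊗ₜ[R] β := by
    intro k
    have hinj : Function.Injective ((eR e).toLinearMap.lTensor (R ⧸ idl I k)) := by
      rw [← LinearEquiv.coe_lTensor]
      exact ((eR e).lTensor _).injective
    apply hinj
    rw [← LinearMap.comp_apply, ← LinearMap.lTensor_comp, ← uu_eq, LinearMap.lTensor_tmul]
    rw [show (eR e).toLinearMap β = b' from by rw [hβdef]; exact e.apply_symm_apply b']
    exact hdag k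
  -- descent
  obtain ⟨D, hDdef⟩ : ∃ D : R' ⊗[R] B →ₗ[R] (R' ⊗[R] R') ⊗[R] B, D =
    LinearMap.rTensor B (Algebra.TensorProduct.includeLeft : R' →ₐ[R] R' ⊗[R] R').toLinearMap -
    LinearMap.rTensor B (Algebra.TensorProduct.includeRight : R' →ₐ[R] R' ⊗[R] R').toLinearMap :=
    ⟨_, rfl⟩
  have hD : D ∘ₗ (kap (R := R) (B := B) (R' := R')) = 0 := by
    apply LinearMap.ext
    intro b
    rw [hDdef]
    simp
  have hδ : D β = 0 := by
    apply sepX I hI e
    intro k
    have := congrArg (D.lTensor (R ⧸ idl I k)) (hβ k)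
    rw [← LinearMap.comp_apply, ← LinearMap.lTensor_comp, hD, LinearMap.lTensor_zero,
      LinearMap.zero_apply, LinearMap.lTensor_tmul] at this
    exact this.symm
  rw [hDdef, LinearMap.sub_apply, sub_eq_zero] at hδ
  obtain ⟨b, hb⟩ := exists_eq_one_tmul_of_rTensor_eq R R' B β hδ
  refine ⟨b, fun k => ?_⟩
  apply barL_kap_injective (R := R) (B := B) (R' := R') (R ⧸ idl I k)
  rw [hβ k, hb]
  rfl

end Elt

section System

open Groth.Agent.Lib.Helper58.HL13

variable [IsNoetherianRing R]
  [Module.Finite R R'] [Module.FaithfullyFlat R R']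
  (e : (R' ⊗[R] B) ≃ₐc[R'] MonoidAlgebra R' M)
  (I : Ideal R) [IsAdicComplete I R]
  (F : ∀ k, WithConv (C →ₐ[R] (R ⧸ idl I k) ⊗[R] B))
  (hF : ∀ k, IsHomAt (idl I k) (F k))
  (hcompat : ∀ k, push (tr (idl_succ_le I k) B) (F (k + 1)) = F k)

include e hF hcompat in
/-- **algebraisation of a compatible system of homomorphisms** from an isotrivial group of
multiplicative type to an arbitrary affine group. -/
theorem exists_bialgHom_of_system :
    ∃ φ : C →ₐc[R] B, ∀ k (c : C), red (idl I k) B (φ c) = (F k).ofConv c := by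
  have hI : I ≤ Ideal.jacobson ⊥ := IsAdicComplete.le_jacobson_bot I
  have hex := exists_elt' e I F hF hcompat
  obtain ⟨φ, hφ⟩ := Groth.Agent.Lib.Helper77.FFDescent.exists_algHom_factor
    (AlgHom.pi (A := fun k => (R ⧸ idl I k) ⊗[R] B) (fun k => red (idl I k) B))
    (by
      intro b b' hbb'
      rw [← sub_eq_zero]
      apply sepB I hI e
      intro k
      have := congrFun hbb' k
      simp only [AlgHom.pi_apply] at this
      change red (idl I k) B (b - b') = 0
      rw [map_sub, this, sub_self])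
    (AlgHom.pi (A := fun k => (R ⧸ idl I k) ⊗[R] B) (fun k => (F k).ofConv))
    (by
      intro c
      obtain ⟨b, hb⟩ := hex c
      exact ⟨b, funext hb⟩)
  have hφ' : ∀ k, push (red (idl I k) B) (toConv φ) = F k := by
    intro k
    apply WithConv.ext
    apply AlgHom.ext
    intro c
    exact congrFun (hφ c) k
  have hhom : push (Δ₀ R B) (toConv φ) = push (i₁ R B) (toConv φ) * push (i₂ R B) (toConv φ) := by
    have key : ∀ k, push (red (idl I k) (B ⊗[R] B)) (push (Δ₀ R B) (toConv φ)) =
        push (red (idl I k) (B ⊗[R] B)) (push (i₁ R B) (toConv φ) * push (i₂ R B) (toConv φ)) := by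
      intro k
      rw [map_mul, push_push, push_push, push_push, ← bar_red, ← bar_red, ← bar_red, ← push_push,
        ← push_push, ← push_push, hφ' k]
      exact hF k
    apply WithConv.ext
    apply AlgHom.ext
    intro c
    rw [← sub_eq_zero]
    apply sepBB I hI e
    intro k
    have := congrArg (fun g : WithConv (C →ₐ[R] (R ⧸ idl I k) ⊗[R] (B ⊗[R] B)) => g.ofConv c) (key k)
    simp only [push_apply] at this
    change red (idl I k) (B ⊗[R] B) (_ - _) = 0
    rw [map_sub, sub_eq_zero]
    exact this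
  refine ⟨toBialgHom φ hhom, fun k c => ?_⟩
  rw [toBialgHom_apply]
  exact congrFun (hφ c) k

end System

end Groth.Agent.Lib.Helper77.HomLift
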