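import Mathlib
import Groth.Prelude.Def_SGA3b
import Groth.Agent.Lib.Helper77.HomLift6
import Groth.Agent.Lib.Helper77.HomLift7

/-!
# Homomorphisms from an isotrivial group to a group with quasi-isotrivial reduction, over a
complete base (helper77; SGA3 X, S5250)
-/

set_option autoImplicit false
set_option linter.style.haveILetI false
universe u
open TensorProduct WithConv

namespace Groth.Agent.Lib.Helper77.HomLift

open SGA3b Groth.Agent.Lib.Helper77.MultBC Groth.Agent.Lib.Helper77.MultMono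
  Groth.Agent.Lib.Helper58.HL1 Groth.Agent.Lib.Helper58.HL2 Groth.Agent.Lib.Helper58.HL3
  Groth.Agent.Lib.Helper58.HL4 Groth.Agent.Lib.Helper58.HL8 Groth.Agent.Lib.Helper58.HL9
  Groth.Agent.Lib.Helper58.HL10 Groth.Agent.Lib.Helper58.HL11

attribute [local instance] convGroup'

section Main

variable (A : Type u) [CommRing A] [IsNoetherianRing A] (I : Ideal A) [IsAdicComplete I A]
  (B : Type u) [CommRing B] [HopfAlgebra A B]
  (C : Type u) [CommRing C] [HopfAlgebra A C]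

lemma tr_tr {𝔞'' 𝔞' 𝔞 : Ideal A} (h' : 𝔞'' ≤ 𝔞') (h : 𝔞' ≤ 𝔞) (X : Type u) [CommRing X]
    [Algebra A X] (z : (A ⧸ 𝔞'') ⊗[A] X) : tr h X (tr h' X z) = tr (h'.trans h) X z := by
  induction z using TensorProduct.induction_on with
  | zero => simp
  | tmul q x =>
    obtain ⟨r, rfl⟩ := Ideal.Quotient.mk_surjective q
    simp
  | add x y hx hy => simp only [map_add, hx, hy]

theorem hom_reduction_bijective (hG : IsIsotrivial A B)
    (hfl : ∀ (q : Ideal C) [q.IsPrime], Ideal.map (algebraMap A C) I ≤ q →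
      Module.Flat A (Localization.AtPrime q))
    (h0 : IsQuasiIsotrivial (A ⧸ I) ((A ⧸ I) ⊗[A] C)) :
    (∀ φ ψ : C →ₐc[A] B, (∀ c : C, (1 : A ⧸ I) ⊗ₜ[A] (φ c) = (1 : A ⧸ I) ⊗ₜ[A] (ψ c)) → φ = ψ) ∧
    (∀ φ₀ : ((A ⧸ I) ⊗[A] C) →ₐc[A ⧸ I] ((A ⧸ I) ⊗[A] B),
      ∃ φ : C →ₐc[A] B, ∀ c : C, φ₀ ((1 : A ⧸ I) ⊗ₜ[A] c) = (1 : A ⧸ I) ⊗ₜ[A] (φ c)) := by
  obtain ⟨R', _, _, _hE, hFin, hFF, M, _, ⟨e⟩⟩ := hG
  haveI := hFin
  haveI := hFF
  have hB : IsMultType A B := Groth.Agent.Lib.Helper77.KerMT.isMultType_of_isMultTypeConst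
    ⟨R', inferInstance, inferInstance, hFF, M, inferInstance, ⟨e⟩⟩
  have hI : I ≤ Ideal.jacobson ⊥ := IsAdicComplete.le_jacobson_bot I
  have hpow : ∀ k, I ^ (k + 1) ≤ idl I k := fun k => by rw [idl_eq_pow]
  have hqi : ∀ k, IsQuasiIsotrivial (A ⧸ idl I k) ((A ⧸ idl I k) ⊗[A] C) := fun k =>
    isQuasiIsotrivial_level (idl_le I k) (k + 1) (hpow k) C hfl h0
  constructor
  · -- injectivity
    intro φ ψ hφψ
    have hlev : ∀ k, bcHom A (A ⧸ idl I k) φ = bcHom A (A ⧸ idl I k) ψ := by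
      intro k
      apply level_unique (idl_le I k) (k + 1) (hpow k) (hqi k) hB
      intro c
      rw [bcHom_tmul, bcHom_tmul]
      exact (tr_red_apply (idl_le I k) B (φ c)).trans ((hφψ c).trans
        (tr_red_apply (idl_le I k) B (ψ c)).symm)
    apply BialgHom.ext
    intro c
    rw [← sub_eq_zero]
    apply sepB I hI e
    intro k
    rw [TensorProduct.tmul_sub, sub_eq_zero]
    have := congrArg (fun g : (A ⧸ idl I k) ⊗[A] C →ₐc[A ⧸ idl I k] (A ⧸ idl I k) ⊗[A] B =>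
      g ((1 : A ⧸ idl I k) ⊗ₜ[A] c)) (hlev k)
    simpa [bcHom_tmul] using this
  · -- surjectivity
    intro φ₀
    choose Ψ hΨ using fun k => exists_level_lift (idl_le I k) (k + 1) (hpow k) (hqi k) hB φ₀
    obtain ⟨F, hFdef⟩ : ∃ F : ∀ k, WithConv (C →ₐ[A] (A ⧸ idl I k) ⊗[A] B),
        F = fun k => f₀ (idl I k) (Ψ k) := ⟨_, rfl⟩
    have hFapp : ∀ k c, (F k).ofConv c = Ψ k ((1 : A ⧸ idl I k) ⊗ₜ[A] c) := by
      intro k c
      rw [hFdef]
      rfl
    have hF : ∀ k, IsHomAt (idl I k) (F k) := by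
      intro k
      rw [hFdef]
      exact isHomAt_f₀ (idl I k) (Ψ k)
    have hcompat : ∀ k, push (tr (idl_succ_le I k) B) (F (k + 1)) = F k := by
      intro k
      obtain ⟨Ψ', hΨ'⟩ := exists_bcAlong (Ideal.Quotient.factorₐ A (idl_succ_le I k)) (Ψ (k + 1))
      have hΨ'' : ∀ c : C, Ψ' ((1 : A ⧸ idl I k) ⊗ₜ[A] c) =
          tr (idl_succ_le I k) B (Ψ (k + 1) ((1 : A ⧸ idl I (k + 1)) ⊗ₜ[A] c)) := hΨ'
      have heq : Ψ' = Ψ k := by
        apply level_unique (idl_le I k) (k + 1) (hpow k) (hqi k) hB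
        intro c
        rw [hΨ'', tr_tr, hΨ, hΨ]
      apply WithConv.ext
      apply AlgHom.ext
      intro c
      rw [push_apply, hFapp, hFapp, ← hΨ'', heq]
    obtain ⟨φ, hφ⟩ := exists_bialgHom_of_system e I F hF hcompat
    refine ⟨φ, fun c => ?_⟩
    have h1 := hφ 0 c
    rw [hFapp] at h1
    have h2 := hΨ 0 c
    rw [← h1, tr_red_apply] at h2
    exact h2.symm

end Main

end Groth.Agent.Lib.Helper77.HomLift
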