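import Mathlib

set_option autoImplicit false
universe u

namespace Groth.Agent.Lib.Helper77.HopfChar

open TensorProduct WithConv

variable {k : Type u} [Field k] {A : Type u} [CommRing A] [HopfAlgebra k A]

/-- the character group -/
abbrev G (k : Type u) [Field k] (A : Type u) [CommRing A] [HopfAlgebra k A] :=
  WithConv (A →ₐ[k] k)

/-- interpolation: separate a character from a finite set of other characters -/
theorem exists_separating [DecidableEq (G k A)] (s : Finset (G k A)) (χ : G k A) (hχ : χ ∉ s) :
    ∃ x : A, (∀ ψ ∈ s, ψ.ofConv x = 0) ∧ χ.ofConv x ≠ 0 := by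
  induction s using Finset.induction_on with
  | empty => exact ⟨1, by simp, by simp⟩
  | insert ψ s hψ ih =>
    rw [Finset.mem_insert, not_or] at hχ
    obtain ⟨x, hx0, hx1⟩ := ih hχ.2
    have hne : ψ.ofConv ≠ χ.ofConv := fun h => hχ.1 (WithConv.ofConv_injective h).symm
    obtain ⟨y, hy⟩ : ∃ y, ψ.ofConv y ≠ χ.ofConv y := by
      by_contra hcon
      push Not at hcon
      exact hne (AlgHom.ext hcon)
    refine ⟨x * (y - algebraMap k A (ψ.ofConv y)), ?_, ?_⟩
    · intro φ hφ
      rw [Finset.mem_insert] at hφ
      rcases hφ with rfl | hφ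
      · simp
      · rw [map_mul, hx0 φ hφ, zero_mul]
    · rw [map_mul, map_sub, AlgHom.commutes]
      refine mul_ne_zero hx1 ?_
      rw [sub_ne_zero]
      exact fun h => hy h.symm

/-- characters separate points of a reduced finite-dimensional algebra over an algebraically
closed field -/
theorem eq_zero_of_forall_char [IsAlgClosed k] [FiniteDimensional k A] [IsReduced A] (x : A)
    (hx : ∀ χ : A →ₐ[k] k, χ x = 0) : x = 0 := by
  have : IsArtinianRing A := IsArtinianRing.of_finite k A
  have hjac : x ∈ Ideal.jacobson (⊥ : Ideal A) := by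
    rw [Ideal.jacobson, Ideal.mem_sInf]
    rintro m ⟨-, hm⟩
    have : m.IsMaximal := hm
    let _ : Field (A ⧸ m) := Ideal.Quotient.field m
    have hbij : Function.Bijective (algebraMap k (A ⧸ m)) :=
      IsAlgClosed.algebraMap_bijective_of_isIntegral
    let e : k ≃ₐ[k] (A ⧸ m) := AlgEquiv.ofBijective (Algebra.ofId k (A ⧸ m)) hbij
    let χ : A →ₐ[k] k := (e.symm : (A ⧸ m) →ₐ[k] k).comp (Ideal.Quotient.mkₐ k m)
    have h1 : χ x = 0 := hx χ
    have h2 : e.symm (Ideal.Quotient.mk m x) = 0 := h1
    have h3 : Ideal.Quotient.mk m x = 0 := by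
      have := congrArg e h2
      simpa using this
    exact Ideal.Quotient.eq_zero_iff_mem.mp h3
  have hnil : IsNilpotent (Ideal.jacobson (⊥ : Ideal A)) := IsArtinianRing.isNilpotent_jacobson_bot
  obtain ⟨n, hn⟩ := hnil
  have hxn : x ^ n ∈ (Ideal.jacobson (⊥ : Ideal A)) ^ n := Ideal.pow_mem_pow hjac n
  rw [hn] at hxn
  have : x ^ n = 0 := by simpa using hxn
  exact IsReduced.eq_zero x ⟨n, this⟩


/-- ideal of functions vanishing on a subgroup of characters -/
noncomputable def IH (H : Subgroup (G k A)) : Ideal A :=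
  ⨅ χ : H, RingHom.ker (χ.1.ofConv : A →+* k)

theorem mem_IH {H : Subgroup (G k A)} {x : A} : x ∈ IH H ↔ ∀ χ ∈ H, χ.ofConv x = 0 := by
  simp [IH, RingHom.mem_ker]

theorem isHopfIdeal_IH [FiniteDimensional k A] (H : Subgroup (G k A)) :
    (IH H).IsHopfIdeal k := by
  classical
  have hfinG : Finite (G k A) := Finite.of_equiv _ (WithConv.equiv (A →ₐ[k] k)).symm
  have : Fintype H := Fintype.ofFinite H
  set I : Submodule k A := (IH H).restrictScalars k with hI
  have hmemI : ∀ x, x ∈ I ↔ ∀ χ ∈ H, χ.ofConv x = 0 := fun x => mem_IH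
  -- evaluation map on the quotient
  let ev : A →ₗ[k] (H → k) := LinearMap.pi fun χ => χ.1.ofConv.toLinearMap
  have hev : ∀ x (χ : H), ev x χ = χ.1.ofConv x := fun x χ => rfl
  have hker : LinearMap.ker ev = I := by
    ext x
    rw [LinearMap.mem_ker, hmemI]
    constructor
    · intro h χ hχ
      exact congrFun h ⟨χ, hχ⟩
    · intro h
      funext χ
      exact h χ.1 χ.2
  let j : (A ⧸ I) →ₗ[k] (H → k) := I.liftQ ev hker.ge
  have hj : Function.Injective j := by
    rw [← LinearMap.ker_eq_bot]
    exact Submodule.ker_liftQ_eq_bot _ _ _ hker.le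
  let μ := TensorProduct.piScalarRight k k (H → k) H
  have key : ∀ (t : A ⊗[k] A) (ψ χ : H),
      μ (TensorProduct.map j j (TensorProduct.map I.mkQ I.mkQ t)) ψ χ =
        Algebra.TensorProduct.lift χ.1.ofConv ψ.1.ofConv (fun _ _ => Commute.all _ _) t := by
    intro t ψ χ
    induction t using TensorProduct.induction_on with
    | zero => simp
    | tmul a b =>
      simp only [TensorProduct.map_tmul, Submodule.mkQ_apply, μ, TensorProduct.piScalarRight_apply,
        TensorProduct.piScalarRightHom_tmul, Algebra.TensorProduct.lift_tmul]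
      show (j (Submodule.Quotient.mk b)) ψ • (j (Submodule.Quotient.mk a)) χ = _
      rw [show j (Submodule.Quotient.mk b) = ev b from rfl,
        show j (Submodule.Quotient.mk a) = ev a from rfl, hev, hev, smul_eq_mul, mul_comm]
    | add x y hx hy =>
      simp only [map_add, Pi.add_apply, hx, hy]
  have hco : I.IsCoideal := by
    refine ⟨?_, ?_⟩
    · intro x hx
      have := (hmemI x).mp hx 1 H.one_mem
      simpa using this
    · intro x hx
      apply TensorProduct.map_injective_of_flat_flat j j hj hj
      rw [map_zero]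
      apply μ.injective
      rw [map_zero]
      funext ψ χ
      rw [key]
      have hmul : (χ.1 * ψ.1) ∈ H := H.mul_mem χ.2 ψ.2
      have := (hmemI x).mp hx _ hmul
      rw [← AlgHom.convMul_apply]
      exact this
  refine { toIsCoideal := hco, antipode_mem := ?_ }
  intro x hx
  rw [mem_IH] at hx ⊢
  intro χ hχ
  have := hx χ⁻¹ (H.inv_mem hχ)
  exact this


theorem main [IsAlgClosed k] [Coalgebra.IsCocomm k A] [FiniteDimensional k A] [IsReduced A]
    (hA : 1 < Module.finrank k A)
    (hsimple : ∀ I : Ideal A, I.IsHopfIdeal k → I = ⊥ ∨ I = RingHom.ker (Bialgebra.counitAlgHom k A)) :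
    (Module.finrank k A).Prime := by
  classical
  have hfinG : Finite (G k A) := Finite.of_equiv _ (WithConv.equiv (A →ₐ[k] k)).symm
  have : Fintype (G k A) := Fintype.ofFinite _
  -- subgroups are trivial
  have hsub : ∀ H : Subgroup (G k A), H = ⊥ ∨ H = ⊤ := by
    intro H
    rcases hsimple (IH H) (isHopfIdeal_IH H) with h | h
    · right
      rw [eq_top_iff]
      intro χ _
      by_contra hχ
      obtain ⟨x, hx0, hx1⟩ := exists_separating (Finset.univ.filter (· ∈ H)) χ (by simpa using hχ)
      have hmem : x ∈ IH H := mem_IH.mpr (fun ψ hψ => hx0 ψ (by simpa using hψ))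
      rw [h, Ideal.mem_bot] at hmem
      exact hx1 (by rw [hmem, map_zero])
    · left
      rw [eq_bot_iff]
      intro ψ hψ
      rw [Subgroup.mem_bot]
      apply WithConv.ofConv_injective
      apply AlgHom.ext
      intro a
      have hmem : a - algebraMap k A (Coalgebra.counit a) ∈
          RingHom.ker (Bialgebra.counitAlgHom k A) := by
        rw [RingHom.mem_ker]; simp
      rw [← h, mem_IH] at hmem
      have h2 := hmem ψ hψ
      rw [map_sub, AlgHom.commutes, sub_eq_zero] at h2
      rw [h2]
      rfl
  have hle : Module.finrank k A ≤ Fintype.card (G k A) := by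
    let ev : A →ₗ[k] (G k A → k) := LinearMap.pi fun χ => χ.ofConv.toLinearMap
    have hinj : Function.Injective ev := by
      rw [← LinearMap.ker_eq_bot, LinearMap.ker_eq_bot']
      intro x hx
      apply eq_zero_of_forall_char (k := k) x
      intro χ
      exact congrFun hx (toConv χ)
    have := LinearMap.finrank_le_finrank_of_injective hinj
    simpa using this
  have hge : Fintype.card (G k A) ≤ Module.finrank k A := by
    have h1 := card_algHom_le_finrank k A k
    have h2 : Nat.card (G k A) = Nat.card (A →ₐ[k] k) :=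
      Nat.card_congr (WithConv.equiv (A →ₐ[k] k))
    rw [← h2, Nat.card_eq_fintype_card] at h1
    exact h1
  have hcard : Module.finrank k A = Nat.card (G k A) := by
    rw [Nat.card_eq_fintype_card]; exact le_antisymm hle hge
  have hnontriv : Nontrivial (G k A) := by
    rw [← Fintype.one_lt_card_iff_nontrivial]; omega
  have hsimp : IsSimpleGroup (G k A) := ⟨fun H _ => hsub H⟩
  rw [hcard]
  exact IsSimpleGroup.prime_card

end Groth.Agent.Lib.Helper77.HopfChar
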