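import Mathlib

set_option autoImplicit false
universe u v v' v''

namespace Groth.Agent.Lib.Helper77.HopfLemma

open MvPolynomial

section Core

variable (k : Type u) [Field k] (ι κ : Type) [Fintype ι] [Fintype κ] [DecidableEq ι] [DecidableEq κ]

/-- the ambient polynomial ring -/
abbrev P := MvPolynomial (ι ⊕ κ) k

variable {ι κ}
/-- Segre coordinates -/
noncomputable def z (i : ι) (j : κ) : P k ι κ := X (Sum.inl i) * X (Sum.inr j)
variable (ι κ)

/-- the Segre ring -/
noncomputable def R : Subalgebra k (P k ι κ) :=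
  Algebra.adjoin k (Set.range (fun p : ι × κ => z k p.1 p.2))

variable {ι κ}
/-- Segre coordinates as elements of `R` -/
noncomputable def zR (i : ι) (j : κ) : R k ι κ :=
  ⟨z k i j, Algebra.subset_adjoin ⟨(i, j), rfl⟩⟩

theorem zR_mul_comm (i i' : ι) (j j' : κ) :
    zR k i j' * zR k i' j = zR k i j * zR k i' j' := by
  apply Subtype.ext
  show z k i j' * z k i' j = z k i j * z k i' j'
  unfold z
  ring

/-- killing a set of variables -/
noncomputable def ρ (S : Finset (ι ⊕ κ)) : P k ι κ →ₐ[k] P k ι κ :=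
  aeval (fun x => if x ∈ S then 0 else X x)

theorem ρ_X (S : Finset (ι ⊕ κ)) (x : ι ⊕ κ) : ρ k S (X x) = if x ∈ S then 0 else X x := by
  simp [ρ]

theorem ρ_comp_of_subset {S S' : Finset (ι ⊕ κ)} (h : S ⊆ S') :
    (ρ k S').comp (ρ k S) = ρ k S' := by
  apply MvPolynomial.algHom_ext
  intro x
  rw [AlgHom.comp_apply, ρ_X]
  by_cases hx : x ∈ S
  · rw [if_pos hx, map_zero, ρ_X, if_pos (h hx)]
  · rw [if_neg hx]

/-- the prime ideals of `R` obtained by killing variables. -/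
noncomputable def 𝔭 (S : Finset (ι ⊕ κ)) : Ideal (R k ι κ) :=
  RingHom.ker ((ρ k S : P k ι κ →+* P k ι κ).comp (R k ι κ).val.toRingHom)

theorem mem_𝔭 (S : Finset (ι ⊕ κ)) (f : R k ι κ) : f ∈ 𝔭 k S ↔ ρ k S f.1 = 0 := by
  unfold 𝔭
  rw [RingHom.mem_ker]
  rfl

instance (S : Finset (ι ⊕ κ)) : (𝔭 k S).IsPrime := by
  unfold 𝔭
  exact RingHom.ker_isPrime _

theorem 𝔭_mono {S S' : Finset (ι ⊕ κ)} (h : S ⊆ S') : 𝔭 k S ≤ 𝔭 k S' := by
  intro f hf
  rw [mem_𝔭] at hf ⊢
  rw [← ρ_comp_of_subset k h, AlgHom.comp_apply, hf, map_zero]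

theorem zR_mem_𝔭_left (S : Finset (ι ⊕ κ)) (i : ι) (j : κ) (h : Sum.inl i ∈ S) :
    zR k i j ∈ 𝔭 k S := by
  rw [mem_𝔭]
  show ρ k S (X (Sum.inl i) * X (Sum.inr j)) = 0
  rw [map_mul, ρ_X, if_pos h, zero_mul]

theorem zR_mem_𝔭_right (S : Finset (ι ⊕ κ)) (i : ι) (j : κ) (h : Sum.inr j ∈ S) :
    zR k i j ∈ 𝔭 k S := by
  rw [mem_𝔭]
  show ρ k S (X (Sum.inl i) * X (Sum.inr j)) = 0
  rw [map_mul, ρ_X k S (Sum.inr j), if_pos h, mul_zero]

theorem zR_not_mem_𝔭 (S : Finset (ι ⊕ κ)) (i : ι) (j : κ) (h : Sum.inl i ∉ S)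
    (h' : Sum.inr j ∉ S) : zR k i j ∉ 𝔭 k S := by
  rw [mem_𝔭]
  show ρ k S (X (Sum.inl i) * X (Sum.inr j)) ≠ 0
  rw [map_mul, ρ_X, ρ_X, if_neg h, if_neg h']
  exact mul_ne_zero (X_ne_zero _) (X_ne_zero _)

theorem card_le_height (i₀ : ι) (j₀ : κ) (S : Finset (ι ⊕ κ)) (h : Sum.inl i₀ ∉ S)
    (h' : Sum.inr j₀ ∉ S) : (S.card : ℕ∞) ≤ (𝔭 k S).height := by
  induction S using Finset.induction_on with
  | empty => simp
  | insert x S₀ hx ih =>
    have h0 : Sum.inl i₀ ∉ S₀ := fun hh => h (Finset.mem_insert_of_mem hh)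
    have h0' : Sum.inr j₀ ∉ S₀ := fun hh => h' (Finset.mem_insert_of_mem hh)
    have ih' := ih h0 h0'
    have hlt : 𝔭 k S₀ < 𝔭 k (insert x S₀) := by
      refine lt_of_le_of_ne (𝔭_mono k (Finset.subset_insert x S₀)) ?_
      intro heq
      rcases x with i | j
      · have h1 : zR k i j₀ ∈ 𝔭 k (insert (Sum.inl i) S₀) :=
          zR_mem_𝔭_left k _ i j₀ (Finset.mem_insert_self _ _)
        rw [← heq] at h1
        exact zR_not_mem_𝔭 k S₀ i j₀ hx h0' h1
      · have h1 : zR k i₀ j ∈ 𝔭 k (insert (Sum.inr j) S₀) :=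
          zR_mem_𝔭_right k _ i₀ j (Finset.mem_insert_self _ _)
        rw [← heq] at h1
        exact zR_not_mem_𝔭 k S₀ i₀ j h0 hx h1
    have := Ideal.height_add_one_le_of_lt_of_isPrime hlt
    rw [Finset.card_insert_of_notMem hx]
    push_cast
    exact le_trans (add_le_add_left ih' 1) this

theorem height_univ_ge [Nonempty ι] [Nonempty κ] :
    ((Fintype.card ι + Fintype.card κ - 1 : ℕ) : ℕ∞) ≤ (𝔭 k (Finset.univ : Finset (ι ⊕ κ))).height := by
  obtain ⟨i₀⟩ := ‹Nonempty ι›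
  obtain ⟨j₀⟩ := ‹Nonempty κ›
  set S : Finset (ι ⊕ κ) := (Finset.univ.erase (Sum.inl i₀)).erase (Sum.inr j₀) with hS
  have h1 : Sum.inl i₀ ∉ S := by simp [hS]
  have h2 : Sum.inr j₀ ∉ S := by simp [hS]
  have hc := card_le_height k i₀ j₀ S h1 h2
  have hlt : 𝔭 k S < 𝔭 k Finset.univ := by
    refine lt_of_le_of_ne (𝔭_mono k (Finset.subset_univ S)) ?_
    intro heq
    have h3 : zR k i₀ j₀ ∈ 𝔭 k (Finset.univ : Finset (ι ⊕ κ)) :=
      zR_mem_𝔭_left k _ i₀ j₀ (Finset.mem_univ _)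
    rw [← heq] at h3
    exact zR_not_mem_𝔭 k S i₀ j₀ h1 h2 h3
  have := Ideal.height_add_one_le_of_lt_of_isPrime hlt
  have hcard : S.card + 1 = Fintype.card ι + Fintype.card κ - 1 := by
    rw [hS, Finset.card_erase_of_mem, Finset.card_erase_of_mem (Finset.mem_univ _),
      Finset.card_univ, Fintype.card_sum]
    · have : 0 < Fintype.card ι := Fintype.card_pos
      have : 0 < Fintype.card κ := Fintype.card_pos
      omega
    · simp
  rw [← hcard]
  push_cast
  exact le_trans (add_le_add_left hc 1) this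

end Core

section Core2

variable (k : Type u) [Field k] {ι κ : Type} [Fintype ι] [Fintype κ] [DecidableEq ι] [DecidableEq κ]

/-- the ideal generated by the Segre coordinates -/
noncomputable def Z : Ideal (R k ι κ) := Ideal.span (Set.range (fun p : ι × κ => zR k p.1 p.2))

theorem sub_const_mem_aux (f : P k ι κ) (hf : f ∈ R k ι κ) :
    (⟨f, hf⟩ : R k ι κ) - algebraMap k (R k ι κ) (constantCoeff f) ∈ Z k (ι := ι) (κ := κ) := by
  unfold R at hf
  induction hf using Algebra.adjoin_induction with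
  | mem x hx =>
    obtain ⟨p, rfl⟩ := hx
    have h0 : constantCoeff (z k p.1 p.2) = 0 := by simp [z]
    simp only [h0, map_zero, sub_zero]
    exact Ideal.subset_span ⟨p, rfl⟩
  | algebraMap c =>
    have : (⟨algebraMap k (P k ι κ) c, Subalgebra.algebraMap_mem _ c⟩ : R k ι κ) =
        algebraMap k (R k ι κ) c := rfl
    have h0 : constantCoeff (algebraMap k (P k ι κ) c) = c := by
      simp [MvPolynomial.algebraMap_eq]
    rw [h0]
    convert (Z k (ι := ι) (κ := κ)).zero_mem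
    exact sub_self _
  | add x y hx hy ihx ihy =>
    have : (⟨x + y, add_mem hx hy⟩ : R k ι κ) - algebraMap k (R k ι κ) (constantCoeff (x + y)) =
      ((⟨x, hx⟩ : R k ι κ) - algebraMap k (R k ι κ) (constantCoeff x)) +
      ((⟨y, hy⟩ : R k ι κ) - algebraMap k (R k ι κ) (constantCoeff y)) := by
      rw [map_add, map_add]
      apply Subtype.ext
      simp only [Subalgebra.coe_sub, Subalgebra.coe_add]
      ring
    rw [this]
    exact Ideal.add_mem _ ihx ihy
  | mul x y hx hy ihx ihy =>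
    have : (⟨x * y, mul_mem hx hy⟩ : R k ι κ) - algebraMap k (R k ι κ) (constantCoeff (x * y)) =
      ((⟨x, hx⟩ : R k ι κ) - algebraMap k (R k ι κ) (constantCoeff x)) * (⟨y, hy⟩ : R k ι κ) +
      algebraMap k (R k ι κ) (constantCoeff x) *
        ((⟨y, hy⟩ : R k ι κ) - algebraMap k (R k ι κ) (constantCoeff y)) := by
      rw [map_mul, map_mul]
      apply Subtype.ext
      simp only [Subalgebra.coe_sub, Subalgebra.coe_add, Subalgebra.coe_mul]
      ring
    rw [this]
    exact Ideal.add_mem _ (Ideal.mul_mem_right _ _ ihx) (Ideal.mul_mem_left _ _ ihy)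

theorem sub_const_mem (f : R k ι κ) :
    f - algebraMap k (R k ι κ) (constantCoeff f.1) ∈ Z k (ι := ι) (κ := κ) :=
  sub_const_mem_aux k f.1 f.2

theorem eval_eq_const_of_kills (χ : R k ι κ →ₐ[k] k) (h : ∀ i j, χ (zR k i j) = 0)
    (f : R k ι κ) : χ f = constantCoeff f.1 := by
  have h1 : Z k (ι := ι) (κ := κ) ≤ RingHom.ker (χ : R k ι κ →+* k) := by
    unfold Z
    rw [Ideal.span_le]
    rintro _ ⟨p, rfl⟩
    exact h p.1 p.2
  have h2 := h1 (sub_const_mem k f)
  rw [RingHom.mem_ker] at h2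
  have h3 : χ (f - algebraMap k (R k ι κ) (constantCoeff f.1)) = 0 := h2
  rw [map_sub, AlgHom.commutes, sub_eq_zero] at h3
  simpa using h3

theorem mem_𝔭_univ_iff (f : R k ι κ) :
    f ∈ 𝔭 k (Finset.univ : Finset (ι ⊕ κ)) ↔ constantCoeff f.1 = 0 := by
  rw [mem_𝔭]
  have : ρ k (Finset.univ : Finset (ι ⊕ κ)) = (Algebra.ofId k _).comp (MvPolynomial.aeval (fun _ => (0 : k))) := by
    apply MvPolynomial.algHom_ext
    intro x
    simp [ρ_X]
  rw [this, AlgHom.comp_apply]
  have h2 : (MvPolynomial.aeval (fun _ : ι ⊕ κ => (0 : k))) f.1 = constantCoeff f.1 := by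
    rw [MvPolynomial.aeval_zero']
    rfl
  rw [h2]
  constructor
  · intro h
    exact (algebraMap k (P k ι κ)).injective (by simpa using h)
  · intro h
    rw [h, map_zero]

end Core2


section Core3

variable (k : Type u) [Field k] {ι κ : Type} [Fintype ι] [Fintype κ] [DecidableEq ι] [DecidableEq κ]

instance : Algebra.FiniteType k (R k ι κ) := by
  classical
  rw [← Subalgebra.fg_iff_finiteType]
  unfold R
  have : (Set.range (fun p : ι × κ => z k p.1 p.2)) =
      ((Finset.univ.image (fun p : ι × κ => z k p.1 p.2) : Finset (P k ι κ)) : Set (P k ι κ)) := by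
    simp
  rw [this]
  exact Subalgebra.fg_adjoin_finset _

instance : IsNoetherianRing (R k ι κ) := Algebra.FiniteType.isNoetherianRing k _

instance : IsJacobsonRing (R k ι κ) := isJacobsonRing_of_finiteType (A := k)

/-- a point of `R` from a maximal ideal -/
theorem exists_point [IsAlgClosed k] (𝔫 : Ideal (R k ι κ)) [h𝔫 : 𝔫.IsMaximal] :
    ∃ χ : R k ι κ →ₐ[k] k, RingHom.ker (χ : R k ι κ →+* k) = 𝔫 := by
  let := Ideal.Quotient.field 𝔫
  have hfin : Module.Finite k (R k ι κ ⧸ 𝔫) :=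
    finite_of_finite_type_of_isJacobsonRing k (R k ι κ ⧸ 𝔫)
  have hbij : Function.Bijective (algebraMap k (R k ι κ ⧸ 𝔫)) :=
    IsAlgClosed.algebraMap_bijective_of_isIntegral
  let e : k ≃ₐ[k] (R k ι κ ⧸ 𝔫) := AlgEquiv.ofBijective (Algebra.ofId k _) hbij
  refine ⟨e.symm.toAlgHom.comp (Ideal.Quotient.mkₐ k 𝔫), ?_⟩
  ext f
  rw [RingHom.mem_ker]
  show e.symm (Ideal.Quotient.mk 𝔫 f) = 0 ↔ f ∈ 𝔫
  rw [map_eq_zero_iff _ e.symm.injective, Ideal.Quotient.eq_zero_iff_mem]

end Core3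


section Core4

variable (k : Type u) [Field k] {ι κ : Type} [Fintype ι] [Fintype κ] [DecidableEq ι] [DecidableEq κ]

theorem core [IsAlgClosed k] [Nonempty ι] [Nonempty κ] (r : ℕ) (c : Fin r → ι → κ → k)
    (hr : r + 2 ≤ Fintype.card ι + Fintype.card κ) :
    ∃ (t : ι → k) (v : κ → k), t ≠ 0 ∧ v ≠ 0 ∧ ∀ l, ∑ i, ∑ j, c l i j * t i * v j = 0 := by
  classical
  let f : Fin r → R k ι κ := fun l => ∑ i, ∑ j, algebraMap k (R k ι κ) (c l i j) * zR k i j
  let s : Finset (R k ι κ) := Finset.univ.image f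
  have hs : s.card ≤ r := by
    have := Finset.card_image_le (s := (Finset.univ : Finset (Fin r))) (f := f)
    simpa using this
  have hI : Ideal.span (s : Set (R k ι κ)) ≤ 𝔭 k (Finset.univ : Finset (ι ⊕ κ)) := by
    rw [Ideal.span_le]
    intro x hx
    rw [Finset.mem_coe, Finset.mem_image] at hx
    obtain ⟨l, -, rfl⟩ := hx
    refine Ideal.sum_mem _ fun i _ => Ideal.sum_mem _ fun j _ => Ideal.mul_mem_left _ _ ?_
    exact zR_mem_𝔭_left k _ i j (Finset.mem_univ _)
  obtain ⟨q, hq, hqle⟩ := Ideal.exists_minimalPrimes_le hI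
  have hqprime : q.IsPrime := hq.isPrime
  have hqh : q.height ≤ s.card := Ideal.height_le_card_of_mem_minimalPrimes_span_finset hq
  have hne : q ≠ 𝔭 k (Finset.univ : Finset (ι ⊕ κ)) := by
    intro heq
    have h1 := height_univ_ge k (ι := ι) (κ := κ)
    rw [← heq] at h1
    have h2 : ((Fintype.card ι + Fintype.card κ - 1 : ℕ) : ℕ∞) ≤ (r : ℕ∞) :=
      le_trans h1 (le_trans hqh (by exact_mod_cast hs))
    have h3 : Fintype.card ι + Fintype.card κ - 1 ≤ r := by exact_mod_cast h2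
    omega
  obtain ⟨g, hg, hgq⟩ := SetLike.exists_of_lt (lt_of_le_of_ne hqle hne)
  -- Jacobson
  have hjac : q.jacobson = q := IsJacobsonRing.out inferInstance hqprime.isRadical
  have : ∃ 𝔫 : Ideal (R k ι κ), 𝔫.IsMaximal ∧ q ≤ 𝔫 ∧ g ∉ 𝔫 := by
    by_contra hcon
    push Not at hcon
    apply hgq
    rw [← hjac, Ideal.jacobson, Ideal.mem_sInf]
    intro J hJ
    exact hcon J hJ.2 hJ.1
  obtain ⟨𝔫, h𝔫max, hq𝔫, hg𝔫⟩ := this
  obtain ⟨χ, hχ⟩ := exists_point k 𝔫
  have hχmem : ∀ x, x ∈ 𝔫 ↔ χ x = 0 := by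
    intro x
    rw [← hχ, RingHom.mem_ker]
    rfl
  -- some coordinate is nonzero
  have : ∃ i₀ j₀, χ (zR k i₀ j₀) ≠ 0 := by
    by_contra hcon
    push Not at hcon
    apply hg𝔫
    rw [hχmem, eval_eq_const_of_kills k χ hcon g]
    exact (mem_𝔭_univ_iff k g).mp hg
  obtain ⟨i₀, j₀, h0⟩ := this
  refine ⟨fun i => χ (zR k i j₀), fun j => χ (zR k i₀ j) / χ (zR k i₀ j₀), ?_, ?_, ?_⟩
  · intro h
    exact h0 (congrFun h i₀)
  · intro h
    have := congrFun h j₀
    simp only [Pi.zero_apply] at this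
    rw [div_self h0] at this
    exact one_ne_zero this
  · intro l
    have hfl : f l ∈ 𝔫 := hq𝔫 (hq.1.2 (Ideal.subset_span (by
      rw [Finset.mem_coe, Finset.mem_image]; exact ⟨l, Finset.mem_univ _, rfl⟩)))
    rw [hχmem] at hfl
    simp only [f, map_sum, map_mul, AlgHom.commutes] at hfl
    rw [← hfl]
    apply Finset.sum_congr rfl
    intro i _
    apply Finset.sum_congr rfl
    intro j _
    have hmul : χ (zR k i j₀) * χ (zR k i₀ j) = χ (zR k i j) * χ (zR k i₀ j₀) := by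
      rw [← map_mul, ← map_mul, zR_mul_comm]
    simp only [Algebra.algebraMap_self, RingHom.id_apply]
    rw [mul_assoc, mul_div_assoc', hmul, mul_div_assoc, div_self h0, mul_one]

end Core4


section Hopf

variable (k : Type u) [Field k] [IsAlgClosed k]
  (U : Type v) (V : Type v') (W : Type v'') [AddCommGroup U] [Module k U] [AddCommGroup V] [Module k V]
  [AddCommGroup W] [Module k W] [Module.Finite k U] [Module.Finite k V] [Module.Finite k W]
  [Nontrivial U] [Nontrivial V]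

theorem hopf (φ : U →ₗ[k] V →ₗ[k] W) (hφ : ∀ (a : U) (b : V), a ≠ 0 → b ≠ 0 → φ a b ≠ 0) :
    Module.finrank k U + Module.finrank k V ≤ Module.finrank k W + 1 := by
  classical
  by_contra hcon
  push Not at hcon
  have hU : 0 < Module.finrank k U := Module.finrank_pos
  have hV : 0 < Module.finrank k V := Module.finrank_pos
  have : Nonempty (Fin (Module.finrank k U)) := ⟨⟨0, hU⟩⟩
  have : Nonempty (Fin (Module.finrank k V)) := ⟨⟨0, hV⟩⟩
  let bU := Module.finBasis k U
  let bV := Module.finBasis k V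
  let bW := Module.finBasis k W
  obtain ⟨t, w, ht, hw, h⟩ := core k (Module.finrank k W)
    (fun l i j => bW.repr (φ (bU i) (bV j)) l) (by simp only [Fintype.card_fin]; omega)
  have ha : (∑ i, t i • bU i) ≠ 0 := by
    intro h0
    apply ht
    funext i
    have := congrArg (fun x => bU.repr x i) h0
    simpa [Finsupp.single_apply] using this
  have hb : (∑ j, w j • bV j) ≠ 0 := by
    intro h0
    apply hw
    funext j
    have := congrArg (fun x => bV.repr x j) h0
    simpa [Finsupp.single_apply] using this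
  apply hφ _ _ ha hb
  apply bW.repr.injective
  ext l
  simp only [map_sum, map_smul, LinearMap.sum_apply, LinearMap.smul_apply,
    Finsupp.coe_finsetSum, Finsupp.coe_smul, Finset.sum_apply, Pi.smul_apply, smul_eq_mul, map_zero,
    Finsupp.coe_zero, Pi.zero_apply]
  rw [← h l]
  rw [Finset.sum_comm]
  apply Finset.sum_congr rfl
  intro i _
  rw [Finset.mul_sum]
  apply Finset.sum_congr rfl
  intro j _
  ring

end Hopf


end Groth.Agent.Lib.Helper77.HopfLemma
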