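import Mathlib
import Groth.Agent.Lib.Helper50.SpecConnected

set_option autoImplicit false
set_option linter.style.haveILetI false
universe u

open TensorProduct

namespace Groth.Agent.Lib.Helper77.IsoTriv3

variable (R : Type u) [CommRing R]

section Basic

variable (T : Type u) [CommRing T] [Algebra R T] [Algebra.Etale R T] [Module.Finite R T]

instance : Module.FinitePresentation R T := Module.FinitePresentation.of_finite_of_finitePresentation R T

/-- the rank of a finite étale algebra over a connected base is constant. -/
lemma rank_const [ConnectedSpace (PrimeSpectrum R)] (p q : PrimeSpectrum R) :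
    Module.rankAtStalk (R := R) T p = Module.rankAtStalk (R := R) T q :=
  (Module.isLocallyConstant_rankAtStalk (R := R) (M := T)).apply_eq_of_preconnectedSpace p q

lemma rank_pos [ConnectedSpace (PrimeSpectrum R)] [Nontrivial T] (p : PrimeSpectrum R) :
    0 < Module.rankAtStalk (R := R) T p := by
  rw [Nat.pos_iff_ne_zero]
  intro h0
  have : Module.rankAtStalk (R := R) T = 0 := by
    ext q
    rw [rank_const R T q p, h0]; rfl
  rw [Module.rankAtStalk_eq_zero_iff_subsingleton] at this
  exact not_subsingleton T this

lemma faithfullyFlat_of_nontrivial [ConnectedSpace (PrimeSpectrum R)] [Nontrivial T] :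
    Module.FaithfullyFlat R T := by
  apply Module.FaithfullyFlat.of_comap_surjective
  rw [← PrimeSpectrum.rankAtStalk_pos_iff_comap_surjective]
  exact rank_pos R T

end Basic

section Quot

variable (T : Type u) [CommRing T] [Algebra R T] [Algebra.Etale R T] [Module.Finite R T]

/-- the clopen piece of `Spec T` cut out by an idempotent `e` (the quotient by `1 - e`). -/
abbrev Q (e : T) : Type u := T ⧸ Ideal.span {1 - e}

lemma etale_Q {e : T} (he : IsIdempotentElem e) : Algebra.Etale R (Q T e) := by
  haveI : IsLocalization.Away e (Q T e) := IsLocalization.Away.quotient_of_isIdempotentElem he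
  haveI : Algebra.Etale T (Q T e) := Algebra.Etale.of_isLocalizationAway e
  exact Algebra.Etale.comp R T (Q T e)

instance finite_Q (e : T) : Module.Finite R (Q T e) :=
  Module.Finite.of_surjective (Ideal.Quotient.mkₐ R (Ideal.span {1 - e})).toLinearMap
    (Ideal.Quotient.mkₐ_surjective R _)

omit [Algebra.Etale R T] [Module.Finite R T] in
lemma nontrivial_Q {e : T} (he : IsIdempotentElem e) (h0 : e ≠ 0) : Nontrivial (Q T e) := by
  rw [Ideal.Quotient.nontrivial_iff]
  intro h
  rw [Ideal.eq_top_iff_one, Ideal.mem_span_singleton'] at h
  obtain ⟨c, hc⟩ := h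
  apply h0
  calc e = 1 * e := (one_mul e).symm
    _ = c * (1 - e) * e := by rw [hc]
    _ = c * (e - e * e) := by ring
    _ = 0 := by rw [he.eq, sub_self, mul_zero]

end Quot

open Groth.Agent.Lib.Helper50 in
theorem exists_connected_piece_aux [ConnectedSpace (PrimeSpectrum R)] (n : ℕ) :
    ∀ (T : Type u) [CommRing T] [Algebra R T] [Algebra.Etale R T] [Module.Finite R T]
      [Nontrivial T], (∀ p, Module.rankAtStalk (R := R) T p = n) →
      ∃ (R' : Type u) (_ : CommRing R') (_ : Algebra R R') (_ : T →ₐ[R] R'),
        Algebra.Etale R R' ∧ Module.Finite R R' ∧ Module.FaithfullyFlat R R' ∧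
          ConnectedSpace (PrimeSpectrum R') := by
  induction n using Nat.strong_induction_on with
  | _ n ih =>
    intro T _ _ _ _ _ hn
    by_cases hconn : ConnectedSpace (PrimeSpectrum T)
    · exact ⟨T, inferInstance, inferInstance, AlgHom.id R T, inferInstance, inferInstance,
        faithfullyFlat_of_nontrivial R T, hconn⟩
    · rw [connectedSpace_primeSpectrum_iff] at hconn
      push Not at hconn
      obtain ⟨e, he, he0, he1⟩ := hconn inferInstance
      have he' : IsIdempotentElem (1 - e) := he.one_sub
      have he'0 : 1 - e ≠ 0 := fun h => he1 (sub_eq_zero.mp h).symm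
      haveI := etale_Q R T he
      haveI := etale_Q R T he'
      haveI := nontrivial_Q T he he0
      haveI := nontrivial_Q T he' he'0
      let E : T ≃ₐ[R] Q T e × Q T (1 - e) :=
        AlgEquiv.prodQuotientOfIsIdempotentElem R he' he'.one_sub (by ring)
          (by rw [sub_sub_cancel, mul_comm, mul_sub, mul_one, he.eq, sub_self])
      obtain ⟨p₀⟩ := (inferInstance : Nonempty (PrimeSpectrum R))
      have hsum : n = Module.rankAtStalk (R := R) (Q T e) p₀ +
          Module.rankAtStalk (R := R) (Q T (1 - e)) p₀ := by
        rw [← hn p₀, Module.rankAtStalk_eq_of_equiv E.toLinearEquiv, Module.rankAtStalk_prod]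
        rfl
      have h2 := rank_pos R (Q T (1 - e)) p₀
      obtain ⟨R', _, _, f, h⟩ := ih (Module.rankAtStalk (R := R) (Q T e) p₀) (by omega) (Q T e)
        (fun p => rank_const R (Q T e) p p₀)
      exact ⟨R', inferInstance, inferInstance, f.comp (Ideal.Quotient.mkₐ R _), h⟩

/-- **Connected piece**: over a connected base, a nonzero finite étale algebra `T` maps to a finite
étale faithfully flat algebra with connected spectrum. -/
theorem exists_connected_piece [ConnectedSpace (PrimeSpectrum R)]
    (T : Type u) [CommRing T] [Algebra R T] [Algebra.Etale R T] [Module.Finite R T]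
    [Nontrivial T] :
    ∃ (R' : Type u) (_ : CommRing R') (_ : Algebra R R') (_ : T →ₐ[R] R'),
      Algebra.Etale R R' ∧ Module.Finite R R' ∧ Module.FaithfullyFlat R R' ∧
        ConnectedSpace (PrimeSpectrum R') := by
  obtain ⟨p₀⟩ := (inferInstance : Nonempty (PrimeSpectrum R))
  exact exists_connected_piece_aux R _ T (fun p => rank_const R T p p₀)

end Groth.Agent.Lib.Helper77.IsoTriv3
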