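import Mathlib
import Groth.Prelude.Def_CartDual2
import Groth.Agent.Lib.Helper77.HopfLift2
import Groth.Agent.Lib.Helper77.HensDual2
import Groth.Agent.S15898

set_option autoImplicit false
set_option linter.style.haveILetI false
universe u
open TensorProduct CartDual SGA3b

namespace Groth.Agent.Lib.Helper77.HopfLift3

open Groth.Agent.Lib.Helper77.HopfLift2 Groth.Agent.Lib.Helper77.HensDual1
  Groth.Agent.Lib.Helper77.HensDual2 Groth.Agent.Lib.Helper77.IsoTriv5

section DualCongr

variable {B : Type u} [CommRing B] {H H' : Type u} [CommRing H] [Bialgebra B H]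
  [CommRing H'] [Bialgebra B H'] [Module.Finite B H] [Module.Projective B H]
  [Module.Finite B H'] [Module.Projective B H']

/-- the dual of a bialgebra isomorphism. -/
noncomputable def dualCongrC (F : H ≃ₐc[B] H') : D B H' ≃ₐc[B] D B H :=
  BialgEquiv.ofBialgHom (R := B) (A := D B H') (B := D B H)
    (transpose B (F : H →ₐc[B] H')) (transpose B (F.symm : H' →ₐc[B] H))
    (by
      ext x h
      change x (F.symm (F h)) = x h
      rw [F.symm_apply_apply])
    (by
      ext x h
      change x (F (F.symm h)) = x h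
      rw [F.apply_symm_apply])

end DualCongr

/-- **Lifting finite groups of multiplicative type along a henselian pair.** -/
theorem exists_lift_finite_multType (R : Type u) [CommRing R] (I : Ideal R) [HenselianRing R I]
    [ConnectedSpace (PrimeSpectrum R)]
    (C₀ : Type u) [CommRing C₀] [HopfAlgebra (R ⧸ I) C₀] [Module.Finite (R ⧸ I) C₀]
    (h₀ : IsMultType (R ⧸ I) C₀) :
    ∃ (C : Type u) (_ : CommRing C) (_ : HopfAlgebra R C), Module.Finite R C ∧ IsIsotrivial R C ∧
      Nonempty (((R ⧸ I) ⊗[R] C) ≃ₐc[R ⧸ I] C₀) := by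
  haveI := isCocomm_of_isMultType C₀ h₀
  haveI := projective_of_isMultType C₀ h₀
  haveI : Algebra.Etale (R ⧸ I) (D (R ⧸ I) C₀) := etale_dual_of_isMultType C₀ h₀
  obtain ⟨E, _, _, hfin, het, hcoc, ⟨ē⟩⟩ := exists_hopfAlgebra_lift R I (D (R ⧸ I) C₀)
  haveI := hfin
  haveI := het
  haveI := hcoc
  haveI : Module.FinitePresentation R E := Module.FinitePresentation.of_finite_of_finitePresentation R E
  haveI : Module.Projective R E := Module.Flat.projective_of_finitePresentation
  haveI : Algebra.Etale R (D R (D R E)) := Algebra.Etale.of_equiv (evalEquiv R E : E ≃ₐ[R] D R (D R E))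
  refine ⟨D R E, inferInstance, inferInstance, inferInstance, ?_, ⟨?_⟩⟩
  · exact Groth.Agent.S15898.isIsotrivial_of_etale R (D R E)
  · exact ((dualBCc R (R ⧸ I) E).trans (dualCongrC ē.symm)).trans (evalEquiv (R ⧸ I) C₀).symm

end Groth.Agent.Lib.Helper77.HopfLift3
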