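import Mathlib

set_option autoImplicit false
universe u v

namespace Groth.Agent.Lib.Helper77

section InvolBound

variable {K : Type u} [Field K]

/-- restriction of an endomorphism to a submodule when it preserves it, `0` otherwise -/
noncomputable def restrictOrZero {V : Type v} [AddCommGroup V] [Module K V] (W : Submodule K V)
    (s : Module.End K V) : Module.End K W := by
  classical
  exact if h : ∀ x ∈ W, s x ∈ W then s.restrict h else 0

theorem restrictOrZero_apply {V : Type v} [AddCommGroup V] [Module K V] (W : Submodule K V)
    (s : Module.End K V) (h : ∀ x ∈ W, s x ∈ W) (x : W) :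
    ((restrictOrZero W s x : W) : V) = s x := by
  unfold restrictOrZero
  rw [dif_pos h]
  rfl

/-- A finite set of pairwise commuting involutions of an `n`-dimensional space (2 invertible) has at
most `2 ^ n` elements. -/
theorem card_le_two_pow_of_commuting_involutions (h2 : (2 : K) ≠ 0) :
    ∀ (n : ℕ) (V : Type v) [AddCommGroup V] [Module K V] [FiniteDimensional K V],
      Module.finrank K V = n → ∀ S : Finset (Module.End K V), (∀ s ∈ S, s * s = 1) →
        (∀ s ∈ S, ∀ t ∈ S, s * t = t * s) → S.card ≤ 2 ^ n := by
  classical
  intro n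
  induction n using Nat.strong_induction_on with
  | _ n ih =>
  intro V _ _ _ hn S hinv hcomm
  by_cases hA : ∀ s ∈ S, s = 1 ∨ s = -1
  · -- scalar case
    rcases Nat.eq_zero_or_pos n with h0 | hpos
    · subst h0
      have hsub : Subsingleton V := Module.finrank_zero_iff.mp hn
      have : Subsingleton (Module.End K V) := ⟨fun a b => LinearMap.ext fun x => Subsingleton.elim _ _⟩
      calc S.card ≤ 1 := Finset.card_le_one_of_subsingleton S
        _ ≤ 2 ^ 0 := by simp
    · have hsub : S ⊆ ({1, -1} : Finset (Module.End K V)) := by
        intro s hs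
        rcases hA s hs with h | h
        · simp [h]
        · simp [h]
      calc S.card ≤ ({1, -1} : Finset (Module.End K V)).card := Finset.card_le_card hsub
        _ ≤ 2 := Finset.card_le_two
        _ = 2 ^ 1 := by norm_num
        _ ≤ 2 ^ n := Nat.pow_le_pow_right (by norm_num) hpos
  · push Not at hA
    obtain ⟨g, hgS, hg1, hgm1⟩ := hA
    have hgg : g * g = 1 := hinv g hgS
    have hggx : ∀ x, g (g x) = x := fun x => by
      have := congrArg (fun f : Module.End K V => f x) hgg
      simpa using this
    set Vp : Submodule K V := LinearMap.ker (g - 1) with hVp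
    set Vm : Submodule K V := LinearMap.ker (g + 1) with hVm
    have memVp : ∀ x, x ∈ Vp ↔ g x = x := by
      intro x
      rw [hVp, LinearMap.mem_ker, LinearMap.sub_apply, Module.End.one_apply, sub_eq_zero]
    have memVm : ∀ x, x ∈ Vm ↔ g x = -x := by
      intro x
      rw [hVm, LinearMap.mem_ker, LinearMap.add_apply, Module.End.one_apply, add_eq_zero_iff_eq_neg]
    have hcompl : IsCompl Vp Vm := by
      constructor
      · rw [Submodule.disjoint_def]
        intro x hxp hxm
        rw [memVp] at hxp
        rw [memVm] at hxm
        have : (2 : K) • x = 0 := by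
          rw [two_smul]
          nth_rewrite 1 [← hxp]
          rw [hxm]; simp
        rcases smul_eq_zero.mp this with h | h
        · exact absurd h h2
        · exact h
      · rw [codisjoint_iff, eq_top_iff]
        intro x _
        rw [Submodule.mem_sup]
        refine ⟨(2 : K)⁻¹ • (x + g x), ?_, (2 : K)⁻¹ • (x - g x), ?_, ?_⟩
        · rw [memVp, map_smul, map_add, hggx, add_comm]
        · rw [memVm, map_smul, map_sub, hggx, ← smul_neg, neg_sub]
        · rw [← smul_add]
          have : x + g x + (x - g x) = (2 : K) • x := by rw [two_smul]; abel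
          rw [this, smul_smul, inv_mul_cancel₀ h2, one_smul]
    have hdim : Module.finrank K Vp + Module.finrank K Vm = n := by
      rw [Submodule.finrank_add_eq_of_isCompl hcompl, hn]
    have hVp_ne : Vp ≠ ⊤ := by
      intro h
      apply hg1
      apply LinearMap.ext; intro x
      have : x ∈ Vp := by rw [h]; trivial
      rw [memVp] at this
      rw [this, Module.End.one_apply]
    have hVm_ne : Vm ≠ ⊤ := by
      intro h
      apply hgm1
      apply LinearMap.ext; intro x
      have : x ∈ Vm := by rw [h]; trivial
      rw [memVm] at this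
      rw [this, LinearMap.neg_apply, Module.End.one_apply]
    have hltp : Module.finrank K Vp < n := by
      rw [← hn]; exact Submodule.finrank_lt hVp_ne
    have hltm : Module.finrank K Vm < n := by
      rw [← hn]; exact Submodule.finrank_lt hVm_ne
    -- elements of S preserve Vp and Vm
    have hcx : ∀ s ∈ S, ∀ x, g (s x) = s (g x) := by
      intro s hs x
      have := congrArg (fun f : Module.End K V => f x) (hcomm g hgS s hs)
      simpa using this
    have hpres_p : ∀ s ∈ S, ∀ x ∈ Vp, s x ∈ Vp := by
      intro s hs x hx
      rw [memVp] at hx ⊢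
      rw [hcx s hs, hx]
    have hpres_m : ∀ s ∈ S, ∀ x ∈ Vm, s x ∈ Vm := by
      intro s hs x hx
      rw [memVm] at hx ⊢
      rw [hcx s hs, hx, map_neg]
    set Sp : Finset (Module.End K Vp) := S.image (restrictOrZero Vp) with hSp
    set Sm : Finset (Module.End K Vm) := S.image (restrictOrZero Vm) with hSm
    have hSp_inv : ∀ s ∈ Sp, s * s = 1 := by
      intro s' hs'
      obtain ⟨s, hs, rfl⟩ := Finset.mem_image.mp hs'
      apply LinearMap.ext; intro x
      apply Subtype.ext
      rw [Module.End.mul_apply, restrictOrZero_apply Vp s (hpres_p s hs),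
        restrictOrZero_apply Vp s (hpres_p s hs), Module.End.one_apply]
      have := congrArg (fun f : Module.End K V => f (x : V)) (hinv s hs)
      simpa using this
    have hSm_inv : ∀ s ∈ Sm, s * s = 1 := by
      intro s' hs'
      obtain ⟨s, hs, rfl⟩ := Finset.mem_image.mp hs'
      apply LinearMap.ext; intro x
      apply Subtype.ext
      rw [Module.End.mul_apply, restrictOrZero_apply Vm s (hpres_m s hs),
        restrictOrZero_apply Vm s (hpres_m s hs), Module.End.one_apply]
      have := congrArg (fun f : Module.End K V => f (x : V)) (hinv s hs)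
      simpa using this
    have hSp_comm : ∀ s ∈ Sp, ∀ t ∈ Sp, s * t = t * s := by
      intro s' hs' t' ht'
      obtain ⟨s, hs, rfl⟩ := Finset.mem_image.mp hs'
      obtain ⟨t, ht, rfl⟩ := Finset.mem_image.mp ht'
      apply LinearMap.ext; intro x
      apply Subtype.ext
      rw [Module.End.mul_apply, Module.End.mul_apply, restrictOrZero_apply Vp s (hpres_p s hs),
        restrictOrZero_apply Vp t (hpres_p t ht), restrictOrZero_apply Vp t (hpres_p t ht),
        restrictOrZero_apply Vp s (hpres_p s hs)]
      have := congrArg (fun f : Module.End K V => f (x : V)) (hcomm s hs t ht)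
      simpa using this
    have hSm_comm : ∀ s ∈ Sm, ∀ t ∈ Sm, s * t = t * s := by
      intro s' hs' t' ht'
      obtain ⟨s, hs, rfl⟩ := Finset.mem_image.mp hs'
      obtain ⟨t, ht, rfl⟩ := Finset.mem_image.mp ht'
      apply LinearMap.ext; intro x
      apply Subtype.ext
      rw [Module.End.mul_apply, Module.End.mul_apply, restrictOrZero_apply Vm s (hpres_m s hs),
        restrictOrZero_apply Vm t (hpres_m t ht), restrictOrZero_apply Vm t (hpres_m t ht),
        restrictOrZero_apply Vm s (hpres_m s hs)]
      have := congrArg (fun f : Module.End K V => f (x : V)) (hcomm s hs t ht)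
      simpa using this
    have ihp := ih (Module.finrank K Vp) hltp Vp rfl Sp hSp_inv hSp_comm
    have ihm := ih (Module.finrank K Vm) hltm Vm rfl Sm hSm_inv hSm_comm
    have hinj : Set.InjOn (fun s => (restrictOrZero Vp s, restrictOrZero Vm s)) (S : Set (Module.End K V)) := by
      intro s hs t ht hst
      simp only [Prod.mk.injEq] at hst
      obtain ⟨hp, hm⟩ := hst
      apply LinearMap.ext; intro x
      have hx : x ∈ Vp ⊔ Vm := by rw [hcompl.sup_eq_top]; trivial
      obtain ⟨xp, hxp, xm, hxm, rfl⟩ := Submodule.mem_sup.mp hx
      rw [map_add, map_add]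
      have e1 : s xp = t xp := by
        have := congrArg (fun f : Module.End K Vp => ((f ⟨xp, hxp⟩ : Vp) : V)) hp
        simp only [restrictOrZero_apply Vp s (hpres_p s hs), restrictOrZero_apply Vp t (hpres_p t ht)] at this
        exact this
      have e2 : s xm = t xm := by
        have := congrArg (fun f : Module.End K Vm => ((f ⟨xm, hxm⟩ : Vm) : V)) hm
        simp only [restrictOrZero_apply Vm s (hpres_m s hs), restrictOrZero_apply Vm t (hpres_m t ht)] at this
        exact this
      rw [e1, e2]
    have hmaps : ∀ s ∈ S, (fun s => (restrictOrZero Vp s, restrictOrZero Vm s)) s ∈ Sp ×ˢ Sm := by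
      intro s hs
      rw [Finset.mem_product]
      exact ⟨Finset.mem_image_of_mem _ hs, Finset.mem_image_of_mem _ hs⟩
    calc S.card ≤ (Sp ×ˢ Sm).card := Finset.card_le_card_of_injOn _ hmaps hinj
      _ = Sp.card * Sm.card := Finset.card_product _ _
      _ ≤ 2 ^ Module.finrank K Vp * 2 ^ Module.finrank K Vm := Nat.mul_le_mul ihp ihm
      _ = 2 ^ n := by rw [← pow_add, hdim]

end InvolBound

end Groth.Agent.Lib.Helper77
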