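import Mathlib

/-!
# Non-local-freeness of relative differentials (helper77)
-/

set_option autoImplicit false
universe u

namespace Groth.Agent.Lib.Helper77.KaehlerFree

open Module TensorProduct

/-- Nakayama-type lemma: if `w ∈ 𝔪 N` and a projective module is the quotient of `N` by `w`,
then `w = 0`. -/
theorem eq_zero_of_projective_quotient {B : Type*} [CommRing B] [IsLocalRing B]
    {N M' : Type*} [AddCommGroup N] [Module B N] [AddCommGroup M'] [Module B M']
    [Module.Projective B M'] (h' : N →ₗ[B] M') (hsurj : Function.Surjective h') (w : N)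
    (hker : LinearMap.ker h' = Submodule.span B {w})
    (hw : w ∈ (IsLocalRing.maximalIdeal B) • (⊤ : Submodule B N)) : w = 0 := by
  obtain ⟨σ, hσ⟩ := Module.projective_lifting_property h' LinearMap.id hsurj
  let p : N →ₗ[B] N := LinearMap.id - σ ∘ₗ h'
  have hpw : p w = w := by
    have : h' w = 0 := by
      have : w ∈ LinearMap.ker h' := hker ▸ Submodule.mem_span_singleton_self w
      exact this
    simp [p, this]
  have hprange : ∀ n, p n ∈ Submodule.span B {w} := by
    intro n
    rw [← hker, LinearMap.mem_ker]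
    have : h' (σ (h' n)) = h' n := LinearMap.congr_fun hσ (h' n)
    simp [p, this]
  have hle : Submodule.span B {w} ≤ (IsLocalRing.maximalIdeal B) • Submodule.span B {w} := by
    rw [Submodule.span_singleton_le_iff_mem]
    have h1 : p w ∈ Submodule.map p ((IsLocalRing.maximalIdeal B) • (⊤ : Submodule B N)) :=
      Submodule.mem_map_of_mem hw
    rw [Submodule.map_smul'', hpw] at h1
    refine Submodule.smul_mono le_rfl ?_ h1
    rintro _ ⟨n, -, rfl⟩
    exact hprange n
  have hjac : IsLocalRing.maximalIdeal B ≤ Ideal.jacobson ⊥ := by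
    rw [IsLocalRing.jacobson_eq_maximalIdeal ⊥ bot_ne_top]
  have hbot := Submodule.eq_bot_of_le_smul_of_le_jacobson_bot (IsLocalRing.maximalIdeal B)
    (Submodule.span B {w}) (Submodule.fg_span_singleton w) hle hjac
  have : w ∈ Submodule.span B {w} := Submodule.mem_span_singleton_self w
  rw [hbot] at this
  exact this

theorem not_free_localized {A : Type*} [CommRing A] [IsDomain A] {F M : Type*}
    [AddCommGroup F] [Module A F] [Module.Free A F] [AddCommGroup M] [Module A M]
    (h : F →ₗ[A] M) (hsurj : Function.Surjective h) (w : F) (hw0 : w ≠ 0)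
    (hker : LinearMap.ker h = Submodule.span A {w}) (P : Ideal A) [P.IsPrime]
    (hwP : w ∈ P • (⊤ : Submodule A F)) :
    ¬ Module.Free (Localization.AtPrime P) (LocalizedModule P.primeCompl M) := by
  intro hfree
  let S := P.primeCompl
  let B := Localization.AtPrime P
  let f := LocalizedModule.mkLinearMap S F
  let f' := LocalizedModule.mkLinearMap S M
  let h' : LocalizedModule S F →ₗ[B] LocalizedModule S M :=
    (IsLocalizedModule.map S f f' h).extendScalarsOfIsLocalization S B
  have hsurj' : Function.Surjective h' := IsLocalizedModule.map_surjective S f f' h hsurj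
  have hker' : LinearMap.ker h' = Submodule.span B {f w} := by
    have h1 := LinearMap.localized'_ker_eq_ker_localizedMap B S f f' h
    rw [← h1, hker, Submodule.localized'_span, Set.image_singleton]
  have hmem : f w ∈ (IsLocalRing.maximalIdeal B) • (⊤ : Submodule B (LocalizedModule S F)) := by
    refine Submodule.smul_induction_on hwP ?_ ?_
    · intro r hr n _
      have h1 : f (r • n) = (algebraMap A B r) • f n := by
        rw [map_smul, algebraMap_smul]
      rw [h1]
      refine Submodule.smul_mem_smul ?_ Submodule.mem_top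
      exact (IsLocalization.AtPrime.to_map_mem_maximal_iff B P r).mpr hr
    · intro x y hx hy
      rw [map_add]
      exact Submodule.add_mem _ hx hy
  have hproj : Module.Projective B (LocalizedModule S M) := inferInstance
  have hz := eq_zero_of_projective_quotient h' hsurj' (f w) hker' hmem
  obtain ⟨s, hs⟩ := (IsLocalizedModule.eq_zero_iff S f).mp hz
  have hs0 : (s : A) ≠ 0 := fun h0 => s.2 (h0 ▸ P.zero_mem)
  have : (s : A) • w = 0 := hs
  rcases smul_eq_zero.mp this with h1 | h1
  · exact hs0 h1
  · exact hw0 h1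

theorem free_of_unit_coord {A : Type*} [CommRing A] [IsLocalRing A] {F M : Type*}
    [AddCommGroup F] [Module A F] [Module.Free A F] [Module.Finite A F]
    [AddCommGroup M] [Module A M]
    (h : F →ₗ[A] M) (hsurj : Function.Surjective h) (w : F)
    (hker : LinearMap.ker h = Submodule.span A {w}) (φ : F →ₗ[A] A) (hφ : φ w = 1) :
    Module.Free A M := by
  let r : F →ₗ[A] F := LinearMap.id - (LinearMap.toSpanSingleton A F w) ∘ₗ φ
  have hrw : r w = 0 := by simp [r, hφ]
  have hhw : h w = 0 := by
    have : w ∈ LinearMap.ker h := hker ▸ Submodule.mem_span_singleton_self w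
    exact this
  have hle : LinearMap.ker h ≤ LinearMap.ker r := by
    rw [hker, Submodule.span_singleton_le_iff_mem]
    exact hrw
  let e := LinearMap.quotKerEquivOfSurjective h hsurj
  let rbar : M →ₗ[A] F := ((LinearMap.ker h).liftQ r hle) ∘ₗ e.symm.toLinearMap
  have hrbar : ∀ x, rbar (h x) = r x := by
    intro x
    have : e.symm (h x) = Submodule.Quotient.mk x := by
      rw [LinearEquiv.symm_apply_eq]
      rfl
    simp [rbar, this]
  have hsplit : h ∘ₗ rbar = LinearMap.id := by
    ext y
    obtain ⟨x, rfl⟩ := hsurj y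
    simp only [LinearMap.coe_comp, Function.comp_apply, LinearMap.id_coe, id_eq, hrbar]
    simp [r, hhw]
  have hproj : Module.Projective A M := Module.Projective.of_split rbar h hsplit
  have hfin : Module.Finite A M := Module.Finite.of_surjective h hsurj
  exact Module.free_of_flat_of_isLocalRing

theorem core {A : Type*} [CommRing A] [IsDomain A] [IsNoetherianRing A] [IsLocalRing A]
    (hdimA : ringKrullDim A = 3) {F M : Type*} [AddCommGroup F] [Module A F]
    [AddCommGroup M] [Module A M] [Module.Free A F] (hrk : Module.finrank A F = 2)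
    (h : F →ₗ[A] M) (hsurj : Function.Surjective h) (w : F)
    (hker : LinearMap.ker h = Submodule.span A {w}) (a : A)
    (h0 : ∀ P : PrimeSpectrum A, a ∈ P.asIdeal → P.asIdeal ≠ IsLocalRing.maximalIdeal A →
      Module.Free (Localization.AtPrime P.asIdeal) (LocalizedModule P.asIdeal.primeCompl M))
    (hm : ¬ Module.Free A M) :
    ∃ Q : PrimeSpectrum A, a ∉ Q.asIdeal ∧
      ¬ Module.Free (Localization.AtPrime Q.asIdeal) (LocalizedModule Q.asIdeal.primeCompl M) := by
  classical
  have hfin : Module.Finite A F := Module.finite_of_finrank_pos (by omega)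
  let b : Basis (Fin 2) A F := Module.finBasisOfFinrankEq A F hrk
  -- w ≠ 0
  have hw0 : w ≠ 0 := by
    rintro rfl
    apply hm
    have hinj : Function.Injective h := by
      rw [← LinearMap.ker_eq_bot, hker]
      simp
    exact Module.Free.of_equiv (LinearEquiv.ofBijective h ⟨hinj, hsurj⟩)
  let s : Finset A := Finset.univ.image (fun i : Fin 2 => b.repr w i)
  have hscard : s.card ≤ 2 := by
    refine Finset.card_image_le.trans ?_
    simp
  have hI : Ideal.span (s : Set A) ≠ ⊤ := by
    intro htop
    apply hm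
    have hex : ∃ i : Fin 2, IsUnit (b.repr w i) := by
      by_contra hcon
      push Not at hcon
      have hle : Ideal.span (s : Set A) ≤ IsLocalRing.maximalIdeal A := by
        rw [Ideal.span_le]
        intro x hx
        simp only [s, Finset.coe_image, Finset.coe_univ, Set.image_univ, Set.mem_range] at hx
        obtain ⟨i, rfl⟩ := hx
        exact (IsLocalRing.mem_maximalIdeal _).mpr (hcon i)
      rw [htop] at hle
      exact (IsLocalRing.maximalIdeal.isMaximal A).ne_top (top_le_iff.mp hle)
    obtain ⟨i, hi⟩ := hex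
    obtain ⟨c, hc⟩ := hi
    let φ : F →ₗ[A] A := (↑c⁻¹ : A) • b.coord i
    have hφ : φ w = 1 := by
      show (↑c⁻¹ : A) • (b.coord i w) = 1
      rw [Basis.coord_apply, ← hc, smul_eq_mul, Units.inv_mul]
    exact free_of_unit_coord h hsurj w hker φ hφ
  obtain ⟨Q, hQ⟩ := Ideal.nonempty_minimalPrimes hI
  have hQprime : Q.IsPrime := hQ.1.1
  have hIQ : Ideal.span (s : Set A) ≤ Q := hQ.1.2
  have hht : Q.height ≤ (s.card : ℕ∞) := Ideal.height_le_card_of_mem_minimalPrimes_span_finset hQ
  have hQm : Q ≠ IsLocalRing.maximalIdeal A := by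
    intro heq
    have h1 : ((IsLocalRing.maximalIdeal A).height : WithBot ℕ∞) = 3 := by
      rw [IsLocalRing.maximalIdeal_height_eq_ringKrullDim, hdimA]
    rw [← heq] at h1
    have h2 : (Q.height : WithBot ℕ∞) ≤ ((2 : ℕ∞) : WithBot ℕ∞) := by
      refine WithBot.coe_le_coe.mpr (hht.trans ?_)
      exact_mod_cast hscard
    rw [h1] at h2
    have h3 : ((3 : ℕ∞) : WithBot ℕ∞) ≤ ((2 : ℕ∞) : WithBot ℕ∞) := h2
    rw [WithBot.coe_le_coe] at h3
    exact absurd h3 (by decide)
  have hwQ : w ∈ Q • (⊤ : Submodule A F) := by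
    rw [← b.sum_repr w]
    refine Submodule.sum_mem _ fun i _ => ?_
    refine Submodule.smul_mem_smul (hIQ (Ideal.subset_span ?_)) Submodule.mem_top
    simp [s]
  have hnf := not_free_localized h hsurj w hw0 hker Q hwQ
  refine ⟨⟨Q, hQprime⟩, ?_, hnf⟩
  intro haQ
  exact hnf (h0 ⟨Q, hQprime⟩ haQ hQm)


theorem main
    (V R A : Type u) [CommRing V] [CommRing R] [CommRing A]
    [IsDomain A] [IsNoetherianRing A] [IsLocalRing A]
    [Algebra V R] [Algebra V A] [Algebra R A] [IsScalarTower V R A]
    (a : A)
    (hdimA : ringKrullDim A = 3)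
    (hΩA : Module.Free A (Ω[A⁄V])) (hrkA : Module.finrank A (Ω[A⁄V]) = 2)
    (hΩR : Module.Free A (A ⊗[R] Ω[R⁄V])) (hrkR : Module.finrank A (A ⊗[R] Ω[R⁄V]) = 1)
    (h0 : ∀ P : PrimeSpectrum A, a ∈ P.asIdeal → P.asIdeal ≠ IsLocalRing.maximalIdeal A →
      Module.Free (Localization.AtPrime P.asIdeal) (LocalizedModule P.asIdeal.primeCompl (Ω[A⁄R])))
    (hm : ¬ Module.Free A (Ω[A⁄R])) :
    ∃ Q : PrimeSpectrum A, a ∉ Q.asIdeal ∧
      ¬ Module.Free (Localization.AtPrime Q.asIdeal) (LocalizedModule Q.asIdeal.primeCompl (Ω[A⁄R])) := by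
  have hfinG : Module.Finite A (A ⊗[R] Ω[R⁄V]) := Module.finite_of_finrank_pos (by omega)
  let c : Basis (Fin 1) A (A ⊗[R] Ω[R⁄V]) := Module.finBasisOfFinrankEq A _ hrkR
  let g := KaehlerDifferential.mapBaseChange V R A
  let h := KaehlerDifferential.map V R A A
  have hsurj : Function.Surjective h := KaehlerDifferential.map_surjective V R A
  have hker : LinearMap.ker h = Submodule.span A {g (c 0)} := by
    rw [← KaehlerDifferential.range_mapBaseChange, LinearMap.range_eq_map, ← c.span_eq,
      Submodule.map_span]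
    congr 1
    ext x
    simp only [Set.mem_image, Set.mem_range, Set.mem_singleton_iff]
    constructor
    · rintro ⟨_, ⟨i, rfl⟩, rfl⟩
      rw [Subsingleton.elim i 0]
    · rintro rfl
      exact ⟨c 0, ⟨0, rfl⟩, rfl⟩
  exact core hdimA hrkA h hsurj (g (c 0)) hker a h0 hm

end Groth.Agent.Lib.Helper77.KaehlerFree
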