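import Mathlib
import Groth.Prelude.Def_SGA3b
import Groth.Agent.Lib.Helper77.KerMT1

/-!
# Kernels of homomorphisms from groups of multiplicative type, II (helper77)

Rigidity step, factorisation of linear maps, kernels of bialgebra maps with a retraction are Hopf
ideals, the degree-zero projection of a group algebra `K[M]` relative to a subgroup `N`.
-/

set_option autoImplicit false
universe u
open TensorProduct

namespace Groth.Agent.Lib.Helper77.KerMT

open SGA3b Groth.Agent.Lib.Helper77.DiagSub Groth.Agent.Lib.Helper77.MultRigid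
  Groth.Agent.Lib.Helper77.MultTors Groth.Agent.Lib.Helper77.MultMono
  Groth.Agent.Lib.Helper77.MultBC Groth.Agent.Lib.Helper77.MultKer
  Groth.Agent.Lib.Helper77.HopfTriv1

section Rigid

variable {𝔬 : Type u} [CommRing 𝔬] [IsLocalRing 𝔬] {M : Type u} [CommGroup M] [Group.FG M]
  {C₁ B₁ : Type u} [CommRing C₁] [HopfAlgebra 𝔬 C₁] [CommRing B₁] [HopfAlgebra 𝔬 B₁]
  (ψ : C₁ →ₐc[𝔬] MonoidAlgebra 𝔬 M) (ρ : MonoidAlgebra 𝔬 M →ₐc[𝔬] B₁)

/-- rigidity step: the kernel of `Spec B₁ ⊆ D(M)` contains `D(M/N)` as soon as it does on the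
closed fibre. -/
theorem mapDomain_eq_zero_of_isKer (hK : IsKer ψ ρ) (hC : Algebra.FinitePresentation 𝔬 C₁)
    (N : Subgroup M)
    (hq : ∀ x, ρ x = 0 → MonoidAlgebra.mapDomainBialgHom 𝔬 (QuotientGroup.mk' N) x ∈
      Ideal.map (algebraMap 𝔬 (MonoidAlgebra 𝔬 (M ⧸ N))) (IsLocalRing.maximalIdeal 𝔬)) :
    ∀ x, ρ x = 0 → MonoidAlgebra.mapDomainBialgHom 𝔬 (QuotientGroup.mk' N) x = 0 := by
  let q : MonoidAlgebra 𝔬 M →ₐc[𝔬] MonoidAlgebra 𝔬 (M ⧸ N) :=
    MonoidAlgebra.mapDomainBialgHom 𝔬 (QuotientGroup.mk' N)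
  let φ : C₁ →ₐc[𝔬] MonoidAlgebra 𝔬 (M ⧸ N) := q.comp ψ
  have hft : Algebra.FiniteType 𝔬 (MonoidAlgebra 𝔬 (M ⧸ N)) :=
    MonoidAlgebra.finiteType_iff_group_fg.mpr inferInstance
  have hker : ∀ c : C₁, c ∈ RingHom.ker (Bialgebra.counitAlgHom 𝔬 C₁) → ρ (ψ c) = 0 := by
    intro c hc
    have h1 : (ψ : C₁ →ₐ[𝔬] MonoidAlgebra 𝔬 M) c ∈
        RingHom.ker (ρ : MonoidAlgebra 𝔬 M →ₐ[𝔬] B₁) := by
      rw [hK.2]
      exact Ideal.mem_map_of_mem _ hc
    exact h1
  have hs : ∀ c : C₁, φ c - algebraMap 𝔬 (MonoidAlgebra 𝔬 (M ⧸ N)) (Coalgebra.counit c) ∈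
      Ideal.map (algebraMap 𝔬 (MonoidAlgebra 𝔬 (M ⧸ N))) (IsLocalRing.maximalIdeal 𝔬) := by
    intro c
    have h1 : φ c - algebraMap 𝔬 (MonoidAlgebra 𝔬 (M ⧸ N)) (Coalgebra.counit c) =
        q (ψ (c - algebraMap 𝔬 C₁ (Coalgebra.counit c))) := by
      show q (ψ c) - _ = _
      rw [map_sub, map_sub, AlgHomClass.commutes, AlgHomClass.commutes]
    rw [h1]
    apply hq
    apply hker
    rw [RingHom.mem_ker, map_sub, AlgHom.commutes]
    simp
  have h3 := MultRigid.main hft (isMultType_monoidAlgebra (M ⧸ N)) (Or.inr hC) φ hs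
  intro x hx
  have hx' : x ∈ Ideal.map (ψ : C₁ →ₐ[𝔬] MonoidAlgebra 𝔬 M)
      (RingHom.ker (Bialgebra.counitAlgHom 𝔬 C₁)) := by
    rw [← hK.2]
    exact hx
  have hle : Ideal.map (ψ : C₁ →ₐ[𝔬] MonoidAlgebra 𝔬 M)
      (RingHom.ker (Bialgebra.counitAlgHom 𝔬 C₁)) ≤
      RingHom.ker (q : MonoidAlgebra 𝔬 M →ₐ[𝔬] MonoidAlgebra 𝔬 (M ⧸ N)) := by
    rw [Ideal.map_le_iff_le_comap]
    intro c hc
    rw [Ideal.mem_comap, RingHom.mem_ker]
    have h4 := h3 c
    rw [RingHom.mem_ker] at hc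
    have h5 : Coalgebra.counit (R := 𝔬) c = 0 := hc
    rw [h5, map_zero] at h4
    exact h4
  exact hle hx'

end Rigid

section Factor

variable {K : Type u} [CommRing K] {X Y Z : Type u} [AddCommGroup X] [Module K X]
  [AddCommGroup Y] [Module K Y] [AddCommGroup Z] [Module K Z]

lemma exists_linearMap_factor (f : X →ₗ[K] Y) (hf : Function.Surjective f) (g : X →ₗ[K] Z)
    (h : ∀ x, f x = 0 → g x = 0) : ∃ g' : Y →ₗ[K] Z, ∀ x, g' (f x) = g x := by
  have hf' : LinearMap.range f = ⊤ := LinearMap.range_eq_top.mpr hf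
  refine ⟨(Submodule.liftQ (LinearMap.ker f) g (fun x hx => h x hx)) ∘ₗ
    (f.quotKerEquivOfSurjective hf).symm.toLinearMap, fun x => ?_⟩
  have h1 : (f.quotKerEquivOfSurjective hf).symm (f x) = Submodule.Quotient.mk x := by
    rw [LinearEquiv.symm_apply_eq]
    rfl
  simp only [LinearMap.comp_apply, LinearEquiv.coe_coe]
  rw [h1]
  rfl

end Factor

section HopfKer

variable {K : Type u} [CommRing K] {X Y : Type u} [CommRing X] [HopfAlgebra K X]
  [CommRing Y] [HopfAlgebra K Y]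

/-- the kernel of a bialgebra map whose image is a direct summand is a Hopf ideal. -/
theorem isHopfIdeal_ker (ν : X →ₐc[K] Y)
    (r' : Y →ₗ[K] X ⧸ (RingHom.ker (ν : X →ₐ[K] Y)).restrictScalars K)
    (hr : ∀ x, r' (ν x) = Submodule.Quotient.mk x) :
    (RingHom.ker (ν : X →ₐ[K] Y)).IsHopfIdeal K := by
  have hmem : ∀ x, x ∈ RingHom.ker (ν : X →ₐ[K] Y) ↔ ν x = 0 := fun x => RingHom.mem_ker
  refine { counit_eq_zero := ?_, map_mkQ_comul_eq_zero := ?_, antipode_mem := ?_ }
  · intro x hx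
    have hx' : ν x = 0 := (hmem x).mp hx
    rw [← CoalgHomClass.counit_comp_apply ν x, hx', map_zero]
  · intro x hx
    have hx' : ν x = 0 := (hmem x).mp hx
    have h1 : ((RingHom.ker (ν : X →ₐ[K] Y)).restrictScalars K).mkQ =
        r' ∘ₗ ((ν : X →ₐ[K] Y) : X →ₗ[K] Y) := by
      ext x
      exact (hr x).symm
    rw [h1, TensorProduct.map_comp, LinearMap.comp_apply]
    have h2 : TensorProduct.map ((ν : X →ₐ[K] Y) : X →ₗ[K] Y) ((ν : X →ₐ[K] Y) : X →ₗ[K] Y)
        (Coalgebra.comul (R := K) x) = Coalgebra.comul (R := K) (ν x) :=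
      CoalgHomClass.map_comp_comul_apply ν x
    rw [h2, hx', map_zero, map_zero]
  · intro x hx
    have hx' : ν x = 0 := (hmem x).mp hx
    rw [hmem, map_antipode, hx', map_zero]

end HopfKer

theorem subgroup_fg_of_commGroup_fg (M : Type u) [CommGroup M] [Group.FG M] (N : Subgroup M) :
    N.FG := by
  have h1 : AddGroup.FG (Additive M) := inferInstance
  have h2 : Module.Finite ℤ (Additive M) := Module.Finite.iff_addGroup_fg.mpr h1
  have h3 : IsNoetherian ℤ (Additive M) := isNoetherian_of_isNoetherianRing_of_finite ℤ _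
  have h4 : (AddSubgroup.toIntSubmodule (Subgroup.toAddSubgroup N)).FG := IsNoetherian.noetherian _
  rw [Submodule.fg_iff_addSubgroup_fg] at h4
  have h5 : (Subgroup.toAddSubgroup N).FG := h4
  exact (Subgroup.fg_iff_add_fg N).mpr h5

section Deg

variable (K : Type u) [CommRing K] {M : Type u} [CommGroup M] (N : Subgroup M)

open MonoidAlgebra

/-- the projection of `K[M]` onto the part supported in `N`. -/
noncomputable def degZero : MonoidAlgebra K M →ₗ[K] MonoidAlgebra K M :=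
  cproj (coeffL K (M ⧸ N) 1 ∘ₗ
    ((MonoidAlgebra.mapDomainBialgHom K (QuotientGroup.mk' N) :
      MonoidAlgebra K M →ₐ[K] MonoidAlgebra K (M ⧸ N)) :
      MonoidAlgebra K M →ₗ[K] MonoidAlgebra K (M ⧸ N)))

lemma degZero_single [DecidablePred (· ∈ N)] (m : M) (r : K) :
    degZero K N (single m r) = if m ∈ N then single m r else 0 := by
  classical
  unfold degZero cproj
  simp only [LinearMap.comp_apply, LinearEquiv.coe_coe]
  rw [MonoidAlgebra.comul_single]
  simp only [CommSemiring.comul_apply, TensorProduct.map_tmul, MonoidAlgebra.lsingle_apply,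
    LinearMap.lTensor_tmul, LinearMap.comp_apply, TensorProduct.rid_tmul]
  have h1 : ((MonoidAlgebra.mapDomainBialgHom K (QuotientGroup.mk' N) :
      MonoidAlgebra K M →ₐ[K] MonoidAlgebra K (M ⧸ N)) :
      MonoidAlgebra K M →ₗ[K] MonoidAlgebra K (M ⧸ N)) (single m r) =
      single ((QuotientGroup.mk' N) m) r := MonoidAlgebra.mapDomainBialgHom_single _ _ _
  rw [h1, coeffL_apply, MonoidAlgebra.coeff_single, Finsupp.single_apply]
  have h2 : (QuotientGroup.mk' N) m = 1 ↔ m ∈ N := QuotientGroup.eq_one_iff m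
  by_cases hm : m ∈ N
  · rw [if_pos (h2.mpr hm), if_pos hm, MonoidAlgebra.smul_single, smul_eq_mul, mul_one]
  · rw [if_neg (fun h => hm (h2.mp h)), if_neg hm, zero_smul]

/-- restriction of the support to `N`. -/
noncomputable def restrictN : MonoidAlgebra K M →ₗ[K] MonoidAlgebra K N := by
  classical
  exact (Finsupp.linearCombination K
    (fun m : M => if h : m ∈ N then (single (⟨m, h⟩ : N) (1 : K)) else 0)) ∘ₗ
    (MonoidAlgebra.coeffLinearEquiv K).toLinearMap

open scoped Classical in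
lemma restrictN_single (m : M) (r : K) :
    restrictN K N (single m r) = if h : m ∈ N then single (⟨m, h⟩ : N) r else 0 := by
  classical
  unfold restrictN
  simp only [LinearMap.comp_apply, LinearEquiv.coe_coe]
  have h1 : (MonoidAlgebra.coeffLinearEquiv K) (single m r) = Finsupp.single m r := rfl
  rw [h1, Finsupp.linearCombination_single]
  by_cases hm : m ∈ N
  · rw [dif_pos hm, dif_pos hm, MonoidAlgebra.smul_single, smul_eq_mul, mul_one]
  · rw [dif_neg hm, dif_neg hm, smul_zero]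

lemma restrictN_incl (y : MonoidAlgebra K N) :
    restrictN K N (MonoidAlgebra.mapDomainBialgHom K N.subtype y) = y := by
  induction y using MonoidAlgebra.induction_linear with
  | zero => simp
  | add x y hx hy => rw [map_add, map_add, hx, hy]
  | single n r =>
    rw [MonoidAlgebra.mapDomainBialgHom_single, restrictN_single]
    have hn : N.subtype n ∈ N := n.2
    rw [dif_pos hn]
    rfl

lemma incl_restrictN (x : MonoidAlgebra K M) :
    MonoidAlgebra.mapDomainBialgHom K N.subtype (restrictN K N x) = degZero K N x := by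
  classical
  induction x using MonoidAlgebra.induction_linear with
  | zero => simp
  | add x y hx hy => rw [map_add, map_add, map_add, hx, hy]
  | single m r =>
    rw [restrictN_single, degZero_single]
    by_cases hm : m ∈ N
    · rw [dif_pos hm, if_pos hm, MonoidAlgebra.mapDomainBialgHom_single]
      rfl
    · rw [dif_neg hm, if_neg hm, map_zero]

end Deg

end Groth.Agent.Lib.Helper77.KerMT
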