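import Mathlib
import Groth.Prelude.Def_SGA3b
import Groth.Agent.Lib.Helper77.KerMT2

/-!
# Kernels of homomorphisms from groups of multiplicative type, III (helper77)

The purity step and the local structure theorem `local_main`: over a local ring the kernel of a
homomorphism `D(M) → G` (`M` finitely generated, `G` affine of finite presentation) is `D(M/N)`.
-/

set_option autoImplicit false
universe u
open TensorProduct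

namespace Groth.Agent.Lib.Helper77.KerMT

open SGA3b Groth.Agent.Lib.Helper77.DiagSub Groth.Agent.Lib.Helper77.MultRigid
  Groth.Agent.Lib.Helper77.MultTors Groth.Agent.Lib.Helper77.MultMono
  Groth.Agent.Lib.Helper77.MultBC Groth.Agent.Lib.Helper77.MultKer
  Groth.Agent.Lib.Helper77.HopfTriv1

section Aug

variable {K : Type u} [CommRing K] {A C : Type u} [CommRing A] [HopfAlgebra K A]
  [CommRing C] [HopfAlgebra K C]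

lemma ker_counit_eq_map_of_surjective (π : A →ₐc[K] C) (hπ : Function.Surjective π) :
    RingHom.ker (Bialgebra.counitAlgHom K C) =
      Ideal.map (π : A →ₐ[K] C) (RingHom.ker (Bialgebra.counitAlgHom K A)) := by
  apply le_antisymm
  · intro c hc
    obtain ⟨a, rfl⟩ := hπ c
    rw [RingHom.mem_ker] at hc
    apply Ideal.mem_map_of_mem
    rw [RingHom.mem_ker]
    exact (CoalgHomClass.counit_comp_apply π a).symm.trans hc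
  · rw [Ideal.map_le_iff_le_comap]
    intro a ha
    rw [RingHom.mem_ker] at ha
    rw [Ideal.mem_comap, RingHom.mem_ker]
    exact (CoalgHomClass.counit_comp_apply π a).trans ha

end Aug

section Purity

variable {𝔬 : Type u} [CommRing 𝔬] [IsLocalRing 𝔬] {M : Type u} [CommGroup M] [Group.FG M]
  {B₁ : Type u} [CommRing B₁] [HopfAlgebra 𝔬 B₁]
  (ρ : MonoidAlgebra 𝔬 M →ₐc[𝔬] B₁) (N : Subgroup M)

open MonoidAlgebra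

/-- purity step: if `D(M/N) ⊆ Spec B₁ ⊆ D(M)` and the closed fibres of `D(M/N)` and `Spec B₁`
agree, then `Spec B₁ = D(M/N)`. -/
theorem eq_one_of_mem_of_local (hρ : Function.Surjective ρ)
    (h1 : ∀ x, ρ x = 0 → MonoidAlgebra.mapDomainBialgHom 𝔬 (QuotientGroup.mk' N) x = 0)
    (h2 : ∀ n ∈ N, ρ (single n 1) - 1 ∈
      Ideal.map (algebraMap 𝔬 B₁) (IsLocalRing.maximalIdeal 𝔬)) :
    ∀ n ∈ N, ρ (single n 1) = 1 := by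
  classical
  let qlin : MonoidAlgebra 𝔬 M →ₗ[𝔬] MonoidAlgebra 𝔬 (M ⧸ N) :=
    ((MonoidAlgebra.mapDomainBialgHom 𝔬 (QuotientGroup.mk' N) :
      MonoidAlgebra 𝔬 M →ₐ[𝔬] MonoidAlgebra 𝔬 (M ⧸ N)) :
      MonoidAlgebra 𝔬 M →ₗ[𝔬] MonoidAlgebra 𝔬 (M ⧸ N))
  let ρlin : MonoidAlgebra 𝔬 M →ₗ[𝔬] B₁ := ((ρ : MonoidAlgebra 𝔬 M →ₐ[𝔬] B₁) :
      MonoidAlgebra 𝔬 M →ₗ[𝔬] B₁)
  obtain ⟨ρbar, hρbar⟩ := exists_linearMap_factor ρlin hρ qlin h1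
  -- homogeneity
  have hc₀ : ∀ x, cproj (coeffL 𝔬 (M ⧸ N) 1 ∘ₗ ρbar) (ρ x) = ρ (degZero 𝔬 N x) := by
    intro x
    rw [cproj_map ρ]
    have : (coeffL 𝔬 (M ⧸ N) 1 ∘ₗ ρbar) ∘ₗ ρlin = coeffL 𝔬 (M ⧸ N) 1 ∘ₗ qlin := by
      ext y
      simp only [LinearMap.comp_apply]
      rw [hρbar]
    rw [this]
    rfl
  have hhom : ∀ x, ρ x = 0 → ρ (degZero 𝔬 N x) = 0 := by
    intro x hx
    rw [← hc₀, hx, map_zero]
  let ι : MonoidAlgebra 𝔬 N →ₐc[𝔬] MonoidAlgebra 𝔬 M := MonoidAlgebra.mapDomainBialgHom 𝔬 N.subtype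
  let ν : MonoidAlgebra 𝔬 N →ₐc[𝔬] B₁ := ρ.comp ι
  have hν : ∀ y, ν y = ρ (ι y) := fun y => rfl
  obtain ⟨r', hr'⟩ := exists_linearMap_factor ρlin hρ
    (((RingHom.ker (ν : MonoidAlgebra 𝔬 N →ₐ[𝔬] B₁)).restrictScalars 𝔬).mkQ ∘ₗ restrictN 𝔬 N) (by
      intro x hx
      show Submodule.Quotient.mk (restrictN 𝔬 N x) = 0
      rw [Submodule.Quotient.mk_eq_zero]
      show restrictN 𝔬 N x ∈ RingHom.ker (ν : MonoidAlgebra 𝔬 N →ₐ[𝔬] B₁)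
      rw [RingHom.mem_ker]
      show ρ (ι (restrictN 𝔬 N x)) = 0
      rw [incl_restrictN]
      exact hhom x hx)
  have hr : ∀ y, r' (ν y) = Submodule.Quotient.mk y := by
    intro y
    show r' (ρlin (ι y)) = _
    rw [hr']
    show Submodule.Quotient.mk (restrictN 𝔬 N (ι y)) = _
    rw [restrictN_incl]
  have : (RingHom.ker (ν : MonoidAlgebra 𝔬 N →ₐ[𝔬] B₁)).IsHopfIdeal 𝔬 := isHopfIdeal_ker ν r' hr
  let π : MonoidAlgebra 𝔬 N →ₐc[𝔬]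
      MonoidAlgebra 𝔬 N ⧸ RingHom.ker (ν : MonoidAlgebra 𝔬 N →ₐ[𝔬] B₁) :=
    Bialgebra.Quotient.mkBialgHom _
  have hπ : Function.Surjective π := Ideal.Quotient.mk_surjective
  have hfgN : Group.FG ↥N := (Group.fg_iff_subgroup_fg N).mpr (subgroup_fg_of_commGroup_fg M N)
  have hft : Algebra.FiniteType 𝔬 (MonoidAlgebra 𝔬 N) :=
    MonoidAlgebra.finiteType_iff_group_fg.mpr hfgN
  obtain ⟨S, hS, hSfin⟩ := Group.fg_iff.mp hfgN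
  have hI := ker_counit_monoidAlgebra 𝔬 ↥N S hS
  have hIC := ker_counit_eq_map_of_surjective π hπ
  rw [hI] at hIC
  unfold subOneIdeal at hIC
  rw [Ideal.map_span] at hIC
  have hfg : (RingHom.ker (Bialgebra.counitAlgHom 𝔬
      (MonoidAlgebra 𝔬 N ⧸ RingHom.ker (ν : MonoidAlgebra 𝔬 N →ₐ[𝔬] B₁)))).FG := by
    rw [hIC]
    exact Submodule.fg_span ((hSfin.image _).image _)
  have h : RingHom.ker (Bialgebra.counitAlgHom 𝔬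
      (MonoidAlgebra 𝔬 N ⧸ RingHom.ker (ν : MonoidAlgebra 𝔬 N →ₐ[𝔬] B₁))) ≤
      Ideal.map (algebraMap 𝔬 (MonoidAlgebra 𝔬 N ⧸ RingHom.ker (ν : MonoidAlgebra 𝔬 N →ₐ[𝔬] B₁)))
        (IsLocalRing.maximalIdeal 𝔬) := by
    rw [hIC, Ideal.span_le]
    rintro _ ⟨_, ⟨g, hg, rfl⟩, rfl⟩
    have h3 : ν (single g 1 - 1) ∈ (IsLocalRing.maximalIdeal 𝔬 • ⊤ : Submodule 𝔬 B₁) := by
      rw [Ideal.smul_top_eq_map]
      have h4 : ν (single g 1 - 1) = ρ (single (g : M) 1) - 1 := by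
        rw [map_sub, map_one, hν]
        congr 2
        exact MonoidAlgebra.mapDomainBialgHom_single _ _ _
      rw [h4]
      exact h2 g g.2
    have h5 := Submodule.mem_map_of_mem (f := r') h3
    rw [Submodule.map_smul'', hr] at h5
    have h6 : (IsLocalRing.maximalIdeal 𝔬 • Submodule.map r' ⊤ : Submodule 𝔬 _) ≤
        IsLocalRing.maximalIdeal 𝔬 • ⊤ := Submodule.smul_mono le_rfl le_top
    have h7 := h6 h5
    have h8 : (IsLocalRing.maximalIdeal 𝔬 • ⊤ : Submodule 𝔬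
        (MonoidAlgebra 𝔬 N ⧸ RingHom.ker (ν : MonoidAlgebra 𝔬 N →ₐ[𝔬] B₁))) =
        (Ideal.map (algebraMap 𝔬 _) (IsLocalRing.maximalIdeal 𝔬)).restrictScalars 𝔬 :=
      Ideal.smul_top_eq_map _
    have h9 : (Ideal.Quotient.mk (RingHom.ker (ν : MonoidAlgebra 𝔬 N →ₐ[𝔬] B₁)))
        (single g 1 - 1) ∈ (IsLocalRing.maximalIdeal 𝔬 • ⊤ : Submodule 𝔬
        (MonoidAlgebra 𝔬 N ⧸ RingHom.ker (ν : MonoidAlgebra 𝔬 N →ₐ[𝔬] B₁))) := h7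
    rw [h8] at h9
    exact h9
  have hbot := ker_counit_eq_bot_of_local' hft (isMultType_monoidAlgebra ↥N) π hπ hfg h
  intro n hn
  have h3 : π (single (⟨n, hn⟩ : N) 1 - 1) ∈ RingHom.ker (Bialgebra.counitAlgHom 𝔬
      (MonoidAlgebra 𝔬 N ⧸ RingHom.ker (ν : MonoidAlgebra 𝔬 N →ₐ[𝔬] B₁))) := by
    rw [RingHom.mem_ker]
    show Coalgebra.counit (R := 𝔬) (π (single (⟨n, hn⟩ : N) 1 - 1)) = 0
    rw [CoalgHomClass.counit_comp_apply π, map_sub, MonoidAlgebra.counit_single]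
    simp
  rw [hbot, Ideal.mem_bot] at h3
  have h4 : single (⟨n, hn⟩ : N) (1 : 𝔬) - 1 ∈ RingHom.ker (ν : MonoidAlgebra 𝔬 N →ₐ[𝔬] B₁) :=
    Ideal.Quotient.eq_zero_iff_mem.mp h3
  rw [RingHom.mem_ker] at h4
  have h5 : ν (single (⟨n, hn⟩ : N) (1 : 𝔬) - 1) = ρ (single n 1) - 1 := by
    rw [map_sub, map_one, hν]
    congr 2
    exact MonoidAlgebra.mapDomainBialgHom_single _ _ _
  have h6 : ν (single (⟨n, hn⟩ : N) (1 : 𝔬) - 1) = 0 := h4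
  rw [h5] at h6
  exact sub_eq_zero.mp h6

end Purity

section LocalMain

variable {𝔬 : Type u} [CommRing 𝔬] [IsLocalRing 𝔬] {M : Type u} [CommGroup M] [Group.FG M]
  {C₁ B₁ : Type u} [CommRing C₁] [HopfAlgebra 𝔬 C₁] [CommRing B₁] [HopfAlgebra 𝔬 B₁]
  (ψ : C₁ →ₐc[𝔬] MonoidAlgebra 𝔬 M) (ρ : MonoidAlgebra 𝔬 M →ₐc[𝔬] B₁)

open MonoidAlgebra

/-- **Local structure of the kernel**: over a local ring, the kernel of a homomorphism from a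
diagonalisable group `D(M)` of finite type to an affine group of finite presentation is `D(M/N)`. -/
theorem local_main (hK : IsKer ψ ρ) (hC : Algebra.FinitePresentation 𝔬 C₁) :
    ∃ N : Subgroup M, (∀ n ∈ N, ρ (single n 1) = 1) ∧
      ∀ x, ρ x = 0 → MonoidAlgebra.mapDomainBialgHom 𝔬 (QuotientGroup.mk' N) x = 0 := by
  let 𝔪 := IsLocalRing.maximalIdeal 𝔬
  let _ : Field (𝔬 ⧸ 𝔪) := Ideal.Quotient.field 𝔪
  let ρ₀ : MonoidAlgebra (𝔬 ⧸ 𝔪) M →ₐc[𝔬 ⧸ 𝔪] (𝔬 ⧸ 𝔪) ⊗[𝔬] B₁ :=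
    (bcHom 𝔬 (𝔬 ⧸ 𝔪) ρ).comp
      ((monoidAlgebraBC 𝔬 (𝔬 ⧸ 𝔪) M).symm :
        MonoidAlgebra (𝔬 ⧸ 𝔪) M →ₐc[𝔬 ⧸ 𝔪] (𝔬 ⧸ 𝔪) ⊗[𝔬] MonoidAlgebra 𝔬 M)
  let N : Subgroup M := (glHom ρ₀).ker
  have key1 : ∀ x : MonoidAlgebra 𝔬 M,
      ρ₀ (monoidAlgebraBC 𝔬 (𝔬 ⧸ 𝔪) M ((1 : 𝔬 ⧸ 𝔪) ⊗ₜ[𝔬] x)) = (1 : 𝔬 ⧸ 𝔪) ⊗ₜ[𝔬] ρ x := by
    intro x
    show (bcHom 𝔬 (𝔬 ⧸ 𝔪) ρ) ((monoidAlgebraBC 𝔬 (𝔬 ⧸ 𝔪) M).symm
      (monoidAlgebraBC 𝔬 (𝔬 ⧸ 𝔪) M ((1 : 𝔬 ⧸ 𝔪) ⊗ₜ[𝔬] x))) = _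
    rw [BialgEquiv.symm_apply_apply, bcHom_tmul]
  have hq : ∀ x, ρ x = 0 → MonoidAlgebra.mapDomainBialgHom 𝔬 (QuotientGroup.mk' N) x ∈
      Ideal.map (algebraMap 𝔬 (MonoidAlgebra 𝔬 (M ⧸ N))) (IsLocalRing.maximalIdeal 𝔬) := by
    intro x hx
    have h3 := mapDomain_eq_zero_of_field ρ₀
      (monoidAlgebraBC 𝔬 (𝔬 ⧸ 𝔪) M ((1 : 𝔬 ⧸ 𝔪) ⊗ₜ[𝔬] x)) (by rw [key1, hx, TensorProduct.tmul_zero])
    rw [mapDomain_monoidAlgebraBC] at h3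
    have h4 : (1 : 𝔬 ⧸ 𝔪) ⊗ₜ[𝔬] MonoidAlgebra.mapDomainBialgHom 𝔬 (QuotientGroup.mk' N) x = 0 :=
      (monoidAlgebraBC 𝔬 (𝔬 ⧸ 𝔪) (M ⧸ N)).injective (h3.trans (map_zero _).symm)
    exact (Groth.Agent.Lib.Helper77.GLLift.one_tmul_eq_zero_iff 𝔬 𝔪 _).mp h4
  have h1 := mapDomain_eq_zero_of_isKer ψ ρ hK hC N hq
  have h2 : ∀ n ∈ N, ρ (single n 1) - 1 ∈
      Ideal.map (algebraMap 𝔬 B₁) (IsLocalRing.maximalIdeal 𝔬) := by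
    intro n hn
    have h3 : glHom ρ₀ n = 1 := hn
    have h4 : ρ₀ (single n 1) = 1 := congrArg GroupLike.val h3
    have h5 : (single n (1 : 𝔬 ⧸ 𝔪) : MonoidAlgebra (𝔬 ⧸ 𝔪) M) =
        monoidAlgebraBC 𝔬 (𝔬 ⧸ 𝔪) M ((1 : 𝔬 ⧸ 𝔪) ⊗ₜ[𝔬] single n (1 : 𝔬)) := by
      rw [monoidAlgebraBC_tmul_single, one_smul]
    rw [h5, key1] at h4
    apply (Groth.Agent.Lib.Helper77.GLLift.one_tmul_eq_zero_iff 𝔬 𝔪 _).mp
    rw [TensorProduct.tmul_sub, h4]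
    exact sub_self _
  exact ⟨N, eq_one_of_mem_of_local ρ N hK.1 h1 h2, h1⟩

end LocalMain

end Groth.Agent.Lib.Helper77.KerMT
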