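import Mathlib
import Groth.Prelude.Def_SGA3b
import Groth.Agent.Lib.Helper77.KerMT3

/-!
# Kernels of homomorphisms from groups of multiplicative type, IV (helper77)

Globalisation: the kernel is diagonalisable of locally constant type near each point of a chart
(`exists_isDiagOf_near`), and a Hopf algebra which is so on a faithfully flat chart is of
multiplicative type of constant type near each point of the base
(`exists_away_isMultTypeConst_of_near`).
-/

set_option autoImplicit false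
universe u
open TensorProduct

namespace Groth.Agent.Lib.Helper77.KerMT

open SGA3b Groth.Agent.Lib.Helper77.DiagSub Groth.Agent.Lib.Helper77.MultRigid
  Groth.Agent.Lib.Helper77.MultTors Groth.Agent.Lib.Helper77.MultMono
  Groth.Agent.Lib.Helper77.MultBC Groth.Agent.Lib.Helper77.MultKer
  Groth.Agent.Lib.Helper77.HopfTriv1

section BCSetup

variable {K : Type u} [CommRing K] {M : Type u} [CommGroup M]
  {C₁ B₁ : Type u} [CommRing C₁] [HopfAlgebra K C₁] [CommRing B₁] [HopfAlgebra K B₁]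
  (ψ : C₁ →ₐc[K] MonoidAlgebra K M) (ρ : MonoidAlgebra K M →ₐc[K] B₁)
  (T : Type u) [CommRing T] [Algebra K T]

open MonoidAlgebra

/-- base change of `ψ`. -/
noncomputable def psiBC : T ⊗[K] C₁ →ₐc[T] MonoidAlgebra T M :=
  ((monoidAlgebraBC K T M : T ⊗[K] MonoidAlgebra K M →ₐc[T] MonoidAlgebra T M).comp
    (bcHom K T ψ)).comp
    ((BialgEquiv.refl T (T ⊗[K] C₁)).symm : T ⊗[K] C₁ →ₐc[T] T ⊗[K] C₁)

/-- base change of `ρ`. -/
noncomputable def rhoBC : MonoidAlgebra T M →ₐc[T] T ⊗[K] B₁ :=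
  (bcHom K T ρ).comp
    ((monoidAlgebraBC K T M).symm : MonoidAlgebra T M →ₐc[T] T ⊗[K] MonoidAlgebra K M)

lemma isKer_BC (hK : IsKer ψ ρ) : IsKer (psiBC ψ T) (rhoBC ρ T) :=
  (hK.baseChange T).of_equiv (monoidAlgebraBC K T M) (BialgEquiv.refl T (T ⊗[K] C₁))

lemma rhoBC_apply (y : MonoidAlgebra T M) :
    rhoBC ρ T y = bcHom K T ρ ((monoidAlgebraBC K T M).symm y) := rfl

lemma rhoBC_mABC (x : MonoidAlgebra K M) :
    rhoBC ρ T (monoidAlgebraBC K T M ((1 : T) ⊗ₜ[K] x)) = (1 : T) ⊗ₜ[K] ρ x := by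
  rw [rhoBC_apply, BialgEquiv.symm_apply_apply, bcHom_tmul]

lemma rhoBC_single (m : M) :
    rhoBC ρ T (single m 1) = (1 : T) ⊗ₜ[K] ρ (single m 1) := by
  rw [← rhoBC_mABC, monoidAlgebraBC_tmul_single, one_smul]

end BCSetup

section Common

variable {K : Type u} [CommRing K] (S : Submonoid K) {Y : Type u} [AddCommGroup Y] [Module K Y]

lemma exists_common_smul_eq_zero (F : Set Y) (hF : F.Finite)
    (h : ∀ y ∈ F, ∃ s : S, s • y = 0) : ∃ s : S, ∀ y ∈ F, s • y = 0 := by
  induction F, hF using Set.Finite.induction_on with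
  | empty => exact ⟨1, fun y hy => absurd hy (Set.notMem_empty y)⟩
  | @insert a F _ _ ih =>
    obtain ⟨s₁, hs₁⟩ := ih (fun y hy => h y (Set.mem_insert_of_mem a hy))
    obtain ⟨s₂, hs₂⟩ := h a (Set.mem_insert a F)
    refine ⟨s₁ * s₂, fun y hy => ?_⟩
    rcases hy with rfl | hy
    · rw [mul_smul, hs₂, smul_zero]
    · rw [mul_comm, mul_smul, hs₁ y hy, smul_zero]

lemma one_tmul_eq_zero_of_smul_eq_zero (L : Type u) [CommRing L] [Algebra K L] {s : K}
    (hs : IsUnit (algebraMap K L s)) {y : Y} (hy : s • y = 0) : (1 : L) ⊗ₜ[K] y = 0 := by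
  obtain ⟨u, hu⟩ := hs
  have h1 : (1 : L) = (↑u⁻¹ : L) * algebraMap K L s := by
    rw [← hu]
    simp
  have h2 : (↑u⁻¹ : L) * algebraMap K L s = s • (↑u⁻¹ : L) := by
    rw [Algebra.smul_def, mul_comm]
  rw [h1, h2, TensorProduct.smul_tmul, hy, TensorProduct.tmul_zero]

end Common

section SemiLocal

variable {K : Type u} [CommRing K] {M : Type u} [CommGroup M] [Group.FG M]
  {C₁ B₁ : Type u} [CommRing C₁] [HopfAlgebra K C₁] [CommRing B₁] [HopfAlgebra K B₁]
  (ψ : C₁ →ₐc[K] MonoidAlgebra K M) (ρ : MonoidAlgebra K M →ₐc[K] B₁)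

open MonoidAlgebra

/-- **the kernel is diagonalisable near each point of the base.** -/
theorem exists_isDiagOf_near (hK : IsKer ψ ρ) (hC : Algebra.FinitePresentation K C₁)
    (𝔮 : Ideal K) [𝔮.IsPrime] :
    ∃ s : K, s ∉ 𝔮 ∧ ∃ N : Subgroup M, ∀ (L : Type u) [CommRing L] [Algebra K L],
      IsUnit (algebraMap K L s) → IsDiagOf (M ⧸ N) L (L ⊗[K] B₁) := by
  classical
  let 𝔬 := Localization.AtPrime 𝔮
  have hKo := isKer_BC ψ ρ 𝔬 hK
  obtain ⟨N, hN1, hN2⟩ := local_main (psiBC ψ 𝔬) (rhoBC ρ 𝔬) hKo inferInstance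
  obtain ⟨SN, rfl, hSN⟩ := (Subgroup.fg_iff N).mp (subgroup_fg_of_commGroup_fg M N)
  -- generators of `ker ρ`
  have hsurjε : Function.Surjective (Bialgebra.counitAlgHom K C₁) := fun r =>
    ⟨algebraMap K C₁ r, by rw [AlgHom.commutes]; rfl⟩
  have hIfg : (RingHom.ker (Bialgebra.counitAlgHom K C₁)).FG :=
    Algebra.FinitePresentation.ker_fG_of_surjective (Bialgebra.counitAlgHom K C₁) hsurjε
  have hkfg : (RingHom.ker (ρ : MonoidAlgebra K M →ₐ[K] B₁)).FG := by
    rw [hK.2]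
    exact hIfg.map _
  obtain ⟨X, hX⟩ := hkfg
  let qK : MonoidAlgebra K M →ₐc[K] MonoidAlgebra K (M ⧸ Subgroup.closure SN) :=
    MonoidAlgebra.mapDomainBialgHom K (QuotientGroup.mk' (Subgroup.closure SN))
  -- (i')
  have hi : ∀ b ∈ (fun n => ρ (single n 1) - 1) '' SN, ∃ s : 𝔮.primeCompl, s • b = 0 := by
    rintro _ ⟨n, hn, rfl⟩
    have h1 := hN1 n (Subgroup.subset_closure hn)
    rw [rhoBC_single] at h1
    have h2 : (TensorProduct.mk K 𝔬 B₁ 1) (ρ (single n 1) - 1) = 0 := by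
      show (1 : 𝔬) ⊗ₜ[K] (ρ (single n 1) - 1) = 0
      rw [TensorProduct.tmul_sub, h1]
      exact sub_self _
    exact (IsLocalizedModule.eq_zero_iff 𝔮.primeCompl (TensorProduct.mk K 𝔬 B₁ 1)).mp h2
  -- (ii')
  have hii : ∀ y ∈ (fun x => qK x) '' (X : Set (MonoidAlgebra K M)),
      ∃ s : 𝔮.primeCompl, s • y = 0 := by
    rintro _ ⟨x, hx, rfl⟩
    have hx0 : ρ x = 0 := by
      have : x ∈ RingHom.ker (ρ : MonoidAlgebra K M →ₐ[K] B₁) := by
        rw [← hX]
        exact Ideal.subset_span hx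
      exact this
    have h1 := hN2 (monoidAlgebraBC K 𝔬 M ((1 : 𝔬) ⊗ₜ[K] x)) (by
      rw [rhoBC_mABC, hx0, TensorProduct.tmul_zero])
    rw [mapDomain_monoidAlgebraBC] at h1
    have h2 : (TensorProduct.mk K 𝔬 _ 1) (qK x) = 0 :=
      (monoidAlgebraBC K 𝔬 (M ⧸ Subgroup.closure SN)).injective (h1.trans (map_zero _).symm)
    exact (IsLocalizedModule.eq_zero_iff 𝔮.primeCompl (TensorProduct.mk K 𝔬 _ 1)).mp h2
  obtain ⟨s₁, hs₁⟩ := exists_common_smul_eq_zero 𝔮.primeCompl _ (hSN.image _) hi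
  obtain ⟨s₂, hs₂⟩ := exists_common_smul_eq_zero 𝔮.primeCompl _ (X.finite_toSet.image _) hii
  refine ⟨(s₁ * s₂ : 𝔮.primeCompl), (s₁ * s₂).2, Subgroup.closure SN, ?_⟩
  intro L _ _ hsu
  have hs₁' : ∀ n ∈ SN, ((s₁ * s₂ : 𝔮.primeCompl) : K) • (ρ (single n 1) - 1) = 0 := by
    intro n hn
    have := hs₁ _ ⟨n, hn, rfl⟩
    rw [Submonoid.smul_def] at this
    rw [Submonoid.coe_mul, mul_comm, mul_smul, this, smul_zero]
  have hs₂' : ∀ x ∈ X, ((s₁ * s₂ : 𝔮.primeCompl) : K) • qK x = 0 := by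
    intro x hx
    have := hs₂ _ ⟨x, hx, rfl⟩
    rw [Submonoid.smul_def] at this
    rw [Submonoid.coe_mul, mul_smul, this, smul_zero]
  let ρL := rhoBC ρ L
  let qL : MonoidAlgebra L M →ₐc[L] MonoidAlgebra L (M ⧸ Subgroup.closure SN) :=
    MonoidAlgebra.mapDomainBialgHom L (QuotientGroup.mk' (Subgroup.closure SN))
  have hρL : Function.Surjective ρL := (isKer_BC ψ ρ L hK).1
  have hqL : Function.Surjective qL := mapDomain_mk_surjective L M (Subgroup.closure SN)
  have hker : RingHom.ker (ρL : MonoidAlgebra L M →ₐ[L] L ⊗[K] B₁) =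
      RingHom.ker (qL : MonoidAlgebra L M →ₐ[L] MonoidAlgebra L (M ⧸ Subgroup.closure SN)) := by
    apply le_antisymm
    · intro y hy
      rw [RingHom.mem_ker] at hy
      have hy' : bcHom K L ρ ((monoidAlgebraBC K L M).symm y) = 0 := hy
      have h1 : (monoidAlgebraBC K L M).symm y ∈
          RingHom.ker (bcHom K L ρ : L ⊗[K] MonoidAlgebra K M →ₐ[L] L ⊗[K] B₁) := hy'
      rw [ker_bcHom K L ρ hK.1, ← hX, Ideal.map_span] at h1
      let g : L ⊗[K] MonoidAlgebra K M →ₐ[L] MonoidAlgebra L (M ⧸ Subgroup.closure SN) :=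
        (qL : MonoidAlgebra L M →ₐ[L] MonoidAlgebra L (M ⧸ Subgroup.closure SN)).comp
          ((monoidAlgebraBC K L M : L ⊗[K] MonoidAlgebra K M →ₐc[L] MonoidAlgebra L M) :
            L ⊗[K] MonoidAlgebra K M →ₐ[L] MonoidAlgebra L M)
      have hle : Ideal.span ((Algebra.TensorProduct.includeRight :
          MonoidAlgebra K M →ₐ[K] L ⊗[K] MonoidAlgebra K M) '' (X : Set (MonoidAlgebra K M))) ≤
          RingHom.ker g := by
        rw [Ideal.span_le]
        rintro _ ⟨x, hx, rfl⟩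
        rw [SetLike.mem_coe, RingHom.mem_ker]
        show qL (monoidAlgebraBC K L M ((1 : L) ⊗ₜ[K] x)) = 0
        rw [mapDomain_monoidAlgebraBC, one_tmul_eq_zero_of_smul_eq_zero L hsu (hs₂' x hx), map_zero]
      have h2 := hle h1
      rw [RingHom.mem_ker] at h2
      have h3 : g ((monoidAlgebraBC K L M).symm y) = qL y := by
        show qL (monoidAlgebraBC K L M ((monoidAlgebraBC K L M).symm y)) = qL y
        rw [BialgEquiv.apply_symm_apply]
      rw [RingHom.mem_ker]
      exact h3.symm.trans h2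
    · rw [ker_mapDomain_mk L M SN]
      unfold subOneIdeal
      rw [Ideal.span_le]
      rintro _ ⟨n, hn, rfl⟩
      rw [SetLike.mem_coe, RingHom.mem_ker]
      show ρL (single n 1 - 1) = 0
      rw [map_sub, map_one]
      show rhoBC ρ L (single n 1) - 1 = 0
      rw [rhoBC_single]
      have h1 := one_tmul_eq_zero_of_smul_eq_zero L hsu (hs₁' n hn)
      rw [TensorProduct.tmul_sub] at h1
      exact h1
  exact nonempty_bialgEquiv_of_surjective_of_ker_eq ρL qL hρL hqL hker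

end SemiLocal

section TwoPrimes

variable {k K : Type u} [CommRing k] [CommRing K] [Algebra k K]

/-- two primes over the same prime are the kernels of two maps to a common field. -/
theorem exists_field_of_comap_eq (q q' : Ideal K) [q.IsPrime] [q'.IsPrime]
    (h : q.comap (algebraMap k K) = q'.comap (algebraMap k K)) :
    ∃ (Ω : Type u) (_ : Field Ω) (_ : Algebra k Ω) (j j' : K →ₐ[k] Ω),
      (∀ x, j x = 0 ↔ x ∈ q) ∧ (∀ x, j' x = 0 ↔ x ∈ q') := by
  let p : Ideal k := q.comap (algebraMap k K)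
  have : p.IsPrime := Ideal.IsPrime.comap _
  have : q.LiesOver p := ⟨rfl⟩
  have : q'.LiesOver p := ⟨h⟩
  let F₁ := FractionRing (K ⧸ q)
  let F₂ := FractionRing (K ⧸ q')
  have hinj₁ : Function.Injective (algebraMap (k ⧸ p) F₁) := by
    rw [IsScalarTower.algebraMap_eq (k ⧸ p) (K ⧸ q) F₁]
    exact (IsFractionRing.injective (K ⧸ q) F₁).comp (FaithfulSMul.algebraMap_injective _ _)
  have hinj₂ : Function.Injective (algebraMap (k ⧸ p) F₂) := by
    rw [IsScalarTower.algebraMap_eq (k ⧸ p) (K ⧸ q') F₂]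
    exact (IsFractionRing.injective (K ⧸ q') F₂).comp (FaithfulSMul.algebraMap_injective _ _)
  let T := F₁ ⊗[k ⧸ p] F₂
  have : Nontrivial T :=
    Algebra.TensorProduct.nontrivial_of_algebraMap_injective_of_isDomain (k ⧸ p) F₁ F₂ hinj₁ hinj₂
  obtain ⟨m, hm⟩ := Ideal.exists_maximal T
  let _ : Field (T ⧸ m) := Ideal.Quotient.field m
  let i₁ : F₁ →ₐ[k] T := (Algebra.TensorProduct.includeLeft : F₁ →ₐ[k ⧸ p] T).restrictScalars k
  let i₂ : F₂ →ₐ[k] T := (Algebra.TensorProduct.includeRight : F₂ →ₐ[k ⧸ p] T).restrictScalars k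
  let g₁ : F₁ →ₐ[k] T ⧸ m := (Ideal.Quotient.mkₐ k m).comp i₁
  let g₂ : F₂ →ₐ[k] T ⧸ m := (Ideal.Quotient.mkₐ k m).comp i₂
  have hg₁ : Function.Injective g₁ := g₁.toRingHom.injective
  have hg₂ : Function.Injective g₂ := g₂.toRingHom.injective
  refine ⟨T ⧸ m, inferInstance, inferInstance,
    g₁.comp ((IsScalarTower.toAlgHom k (K ⧸ q) F₁).comp (Ideal.Quotient.mkₐ k q)),
    g₂.comp ((IsScalarTower.toAlgHom k (K ⧸ q') F₂).comp (Ideal.Quotient.mkₐ k q')), ?_, ?_⟩
  · intro x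
    show g₁ (algebraMap (K ⧸ q) F₁ (Ideal.Quotient.mk q x)) = 0 ↔ _
    rw [map_eq_zero_iff g₁ hg₁, map_eq_zero_iff _ (IsFractionRing.injective (K ⧸ q) F₁),
      Ideal.Quotient.eq_zero_iff_mem]
  · intro x
    show g₂ (algebraMap (K ⧸ q') F₂ (Ideal.Quotient.mk q' x)) = 0 ↔ _
    rw [map_eq_zero_iff g₂ hg₂, map_eq_zero_iff _ (IsFractionRing.injective (K ⧸ q') F₂),
      Ideal.Quotient.eq_zero_iff_mem]

end TwoPrimes

section FF

variable (R : Type u) [CommRing R] {ι : Type u} [Finite ι] (g : ι → R)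
  (S : ι → Type u) [∀ i, CommRing (S i)] [∀ i, Algebra R (S i)]
  [∀ i, IsLocalization.Away (g i) (S i)]

include g in
/-- (copied from `Helper7.PiProjective.faithfullyFlat_pi_away`, to avoid its heavy imports.) -/
theorem faithfullyFlat_pi_away (hg : Ideal.span (Set.range g) = ⊤) :
    Module.FaithfullyFlat R (Π i, S i) := by
  classical
  cases nonempty_fintype ι
  have : ∀ i, Module.Flat R (S i) := fun i => IsLocalization.flat (S i) (Submonoid.powers (g i))
  have : Module.Flat R (Π i, S i) :=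
    Module.Flat.of_linearEquiv (DFinsupp.linearEquivFunOnFintype (R := R) (M := S)).symm
  refine ⟨fun m hm htop => ?_⟩
  obtain ⟨j, hj⟩ : ∃ j, g j ∉ m := by
    by_contra hcon
    push Not at hcon
    have : Ideal.span (Set.range g) ≤ m := Ideal.span_le.mpr (by rintro _ ⟨j, rfl⟩; exact hcon j)
    rw [hg] at this
    exact hm.ne_top (top_le_iff.mp this)
  have h1 : (1 : S j) ∈ (m • ⊤ : Submodule R (S j)) := by
    have h2 : (1 : Π i, S i) ∈ (m • ⊤ : Submodule R (Π i, S i)) := by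
      rw [htop]; exact Submodule.mem_top
    have h3 := Submodule.mem_map_of_mem (f := (LinearMap.proj j : (Π i, S i) →ₗ[R] S j)) h2
    rw [Submodule.map_smul''] at h3
    exact Submodule.smul_mono le_rfl le_top h3
  rw [Ideal.smul_top_eq_map] at h1
  have h4 : m.map (algebraMap R (S j)) = ⊤ := (Ideal.eq_top_iff_one _).mpr h1
  have := hm.isPrime
  have h5 := (IsLocalization.map_algebraMap_ne_top_iff_disjoint (Submonoid.powers (g j)) (S j) m).mpr
    (by
      rw [Set.disjoint_left]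
      rintro x ⟨n, rfl⟩ hx
      exact hj (Ideal.IsPrime.mem_of_pow_mem inferInstance n hx))
  exact h5 h4

end FF

section Global

variable {k : Type u} [CommRing k] {K : Type u} [CommRing K] [Algebra k K]
  [Module.FaithfullyFlat k K]
  {B : Type u} [CommRing B] [HopfAlgebra k B] {M : Type u} [CommGroup M]

/-- a unit on one factor of a product becomes a unit after inverting the corresponding
idempotent. -/
lemma isUnit_away_single {ι : Type u} [Fintype ι] [DecidableEq ι] (S : ι → Type u)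
    [∀ i, CommRing (S i)] (i : ι) (z : Π i, S i) (hz : IsUnit (z i)) :
    IsUnit (algebraMap (Π i, S i) (Localization.Away (Pi.single i 1 : Π i, S i)) z) := by
  obtain ⟨u, hu⟩ := hz
  have h1 : z * Pi.single i (↑u⁻¹ : S i) = Pi.single i 1 := by
    funext j
    by_cases hj : j = i
    · subst hj
      simp [← hu]
    · simp [Pi.single_eq_of_ne hj]
  have hidem : IsIdempotentElem (Pi.single i 1 : Π i, S i) :=
    (CompleteOrthogonalIdempotents.single S).idem i
  have h2 := congrArg (algebraMap (Π i, S i) (Localization.Away (Pi.single i 1 : Π i, S i))) h1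
  rw [map_mul, algebraMap_away_idem hidem] at h2
  exact IsUnit.of_mul_eq_one _ h2

theorem exists_away_isMultTypeConst_of_near
    (H : ∀ (𝔮 : Ideal K) [𝔮.IsPrime], ∃ s : K, s ∉ 𝔮 ∧ ∃ N : Subgroup M,
      ∀ (L : Type u) [CommRing L] [Algebra K L], IsUnit (algebraMap K L s) →
        IsDiagOf (M ⧸ N) L (L ⊗[K] (K ⊗[k] B)))
    (p : Ideal k) [p.IsPrime] :
    ∃ a : k, a ∉ p ∧ IsMultTypeConst (Localization.Away a) (Localization.Away a ⊗[k] B) := by
  classical
  have H' : ∀ x : PrimeSpectrum K, ∃ s : K, s ∉ x.asIdeal ∧ ∃ N : Subgroup M,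
      ∀ (L : Type u) [CommRing L] [Algebra k L] [Algebra K L] [IsScalarTower k K L],
        IsUnit (algebraMap K L s) → IsDiagOf (M ⧸ N) L (L ⊗[k] B) := by
    intro x
    obtain ⟨s, hs, N, hN⟩ := H x.asIdeal
    exact ⟨s, hs, N, fun L _ _ _ _ hu => isDiagOf_of_equiv (cancelBC k K L B) (hN L hu)⟩
  choose s hs N hN using H'
  let f : PrimeSpectrum K → PrimeSpectrum k := PrimeSpectrum.comap (algebraMap k K)
  have hf : Topology.IsQuotientMap f :=
    PrimeSpectrum.isQuotientMap_of_generalizingMap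
      PrimeSpectrum.comap_surjective_of_faithfullyFlat
      (RingHom.Flat.generalizingMap_comap (RingHom.flat_algebraMap_iff.mpr inferInstance))
  obtain ⟨Q₀, hQ₀⟩ := PrimeSpectrum.comap_surjective_of_faithfullyFlat (A := k) (B := K)
    ⟨p, inferInstance⟩
  let Good : Set (PrimeSpectrum K) := {x | Nonempty ((M ⧸ N x) ≃* (M ⧸ N Q₀))}
  have hkey : ∀ x y z : PrimeSpectrum K, s x ∉ z.asIdeal → f z = f y →
      Nonempty ((M ⧸ N y) ≃* (M ⧸ N x)) := by
    intro x y z hz hzy
    have hcomap : z.asIdeal.comap (algebraMap k K) = y.asIdeal.comap (algebraMap k K) :=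
      congrArg PrimeSpectrum.asIdeal hzy
    obtain ⟨Ω, _, _, j, j', hj, hj'⟩ := exists_field_of_comap_eq z.asIdeal y.asIdeal hcomap
    have h1 : IsDiagOf (M ⧸ N x) Ω (Ω ⊗[k] B) := by
      let _ : Algebra K Ω := j.toRingHom.toAlgebra
      have : IsScalarTower k K Ω := IsScalarTower.of_algebraMap_eq (fun r => (j.commutes r).symm)
      apply hN x Ω
      show IsUnit (j (s x))
      exact isUnit_iff_ne_zero.mpr (fun h0 => hz ((hj _).mp h0))
    have h2 : IsDiagOf (M ⧸ N y) Ω (Ω ⊗[k] B) := by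
      let _ : Algebra K Ω := j'.toRingHom.toAlgebra
      have : IsScalarTower k K Ω := IsScalarTower.of_algebraMap_eq (fun r => (j'.commutes r).symm)
      apply hN y Ω
      show IsUnit (j' (s y))
      exact isUnit_iff_ne_zero.mpr (fun h0 => hs y ((hj' _).mp h0))
    obtain ⟨E1⟩ := h1
    obtain ⟨E2⟩ := h2
    exact nonempty_mulEquiv_of_bialgEquiv (E2.symm.trans E1)
  let W : Set (PrimeSpectrum K) := ⋃ x ∈ Good, (PrimeSpectrum.basicOpen (s x) : Set _)
  have hWo : IsOpen W := isOpen_biUnion (fun x _ => (PrimeSpectrum.basicOpen (s x)).isOpen)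
  have hmemW : ∀ z : PrimeSpectrum K, z ∈ W ↔ ∃ x ∈ Good, s x ∉ z.asIdeal := by
    intro z
    simp only [W, Set.mem_iUnion, SetLike.mem_coe, PrimeSpectrum.mem_basicOpen, exists_prop]
  have hsatW : f ⁻¹' (f '' W) = W := by
    apply Set.Subset.antisymm
    · rintro y ⟨z, hz, hzy⟩
      obtain ⟨x, hxG, hxz⟩ := (hmemW z).mp hz
      obtain ⟨g⟩ := hxG
      obtain ⟨e⟩ := hkey x y z hxz hzy
      exact (hmemW y).mpr ⟨y, ⟨e.trans g⟩, hs y⟩
    · exact Set.subset_preimage_image f W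
  have himo : IsOpen (f '' W) := by
    rw [← hf.isOpen_preimage, hsatW]
    exact hWo
  let P : PrimeSpectrum k := ⟨p, inferInstance⟩
  have hPW : P ∈ f '' W := ⟨Q₀, (hmemW Q₀).mpr ⟨Q₀, ⟨MulEquiv.refl _⟩, hs Q₀⟩, hQ₀⟩
  obtain ⟨_, ⟨a, rfl⟩, haP, haW⟩ :=
    PrimeSpectrum.isTopologicalBasis_basic_opens.exists_subset_of_mem_open hPW himo
  refine ⟨a, (PrimeSpectrum.mem_basicOpen a P).mp haP, ?_⟩
  let L₀ := Localization.Away a ⊗[k] K
  let _ : Algebra K L₀ := Algebra.TensorProduct.rightAlgebra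
  have hua : IsUnit (algebraMap K L₀ (algebraMap k K a)) := by
    have h1 : algebraMap K L₀ (algebraMap k K a) =
        algebraMap (Localization.Away a) L₀ (algebraMap k (Localization.Away a) a) := by
      rw [← IsScalarTower.algebraMap_apply k K L₀,
        ← IsScalarTower.algebraMap_apply k (Localization.Away a) L₀]
    rw [h1]
    exact (IsLocalization.Away.algebraMap_isUnit a).map _
  have htop : Ideal.span ((fun x => algebraMap K L₀ (s x)) '' Good) = ⊤ := by
    by_contra hne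
    obtain ⟨𝔓, h𝔓, hle⟩ := Ideal.exists_le_maximal _ hne
    have h𝔓p := h𝔓.isPrime
    let y : PrimeSpectrum K := ⟨𝔓.comap (algebraMap K L₀), inferInstance⟩
    have hfy : f y ∈ (PrimeSpectrum.basicOpen a : Set (PrimeSpectrum k)) := by
      show f y ∈ PrimeSpectrum.basicOpen a
      rw [PrimeSpectrum.mem_basicOpen]
      intro hmem
      have h2 : algebraMap K L₀ (algebraMap k K a) ∈ 𝔓 := hmem
      exact h𝔓.ne_top (Ideal.eq_top_of_isUnit_mem _ h2 hua)
    have hyW : y ∈ W := by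
      rw [← hsatW]
      exact haW hfy
    obtain ⟨x, hxG, hxy⟩ := (hmemW y).mp hyW
    exact hxy (hle (Ideal.subset_span ⟨x, hxG, rfl⟩))
  obtain ⟨T₀, hT₀sub, hT₀top⟩ := (Ideal.span_eq_top_iff_finite _).mp htop
  obtain ⟨T, hTsub, hTimg⟩ := Finset.subset_set_image_iff.mp hT₀sub
  let g : ↥T → L₀ := fun i => algebraMap K L₀ (s i.1)
  have hg : Ideal.span (Set.range g) = ⊤ := by
    have h3 : Set.range g = ↑T₀ := by
      rw [← hTimg, Finset.coe_image]
      ext z
      constructor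
      · rintro ⟨i, rfl⟩
        exact ⟨i.1, i.2, rfl⟩
      · rintro ⟨x, hx, rfl⟩
        exact ⟨⟨x, hx⟩, rfl⟩
    rw [h3]
    exact hT₀top
  let S : ↥T → Type u := fun i => Localization.Away (g i)
  have hff₁ : Module.FaithfullyFlat L₀ (Π i, S i) := faithfullyFlat_pi_away L₀ g S hg
  have hff : Module.FaithfullyFlat (Localization.Away a) (Π i, S i) :=
    Module.FaithfullyFlat.trans (Localization.Away a) L₀ (Π i, S i)
  refine ⟨Π i, S i, inferInstance, inferInstance, hff, ?_⟩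
  apply isDiag_of_equiv (cancelBC k (Localization.Away a) (Π i, S i) B).symm
  apply IsDiagOf.isDiag (Q := M ⧸ N Q₀)
  let ē : ↥T → (Π i, S i) := fun i => Pi.single i 1
  have hē : CompleteOrthogonalIdempotents ē := CompleteOrthogonalIdempotents.single S
  apply isDiagOf_of_coi ē hē
  intro i
  obtain ⟨gi⟩ : i.1 ∈ Good := hTsub i.2
  have hu : IsUnit (algebraMap K (Localization.Away (ē i)) (s i.1)) := by
    rw [IsScalarTower.algebraMap_apply K (Π i, S i) (Localization.Away (ē i))]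
    apply isUnit_away_single S i
    show IsUnit (algebraMap K (S i) (s i.1))
    rw [IsScalarTower.algebraMap_apply K L₀ (S i)]
    exact IsLocalization.Away.algebraMap_isUnit (g i)
  have h1 : IsDiagOf (M ⧸ N i.1) (Localization.Away (ē i)) (Localization.Away (ē i) ⊗[k] B) :=
    hN i.1 _ hu
  exact isDiagOf_of_equiv (cancelBC k (Π i, S i) (Localization.Away (ē i)) B).symm
    (isDiagOf_congr gi h1)

end Global

end Groth.Agent.Lib.Helper77.KerMT
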