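import Mathlib
import Groth.Prelude.Def_SGA3b
import Groth.Agent.Lib.Helper77.KerMT4

/-!
# Kernels of homomorphisms from groups of multiplicative type, V (helper77)

**SGA3 IX 6.8 (affine form)**: the kernel of a homomorphism from a group of multiplicative type
and of finite type to an affine group of finite presentation is of multiplicative type
(`isMultType_of_isKer'`, `isMultType_quotient_of_ker`).
-/

set_option autoImplicit false
universe u
open TensorProduct

namespace Groth.Agent.Lib.Helper77.KerMT

open SGA3b Groth.Agent.Lib.Helper77.DiagSub Groth.Agent.Lib.Helper77.MultRigid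
  Groth.Agent.Lib.Helper77.MultTors Groth.Agent.Lib.Helper77.MultMono
  Groth.Agent.Lib.Helper77.MultBC Groth.Agent.Lib.Helper77.MultKer
  Groth.Agent.Lib.Helper77.HopfTriv1 Groth.Agent.Lib.Helper77.GLLift

section Step

variable {k : Type u} [CommRing k] {A C B : Type u} [CommRing A] [HopfAlgebra k A]
  [CommRing C] [HopfAlgebra k C] [CommRing B] [HopfAlgebra k B]

theorem exists_away_isMultTypeConst_of_isKer' (φ : C →ₐc[k] A) (π : A →ₐc[k] B) (h : IsKer φ π)
    (hA : IsMultTypeConst k A) (hAft : Algebra.FiniteType k A)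
    (hC : Algebra.FinitePresentation k C) (p : Ideal k) [p.IsPrime] :
    ∃ a : k, a ∉ p ∧ IsMultTypeConst (Localization.Away a) (Localization.Away a ⊗[k] B) := by
  classical
  obtain ⟨K, _, _, hff, ⟨M, _, ⟨εA⟩⟩⟩ := hA
  have hk : Nontrivial k := by
    refine ⟨⟨0, 1, fun h01 => ?_⟩⟩
    exact (Ideal.IsPrime.ne_top inferInstance) ((Ideal.eq_top_iff_one p).mpr (h01 ▸ p.zero_mem))
  have hK : Nontrivial K := (FaithfulSMul.algebraMap_injective k K).nontrivial
  have hMfg : Group.FG M := by
    have h1 : Algebra.FiniteType K (K ⊗[k] A) := inferInstance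
    have h2 : Algebra.FiniteType K (MonoidAlgebra K M) :=
      h1.equiv (εA : K ⊗[k] A ≃ₐ[K] MonoidAlgebra K M)
    exact MonoidAlgebra.finiteType_iff_group_fg.mp h2
  let ψ : K ⊗[k] C →ₐc[K] MonoidAlgebra K M :=
    ((εA : K ⊗[k] A →ₐc[K] MonoidAlgebra K M).comp (bcHom k K φ)).comp
      ((BialgEquiv.refl K (K ⊗[k] C)).symm : K ⊗[k] C →ₐc[K] K ⊗[k] C)
  let ρ : MonoidAlgebra K M →ₐc[K] K ⊗[k] B :=
    (bcHom k K π).comp (εA.symm : MonoidAlgebra K M →ₐc[K] K ⊗[k] A)
  have hKer : IsKer ψ ρ := (h.baseChange K).of_equiv εA (BialgEquiv.refl K (K ⊗[k] C))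
  have hC' : Algebra.FinitePresentation K (K ⊗[k] C) := inferInstance
  exact exists_away_isMultTypeConst_of_near
    (fun 𝔮 _ => exists_isDiagOf_near ψ ρ hKer hC' 𝔮) p

end Step

section Final

variable {R : Type u} [CommRing R] {A C B : Type u} [CommRing A] [HopfAlgebra R A]
  [CommRing C] [HopfAlgebra R C] [CommRing B] [HopfAlgebra R B]

/-- **SGA3 IX 6.8 (affine form)**: the kernel of a homomorphism from a group of multiplicative type
and of finite type to an affine group of finite presentation is of multiplicative type. -/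
theorem isMultType_of_isKer' (φ : C →ₐc[R] A) (π : A →ₐc[R] B) (h : IsKer φ π)
    (hA : IsMultType R A) (hAft : Algebra.FiniteType R A) (hC : Algebra.FinitePresentation R C) :
    IsMultType R B := by
  apply isMultType_of_forall_prime
  intro p _
  obtain ⟨sA, hsA, hA'⟩ := hA
  have hex : ∃ f ∈ sA, f ∉ p := by
    by_contra hcon
    push Not at hcon
    have h1 : Ideal.span sA ≤ p := Ideal.span_le.mpr hcon
    rw [hsA] at h1
    exact (Ideal.IsPrime.ne_top inferInstance) (top_le_iff.mp h1)
  obtain ⟨f, hfA, hfp⟩ := hex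
  have hunit : ∀ (x y : R), x ∣ y → IsUnit (algebraMap R (Localization.Away y) x) := by
    rintro x _ ⟨c, rfl⟩
    have h1 : IsUnit (algebraMap R (Localization.Away (x * c)) (x * c)) :=
      IsLocalization.Away.algebraMap_isUnit (x * c)
    rw [map_mul] at h1
    exact isUnit_of_mul_isUnit_left h1
  have hAk : IsMultTypeConst (Localization.Away f) (Localization.Away f ⊗[R] A) := hA' f hfA
  obtain ⟨P', hP'⟩ : ∃ P' : PrimeSpectrum (Localization.Away f),
      PrimeSpectrum.comap (algebraMap R (Localization.Away f)) P' = ⟨p, inferInstance⟩ := by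
    have h1 : (⟨p, inferInstance⟩ : PrimeSpectrum R) ∈
        Set.range (PrimeSpectrum.comap (algebraMap R (Localization.Away f))) := by
      rw [PrimeSpectrum.localization_away_comap_range (Localization.Away f) f]
      exact hfp
    exact h1
  have hP'p : P'.asIdeal.comap (algebraMap R (Localization.Away f)) = p :=
    congrArg PrimeSpectrum.asIdeal hP'
  obtain ⟨a', ha'P, ha'⟩ := exists_away_isMultTypeConst_of_isKer'
    (bcHom R (Localization.Away f) φ) (bcHom R (Localization.Away f) π)
    (h.baseChange (Localization.Away f)) hAk inferInstance inferInstance P'.asIdeal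
  obtain ⟨⟨r, ⟨_, n, rfl⟩⟩, hr⟩ := IsLocalization.surj (Submonoid.powers f) a'
  have hr' : a' * algebraMap R (Localization.Away f) (f ^ n) =
      algebraMap R (Localization.Away f) r := hr
  have hrp : r ∉ p := by
    intro hmem
    have h1 : algebraMap R (Localization.Away f) r ∈ P'.asIdeal := by
      rw [← hP'p] at hmem
      exact hmem
    rw [← hr'] at h1
    rcases P'.isPrime.mem_or_mem h1 with h2 | h2
    · exact ha'P h2
    · have h3 : IsUnit (algebraMap R (Localization.Away f) (f ^ n)) := by
        rw [map_pow]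
        exact (IsLocalization.Away.algebraMap_isUnit f).pow n
      exact P'.isPrime.ne_top (Ideal.eq_top_of_isUnit_mem _ h2 h3)
  refine ⟨f * r, fun hmem => (Ideal.IsPrime.mem_or_mem inferInstance hmem).elim hfp hrp, ?_⟩
  let i : Localization.Away f →ₐ[R] Localization.Away (f * r) :=
    awayHom f (f * r) (dvd_mul_right _ _)
  let _ : Algebra (Localization.Away f) (Localization.Away (f * r)) := i.toRingHom.toAlgebra
  have : IsScalarTower R (Localization.Away f) (Localization.Away (f * r)) :=
    IsScalarTower.of_algebraMap_eq (fun x => (i.commutes x).symm)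
  have hu : IsUnit (algebraMap (Localization.Away f) (Localization.Away (f * r)) a') := by
    have h1 : algebraMap (Localization.Away f) (Localization.Away (f * r))
        (a' * algebraMap R (Localization.Away f) (f ^ n)) =
        algebraMap R (Localization.Away (f * r)) r := by
      rw [hr', ← IsScalarTower.algebraMap_apply]
    rw [map_mul] at h1
    have h2 : IsUnit (algebraMap R (Localization.Away (f * r)) r) :=
      hunit r (f * r) (dvd_mul_left r f)
    rw [← h1] at h2
    exact isUnit_of_mul_isUnit_left h2
  have h1 := isMultTypeConst_of_isUnit a' ha' (Localization.Away (f * r)) hu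
  exact isMultTypeConst_of_equiv (cancelBC R (Localization.Away f)
    (Localization.Away (f * r)) B) h1

/-- Hopf-ideal form. -/
theorem isMultType_quotient_of_ker (hft : Algebra.FiniteType R A) (h : IsMultType R A)
    (hC : Algebra.FinitePresentation R C) (φ : C →ₐc[R] A)
    (J : Ideal A) [J.IsHopfIdeal R]
    (hJ : J = Ideal.map φ (RingHom.ker (Bialgebra.counitAlgHom R C))) :
    IsMultType R (A ⧸ J) := by
  let π : A →ₐc[R] A ⧸ J := Bialgebra.Quotient.mkBialgHom J
  have hK : IsKer φ π := by
    refine ⟨Ideal.Quotient.mk_surjective, ?_⟩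
    rw [ker_mkBialgHom R A J, hJ]
    rfl
  exact isMultType_of_isKer' φ π hK h hft hC

end Final

end Groth.Agent.Lib.Helper77.KerMT
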