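import Mathlib

namespace Groth.Agent.Lib.Helper77.McCoyMv

open MvPolynomial
open scoped MonomialOrder

variable {σ : Type*} {R : Type*} [CommRing R]

lemma monomial_mul_eq_zero_of_smul (d : σ →₀ ℕ) (c : R) (w : MvPolynomial σ R) (h : c • w = 0) :
    monomial d c * w = 0 := by
  have : monomial d c = monomial d (1 : R) * C c := by
    rw [mul_comm, C_mul_monomial, mul_one]
  rw [this, mul_assoc, ← smul_eq_C_mul, h, mul_zero]

/-- Key step of McCoy's theorem. -/
lemma exists_smul_ne_zero (m : MonomialOrder σ) :
    ∀ (N : ℕ) (w : MvPolynomial σ R), w.support.card ≤ N → w ≠ 0 →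
      ∀ f : MvPolynomial σ R, f * w = 0 →
        ∃ r : R, r • w ≠ 0 ∧ ∀ d, coeff d f • (r • w) = 0 := by
  classical
  intro N
  induction N with
  | zero =>
    intro w hN hw
    exfalso
    apply hw
    have : w.support = ∅ := Finset.card_eq_zero.mp (Nat.le_zero.mp hN)
    exact MvPolynomial.support_eq_empty.mp this
  | succ N ih =>
    intro w hN hw f hf
    by_cases hall : ∀ d, coeff d f • w = 0
    · exact ⟨1, by simpa using hw, fun d => by simpa using hall d⟩
    obtain ⟨d₁, hd₁⟩ := not_forall.mp hall
    set S : Finset (σ →₀ ℕ) := f.support.filter (fun d => coeff d f • w ≠ 0) with hS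
    have hd₁S : d₁ ∈ S := by
      rw [hS, Finset.mem_filter, MvPolynomial.mem_support_iff]
      refine ⟨fun h0 => hd₁ (by rw [h0, zero_smul]), hd₁⟩
    obtain ⟨d₀, hd₀S, hmax⟩ := Finset.exists_max_image S m.toSyn ⟨d₁, hd₁S⟩
    set a : R := coeff d₀ f with ha
    have haw : a • w ≠ 0 := (Finset.mem_filter.mp hd₀S).2
    set f' : MvPolynomial σ R := ∑ d ∈ S, monomial d (coeff d f) with hf'
    -- f' * w = 0
    have hf'w : f' * w = 0 := by
      have hsplit : f = f' + ∑ d ∈ f.support.filter (fun d => ¬ (coeff d f • w ≠ 0)),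
          monomial d (coeff d f) := by
        rw [hf', hS, Finset.sum_filter_add_sum_filter_not, MvPolynomial.support_sum_monomial_coeff]
      have h2 : (∑ d ∈ f.support.filter (fun d => ¬ (coeff d f • w ≠ 0)),
          monomial d (coeff d f)) * w = 0 := by
        rw [Finset.sum_mul]
        apply Finset.sum_eq_zero
        intro d hd
        have := not_not.mp (Finset.mem_filter.mp hd).2
        exact monomial_mul_eq_zero_of_smul d _ w this
      have : f * w = f' * w + 0 := by
        conv_lhs => rw [hsplit, add_mul, h2]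
      rw [add_zero] at this
      rw [← this, hf]
    -- degree bound
    have hdeg : m.degree f' ≼[m] d₀ := by
      rw [m.degree_le_iff]
      intro c hc
      have hcS : c ∈ S := by
        have := MvPolynomial.support_sum (s := S) (f := fun d => monomial d (coeff d f)) hc
        rw [Finset.mem_biUnion] at this
        obtain ⟨d, hdS, hcd⟩ := this
        have := MvPolynomial.support_monomial_subset hcd
        rw [Finset.mem_singleton] at this
        rw [this]; exact hdS
      exact hmax c hcS
    have hcoef : coeff d₀ f' = a := by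
      rw [hf', MvPolynomial.coeff_sum]
      simp only [MvPolynomial.coeff_monomial]
      rw [Finset.sum_ite_eq' S d₀]
      simp [hd₀S, ha]
    have hlc : a * coeff (m.degree w) w = 0 := by
      have := m.coeff_mul_of_add_of_degree_le hdeg (le_refl (m.toSyn (m.degree w)))
      rw [hf'w, hcoef] at this
      simpa using this.symm
    -- w₁ = a • w has smaller support
    have hsub : (a • w).support ⊂ w.support := by
      rw [Finset.ssubset_iff_of_subset]
      · refine ⟨m.degree w, m.degree_mem_support hw, ?_⟩
        rw [MvPolynomial.mem_support_iff, not_not, MvPolynomial.coeff_smul, smul_eq_mul, hlc]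
      · intro c hc
        rw [MvPolynomial.mem_support_iff] at hc ⊢
        intro h0
        apply hc
        rw [MvPolynomial.coeff_smul, h0, smul_zero]
    have hcard : (a • w).support.card ≤ N := by
      have := Finset.card_lt_card hsub
      omega
    have hfw₁ : f * (a • w) = 0 := by rw [mul_smul_comm, hf, smul_zero]
    obtain ⟨r₁, hr₁, hr₁'⟩ := ih (a • w) hcard haw f hfw₁
    refine ⟨r₁ * a, ?_, ?_⟩
    · rwa [mul_smul]
    · intro d
      rw [mul_smul]
      exact hr₁' d

/-- Family version. -/
lemma exists_smul_ne_zero_finset (m : MonomialOrder σ) (s : Finset (MvPolynomial σ R)) :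
    ∀ w : MvPolynomial σ R, w ≠ 0 → (∀ f ∈ s, f * w = 0) →
      ∃ r : R, r • w ≠ 0 ∧ ∀ f ∈ s, ∀ d, coeff d f • (r • w) = 0 := by
  classical
  induction s using Finset.induction_on with
  | empty =>
    intro w hw _
    exact ⟨1, by simpa using hw, by simp⟩
  | insert f s hfs ih =>
    intro w hw hann
    obtain ⟨r₀, hr₀, hr₀'⟩ := ih w hw (fun g hg => hann g (Finset.mem_insert_of_mem hg))
    have hfw₀ : f * (r₀ • w) = 0 := by
      rw [mul_smul_comm, hann f (Finset.mem_insert_self f s), smul_zero]
    obtain ⟨r₁, hr₁, hr₁'⟩ := exists_smul_ne_zero m _ (r₀ • w) le_rfl hr₀ f hfw₀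
    refine ⟨r₁ * r₀, by rwa [mul_smul], ?_⟩
    intro g hg d
    rw [mul_smul]
    rcases Finset.mem_insert.mp hg with rfl | hg'
    · exact hr₁' d
    · rw [smul_comm, hr₀' g hg' d, smul_zero]

/-- **McCoy's theorem**, family version with the primitivity hypothesis phrased through evaluation:
if for every maximal ideal some member of the family takes a value outside it, then the family has
no nonzero common annihilator in the polynomial ring. -/
theorem eq_zero_of_forall_mul_eq_zero (m : MonomialOrder σ) (s : Finset (MvPolynomial σ R))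
    (hs : ∀ I : Ideal R, I.IsMaximal → ∃ f ∈ s, ∃ x : σ → R, eval x f ∉ I)
    (w : MvPolynomial σ R) (hw : ∀ f ∈ s, f * w = 0) : w = 0 := by
  classical
  by_contra hne
  obtain ⟨r, hr, hr'⟩ := exists_smul_ne_zero_finset m s w hne hw
  set w' := r • w with hw'
  let J : Ideal R := LinearMap.ker (LinearMap.toSpanSingleton R (MvPolynomial σ R) w')
  have hJmem : ∀ c : R, c ∈ J ↔ c • w' = 0 := by
    intro c
    simp only [J, LinearMap.mem_ker, LinearMap.toSpanSingleton_apply]
  by_cases hJ : J = ⊤
  · have : (1 : R) ∈ J := by rw [hJ]; trivial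
    rw [hJmem, one_smul] at this
    exact hr this
  · obtain ⟨I, hI, hJI⟩ := Ideal.exists_le_maximal J hJ
    obtain ⟨f, hf, x, hx⟩ := hs I hI
    apply hx
    apply hJI
    rw [MvPolynomial.eval_eq]
    apply Ideal.sum_mem
    intro d _
    apply Ideal.mul_mem_right
    rw [hJmem]
    exact hr' f hf d

/-- Single polynomial version: nonzerodivisor. -/
theorem mem_nonZeroDivisors_of_eval (m : MonomialOrder σ) (f : MvPolynomial σ R)
    (hf : ∀ I : Ideal R, I.IsMaximal → ∃ x : σ → R, eval x f ∉ I) :
    f ∈ nonZeroDivisors (MvPolynomial σ R) := by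
  classical
  rw [mem_nonZeroDivisors_iff_right]
  intro w hw
  apply eq_zero_of_forall_mul_eq_zero m {f} _ w
  · intro g hg
    rw [Finset.mem_singleton] at hg
    rw [hg, mul_comm]; exact hw
  · intro I hI
    obtain ⟨x, hx⟩ := hf I hI
    exact ⟨f, Finset.mem_singleton_self f, x, hx⟩

end Groth.Agent.Lib.Helper77.McCoyMv
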