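import Mathlib
import Groth.Prelude.Def_SGA3b
import Groth.Agent.Lib.Helper86.HopfInv
import Groth.Agent.Lib.Helper77.MultRigid

/-!
# Homomorphisms from a group of multiplicative type to a commutative group: equality on the closed
fibre implies equality (helper77; used for S2985).

The antipode of a commutative cocommutative Hopf algebra is a bialgebra map; so `φ * ψ⁻¹` is a
bialgebra map, trivial on the closed fibre, hence trivial by `MultRigid.main`.
-/

set_option autoImplicit false
universe u
open TensorProduct WithConv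

namespace Groth.Agent.Lib.Helper77.MultRigid2

open Groth.Agent.Lib.Helper86.HopfInv SGA3b

section Antipode

variable (K : Type u) [CommRing K] (C : Type u) [CommRing C] [HopfAlgebra K C]
  [Coalgebra.IsCocomm K C]

/-- for a commutative cocommutative Hopf algebra, the antipode is comultiplicative. -/
theorem comul_comp_antipode :
    (Bialgebra.comulAlgHom K C).comp (HopfAlgebra.antipodeAlgHom K C) =
      (Algebra.TensorProduct.map (HopfAlgebra.antipodeAlgHom K C)
        (HopfAlgebra.antipodeAlgHom K C)).comp (Bialgebra.comulAlgHom K C) := by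
  set ι₁ : C →ₐ[K] C ⊗[K] C := Algebra.TensorProduct.includeLeft with hι₁
  set ι₂ : C →ₐ[K] C ⊗[K] C := Algebra.TensorProduct.includeRight with hι₂
  set S := HopfAlgebra.antipodeAlgHom K C with hS
  have h1 : toConv (Bialgebra.comulAlgHom K C) = toConv ι₁ * toConv ι₂ := by
    have := map_comul_eq_conv K C C (AlgHom.id K C)
    rw [Algebra.TensorProduct.map_id, AlgHom.id_comp] at this
    rw [this, toConv_ofConv]
    rfl
  have hY : toConv ((Algebra.TensorProduct.map S S).comp (Bialgebra.comulAlgHom K C)) =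
      toConv (ι₁.comp S) * toConv (ι₂.comp S) := by
    have h2 : Bialgebra.comulAlgHom K C = (toConv ι₁ * toConv ι₂).ofConv := by
      rw [← h1, ofConv_toConv]
    conv_lhs => rw [h2]
    rw [AlgHom.comp_convMul_distrib, toConv_ofConv, ofConv_toConv, ofConv_toConv,
      Algebra.TensorProduct.map_comp_includeLeft, Algebra.TensorProduct.map_comp_includeRight]
  have hX : toConv ((Bialgebra.comulAlgHom K C).comp S) * toConv (Bialgebra.comulAlgHom K C) = 1 :=
    conv_antipode_mul (Bialgebra.comulAlgHom K C)
  have hδY : toConv (Bialgebra.comulAlgHom K C) *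
      toConv ((Algebra.TensorProduct.map S S).comp (Bialgebra.comulAlgHom K C)) = 1 := by
    rw [hY, h1, mul_mul_mul_comm, conv_mul_antipode ι₁, conv_mul_antipode ι₂, one_mul]
  exact WithConv.toConv_injective (left_inv_eq_right_inv hX hδY)

/-- the antipode of a commutative cocommutative Hopf algebra, as a bialgebra map. -/
noncomputable def antipodeBialgHom : C →ₐc[K] C :=
  BialgHom.ofAlgHom (HopfAlgebra.antipodeAlgHom K C)
    AlgHom.counitAlgHom_comp_antipodeAlgHom (comul_comp_antipode K C).symm

lemma antipodeBialgHom_toAlgHom :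
    ((antipodeBialgHom K C : C →ₐc[K] C) : C →ₐ[K] C) = HopfAlgebra.antipodeAlgHom K C := rfl

end Antipode

section Main

variable {R : Type u} [CommRing R] [IsLocalRing R] {A : Type u} [CommRing A] [HopfAlgebra R A]
  {C : Type u} [CommRing C] [HopfAlgebra R C] [Coalgebra.IsCocomm R C]

theorem bialgHom_eq_of_eq_mod_maximalIdeal (hft : Algebra.FiniteType R A) (h : IsMultType R A)
    (hC : IsNoetherianRing R ∨ Algebra.FinitePresentation R C) (φ ψ : C →ₐc[R] A)
    (hs : ∀ c : C, φ c - ψ c ∈ Ideal.map (algebraMap R A) (IsLocalRing.maximalIdeal R)) :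
    φ = ψ := by
  set S := HopfAlgebra.antipodeAlgHom R C with hS
  let χ : C →ₐc[R] A := (toConv φ * toConv (ψ.comp (antipodeBialgHom R C))).ofConv
  have hχ : toConv (χ : C →ₐ[R] A) =
      toConv (φ : C →ₐ[R] A) * toConv ((ψ : C →ₐ[R] A).comp S) := rfl
  have htriv : ∀ c : C, χ c - algebraMap R A (Coalgebra.counit c) ∈
      Ideal.map (algebraMap R A) (IsLocalRing.maximalIdeal R) := by
    set J := Ideal.map (algebraMap R A) (IsLocalRing.maximalIdeal R) with hJ
    let q : A →ₐ[R] A ⧸ J := Ideal.Quotient.mkₐ R J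
    have hq : q.comp (φ : C →ₐ[R] A) = q.comp (ψ : C →ₐ[R] A) :=
      AlgHom.ext (fun c => Ideal.Quotient.eq.mpr (hs c))
    have h1 : toConv (q.comp (χ : C →ₐ[R] A)) = 1 := by
      have h2 : (χ : C →ₐ[R] A) =
          (toConv (φ : C →ₐ[R] A) * toConv ((ψ : C →ₐ[R] A).comp S)).ofConv := by
        rw [← hχ, ofConv_toConv]
      rw [h2, AlgHom.comp_convMul_distrib, toConv_ofConv, ofConv_toConv, ofConv_toConv, hq,
        ← AlgHom.comp_assoc]
      exact conv_mul_antipode (q.comp (ψ : C →ₐ[R] A))
    intro c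
    have h3 := congrArg (fun f => f.ofConv c) h1
    have h4 : q (χ c) = algebraMap R (A ⧸ J) (Coalgebra.counit c) := h3
    have h5 : q (χ c - algebraMap R A (Coalgebra.counit c)) = 0 := by
      rw [map_sub, h4, AlgHom.commutes, sub_self]
    exact Ideal.Quotient.eq_zero_iff_mem.mp h5
  have hmain := MultRigid.main hft h hC χ htriv
  have h2 : toConv (χ : C →ₐ[R] A) = 1 := by
    apply WithConv.ext
    apply AlgHom.ext
    intro c
    exact hmain c
  have h3 : toConv (φ : C →ₐ[R] A) = toConv (ψ : C →ₐ[R] A) := by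
    calc toConv (φ : C →ₐ[R] A)
        = toConv (φ : C →ₐ[R] A) *
            (toConv ((ψ : C →ₐ[R] A).comp S) * toConv (ψ : C →ₐ[R] A)) := by
          rw [conv_antipode_mul, mul_one]
      _ = (toConv (φ : C →ₐ[R] A) * toConv ((ψ : C →ₐ[R] A).comp S)) *
            toConv (ψ : C →ₐ[R] A) := (mul_assoc _ _ _).symm
      _ = 1 * toConv (ψ : C →ₐ[R] A) := by rw [← hχ, h2]
      _ = toConv (ψ : C →ₐ[R] A) := one_mul _
  apply BialgHom.ext
  intro c
  exact congrArg (fun f => f.ofConv c) h3

end Main

end Groth.Agent.Lib.Helper77.MultRigid2
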