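import Mathlib

/-!
# Numerical (Hilbert–Mumford type) criterion for pairs (H, q) (helper77)
-/

set_option autoImplicit false
set_option linter.unusedSectionVars false

namespace Groth.Agent.Lib.Helper77.NumCrit

open Module

section Counting

/-- counting lemma 1 -/
theorem sum_le_neg (m : ℤ) (T : ℕ) :
    ∑ t ∈ Finset.range T, (if m ≤ -(t : ℤ) then (1 : ℤ) else 0) = max 0 (min (T : ℤ) (1 - m)) := by
  induction T with
  | zero => simp
  | succ T ih =>
    rw [Finset.sum_range_succ, ih]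
    split_ifs with h <;> push_cast <;> omega

theorem sum_lt (m : ℤ) (T : ℕ) :
    ∑ t ∈ Finset.range T, (if (t : ℤ) < m then (1 : ℤ) else 0) = max 0 (min (T : ℤ) m) := by
  induction T with
  | zero => simp
  | succ T ih =>
    rw [Finset.sum_range_succ, ih]
    split_ifs with h <;> push_cast <;> omega

/-- semistable counting identity -/
theorem sum_chi (m : ℤ) (T : ℕ) (hT : |m| < T) :
    ∑ t ∈ Finset.range T, ((if m ≤ -(t : ℤ) then (1 : ℤ) else 0) - (if (t : ℤ) < m then (1 : ℤ) else 0))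
      = (if m ≤ 0 then 1 else 0) - m := by
  rw [Finset.sum_sub_distrib, sum_le_neg, sum_lt]
  have := abs_lt.mp hT
  split_ifs with h <;> omega

/-- stable counting identity -/
theorem sum_chi' (m : ℤ) (T : ℕ) (hT : |m| < T) :
    ∑ t ∈ Finset.range T, ((if m ≤ -((t : ℤ) + 1) then (1 : ℤ) else 0) - (if (t : ℤ) < m then (1 : ℤ) else 0))
      = - m := by
  rw [Finset.sum_sub_distrib, sum_lt]
  have h1 : ∑ t ∈ Finset.range T, (if m ≤ -((t : ℤ) + 1) then (1 : ℤ) else 0) =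
      max 0 (min (T : ℤ) (- m)) := by
    have := sum_le_neg (m + 1) T
    have h2 : ∀ t : ℕ, (m + 1 ≤ -(t : ℤ)) ↔ (m ≤ -((t : ℤ) + 1)) := fun t => by omega
    simp only [h2] at this
    rw [this]
    congr 2
    ring
  rw [h1]
  have := abs_lt.mp hT
  omega

end Counting

section Finrank

variable {K : Type*} [Field K] {H : Type*} [AddCommGroup H] [Module K H] [FiniteDimensional K H]
variable {ι : Type*} [DecidableEq ι]

theorem finrank_biSup_of_iSupIndep (Hs : ι → Submodule K H) (hind : iSupIndep Hs) (S : Finset ι) :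
    finrank K ↥(⨆ i ∈ S, Hs i) = ∑ i ∈ S, finrank K (Hs i) := by
  induction S using Finset.induction_on with
  | empty => simp
  | insert i S hi ih =>
    rw [Finset.iSup_insert, Finset.sum_insert hi, ← ih]
    have hdisj : Disjoint (Hs i) (⨆ j ∈ S, Hs j) := by
      refine (hind i).mono_right ?_
      refine iSup₂_le fun j hj => ?_
      have hne : j ≠ i := fun h => hi (h ▸ hj)
      exact le_iSup₂_of_le j hne le_rfl
    have := Submodule.finrank_sup_add_finrank_inf_eq (Hs i) (⨆ j ∈ S, Hs j)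
    rw [hdisj.eq_bot, finrank_bot, add_zero] at this
    exact this

end Finrank

section Forward

variable {K : Type*} [Field K] {W : Type*} [AddCommGroup W] [Module K W]
  {H : Type*} [AddCommGroup H] [Module K H] [FiniteDimensional K H]
  (q : H →ₗ[K] H →ₗ[K] W)

/-- the orthogonal of a subspace -/
def perp (V : Submodule K H) : Submodule K H :=
  ⨅ (y : H) (_ : y ∈ V), LinearMap.ker (q.flip y)

theorem mem_perp {V : Submodule K H} {x : H} : x ∈ perp q V ↔ ∀ y ∈ V, q x y = 0 := by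
  simp [perp, Submodule.mem_iInf]

variable {ι : Type*} [Fintype ι] [DecidableEq ι] (Hs : ι → Submodule K H) (m : ι → ℤ)

/-- sum of weight spaces with weight at most `a` -/
def Vle (a : ℤ) : Submodule K H := ⨆ i ∈ Finset.univ.filter (fun i => m i ≤ a), Hs i

theorem Vle_mono {a b : ℤ} (h : a ≤ b) : Vle Hs m a ≤ Vle Hs m b := by
  refine iSup₂_le fun i hi => ?_
  have : i ∈ Finset.univ.filter (fun i => m i ≤ b) := by
    rw [Finset.mem_filter] at hi ⊢
    exact ⟨hi.1, hi.2.trans h⟩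
  exact le_iSup₂_of_le i this le_rfl

theorem le_Vle {a : ℤ} {i : ι} (hi : m i ≤ a) : Hs i ≤ Vle Hs m a :=
  le_iSup₂_of_le i (by simp [hi]) le_rfl

theorem Vle_le_perp (r : ℤ)
    (hZ : ∀ i j, m i + m j ≤ r → ∀ x ∈ Hs i, ∀ y ∈ Hs j, q x y = 0) (a b : ℤ) (hab : a + b ≤ r) :
    Vle Hs m a ≤ perp q (Vle Hs m b) := by
  refine iSup₂_le fun i hi => ?_
  intro x hx
  rw [mem_perp]
  have hle : Vle Hs m b ≤ LinearMap.ker (q x) := by
    refine iSup₂_le fun j hj => ?_
    intro y hy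
    rw [Finset.mem_filter] at hi hj
    exact hZ i j (by linarith [hi.2, hj.2]) x hx y hy
  exact fun y hy => hle hy

theorem finrank_Vle (hint : DirectSum.IsInternal Hs) (a : ℤ) :
    (finrank K (Vle Hs m a) : ℤ) = ∑ i, (if m i ≤ a then (finrank K (Hs i) : ℤ) else 0) := by
  rw [Vle, finrank_biSup_of_iSupIndep Hs hint.submodule_iSupIndep, Finset.sum_filter]
  push_cast
  rfl

theorem finrank_top_eq (hint : DirectSum.IsInternal Hs) :
    (finrank K H : ℤ) = ∑ i, (finrank K (Hs i) : ℤ) := by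
  have h1 : (⨆ i ∈ (Finset.univ : Finset ι), Hs i) = ⊤ := by
    simp [hint.submodule_iSup_eq_top]
  have h2 := finrank_biSup_of_iSupIndep Hs hint.submodule_iSupIndep Finset.univ
  rw [h1, finrank_top] at h2
  rw [h2]
  push_cast
  rfl

theorem exists_neg_weight (hsum : ∑ i, m i * (finrank K (Hs i) : ℤ) = 0)
    (hne : ∃ i, m i ≠ 0 ∧ Hs i ≠ ⊥) : ∃ i, m i < 0 ∧ 0 < (finrank K (Hs i) : ℤ) := by
  by_contra hcon
  push Not at hcon
  obtain ⟨i0, hm0, hH0⟩ := hne
  have hd0 : 0 < (finrank K (Hs i0) : ℤ) := by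
    have : 0 < finrank K (Hs i0) := by
      rw [Module.finrank_pos_iff]
      exact (Submodule.nontrivial_iff_ne_bot).mpr hH0
    exact_mod_cast this
  have hnonneg : ∀ i ∈ (Finset.univ : Finset ι), 0 ≤ m i * (finrank K (Hs i) : ℤ) := by
    intro i _
    by_cases hmi : m i < 0
    · have := hcon i hmi
      have h0 : (finrank K (Hs i) : ℤ) = 0 := le_antisymm this (by positivity)
      rw [h0, mul_zero]
    · push Not at hmi
      exact mul_nonneg hmi (by positivity)
  have hall := (Finset.sum_eq_zero_iff_of_nonneg hnonneg).mp hsum i0 (Finset.mem_univ _)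
  rcases mul_eq_zero.mp hall with h | h
  · exact hm0 h
  · omega

theorem abs_lt_T (i : ι) : |m i| < ((∑ i, (m i).natAbs) + 1 : ℕ) := by
  have h1 : (m i).natAbs ≤ ∑ i, (m i).natAbs :=
    Finset.single_le_sum (f := fun i => (m i).natAbs) (fun _ _ => Nat.zero_le _) (Finset.mem_univ i)
  have h2 : |m i| = ((m i).natAbs : ℤ) := Int.abs_eq_natAbs (m i)
  rw [h2]
  exact_mod_cast Nat.lt_succ_of_le h1

theorem forward_semistable
    (hss : ∀ V : Submodule K H, V ≠ ⊥ → (∀ x ∈ V, ∀ y ∈ V, q x y = 0) →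
        finrank K V + finrank K (perp q V) ≤ finrank K H)
    (hint : DirectSum.IsInternal Hs) (hsum : ∑ i, m i * (finrank K (Hs i) : ℤ) = 0)
    (hne : ∃ i, m i ≠ 0 ∧ Hs i ≠ ⊥) :
    ∃ i j, (∃ x ∈ Hs i, ∃ y ∈ Hs j, q x y ≠ 0) ∧ m i + m j ≤ 0 := by
  by_contra hcon
  have hZ : ∀ i j, m i + m j ≤ 0 → ∀ x ∈ Hs i, ∀ y ∈ Hs j, q x y = 0 := by
    intro i j hij x hx y hy
    by_contra hne'
    exact hcon ⟨i, j, ⟨x, hx, y, hy, hne'⟩, hij⟩
  obtain ⟨i1, hm1, hd1⟩ := exists_neg_weight Hs m hsum hne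
  set d : ι → ℤ := fun i => (finrank K (Hs i) : ℤ) with hd
  have hdnn : ∀ i, 0 ≤ d i := fun i => by positivity
  -- step 2
  have hstep : ∀ t : ℕ, (finrank K (Vle Hs m (-(t : ℤ))) : ℤ) + (finrank K (Vle Hs m (t : ℤ)) : ℤ) ≤
      (finrank K H : ℤ) := by
    intro t
    by_cases hbot : Vle Hs m (-(t : ℤ)) = ⊥
    · rw [hbot, finrank_bot]
      have := Submodule.finrank_le (Vle Hs m (t : ℤ))
      push_cast
      omega
    · have hle : Vle Hs m (t : ℤ) ≤ perp q (Vle Hs m (-(t : ℤ))) :=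
        Vle_le_perp q Hs m 0 hZ _ _ (by omega)
      have hiso : ∀ x ∈ Vle Hs m (-(t : ℤ)), ∀ y ∈ Vle Hs m (-(t : ℤ)), q x y = 0 := by
        intro x hx y hy
        have hx' : x ∈ perp q (Vle Hs m (-(t : ℤ))) :=
          hle (Vle_mono Hs m (by omega) hx)
        exact (mem_perp q).mp hx' y hy
      have h1 := hss _ hbot hiso
      have h2 := Submodule.finrank_mono hle
      have : finrank K (Vle Hs m (-(t : ℤ))) + finrank K (Vle Hs m (t : ℤ)) ≤ finrank K H := by
        omega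
      exact_mod_cast this
  -- step 3
  have hstep3 : ∀ t : ℕ, ∑ i, d i * ((if m i ≤ -(t : ℤ) then (1 : ℤ) else 0) -
      (if (t : ℤ) < m i then (1 : ℤ) else 0)) ≤ 0 := by
    intro t
    have h := hstep t
    rw [finrank_Vle Hs m hint, finrank_Vle Hs m hint, finrank_top_eq Hs hint] at h
    have : ∑ i, d i * ((if m i ≤ -(t : ℤ) then (1 : ℤ) else 0) -
        (if (t : ℤ) < m i then (1 : ℤ) else 0)) =
        (∑ i, (if m i ≤ -(t : ℤ) then d i else 0)) + (∑ i, (if m i ≤ (t : ℤ) then d i else 0)) -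
          ∑ i, d i := by
      rw [← Finset.sum_add_distrib, ← Finset.sum_sub_distrib]
      refine Finset.sum_congr rfl fun i _ => ?_
      split_ifs <;> omega
    rw [this]
    linarith
  -- step 4
  set T : ℕ := (∑ i, (m i).natAbs) + 1 with hT
  have hsumT : ∑ t ∈ Finset.range T, ∑ i, d i * ((if m i ≤ -(t : ℤ) then (1 : ℤ) else 0) -
      (if (t : ℤ) < m i then (1 : ℤ) else 0)) ≤ 0 :=
    Finset.sum_nonpos fun t _ => hstep3 t
  rw [Finset.sum_comm] at hsumT
  have hcomp : ∀ i, ∑ t ∈ Finset.range T, d i * ((if m i ≤ -(t : ℤ) then (1 : ℤ) else 0) -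
      (if (t : ℤ) < m i then (1 : ℤ) else 0)) = (if m i ≤ 0 then d i else 0) - m i * d i := by
    intro i
    rw [← Finset.mul_sum, sum_chi (m i) T (abs_lt_T m i)]
    split_ifs <;> ring
  rw [Finset.sum_congr rfl (fun i _ => hcomp i), Finset.sum_sub_distrib, hsum, sub_zero] at hsumT
  have hpos : 0 < ∑ i, (if m i ≤ 0 then d i else 0) := by
    have h1 : (if m i1 ≤ 0 then d i1 else 0) ≤ ∑ i, (if m i ≤ 0 then d i else 0) :=
      Finset.single_le_sum (f := fun i => if m i ≤ 0 then d i else 0)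
        (fun i _ => by split_ifs <;> simp [hdnn]) (Finset.mem_univ i1)
    rw [if_pos hm1.le] at h1
    exact lt_of_lt_of_le hd1 h1
  linarith

theorem forward_stable
    (hst : ∀ V : Submodule K H, V ≠ ⊥ → (∀ x ∈ V, ∀ y ∈ V, q x y = 0) →
        finrank K V + finrank K (perp q V) < finrank K H)
    (hint : DirectSum.IsInternal Hs) (hsum : ∑ i, m i * (finrank K (Hs i) : ℤ) = 0)
    (hne : ∃ i, m i ≠ 0 ∧ Hs i ≠ ⊥) :
    ∃ i j, (∃ x ∈ Hs i, ∃ y ∈ Hs j, q x y ≠ 0) ∧ m i + m j < 0 := by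
  by_contra hcon
  have hZ : ∀ i j, m i + m j ≤ -1 → ∀ x ∈ Hs i, ∀ y ∈ Hs j, q x y = 0 := by
    intro i j hij x hx y hy
    by_contra hne'
    exact hcon ⟨i, j, ⟨x, hx, y, hy, hne'⟩, by omega⟩
  obtain ⟨i1, hm1, hd1⟩ := exists_neg_weight Hs m hsum hne
  set d : ι → ℤ := fun i => (finrank K (Hs i) : ℤ) with hd
  have hdnn : ∀ i, 0 ≤ d i := fun i => by positivity
  -- step 2
  have hstep : ∀ t : ℕ, (finrank K (Vle Hs m (-((t : ℤ) + 1))) : ℤ) + (finrank K (Vle Hs m (t : ℤ)) : ℤ) ≤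
      (finrank K H : ℤ) ∧ (Vle Hs m (-((t : ℤ) + 1)) ≠ ⊥ →
      (finrank K (Vle Hs m (-((t : ℤ) + 1))) : ℤ) + (finrank K (Vle Hs m (t : ℤ)) : ℤ) + 1 ≤
      (finrank K H : ℤ)) := by
    intro t
    have hstrict : Vle Hs m (-((t : ℤ) + 1)) ≠ ⊥ →
      (finrank K (Vle Hs m (-((t : ℤ) + 1))) : ℤ) + (finrank K (Vle Hs m (t : ℤ)) : ℤ) + 1 ≤
      (finrank K H : ℤ) := by
      intro hbot
      have hle : Vle Hs m (t : ℤ) ≤ perp q (Vle Hs m (-((t : ℤ) + 1))) :=
        Vle_le_perp q Hs m (-1) hZ _ _ (by omega)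
      have hiso : ∀ x ∈ Vle Hs m (-((t : ℤ) + 1)), ∀ y ∈ Vle Hs m (-((t : ℤ) + 1)), q x y = 0 := by
        intro x hx y hy
        have hx' : x ∈ perp q (Vle Hs m (-((t : ℤ) + 1))) :=
          hle (Vle_mono Hs m (by omega) hx)
        exact (mem_perp q).mp hx' y hy
      have h1 := hst _ hbot hiso
      have h2 := Submodule.finrank_mono hle
      have : finrank K (Vle Hs m (-((t : ℤ) + 1))) + finrank K (Vle Hs m (t : ℤ)) + 1 ≤ finrank K H := by
        omega
      exact_mod_cast this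
    refine ⟨?_, hstrict⟩
    by_cases hbot : Vle Hs m (-((t : ℤ) + 1)) = ⊥
    · rw [hbot, finrank_bot]
      have := Submodule.finrank_le (Vle Hs m (t : ℤ))
      push_cast
      omega
    · have := hstrict hbot
      omega
  -- step 3
  have hrew : ∀ t : ℕ, ∑ i, d i * ((if m i ≤ -((t : ℤ) + 1) then (1 : ℤ) else 0) -
      (if (t : ℤ) < m i then (1 : ℤ) else 0)) =
      (finrank K (Vle Hs m (-((t : ℤ) + 1))) : ℤ) + (finrank K (Vle Hs m (t : ℤ)) : ℤ) -
        (finrank K H : ℤ) := by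
    intro t
    rw [finrank_Vle Hs m hint, finrank_Vle Hs m hint, finrank_top_eq Hs hint]
    rw [← Finset.sum_add_distrib, ← Finset.sum_sub_distrib]
    refine Finset.sum_congr rfl fun i _ => ?_
    have hdi : d i = (finrank K (Hs i) : ℤ) := rfl
    split_ifs <;> omega
  -- step 4
  set T : ℕ := (∑ i, (m i).natAbs) + 1 with hT
  have hne1 : Vle Hs m (-(((0 : ℕ) : ℤ) + 1)) ≠ ⊥ := by
    intro hbot
    have hle : Hs i1 ≤ Vle Hs m (-(((0 : ℕ) : ℤ) + 1)) := le_Vle Hs m (by push_cast; omega)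
    rw [hbot, le_bot_iff] at hle
    rw [hle, finrank_bot] at hd1
    simp at hd1
  have hsumT : ∑ t ∈ Finset.range T, ∑ i, d i * ((if m i ≤ -((t : ℤ) + 1) then (1 : ℤ) else 0) -
      (if (t : ℤ) < m i then (1 : ℤ) else 0)) < ∑ t ∈ Finset.range T, (0 : ℤ) := by
    apply Finset.sum_lt_sum
    · intro t _
      rw [hrew]
      linarith [(hstep t).1]
    · refine ⟨0, by simp [hT], ?_⟩
      rw [hrew]
      linarith [(hstep 0).2 hne1]
  rw [Finset.sum_const_zero, Finset.sum_comm] at hsumT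
  have hcomp : ∀ i, ∑ t ∈ Finset.range T, d i * ((if m i ≤ -((t : ℤ) + 1) then (1 : ℤ) else 0) -
      (if (t : ℤ) < m i then (1 : ℤ) else 0)) = - (m i * d i) := by
    intro i
    rw [← Finset.mul_sum, sum_chi' (m i) T (abs_lt_T m i)]
    ring
  rw [Finset.sum_congr rfl (fun i _ => hcomp i), Finset.sum_neg_distrib, hsum] at hsumT
  simp at hsumT

end Forward

section Backward

variable {K : Type*} [Field K] {W : Type*} [AddCommGroup W] [Module K W]
  {H : Type*} [AddCommGroup H] [Module K H] [FiniteDimensional K H]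
  (q : H →ₗ[K] H →ₗ[K] W)

theorem exists_three (V : Submodule K H) (hiso : ∀ x ∈ V, ∀ y ∈ V, q x y = 0) :
    ∃ V' V'' : Submodule K H, V ⊓ V' = ⊥ ∧ V ⊔ V' = perp q V ∧ IsCompl (perp q V) V'' := by
  have hle : V ≤ perp q V := fun x hx => (mem_perp q).mpr (hiso x hx)
  obtain ⟨C, hC⟩ := Submodule.exists_isCompl V
  obtain ⟨V'', hV''⟩ := Submodule.exists_isCompl (perp q V)
  refine ⟨C ⊓ perp q V, V'', ?_, ?_, hV''⟩
  · rw [← inf_assoc, hC.inf_eq_bot, bot_inf_eq]
  · rw [← sup_inf_assoc_of_le C hle, hC.sup_eq_top, top_inf_eq]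

theorem isInternal_three (V V' V'' P : Submodule K H) (h1 : V ⊓ V' = ⊥) (h2 : V ⊔ V' = P)
    (h3 : IsCompl P V'') : DirectSum.IsInternal ![V, V', V''] := by
  have hV : V ≤ P := h2 ▸ le_sup_left
  have hV' : V' ≤ P := h2 ▸ le_sup_right
  have hPV'' : ∀ x, x ∈ P → x ∈ V'' → x = 0 := fun x hx hx' => by
    have : x ∈ P ⊓ V'' := ⟨hx, hx'⟩
    rw [h3.inf_eq_bot] at this
    exact this
  have hVV' : ∀ x, x ∈ V → x ∈ V' → x = 0 := fun x hx hx' => by
    have : x ∈ V ⊓ V' := ⟨hx, hx'⟩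
    rw [h1] at this
    exact this
  apply DirectSum.isInternal_submodule_of_iSupIndep_of_iSup_eq_top
  · intro i
    rw [Submodule.disjoint_def]
    fin_cases i
    · intro x hx hx'
      have hle : (⨆ j, ⨆ (_ : j ≠ (0 : Fin 3)), ![V, V', V''] j) ≤ V' ⊔ V'' := by
        refine iSup₂_le fun j hj => ?_
        fin_cases j
        · exact absurd rfl hj
        · exact le_sup_left
        · exact le_sup_right
      obtain ⟨a, ha, b, hb, hab⟩ := Submodule.mem_sup.mp (hle hx')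
      have hx0 : x ∈ V := hx
      have hb0 : b = 0 := by
        apply hPV'' b _ hb
        have : b = x - a := by rw [← hab]; abel
        rw [this]
        exact P.sub_mem (hV hx0) (hV' ha)
      rw [hb0, add_zero] at hab
      exact hVV' x hx0 (hab ▸ ha)
    · intro x hx hx'
      have hle : (⨆ j, ⨆ (_ : j ≠ (1 : Fin 3)), ![V, V', V''] j) ≤ V ⊔ V'' := by
        refine iSup₂_le fun j hj => ?_
        fin_cases j
        · exact le_sup_left
        · exact absurd rfl hj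
        · exact le_sup_right
      obtain ⟨a, ha, b, hb, hab⟩ := Submodule.mem_sup.mp (hle hx')
      have hx0 : x ∈ V' := hx
      have hb0 : b = 0 := by
        apply hPV'' b _ hb
        have : b = x - a := by rw [← hab]; abel
        rw [this]
        exact P.sub_mem (hV' hx0) (hV ha)
      rw [hb0, add_zero] at hab
      exact hVV' x (hab ▸ ha) hx0
    · intro x hx hx'
      have hle : (⨆ j, ⨆ (_ : j ≠ (2 : Fin 3)), ![V, V', V''] j) ≤ V ⊔ V' := by
        refine iSup₂_le fun j hj => ?_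
        fin_cases j
        · exact le_sup_left
        · exact le_sup_right
        · exact absurd rfl hj
      have hx0 : x ∈ V'' := hx
      have : x ∈ P := h2 ▸ hle hx'
      exact hPV'' x this hx0
  · rw [eq_top_iff]
    intro x _
    have hx : x ∈ P ⊔ V'' := h3.sup_eq_top ▸ Submodule.mem_top
    obtain ⟨p, hp, z, hz, rfl⟩ := Submodule.mem_sup.mp hx
    rw [← h2] at hp
    obtain ⟨v, hv, v', hv', rfl⟩ := Submodule.mem_sup.mp hp
    refine Submodule.add_mem _ (Submodule.add_mem _ ?_ ?_) ?_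
    · exact Submodule.mem_iSup_of_mem (0 : Fin 3) hv
    · exact Submodule.mem_iSup_of_mem (1 : Fin 3) hv'
    · exact Submodule.mem_iSup_of_mem (2 : Fin 3) hz

variable (s : W →ₗ[K] W) (hq : ∀ x y : H, q x y = s (q y x))

include hq in
theorem no_good_pair (V V' V'' : Submodule K H) (hiso : ∀ x ∈ V, ∀ y ∈ V, q x y = 0)
    (hV' : V' ≤ perp q V) (a b c r : ℤ)
    (h02 : r < a + c ∨ V'' = ⊥) (h11 : r < b + b) (h12 : r < b + c ∨ V'' = ⊥)
    (h22 : r < c + c ∨ V'' = ⊥) :
    ¬ ∃ i j : Fin 3, (∃ x ∈ ![V, V', V''] i, ∃ y ∈ ![V, V', V''] j, q x y ≠ 0) ∧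
      ![a, b, c] i + ![a, b, c] j ≤ r := by
  rintro ⟨i, j, ⟨x, hx, y, hy, hxy⟩, hmij⟩
  have hq01 : ∀ x ∈ V, ∀ y ∈ V', q x y = 0 := by
    intro x hx y hy
    rw [hq, (mem_perp q).mp (hV' hy) x hx, map_zero]
  have hq10 : ∀ x ∈ V', ∀ y ∈ V, q x y = 0 := fun x hx y hy => (mem_perp q).mp (hV' hx) y hy
  have hbotl : V'' = ⊥ → ∀ x ∈ V'', ∀ y : H, q x y = 0 := by
    intro h x hx y
    rw [h, Submodule.mem_bot] at hx
    rw [hx, map_zero, LinearMap.zero_apply]
  have hbotr : V'' = ⊥ → ∀ x : H, ∀ y ∈ V'', q x y = 0 := by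
    intro h x y hy
    rw [h, Submodule.mem_bot] at hy
    rw [hy, map_zero]
  fin_cases i <;> fin_cases j
  · exact hxy (hiso x hx y hy)
  · exact hxy (hq01 x hx y hy)
  · rcases h02 with h | h
    · have : a + c ≤ r := hmij
      omega
    · exact hxy (hbotr h x y hy)
  · exact hxy (hq10 x hx y hy)
  · have : b + b ≤ r := hmij
    omega
  · rcases h12 with h | h
    · have : b + c ≤ r := hmij
      omega
    · exact hxy (hbotr h x y hy)
  · rcases h02 with h | h
    · have : c + a ≤ r := hmij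
      omega
    · exact hxy (hbotl h x hx y)
  · rcases h12 with h | h
    · have : c + b ≤ r := hmij
      omega
    · exact hxy (hbotl h x hx y)
  · rcases h22 with h | h
    · have : c + c ≤ r := hmij
      omega
    · exact hxy (hbotl h x hx y)

theorem finrank_three (V V' V'' : Submodule K H) (h1 : V ⊓ V' = ⊥) (h2 : V ⊔ V' = perp q V)
    (h3 : IsCompl (perp q V) V'') :
    finrank K (perp q V) = finrank K V + finrank K V' ∧
      finrank K H = finrank K V + finrank K V' + finrank K V'' := by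
  have e1 := Submodule.finrank_sup_add_finrank_inf_eq V V'
  rw [h1, finrank_bot, add_zero, h2] at e1
  have e2 := Submodule.finrank_add_eq_of_isCompl h3
  exact ⟨e1, by omega⟩

theorem q_eq_zero_of (V V' V'' : Submodule K H) (h1 : V ⊓ V' = ⊥) (h2 : V ⊔ V' = perp q V)
    (h3 : IsCompl (perp q V) V'') (hd2 : finrank K V' = 0) (hd3 : finrank K V'' = 0) : q = 0 := by
  obtain ⟨e1, e2⟩ := finrank_three q V V' V'' h1 h2 h3
  have hVtop : V = ⊤ := Submodule.eq_top_of_finrank_eq (by omega)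
  have hPtop : perp q V = ⊤ := Submodule.eq_top_of_finrank_eq (by omega)
  ext x y
  have hx : x ∈ perp q V := hPtop ▸ Submodule.mem_top
  have hy : y ∈ V := hVtop ▸ Submodule.mem_top
  exact (mem_perp q).mp hx y hy

include hq in
theorem backward_semistable (hq0 : q ≠ 0)
    (hnum : ∀ (Hs : Fin 3 → Submodule K H) (m : Fin 3 → ℤ), DirectSum.IsInternal Hs →
      ∑ i, m i * (finrank K (Hs i) : ℤ) = 0 → (∃ i, m i ≠ 0 ∧ Hs i ≠ ⊥) →
      ∃ i j, (∃ x ∈ Hs i, ∃ y ∈ Hs j, q x y ≠ 0) ∧ m i + m j ≤ 0)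
    (V : Submodule K H) (hV : V ≠ ⊥) (hiso : ∀ x ∈ V, ∀ y ∈ V, q x y = 0) :
    finrank K V + finrank K (perp q V) ≤ finrank K H := by
  obtain ⟨V', V'', h1, h2, h3⟩ := exists_three q V hiso
  obtain ⟨e1, e2⟩ := finrank_three q V V' V'' h1 h2 h3
  have hV'le : V' ≤ perp q V := h2 ▸ le_sup_right
  by_contra hcon
  have hlt : finrank K V'' < finrank K V := by omega
  have hd1 : 0 < finrank K V := by
    rw [Module.finrank_pos_iff]
    exact (Submodule.nontrivial_iff_ne_bot).mpr hV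
  have hnz : ¬ (finrank K V' = 0 ∧ finrank K V'' = 0) := fun h =>
    hq0 (q_eq_zero_of q V V' V'' h1 h2 h3 h.1 h.2)
  have p1 : (0 : ℤ) < (finrank K V : ℤ) := by exact_mod_cast hd1
  have p2 : (0 : ℤ) ≤ (finrank K V' : ℤ) := by positivity
  have p3 : (0 : ℤ) ≤ (finrank K V'' : ℤ) := by positivity
  have p13 : (finrank K V'' : ℤ) + 1 ≤ (finrank K V : ℤ) := by
    have : finrank K V'' + 1 ≤ finrank K V := hlt
    exact_mod_cast this
  have pnz' : (finrank K V' : ℤ) = 0 → 1 ≤ (finrank K V'' : ℤ) := by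
    intro h2z
    have h2z' : finrank K V' = 0 := by exact_mod_cast h2z
    have h3z : finrank K V'' ≠ 0 := fun h => hnz ⟨h2z', h⟩
    have : 1 ≤ finrank K V'' := Nat.one_le_iff_ne_zero.mpr h3z
    exact_mod_cast this
  set D1 : ℤ := (finrank K V : ℤ) with hD1
  set D2 : ℤ := (finrank K V' : ℤ) with hD2
  set D3 : ℤ := (finrank K V'' : ℤ) with hD3
  have pnz : 0 < D2 + (D2 + 1) * D3 := by
    by_cases h2z : D2 = 0
    · have := pnz' h2z
      nlinarith
    · have : 1 ≤ D2 := by omega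
      nlinarith
  have hex := hnum ![V, V', V''] ![-(D2 + (D2 + 1) * D3), D1, (D2 + 1) * D1]
    (isInternal_three V V' V'' _ h1 h2 h3)
    (by
      rw [Fin.sum_univ_three]
      show -(D2 + (D2 + 1) * D3) * D1 + D1 * D2 + (D2 + 1) * D1 * D3 = 0
      ring)
    ⟨0, by
      show -(D2 + (D2 + 1) * D3) ≠ 0
      omega, hV⟩
  refine no_good_pair q s hq V V' V'' hiso hV'le (-(D2 + (D2 + 1) * D3)) D1 ((D2 + 1) * D1) 0 ?_ ?_ ?_ ?_ hex
  · left
    nlinarith
  · omega
  · left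
    nlinarith
  · left
    nlinarith

include hq in
theorem backward_stable (hq0 : q ≠ 0)
    (hnum : ∀ (Hs : Fin 3 → Submodule K H) (m : Fin 3 → ℤ), DirectSum.IsInternal Hs →
      ∑ i, m i * (finrank K (Hs i) : ℤ) = 0 → (∃ i, m i ≠ 0 ∧ Hs i ≠ ⊥) →
      ∃ i j, (∃ x ∈ Hs i, ∃ y ∈ Hs j, q x y ≠ 0) ∧ m i + m j < 0)
    (V : Submodule K H) (hV : V ≠ ⊥) (hiso : ∀ x ∈ V, ∀ y ∈ V, q x y = 0) :
    finrank K V + finrank K (perp q V) < finrank K H := by
  obtain ⟨V', V'', h1, h2, h3⟩ := exists_three q V hiso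
  obtain ⟨e1, e2⟩ := finrank_three q V V' V'' h1 h2 h3
  have hV'le : V' ≤ perp q V := h2 ▸ le_sup_right
  by_contra hcon
  have hle : finrank K V'' ≤ finrank K V := by omega
  have hd1 : 0 < finrank K V := by
    rw [Module.finrank_pos_iff]
    exact (Submodule.nontrivial_iff_ne_bot).mpr hV
  have hnz : ¬ (finrank K V' = 0 ∧ finrank K V'' = 0) := fun h =>
    hq0 (q_eq_zero_of q V V' V'' h1 h2 h3 h.1 h.2)
  have p1 : (0 : ℤ) < (finrank K V : ℤ) := by exact_mod_cast hd1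
  have p2 : (0 : ℤ) ≤ (finrank K V' : ℤ) := by positivity
  have p3 : (0 : ℤ) ≤ (finrank K V'' : ℤ) := by positivity
  have p13 : (finrank K V'' : ℤ) ≤ (finrank K V : ℤ) := by exact_mod_cast hle
  have pnz' : finrank K V'' = 0 → 1 ≤ (finrank K V' : ℤ) := by
    intro h3z
    have h2nz : finrank K V' ≠ 0 := fun h => hnz ⟨h, h3z⟩
    have : 1 ≤ finrank K V' := Nat.one_le_iff_ne_zero.mpr h2nz
    exact_mod_cast this
  have pnz'' : finrank K V'' ≠ 0 → 1 ≤ (finrank K V'' : ℤ) := by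
    intro h3z
    have : 1 ≤ finrank K V'' := Nat.one_le_iff_ne_zero.mpr h3z
    exact_mod_cast this
  set D1 : ℤ := (finrank K V : ℤ) with hD1
  set D2 : ℤ := (finrank K V' : ℤ) with hD2
  set D3 : ℤ := (finrank K V'' : ℤ) with hD3
  by_cases h3z : finrank K V'' = 0
  · have hbot : V'' = ⊥ := Submodule.finrank_eq_zero.mp h3z
    have p2' : 1 ≤ D2 := pnz' h3z
    obtain ⟨i, j, hex, hlt⟩ := hnum ![V, V', V''] ![-D2, D1, 0]
      (isInternal_three V V' V'' _ h1 h2 h3)
      (by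
        rw [Fin.sum_univ_three]
        show -D2 * D1 + D1 * D2 + 0 * D3 = 0
        ring)
      ⟨0, by
        show -D2 ≠ 0
        omega, hV⟩
    refine no_good_pair q s hq V V' V'' hiso hV'le (-D2) D1 0 (-1) (Or.inr hbot) ?_ (Or.inr hbot)
      (Or.inr hbot) ⟨i, j, hex, by omega⟩
    omega
  · have p3' : 1 ≤ D3 := pnz'' h3z
    obtain ⟨i, j, hex, hlt⟩ := hnum ![V, V', V''] ![-D3, 0, D1]
      (isInternal_three V V' V'' _ h1 h2 h3)
      (by
        rw [Fin.sum_univ_three]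
        show -D3 * D1 + 0 * D2 + D1 * D3 = 0
        ring)
      ⟨0, by
        show -D3 ≠ 0
        omega, hV⟩
    refine no_good_pair q s hq V V' V'' hiso hV'le (-D3) 0 D1 (-1) ?_ ?_ ?_ ?_ ⟨i, j, hex, by omega⟩
    · left; omega
    · omega
    · left; omega
    · left; omega

end Backward

end Groth.Agent.Lib.Helper77.NumCrit
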