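import Mathlib

/-!
# The polynomial model of a curve singularity (helper77)
-/

set_option autoImplicit false
universe u

namespace Groth.Agent.Lib.Helper77.PolyModel

open Polynomial

section
variable (k : Type u) [Field k] (s : ℕ)
  (R : Subalgebra k (Fin s → PowerSeries k))
  (c : Fin s → ℕ)
  (hc : ∀ f : Fin s → PowerSeries k,
      (∀ g : Fin s → PowerSeries k, g * f ∈ R) ↔ ∀ i, ((c i : ℕ) : ℕ∞) ≤ (f i).order)
  (A : Subalgebra k (Fin s → Polynomial k))
  (hA : ∀ g : Fin s → Polynomial k, g ∈ A ↔ (fun i => ((g i : Polynomial k) : PowerSeries k)) ∈ R)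

/-- the exponent `m` -/
def mexp : ℕ := (Finset.univ.sup c) + 1

theorem c_le_mexp (i : Fin s) : c i ≤ mexp s c := by
  unfold mexp
  have := Finset.le_sup (f := c) (Finset.mem_univ i)
  omega

include hc in
/-- power series tuples of large order lie in `R` -/
theorem mem_R_of_order (f : Fin s → PowerSeries k) (hf : ∀ i, ((c i : ℕ) : ℕ∞) ≤ (f i).order) :
    f ∈ R := by
  have := (hc f).mpr hf 1
  rwa [one_mul] at this

include hc hA in
/-- the conductor: polynomial tuples divisible by `X ^ c i` multiply everything into `A` -/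
theorem mul_mem_A_of_dvd (p : Fin s → Polynomial k) (hp : ∀ i, X ^ (c i) ∣ p i)
    (g : Fin s → Polynomial k) : g * p ∈ A := by
  rw [hA]
  have h1 : (fun i => (((g * p) i : Polynomial k) : PowerSeries k)) =
      (fun i => ((g i : Polynomial k) : PowerSeries k)) * (fun i => ((p i : Polynomial k) : PowerSeries k)) := by
    funext i
    simp
  rw [h1]
  apply (hc _).mpr
  intro i
  obtain ⟨q, hq⟩ := hp i
  show ((c i : ℕ) : ℕ∞) ≤ ((p i : Polynomial k) : PowerSeries k).order
  rw [hq]
  push_cast
  refine le_trans ?_ (PowerSeries.le_order_mul _ _)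
  rw [PowerSeries.order_X_pow]
  exact le_self_add

include hc hA in
/-- part 4 -/
theorem part4 : ∃ N : ℕ, ∀ g : Fin N → (Fin s → Polynomial k),
      (∀ n, g n ∈ A ∧ ∀ i, (g n i).coeff 0 = 0) → ∀ p : Fin s → Polynomial k, p * ∏ n, g n ∈ A := by
  refine ⟨mexp s c, fun g hg p => ?_⟩
  apply mul_mem_A_of_dvd k s R c hc A hA
  intro i
  have h1 : (∏ n, g n) i = ∏ n, g n i := by
    rw [Finset.prod_apply]
  rw [h1]
  have h2 : X ^ (mexp s c) ∣ ∏ n : Fin (mexp s c), g n i := by
    have : (X : Polynomial k) ^ (mexp s c) = ∏ _n : Fin (mexp s c), (X : Polynomial k) := by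
      rw [Finset.prod_const, Finset.card_univ, Fintype.card_fin]
    rw [this]
    apply Finset.prod_dvd_prod_of_dvd
    intro n _
    exact Polynomial.X_dvd_iff.mpr ((hg n).2 i)
  exact (pow_dvd_pow X (c_le_mexp s c i)).trans h2

include hc hA in
/-- part 5 -/
theorem part5 : ∀ f ∈ R, ∀ N : ℕ, ∃ g ∈ A, ∀ i : Fin s,
    (N : ℕ∞) ≤ (f i - ((g i : Polynomial k) : PowerSeries k)).order := by
  intro f hf N
  let M := max N (mexp s c)
  let g : Fin s → Polynomial k := fun i => PowerSeries.trunc M (f i)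
  have hord : ∀ i, (M : ℕ∞) ≤ (f i - ((g i : Polynomial k) : PowerSeries k)).order := by
    intro i
    apply PowerSeries.le_order
    intro j hj
    have hj' : j < M := by exact_mod_cast hj
    rw [map_sub, Polynomial.coeff_coe, PowerSeries.coeff_trunc, if_pos hj', sub_self]
  refine ⟨g, ?_, fun i => le_trans (by exact_mod_cast le_max_left N (mexp s c)) (hord i)⟩
  rw [hA]
  have hdiff : (fun i => f i - ((g i : Polynomial k) : PowerSeries k)) ∈ R := by
    apply mem_R_of_order k s R c hc
    intro i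
    refine le_trans ?_ (hord i)
    exact_mod_cast (c_le_mexp s c i).trans (le_max_right N (mexp s c))
  have : (fun i => ((g i : Polynomial k) : PowerSeries k)) =
      f - (fun i => f i - ((g i : Polynomial k) : PowerSeries k)) := by
    funext i
    simp
  rw [this]
  exact R.sub_mem hf hdiff

end

section
variable (k : Type u) [Field k] (s : ℕ)
  (R : Subalgebra k (Fin s → PowerSeries k))
  (hloc : ∀ f ∈ R, ∀ i j : Fin s, PowerSeries.constantCoeff (f i) = PowerSeries.constantCoeff (f j))
  (c : Fin s → ℕ)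
  (hc : ∀ f : Fin s → PowerSeries k,
      (∀ g : Fin s → PowerSeries k, g * f ∈ R) ↔ ∀ i, ((c i : ℕ) : ℕ∞) ≤ (f i).order)
  (A : Subalgebra k (Fin s → Polynomial k))
  (hA : ∀ g : Fin s → Polynomial k, g ∈ A ↔ (fun i => ((g i : Polynomial k) : PowerSeries k)) ∈ R)

include hloc hA in
/-- part 2 -/
theorem part2 : ∀ e ∈ A, e * e = e → e = 0 ∨ e = 1 := by
  intro e he hee
  have h01 : ∀ i, e i = 0 ∨ e i = 1 := by
    intro i
    have h1 : e i * e i = e i := congrFun hee i
    have h2 : e i * (e i - 1) = 0 := by rw [mul_sub, h1, mul_one, sub_self]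
    rcases mul_eq_zero.mp h2 with h | h
    · exact Or.inl h
    · exact Or.inr (sub_eq_zero.mp h)
  have hconst : ∀ i j, (e i).coeff 0 = (e j).coeff 0 := by
    intro i j
    have := hloc _ ((hA e).mp he) i j
    simpa using this
  by_cases hex : ∃ i, e i = 0
  · obtain ⟨i, hi⟩ := hex
    left
    funext j
    rcases h01 j with h | h
    · exact h
    · exfalso
      have := hconst i j
      rw [hi, h] at this
      simp at this
  · right
    push_neg at hex
    funext j
    rcases h01 j with h | h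
    · exact absurd h (hex j)
    · exact h

/-- the element `t = (X^m)_i` -/
noncomputable def tt : Fin s → Polynomial k := fun _ => X ^ (mexp s c)

include hc hA in
theorem tt_mem : tt k s c ∈ A := by
  have := mul_mem_A_of_dvd k s R c hc A hA (tt k s c)
    (fun i => pow_dvd_pow X (c_le_mexp s c i)) 1
  rwa [one_mul] at this

include hc hA in
/-- part 6 -/
theorem part6 : ∀ N : ℕ, ∃ M : ℕ, ∀ g : ↥A,
    (∀ i : Fin s, Polynomial.X ^ M ∣ (g : Fin s → Polynomial k) i) →
      g ∈ (Ideal.span {h : ↥A | ∀ i : Fin s, ((h : Fin s → Polynomial k) i).coeff 0 = 0}) ^ N := by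
  intro N
  refine ⟨mexp s c * N + mexp s c, fun g hg => ?_⟩
  -- quotients
  choose q hq using hg
  have hq' : ∀ i, (g : Fin s → Polynomial k) i = X ^ (mexp s c * N) * (X ^ (mexp s c) * q i) := by
    intro i
    rw [hq i, pow_add, mul_assoc]
  let h : Fin s → Polynomial k := fun i => X ^ (mexp s c) * q i
  have hh : h ∈ A := by
    have := mul_mem_A_of_dvd k s R c hc A hA h
      (fun i => (pow_dvd_pow X (c_le_mexp s c i)).trans (Dvd.intro _ rfl)) 1
    rwa [one_mul] at this
  let t' : ↥A := ⟨tt k s c, tt_mem k s R c hc A hA⟩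
  have ht' : t' ∈ Ideal.span {h : ↥A | ∀ i : Fin s, ((h : Fin s → Polynomial k) i).coeff 0 = 0} := by
    apply Ideal.subset_span
    intro i
    show (X ^ (mexp s c) : Polynomial k).coeff 0 = 0
    rw [Polynomial.coeff_X_pow]
    simp [mexp]
  have hg' : g = t' ^ N * ⟨h, hh⟩ := by
    apply Subtype.ext
    funext i
    show (g : Fin s → Polynomial k) i = ((tt k s c) ^ N * h) i
    rw [hq' i]
    simp only [Pi.mul_apply, Pi.pow_apply, tt, h, pow_mul]
  rw [hg']
  exact Ideal.mul_mem_right _ _ (Ideal.pow_mem_pow ht' N)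

end

section
variable (k : Type u) [Field k] (s : ℕ)
  (c : Fin s → ℕ)
  (A : Subalgebra k (Fin s → Polynomial k))

theorem mexp_pos : 0 < mexp s c := Nat.succ_pos _

/-- part 3, given that `t ∈ A` -/
theorem part3 (ht : tt k s c ∈ A) : Module.Finite ↥A (Fin s → Polynomial k) := by
  classical
  let t' : ↥A := ⟨tt k s c, ht⟩
  let G : Finset (Fin s → Polynomial k) :=
    (Finset.univ : Finset (Fin s × Fin (mexp s c))).image
      (fun ir => Pi.single ir.1 ((X : Polynomial k) ^ (ir.2 : ℕ)))
  refine ⟨⟨G, ?_⟩⟩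
  rw [eq_top_iff]
  intro p _
  have hsingle : ∀ (i : Fin s) (q : Polynomial k),
      (Pi.single i q : Fin s → Polynomial k) ∈ Submodule.span ↥A (G : Set (Fin s → Polynomial k)) := by
    intro i q
    induction q using Polynomial.induction_on' with
    | add q1 q2 h1 h2 =>
      rw [Pi.single_add]
      exact Submodule.add_mem _ h1 h2
    | monomial n a =>
      have hG : (Pi.single i ((X : Polynomial k) ^ (n % mexp s c)) : Fin s → Polynomial k) ∈
          (G : Set (Fin s → Polynomial k)) := by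
        rw [Finset.mem_coe, Finset.mem_image]
        exact ⟨(i, ⟨n % mexp s c, Nat.mod_lt _ (mexp_pos s c)⟩), Finset.mem_univ _, rfl⟩
      have heq : (Pi.single i (monomial n a) : Fin s → Polynomial k) =
          (algebraMap k ↥A a * t' ^ (n / mexp s c)) •
            (Pi.single i ((X : Polynomial k) ^ (n % mexp s c)) : Fin s → Polynomial k) := by
        funext j
        rw [Subalgebra.smul_def]
        show _ = ((algebraMap k (Fin s → Polynomial k) a) * (tt k s c) ^ (n / mexp s c)) j *
          (Pi.single i ((X : Polynomial k) ^ (n % mexp s c)) : Fin s → Polynomial k) j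
        by_cases hji : j = i
        · subst hji
          simp only [Pi.single_eq_same, Pi.mul_apply, Pi.pow_apply, tt, Pi.algebraMap_apply]
          rw [← pow_mul, mul_assoc, ← pow_add, Nat.div_add_mod, ← Polynomial.C_mul_X_pow_eq_monomial]
          rfl
        · simp [Pi.single_eq_of_ne hji]
      rw [heq]
      exact Submodule.smul_mem _ _ (Submodule.subset_span hG)
  have hp : p = ∑ i, (Pi.single i (p i) : Fin s → Polynomial k) := (Finset.univ_sum_single p).symm
  rw [hp]
  exact Submodule.sum_mem _ (fun i _ => hsingle i (p i))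

end

section
variable (k : Type u) [Field k] (s : ℕ)
  (A : Subalgebra k (Fin s → Polynomial k))

theorem finiteType_pi : Algebra.FiniteType k (Fin s → Polynomial k) := by
  have h1 : Algebra.FiniteType (Polynomial k) (Fin s → Polynomial k) := inferInstance
  exact Algebra.FiniteType.trans (R := k) (S := Polynomial k) (A := Fin s → Polynomial k) inferInstance h1

/-- part 1, given part 3 -/
theorem part1 (h3 : Module.Finite ↥A (Fin s → Polynomial k)) : Algebra.FiniteType k ↥A := by
  have hAC : (⊤ : Subalgebra k (Fin s → Polynomial k)).FG := (finiteType_pi k s).out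
  have hBC : (⊤ : Submodule ↥A (Fin s → Polynomial k)).FG := h3.fg_top
  exact ⟨fg_of_fg_of_fg k ↥A (Fin s → Polynomial k) hAC hBC Subtype.val_injective⟩

end

theorem main (k : Type u) [Field k] (s : ℕ)
    (R : Subalgebra k (Fin s → PowerSeries k))
    (hloc : ∀ f ∈ R, ∀ i j : Fin s, PowerSeries.constantCoeff (f i) = PowerSeries.constantCoeff (f j))
    (c : Fin s → ℕ)
    (hc : ∀ f : Fin s → PowerSeries k,
      (∀ g : Fin s → PowerSeries k, g * f ∈ R) ↔ ∀ i, ((c i : ℕ) : ℕ∞) ≤ (f i).order)
    (A : Subalgebra k (Fin s → Polynomial k))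
    (hA : ∀ g : Fin s → Polynomial k, g ∈ A ↔ (fun i => ((g i : Polynomial k) : PowerSeries k)) ∈ R) :
    Algebra.FiniteType k ↥A ∧
    (∀ e ∈ A, e * e = e → e = 0 ∨ e = 1) ∧
    Module.Finite ↥A (Fin s → Polynomial k) ∧
    (∃ N : ℕ, ∀ g : Fin N → (Fin s → Polynomial k),
      (∀ n, g n ∈ A ∧ ∀ i, (g n i).coeff 0 = 0) → ∀ p : Fin s → Polynomial k, p * ∏ n, g n ∈ A) ∧
    (∀ f ∈ R, ∀ N : ℕ, ∃ g ∈ A, ∀ i : Fin s, (N : ℕ∞) ≤ (f i - ((g i : Polynomial k) : PowerSeries k)).order) ∧
    (∀ N : ℕ, ∃ M : ℕ, ∀ g : ↥A, (∀ i : Fin s, Polynomial.X ^ M ∣ (g : Fin s → Polynomial k) i) →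
      g ∈ (Ideal.span {h : ↥A | ∀ i : Fin s, ((h : Fin s → Polynomial k) i).coeff 0 = 0}) ^ N) := by
  have h3 := part3 k s c A (tt_mem k s R c hc A hA)
  exact ⟨part1 k s A h3, part2 k s R hloc A hA, h3, part4 k s R c hc A hA, part5 k s R c hc A hA,
    part6 k s R c hc A hA⟩

end Groth.Agent.Lib.Helper77.PolyModel
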