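import Mathlib

set_option autoImplicit false
universe u
open TensorProduct

namespace Groth.Agent.Lib.Helper77.QFEtale

section

attribute [local instance] Algebra.TensorProduct.rightAlgebra

/-- a finite type algebra is formally unramified as soon as all its fibres are. -/
theorem formallyUnramified_of_fiber (R S : Type u) [CommRing R] [CommRing S] [Algebra R S]
    [Algebra.FiniteType R S]
    (h : ∀ (p : Ideal R) [p.IsPrime], Algebra.FormallyUnramified p.ResidueField (p.Fiber S)) :
    Algebra.FormallyUnramified R S := by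
  rw [Algebra.formallyUnramified_iff]
  have : Module.Finite S Ω[S⁄R] := inferInstance
  rw [← Module.support_eq_empty_iff (R := S)]
  ext q
  simp only [Set.mem_empty_iff_false, iff_false]
  rw [Module.mem_support_iff_nontrivial_residueField_tensorProduct, not_nontrivial_iff_subsingleton]
  let p : Ideal R := q.asIdeal.comap (algebraMap R S)
  have hp : p.IsPrime := Ideal.comap_isPrime _ _
  have h1 : Subsingleton (Ω[(p.Fiber S)⁄p.ResidueField]) :=
    (h p).subsingleton_kaehlerDifferential
  have h2 : Subsingleton (p.ResidueField ⊗[R] Ω[S⁄R]) :=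
    (KaehlerDifferential.tensorKaehlerEquivBase R p.ResidueField S (p.Fiber S)).subsingleton
  let ι : p.ResidueField →ₐ[R] q.asIdeal.ResidueField :=
    Ideal.ResidueField.mapₐ p q.asIdeal (Algebra.ofId R S) rfl
  let ψ : p.ResidueField ⊗[R] Ω[S⁄R] →+ q.asIdeal.ResidueField ⊗[S] Ω[S⁄R] :=
    TensorProduct.liftAddHom
      { toFun := fun a =>
          { toFun := fun m => ι a ⊗ₜ[S] m
            map_zero' := by simp
            map_add' := fun m m' => by simp [tmul_add] }
        map_zero' := by ext m; simp
        map_add' := fun a a' => by ext m; simp [add_tmul] }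
      (by
        intro r a m
        simp only [AddMonoidHom.coe_mk, ZeroHom.coe_mk]
        rw [map_smul, ← algebraMap_smul S r (ι a), ← algebraMap_smul S r m, smul_tmul])
  have h3 : ∀ ω : Ω[S⁄R], (1 : q.asIdeal.ResidueField) ⊗ₜ[S] ω = 0 := by
    intro ω
    have : ψ ((1 : p.ResidueField) ⊗ₜ[R] ω) = (1 : q.asIdeal.ResidueField) ⊗ₜ[S] ω := by
      simp [ψ]
    rw [← this, Subsingleton.elim ((1 : p.ResidueField) ⊗ₜ[R] ω) 0, map_zero]
  refine ⟨fun x y => ?_⟩
  have h4 : ∀ z : q.asIdeal.ResidueField ⊗[S] Ω[S⁄R], z = 0 := by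
    intro z
    induction z using TensorProduct.induction_on with
    | zero => rfl
    | tmul c ω =>
      have : c ⊗ₜ[S] ω = c • ((1 : q.asIdeal.ResidueField) ⊗ₜ[S] ω) := by
        rw [smul_tmul', smul_eq_mul, mul_one]
      rw [this, h3, smul_zero]
    | add a b ha hb => rw [ha, hb, add_zero]
  rw [h4 x, h4 y]

end

end Groth.Agent.Lib.Helper77.QFEtale
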