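import Mathlib
import Groth.Agent.Lib.Helper77.QFEtale1

set_option autoImplicit false
universe u
open CategoryTheory Limits AlgebraicGeometry

namespace Groth.Agent.Lib.Helper77.QFEtale

/-- a flat finitely presented algebra with étale fibres is étale. -/
theorem etale_of_fiber (R S : Type u) [CommRing R] [CommRing S] [Algebra R S]
    [Module.Flat R S] [Algebra.FinitePresentation R S]
    (h : ∀ (p : Ideal R) [p.IsPrime], Algebra.FormallyUnramified p.ResidueField (p.Fiber S)) :
    Algebra.Etale R S := by
  have : Algebra.FormallyUnramified R S := formallyUnramified_of_fiber R S h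
  exact Algebra.Etale.of_formallyUnramified_of_flat

set_option backward.isDefEq.respectTransparency false in
/-- If `f : X ⟶ Y` is locally of finite presentation, flat and has étale fibers, then `f` is
étale. -/
lemma etale_of_etale_fiberToSpecResidueField {X Y : Scheme.{u}} (f : X ⟶ Y)
    [LocallyOfFinitePresentation f] [Flat f]
    (h : ∀ y, Etale (f.fiberToSpecResidueField y)) :
    Etale f := by
  wlog h : ∃ R, Y = Spec R
  · rw [IsZariskiLocalAtTarget.iff_of_openCover (P := @Etale) Y.affineCover]
    intro i
    dsimp [Scheme.Cover.pullbackHom]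
    refine this _ (fun y ↦ ?_) ⟨_, rfl⟩
    apply MorphismProperty.of_isPullback
    · exact isPullback_fiberToSpecResidueField_of_isPullback (IsPullback.of_hasPullback _ _) _
    · infer_instance
  obtain ⟨R, rfl⟩ := h
  wlog h : ∃ S, X = Spec S generalizing f X
  · rw [IsZariskiLocalAtSource.iff_of_openCover (P := @Etale) X.affineCover]
    intro i
    have _ (y) : Etale (pullback.snd f ((Spec R).fromSpecResidueField y)) :=
      inferInstanceAs <| Etale (f.fiberToSpecResidueField y)
    refine this _ (fun y ↦ ?_) ⟨_, rfl⟩
    rw [Scheme.Hom.fiberToSpecResidueField, ← pullbackRightPullbackFstIso_inv_snd_snd]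
    infer_instance
  obtain ⟨S, rfl⟩ := h
  obtain ⟨φ, rfl⟩ := Spec.map_surjective f
  simp only [HasRingHomProperty.Spec_iff] at *
  algebraize [φ.hom]
  have hφ : φ.hom = algebraMap R S := rfl
  rw [hφ, RingHom.etale_algebraMap]
  refine etale_of_fiber R S fun p hp ↦ ?_
  rw [← RingHom.formallyUnramified_algebraMap]
  have h1 : (algebraMap p.ResidueField (p.Fiber ↑S)).Etale := by
    rw [← CommRingCat.hom_ofHom (algebraMap p.ResidueField (p.Fiber ↑S)),
      ← HasRingHomProperty.Spec_iff (P := @Etale), ← MorphismProperty.arrow_mk_iso_iff (P := @Etale)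
      (Spec.fiberToSpecResidueFieldIso R S ⟨p, hp⟩)]
    exact h ⟨p, hp⟩
  rw [RingHom.etale_algebraMap] at h1
  rw [RingHom.formallyUnramified_algebraMap]
  infer_instance

end Groth.Agent.Lib.Helper77.QFEtale
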