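import Mathlib

set_option autoImplicit false
universe u v

namespace Groth.Agent.Lib.Helper77

open Polynomial

section Unipotent

variable {K : Type u} [Field K] {V : Type v} [AddCommGroup V] [Module K V]

/-- One step: if `(g - 1)^(k+1) = 0` for an isometry `g` of an anisotropic form (2 invertible), then
already `(g - 1)^k = 0`, for `k ≥ 1`. -/
theorem quadIso_step (h2 : (2 : K) ≠ 0) (q : QuadraticForm K V) (hq : q.Anisotropic)
    (g : Module.End K V) (hg : ∀ x, q (g x) = q x) (k : ℕ) (hk : 1 ≤ k)
    (h : (g - 1) ^ (k + 1) = 0) : (g - 1) ^ k = 0 := by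
  obtain ⟨j, rfl⟩ : ∃ j, k = j + 1 := ⟨k - 1, by omega⟩
  apply LinearMap.ext
  intro v
  set N : Module.End K V := g - 1 with hN
  set u : V := (N ^ j) v with hu
  set w : V := (N ^ (j + 1)) v with hw
  have hNu : N u = w := by
    rw [hw, hu, pow_succ', Module.End.mul_apply]
  have hNw : N w = 0 := by
    have : N w = (N ^ (j + 1 + 1)) v := by
      rw [hw, pow_succ' N (j + 1), Module.End.mul_apply]
    rw [this, h]; rfl
  have hgu : g u = u + w := by
    have : g = N + 1 := by rw [hN]; abel
    rw [this, LinearMap.add_apply, hNu, Module.End.one_apply, add_comm]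
  have hgw : g w = w := by
    have : g = N + 1 := by rw [hN]; abel
    rw [this, LinearMap.add_apply, hNw, Module.End.one_apply, zero_add]
  have e1 : q (u + w) = q u := by rw [← hgu, hg]
  have e2 : q (u + w + w) = q u := by
    have : g (u + w) = u + w + w := by rw [map_add, hgu, hgw]
    rw [← this, hg, e1]
  rw [QuadraticMap.map_add (⇑q) u w] at e1
  rw [QuadraticMap.map_add (⇑q) (u + w) w, QuadraticMap.polar_add_left, QuadraticMap.polar_self,
    QuadraticMap.map_add (⇑q) u w] at e2
  have e3 : (2 : K) * q w = 0 := by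
    have : q u + q w + QuadraticMap.polar q u w + q w + (QuadraticMap.polar q u w + 2 • q w)
        - (q u + q w + QuadraticMap.polar q u w) - (q u + q w + QuadraticMap.polar q u w) + q u
        = 2 * q w := by
      rw [two_smul]; ring
    rw [← this, e2, e1]; ring
  have hqw : q w = 0 := by
    rcases mul_eq_zero.mp e3 with h | h
    · exact absurd h h2
    · exact h
  have : w = 0 := hq w hqw
  rw [this]; rfl

/-- A unipotent isometry of an anisotropic quadratic form (2 invertible) is the identity. -/
theorem quadIso_eq_one_of_isNilpotent (h2 : (2 : K) ≠ 0) (q : QuadraticForm K V) (hq : q.Anisotropic)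
    (g : Module.End K V) (hg : ∀ x, q (g x) = q x) (hn : IsNilpotent (g - 1)) : g = 1 := by
  obtain ⟨n, hn⟩ := hn
  have key : ∀ n : ℕ, (g - 1) ^ n = 0 → g - 1 = 0 := by
    intro n
    induction n with
    | zero =>
      intro h
      rw [pow_zero] at h
      have : g - 1 = (g - 1) * 1 := (mul_one _).symm
      rw [this, h, mul_zero]
    | succ n ih =>
      intro h
      rcases Nat.eq_zero_or_pos n with h0 | hpos
      · subst h0; simpa using h
      · exact ih (quadIso_step h2 q hq g hg n hpos h)
  exact sub_eq_zero.mp (key n hn)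

end Unipotent

section FiniteOrder

variable {K : Type u} [Field K] {V : Type v} [AddCommGroup V] [Module K V]

theorem quadIso_injective_aeval_X_sub_C (q : QuadraticForm K V) (hq : q.Anisotropic)
    (g : Module.End K V) (hg : ∀ x, q (g x) = q x) (a : K) (ha : a * a ≠ 1) :
    Function.Injective (aeval g (X - C a : K[X])) := by
  rw [injective_iff_map_eq_zero]
  intro v hv
  have hv' : g v = a • v := by
    have : aeval g (X - C a : K[X]) v = g v - a • v := by
      rw [map_sub, aeval_X, aeval_C, LinearMap.sub_apply, Module.algebraMap_end_apply]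
    rw [this, sub_eq_zero] at hv
    exact hv
  have h1 : q v = a * a * q v := by
    conv_lhs => rw [← hg v, hv', QuadraticMap.map_smul]
    rfl
  have h3 : (1 - a * a) * q v = 0 := by linear_combination h1
  rcases mul_eq_zero.mp h3 with h | h
  · exact absurd (sub_eq_zero.mp h).symm ha
  · exact hq v h

theorem quadIso_injective_aeval_prod (q : QuadraticForm K V) (hq : q.Anisotropic)
    (g : Module.End K V) (hg : ∀ x, q (g x) = q x) (t : Multiset K) (ht : ∀ a ∈ t, a * a ≠ 1) :
    Function.Injective (aeval g (t.map (fun a => (X - C a : K[X]))).prod) := by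
  induction t using Multiset.induction_on with
  | empty =>
    simp only [Multiset.map_zero, Multiset.prod_zero, map_one]
    exact fun x y h => h
  | cons a t ih =>
    rw [Multiset.map_cons, Multiset.prod_cons, map_mul, Module.End.mul_eq_comp]
    exact (quadIso_injective_aeval_X_sub_C q hq g hg a (ht a (Multiset.mem_cons_self a t))).comp
      (ih (fun b hb => ht b (Multiset.mem_cons_of_mem hb)))

/-- If `K` has all roots of unity and `2 ≠ 0`, an isometry of finite order of an anisotropic form
is an involution. -/
theorem quadIso_sq_eq_one (hK : ∀ n : ℕ, 0 < n → (X ^ n - 1 : K[X]).Splits) (h2 : (2 : K) ≠ 0)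
    (q : QuadraticForm K V) (hq : q.Anisotropic)
    (g : Module.End K V) (hg : ∀ x, q (g x) = q x) (d : ℕ) (hd : 0 < d) (hgd : g ^ d = 1) :
    g ^ 2 = 1 := by
  classical
  set f : K[X] := X ^ d - 1 with hf
  have hfm : f.Monic := by
    have := monic_X_pow_sub_C (1 : K) hd.ne'
    rwa [C_1] at this
  have hfprod := (hK d hd).eq_prod_roots_of_monic hfm
  set s := f.roots with hs_def
  set s₁ := s.filter (fun a => a * a = 1) with hs₁
  set s₂ := s.filter (fun a => ¬ a * a = 1) with hs₂
  have hs : s = s₁ + s₂ := (Multiset.filter_add_not _ s).symm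
  set P₁ : K[X] := (s₁.map (fun a => (X - C a : K[X]))).prod with hP₁def
  set P₂ : K[X] := (s₂.map (fun a => (X - C a : K[X]))).prod with hP₂def
  have hfP : f = P₂ * P₁ := by
    rw [hP₁def, hP₂def, ← Multiset.prod_add, ← Multiset.map_add, add_comm, ← hs]
    exact hfprod
  have hP₂inj : Function.Injective (aeval g P₂) :=
    quadIso_injective_aeval_prod q hq g hg s₂ (fun a ha => (Multiset.mem_filter.mp ha).2)
  have hfg : aeval g f = 0 := by
    rw [hf, map_sub, map_pow, aeval_X, map_one, hgd, sub_self]
  have hP₁ : aeval g P₁ = 0 := by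
    rw [hfP, map_mul] at hfg
    apply LinearMap.ext; intro v
    apply hP₂inj
    rw [LinearMap.zero_apply, map_zero]
    have := congrArg (fun F : Module.End K V => F v) hfg
    simpa using this
  have hdvd : P₁ ∣ (X ^ 2 - 1 : K[X]) ^ (Multiset.card s₁) := by
    have h1 : ∀ a ∈ s₁, (X - C a : K[X]) ∣ (X ^ 2 - 1 : K[X]) := by
      intro a ha
      have ha' : a * a = 1 := (Multiset.mem_filter.mp ha).2
      refine ⟨X + C a, ?_⟩
      have : (C a * C a : K[X]) = 1 := by rw [← C_mul, ha', C_1]
      linear_combination this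
    have h3 := Multiset.prod_dvd_prod_of_dvd (S := s₁) (fun a => (X - C a : K[X]))
      (fun _ => (X ^ 2 - 1 : K[X])) h1
    rwa [Multiset.map_const', Multiset.prod_replicate] at h3
  obtain ⟨Q, hQ⟩ := hdvd
  have hnil : IsNilpotent (g ^ 2 - 1) := by
    refine ⟨Multiset.card s₁, ?_⟩
    have h4 : aeval g ((X ^ 2 - 1 : K[X]) ^ Multiset.card s₁) = 0 := by
      rw [hQ, map_mul, hP₁, zero_mul]
    rw [map_pow, map_sub, map_pow, aeval_X, map_one] at h4
    exact h4
  have hg2 : ∀ x, q ((g ^ 2) x) = q x := by
    intro x; rw [pow_two, Module.End.mul_apply, hg, hg]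
  exact quadIso_eq_one_of_isNilpotent h2 q hq (g ^ 2) hg2 hnil

end FiniteOrder

end Groth.Agent.Lib.Helper77
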