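import Mathlib
import Groth.Prelude.Def_QuadGrp
import Groth.Agent.Lib.Helper41.HalfDiscField
import Groth.Agent.Lib.Helper77.McCoyMv
import Groth.Agent.S17015

namespace Groth.Agent.Lib.Helper77.QuadRefl

open TensorProduct QuadGrp MvPolynomial

section Reflection

variable {A : Type*} [CommRing A] {T : Type*} [AddCommGroup T] [Module A T]

/-- The functional `y ↦ u⁻¹ * B(y, v)`. -/
noncomputable def reflFun (F : QuadraticForm A T) (v : T) (u : Aˣ) : T →ₗ[A] A :=
  (↑u⁻¹ : A) • (QuadraticMap.polarBilin F).flip v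

lemma reflFun_apply (F : QuadraticForm A T) (v : T) (u : Aˣ) (y : T) :
    reflFun F v u y = ↑u⁻¹ * QuadraticMap.polar F y v := by
  simp [reflFun]

lemma reflFun_self (F : QuadraticForm A T) (v : T) (u : Aˣ) (hu : F v = u) :
    reflFun F v u v = 2 := by
  rw [reflFun_apply, QuadraticMap.polar_self, hu]
  rw [nsmul_eq_mul, mul_comm, mul_assoc, Units.mul_inv, mul_one]
  norm_num

/-- The reflection in a vector `v` with `F v` a unit. -/
noncomputable def refl (F : QuadraticForm A T) (v : T) (u : Aˣ) (hu : F v = u) : T ≃ₗ[A] T :=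
  Module.reflection (reflFun_self F v u hu)

lemma refl_apply (F : QuadraticForm A T) (v : T) (u : Aˣ) (hu : F v = u) (y : T) :
    refl F v u hu y = y - (↑u⁻¹ * QuadraticMap.polar F y v) • v := by
  rw [refl, Module.reflection_apply, reflFun_apply]

lemma refl_isometry (F : QuadraticForm A T) (v : T) (u : Aˣ) (hu : F v = u) (y : T) :
    F (refl F v u hu y) = F y := by
  rw [refl_apply, sub_eq_add_neg, ← neg_smul, QuadraticMap.map_add F, QuadraticMap.map_smul,
    QuadraticMap.polar_smul_right, hu]
  set p := QuadraticMap.polar F y v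
  have h1 : (↑u⁻¹ : A) * u = 1 := Units.inv_mul u
  simp only [smul_eq_mul]
  linear_combination (↑u⁻¹ * p ^ 2) * h1

end Reflection

section Reflection2

variable {A : Type*} [CommRing A] {T : Type*} [AddCommGroup T] [Module A T]

lemma comm_consequence (F : QuadraticForm A T) (v : T) (u : Aˣ) (hu : F v = u) (G : T ≃ₗ[A] T)
    (hG : ∀ y, G (refl F v u hu y) = refl F v u hu (G y)) (y : T) :
    QuadraticMap.polar F y v • G v = QuadraticMap.polar F (G y) v • v := by
  have h := hG y
  rw [refl_apply, refl_apply, map_sub, map_smul] at h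
  have h2 : (↑u⁻¹ * QuadraticMap.polar F y v) • G v =
      (↑u⁻¹ * QuadraticMap.polar F (G y) v) • v := sub_right_injective h
  have h3 := congrArg (fun z => (u : A) • z) h2
  simp only [smul_smul, ← mul_assoc, Units.mul_inv, one_mul] at h3
  exact h3

end Reflection2

section Coord

universe u
variable {R : Type u} [CommRing R] {n : ℕ} (A : Type u) [CommRing A] [Algebra R A]

/-- Standard basis vector. -/
def e (i : Fin n) : Fin n → R := Pi.single i 1

/-- The vector `∑ aᵢ ⊗ eᵢ`. -/
noncomputable def vec (a : Fin n → A) : A ⊗[R] (Fin n → R) := ∑ i, a i ⊗ₜ[R] (e i : Fin n → R)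

/-- `j`-th coordinate functional on `A ⊗ Rⁿ`. -/
noncomputable def coord (j : Fin n) : A ⊗[R] (Fin n → R) →ₗ[A] A :=
  (AlgebraTensorModule.rid R A A).toLinearMap ∘ₗ LinearMap.baseChange A (LinearMap.proj j)

lemma coord_tmul (j : Fin n) (a : A) (m : Fin n → R) : coord A j (a ⊗ₜ[R] m) = m j • a := by
  simp [coord]

lemma coord_vec (j : Fin n) (a : Fin n → A) : coord (R := R) A j (vec A a) = a j := by
  classical
  simp only [vec, map_sum, coord_tmul, e, Pi.single_apply]
  rw [Finset.sum_eq_single j]
  · simp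
  · intro i _ hij
    rw [if_neg (Ne.symm hij), zero_smul]
  · simp

lemma coord_baseChange_vec (g : (Fin n → R) ≃ₗ[R] (Fin n → R)) (j : Fin n) (a : Fin n → A) :
    coord A j (g.baseChange R A (Fin n → R) (Fin n → R) (vec A a)) = ∑ i, (g (e i)) j • a i := by
  simp only [vec, map_sum, LinearEquiv.baseChange_tmul, coord_tmul]

lemma vec_eq_sum_smul (a : Fin n → A) :
    vec (R := R) A a = ∑ i, a i • ((1 : A) ⊗ₜ[R] (e i : Fin n → R)) := by
  simp [vec, TensorProduct.smul_tmul']

variable (Q : QuadraticForm R (Fin n → R))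

lemma baseChangeForm_vec (a : Fin n → A) :
    baseChangeForm A Q (vec A a) = ∑ i, ∑ k, (bilinLift Q (e i) (e k)) • (a i * a k) := by
  rw [baseChangeForm, LinearMap.compQuadraticMap_apply, QuadGrp.baseChange,
    LinearMap.BilinMap.toQuadraticMap_apply]
  simp only [vec, map_sum, LinearMap.sum_apply, LinearMap.BilinMap.baseChange_tmul,
    LinearEquiv.coe_coe, AlgebraTensorModule.rid_tmul]
  rw [Finset.sum_comm]

lemma polar_one_tmul_vec (k : Fin n) (a : Fin n → A) :
    QuadraticMap.polar (baseChangeForm A Q) ((1 : A) ⊗ₜ[R] (e k : Fin n → R)) (vec A a) =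
      ∑ i, (QuadraticMap.polar Q (e k) (e i)) • a i := by
  rw [vec_eq_sum_smul]
  have := map_sum (QuadraticMap.polarBilin (baseChangeForm A Q) ((1 : A) ⊗ₜ[R] (e k : Fin n → R)))
    (fun i => a i • ((1 : A) ⊗ₜ[R] (e i : Fin n → R))) Finset.univ
  simp only [QuadraticMap.polarBilin_apply_apply] at this
  rw [this]
  apply Finset.sum_congr rfl
  intro i _
  rw [QuadraticMap.polar_smul_right,
    Groth.Agent.Lib.Helper41.HalfDisc.polar_baseChangeForm_one_tmul, smul_eq_mul,
    Algebra.smul_def (QuadraticMap.polar (⇑Q) (e k) (e i)) (a i), mul_comm]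

end Coord

section Poly

universe u
variable {R : Type u} [CommRing R] {n : ℕ} (Q : QuadraticForm R (Fin n → R))

/-- The polynomial `Q(x)`. -/
noncomputable def qPoly : MvPolynomial (Fin n) R :=
  ∑ i, ∑ k, C (bilinLift Q (e i) (e k)) * (X i * X k)

/-- The linear form `B(e_k, x)`. -/
noncomputable def LPoly (k : Fin n) : MvPolynomial (Fin n) R :=
  ∑ i, C (QuadraticMap.polar Q (e k) (e i)) * X i

/-- The linear form `(g x)_j`. -/
noncomputable def lPoly (g : (Fin n → R) ≃ₗ[R] (Fin n → R)) (j : Fin n) : MvPolynomial (Fin n) R :=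
  ∑ i, C ((g (e i)) j) * X i

lemma eq_sum_smul_e (x : Fin n → R) : x = ∑ i, x i • (e i : Fin n → R) := by
  classical
  ext j
  simp [e, Pi.single_apply]

lemma eval_qPoly (x : Fin n → R) : eval x (qPoly Q) = Q x := by
  have h1 : Q x = bilinLift Q x x := by
    conv_lhs => rw [← bilinLift_spec Q]
    rfl
  rw [h1]
  conv_rhs => rw [eq_sum_smul_e x]
  simp only [qPoly, map_sum, map_mul, eval_C, eval_X, LinearMap.sum_apply, map_smul,
    LinearMap.smul_apply, smul_eq_mul]
  simp only [Finset.mul_sum]
  rw [Finset.sum_comm]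
  apply Finset.sum_congr rfl; intro i _
  apply Finset.sum_congr rfl; intro k _
  ring

lemma eval_LPoly (k : Fin n) (x : Fin n → R) :
    eval x (LPoly Q k) = QuadraticMap.polar Q (e k) x := by
  conv_rhs => rw [eq_sum_smul_e x]
  have := map_sum (QuadraticMap.polarBilin Q (e k)) (fun i => x i • (e i : Fin n → R)) Finset.univ
  simp only [QuadraticMap.polarBilin_apply_apply] at this
  rw [this]
  simp only [LPoly, map_sum, map_mul, eval_C, eval_X, QuadraticMap.polar_smul_right, smul_eq_mul]
  apply Finset.sum_congr rfl; intro i _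
  ring

lemma eval_lPoly (g : (Fin n → R) ≃ₗ[R] (Fin n → R)) (j : Fin n) (x : Fin n → R) :
    eval x (lPoly g j) = (g x) j := by
  conv_rhs => rw [eq_sum_smul_e x]
  simp only [lPoly, map_sum, map_mul, eval_C, eval_X, map_smul, Finset.sum_apply, Pi.smul_apply,
    smul_eq_mul]
  apply Finset.sum_congr rfl; intro i _
  ring

variable (A : Type u) [CommRing A] [Algebra R A] [Algebra (MvPolynomial (Fin n) R) A]
  [IsScalarTower R (MvPolynomial (Fin n) R) A]

/-- The generic vector. -/
noncomputable def gen (R : Type u) [CommRing R] {n : ℕ} (A : Type u) [CommRing A] [Algebra R A]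
    [Algebra (MvPolynomial (Fin n) R) A] : Fin n → A :=
  fun i => algebraMap (MvPolynomial (Fin n) R) A (X i)

lemma algebraMap_C (r : R) : algebraMap (MvPolynomial (Fin n) R) A (C r) = algebraMap R A r := by
  rw [← MvPolynomial.algebraMap_eq, ← IsScalarTower.algebraMap_apply]

lemma algebraMap_qPoly :
    algebraMap (MvPolynomial (Fin n) R) A (qPoly Q) = baseChangeForm A Q (vec A (gen R A)) := by
  rw [baseChangeForm_vec]
  simp only [qPoly, map_sum, map_mul, algebraMap_C, gen, Algebra.smul_def]

lemma algebraMap_LPoly (k : Fin n) :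
    algebraMap (MvPolynomial (Fin n) R) A (LPoly Q k) =
      QuadraticMap.polar (baseChangeForm A Q) ((1 : A) ⊗ₜ[R] (e k : Fin n → R)) (vec A (gen R A)) := by
  rw [polar_one_tmul_vec]
  simp only [LPoly, map_sum, map_mul, algebraMap_C, gen, Algebra.smul_def]

lemma algebraMap_lPoly (g : (Fin n → R) ≃ₗ[R] (Fin n → R)) (j : Fin n) :
    algebraMap (MvPolynomial (Fin n) R) A (lPoly g j) =
      coord A j (g.baseChange R A (Fin n → R) (Fin n → R) (vec A (gen R A))) := by
  rw [coord_baseChange_vec]
  simp only [lPoly, map_sum, map_mul, algebraMap_C, gen, Algebra.smul_def]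

end Poly

section Main

universe u
variable {R : Type u} [CommRing R] {n : ℕ} (Q : QuadraticForm R (Fin n → R))

/-- The ideal generated by the values of the polar form on pairs of basis vectors. -/
def polarIdeal : Ideal R :=
  Ideal.span (Set.range fun p : Fin n × Fin n => QuadraticMap.polar Q (e p.1) (e p.2))

lemma polar_mem_polarIdeal (i k : Fin n) : QuadraticMap.polar Q (e i) (e k) ∈ polarIdeal Q :=
  Ideal.subset_span ⟨(i, k), rfl⟩

lemma qPoly_mem_nonZeroDivisors (hb : polarIdeal Q = ⊤) :
    qPoly Q ∈ nonZeroDivisors (MvPolynomial (Fin n) R) := by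
  apply McCoyMv.mem_nonZeroDivisors_of_eval MonomialOrder.lex
  intro I hI
  by_contra hcon
  push Not at hcon
  apply hI.ne_top
  rw [eq_top_iff, ← hb, polarIdeal, Ideal.span_le]
  rintro _ ⟨⟨i, k⟩, rfl⟩
  have h1 := hcon (e i + e k)
  have h2 := hcon (e i)
  have h3 := hcon (e k)
  rw [eval_qPoly] at h1 h2 h3
  exact I.sub_mem (I.sub_mem h1 h2) h3

lemma eq_zero_of_LPoly_mul (hb : polarIdeal Q = ⊤) (w : MvPolynomial (Fin n) R)
    (hw : ∀ k, LPoly Q k * w = 0) : w = 0 := by
  classical
  apply McCoyMv.eq_zero_of_forall_mul_eq_zero MonomialOrder.lex (Finset.univ.image (LPoly Q)) _ w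
  · intro f hf
    obtain ⟨k, _, rfl⟩ := Finset.mem_image.mp hf
    exact hw k
  · intro I hI
    by_contra hcon
    push Not at hcon
    apply hI.ne_top
    rw [eq_top_iff, ← hb, polarIdeal, Ideal.span_le]
    rintro _ ⟨⟨i, k⟩, rfl⟩
    have := hcon (LPoly Q i) (Finset.mem_image_of_mem _ (Finset.mem_univ i)) (e k)
    rwa [eval_LPoly] at this

theorem coords_of_centralizes (hb : polarIdeal Q = ⊤) (g : (Fin n → R) ≃ₗ[R] (Fin n → R))
    (hcomm : ∀ (A : Type u) [CommRing A] [Algebra R A], ∀ h ∈ QuadGrp.orth Q A,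
        g.baseChange R A (Fin n → R) (Fin n → R) * h = h * g.baseChange R A (Fin n → R) (Fin n → R))
    (j j' : Fin n) (x : Fin n → R) : (g x) j * x j' = (g x) j' * x j := by
  classical
  set q := qPoly Q with hq
  let A := Localization.Away q
  let F : QuadraticForm A (A ⊗[R] (Fin n → R)) := baseChangeForm A Q
  let v : A ⊗[R] (Fin n → R) := vec A (gen R A)
  let gA := g.baseChange R A (Fin n → R) (Fin n → R)
  have hFv : F v = algebraMap (MvPolynomial (Fin n) R) A q := (algebraMap_qPoly Q A).symm
  have hunit : IsUnit (algebraMap (MvPolynomial (Fin n) R) A q) :=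
    IsLocalization.map_units A (⟨q, Submonoid.mem_powers q⟩ : Submonoid.powers q)
  let u : Aˣ := hunit.unit
  have hu : F v = u := by rw [hFv]; exact hunit.unit_spec.symm
  let h := refl F v u hu
  have hmem : h ∈ QuadGrp.orth Q A := by
    rw [QuadGrp.orth, QuadGrp.mem_O]
    intro y
    apply (AlgebraTensorModule.rid R A A).injective
    exact refl_isometry F v u hu y
  have hG : ∀ y, gA (h y) = h (gA y) := by
    intro y
    have := hcomm A h hmem
    exact congrArg (fun f => f y) this
  have hW : lPoly g j * X j' - lPoly g j' * X j = 0 := by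
    apply eq_zero_of_LPoly_mul Q hb
    intro k
    have key := comm_consequence F v u hu gA hG ((1 : A) ⊗ₜ[R] (e k : Fin n → R))
    have hj := congrArg (coord A j) key
    have hj' := congrArg (coord A j') key
    simp only [map_smul, smul_eq_mul] at hj hj'
    rw [show coord A j v = algebraMap (MvPolynomial (Fin n) R) A (X j) from coord_vec A j _,
      ← algebraMap_lPoly, ← algebraMap_LPoly] at hj
    rw [show coord A j' v = algebraMap (MvPolynomial (Fin n) R) A (X j') from coord_vec A j' _,
      ← algebraMap_lPoly, ← algebraMap_LPoly] at hj'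
    have hzero : algebraMap (MvPolynomial (Fin n) R) A
        (LPoly Q k * (lPoly g j * X j' - lPoly g j' * X j)) = 0 := by
      simp only [map_mul, map_sub]
      linear_combination (algebraMap (MvPolynomial (Fin n) R) A (X j')) * hj -
        (algebraMap (MvPolynomial (Fin n) R) A (X j)) * hj'
    obtain ⟨m, hm⟩ := (IsLocalization.map_eq_zero_iff (Submonoid.powers q) A _).mp hzero
    have hmnz : (m : MvPolynomial (Fin n) R) ∈ nonZeroDivisors (MvPolynomial (Fin n) R) :=
      (Submonoid.powers_le.mpr (qPoly_mem_nonZeroDivisors Q hb)) m.2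
    exact (mul_left_mem_nonZeroDivisors_eq_zero_iff hmnz).mp hm
  have := congrArg (eval x) hW
  simp only [map_sub, map_mul, eval_lPoly, eval_X, map_zero] at this
  exact sub_eq_zero.mp this

end Main

section Nondeg

universe u
variable {R : Type u} [CommRing R] {n : ℕ} (Q : QuadraticForm R (Fin n → R))

lemma polar_mem_polarIdeal' (x y : Fin n → R) : QuadraticMap.polar Q x y ∈ polarIdeal Q := by
  have h1 : ∀ (k : Fin n) (y : Fin n → R), QuadraticMap.polar Q (e k) y ∈ polarIdeal Q := by
    intro k y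
    rw [← eval_LPoly, LPoly]
    simp only [map_sum, map_mul, eval_C, eval_X]
    exact Ideal.sum_mem _ fun i _ => Ideal.mul_mem_right _ _ (polar_mem_polarIdeal Q k i)
  rw [QuadraticMap.polar_comm]
  conv => arg 2; arg 3; rw [eq_sum_smul_e x]
  have := map_sum (QuadraticMap.polarBilin Q y) (fun i => x i • (e i : Fin n → R)) Finset.univ
  simp only [QuadraticMap.polarBilin_apply_apply] at this
  rw [this]
  refine Ideal.sum_mem _ fun i _ => ?_
  rw [QuadraticMap.polar_smul_right, QuadraticMap.polar_comm]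
  exact Ideal.mul_mem_left _ _ (h1 i y)

lemma polarIdeal_eq_top_of_isRegular (hn : 0 < n) (h : IsRegular Q) : polarIdeal Q = ⊤ := by
  obtain ⟨x, hx⟩ := h.2 (LinearMap.proj (⟨0, hn⟩ : Fin n))
  have h1 : QuadraticMap.polar Q x (e ⟨0, hn⟩) = 1 := by
    have := congrArg (fun f => f (e (⟨0, hn⟩ : Fin n))) hx
    simpa [e] using this
  rw [Ideal.eq_top_iff_one, ← h1]
  exact polar_mem_polarIdeal' Q _ _

lemma polarIdeal_eq_top_of_isSemiregular (m : ℕ) (hm : 1 ≤ m)
    (Q : QuadraticForm R (Fin (2 * m + 1) → R))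
    (h : IsSemiregular (Pi.basisFun R (Fin (2 * m + 1))) (LinearEquiv.refl R R) Q) :
    polarIdeal Q = ⊤ := by
  classical
  by_contra hne
  obtain ⟨I, hI, hle⟩ := Ideal.exists_le_maximal _ hne
  have := hI.isPrime
  have hnd := (Groth.Agent.S17015.result m (Pi.basisFun R (Fin (2 * m + 1))) Q).mp h I
  let κ := I.ResidueField
  let F : QuadraticForm κ (κ ⊗[R] (Fin (2 * m + 1) → R)) := baseChangeForm κ Q
  let b : Module.Basis (Fin (2 * m + 1)) κ (κ ⊗[R] (Fin (2 * m + 1) → R)) :=
    (Pi.basisFun R (Fin (2 * m + 1))).baseChange κ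
  have hzero : QuadraticMap.polarBilin F = 0 := by
    apply LinearMap.ext_basis b b
    intro i k
    simp only [b, Module.Basis.baseChange_apply, Pi.basisFun_apply,
      QuadraticMap.polarBilin_apply_apply, LinearMap.zero_apply]
    rw [Groth.Agent.Lib.Helper41.HalfDisc.polar_baseChangeForm_one_tmul,
      Ideal.algebraMap_residueField_eq_zero]
    exact hle (polar_mem_polarIdeal' Q _ _)
  have hker : (QuadraticMap.polarBilin F).ker = ⊤ := by
    rw [hzero]; exact LinearMap.ker_zero
  have hrank := hnd.rank_rad_polar_le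
  rw [hker, rank_top, rank_eq_card_basis b, Fintype.card_fin] at hrank
  have : (2 * m + 1 : ℕ) ≤ 1 := by exact_mod_cast hrank
  omega

theorem polarIdeal_eq_top (hn : 3 ≤ n)
    (hQ : IsNondeg (Pi.basisFun R (Fin n)) (LinearEquiv.refl R R) Q) : polarIdeal Q = ⊤ := by
  rcases Nat.even_or_odd n with he | ho
  · exact polarIdeal_eq_top_of_isRegular Q (by omega) (hQ.1 he)
  · have hs := hQ.2 ho
    obtain ⟨m, rfl⟩ := ho
    exact polarIdeal_eq_top_of_isSemiregular m (by omega) Q hs

end Nondeg

section Scalar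

universe u
variable {R : Type u} [CommRing R] {n : ℕ} (Q : QuadraticForm R (Fin n → R))

theorem exists_scalar_of_coords (hn : 0 < n) (hb : polarIdeal Q = ⊤)
    (g : (Fin n → R) ≃ₗ[R] (Fin n → R)) (hg : g ∈ QuadGrp.O Q)
    (H : ∀ (j j' : Fin n) (x : Fin n → R), (g x) j * x j' = (g x) j' * x j) :
    ∃ c : R, c * c = 1 ∧ ∀ v, g v = c • v := by
  classical
  let i0 : Fin n := ⟨0, hn⟩
  have hoff : ∀ j j' : Fin n, j ≠ j' → (g (e j')) j = 0 := by
    intro j j' hjj'
    have := H j j' (e j')
    simpa [e, Pi.single_apply, hjj', Ne.symm hjj'] using this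
  have hdiag : ∀ j j' : Fin n, (g (e j)) j = (g (e j')) j' := by
    intro j j'
    by_cases hjj' : j = j'
    · rw [hjj']
    have := H j j' (e j + e j')
    simp only [map_add, Pi.add_apply] at this
    rw [hoff j j' hjj', hoff j' j (Ne.symm hjj')] at this
    simpa [e, Pi.single_apply, hjj', Ne.symm hjj'] using this
  let c : R := (g (e i0)) i0
  have hge : ∀ i : Fin n, g (e i) = c • (e i : Fin n → R) := by
    intro i
    ext j
    by_cases hji : j = i
    · subst hji
      rw [hdiag j i0]
      simp [e, c]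
    · rw [hoff j i hji]
      simp [e, hji]
  have hgv : ∀ v, g v = c • v := by
    intro v
    conv_lhs => rw [eq_sum_smul_e v]
    conv_rhs => rw [eq_sum_smul_e v]
    simp only [map_sum, map_smul, hge, Finset.smul_sum]
    apply Finset.sum_congr rfl
    intro i _
    rw [smul_comm]
  refine ⟨c, ?_, hgv⟩
  have hQ : ∀ v, (c * c - 1) * Q v = 0 := by
    intro v
    have := (QuadGrp.mem_O Q g).mp hg v
    rw [hgv, QuadraticMap.map_smul, smul_eq_mul] at this
    linear_combination this
  have hpol : ∀ r ∈ polarIdeal Q, (c * c - 1) * r = 0 := by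
    intro r hr
    induction hr using Submodule.span_induction with
    | mem x hx =>
      obtain ⟨⟨i, k⟩, rfl⟩ := hx
      simp only [QuadraticMap.polar]
      linear_combination hQ (e i + e k) - hQ (e i) - hQ (e k)
    | zero => simp
    | add x y _ _ hx hy => rw [mul_add, hx, hy, add_zero]
    | smul a x _ hx => rw [smul_eq_mul, mul_left_comm, hx, mul_zero]
  have h1 := hpol 1 (by rw [hb]; trivial)
  linear_combination h1

theorem baseChange_comm_of_scalar (g : (Fin n → R) ≃ₗ[R] (Fin n → R)) (c : R)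
    (hgv : ∀ v, g v = c • v) (A : Type u) [CommRing A] [Algebra R A]
    (h : (A ⊗[R] (Fin n → R)) ≃ₗ[A] (A ⊗[R] (Fin n → R))) :
    g.baseChange R A (Fin n → R) (Fin n → R) * h = h * g.baseChange R A (Fin n → R) (Fin n → R) := by
  have hgA : ∀ y, g.baseChange R A (Fin n → R) (Fin n → R) y = algebraMap R A c • y := by
    intro y
    induction y using TensorProduct.induction_on with
    | zero => simp
    | tmul a m =>
      rw [LinearEquiv.baseChange_tmul, hgv, TensorProduct.tmul_smul, algebraMap_smul]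
    | add x y hx hy => rw [map_add, hx, hy, smul_add]
  ext y
  change g.baseChange R A (Fin n → R) (Fin n → R) (h y) = h (g.baseChange R A (Fin n → R) (Fin n → R) y)
  rw [hgA, hgA, map_smul]

end Scalar

end Groth.Agent.Lib.Helper77.QuadRefl
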