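import Mathlib
import Groth.Agent.Lib.Helper77.QuadRefl

namespace Groth.Agent.Lib.Helper77.QuadRefl

open TensorProduct QuadGrp MvPolynomial CliffordAlgebra

section Det

variable {A : Type*} [CommRing A] {T : Type*} [AddCommGroup T] [Module A T]

/-- Determinant of a reflection `y ↦ y - φ(y) v` with `φ v = 2` on a finite free module. -/
theorem det_reflection {ι : Type*} [Fintype ι] [DecidableEq ι] (b : Module.Basis ι A T)
    (φ : T →ₗ[A] A) (v : T) (h : φ v = 2) :
    LinearMap.det ((Module.reflection h : T ≃ₗ[A] T) : T →ₗ[A] T) = -1 := by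
  rw [← LinearMap.det_toMatrix b]
  have hM : LinearMap.toMatrix b b ((Module.reflection h : T ≃ₗ[A] T) : T →ₗ[A] T) =
      1 + Matrix.replicateCol Unit (fun i => - b.repr v i) * Matrix.replicateRow Unit (fun k => φ (b k)) := by
    ext i k
    rw [LinearMap.toMatrix_apply]
    simp only [LinearEquiv.coe_coe, Module.reflection_apply, map_sub, map_smul, Finsupp.coe_sub,
      Finsupp.coe_smul, Pi.sub_apply, Pi.smul_apply, smul_eq_mul, Module.Basis.repr_self,
      Matrix.add_apply, Matrix.one_apply, Matrix.mul_apply, Matrix.replicateCol_apply,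
      Matrix.replicateRow_apply, Finset.univ_unique, Finset.sum_singleton, Finsupp.single_apply]
    by_cases hik : i = k
    · subst hik; simp; ring
    · simp [hik, Ne.symm hik]; ring
  rw [hM, Matrix.det_one_add_replicateCol_mul_replicateRow]
  have : (fun k => φ (b k)) ⬝ᵥ (fun i => - b.repr v i) = - φ v := by
    conv_rhs => rw [← b.sum_repr v]
    simp only [dotProduct, map_sum, map_smul, smul_eq_mul, mul_neg, Finset.sum_neg_distrib]
    congr 1
    apply Finset.sum_congr rfl; intro i _; ring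
  rw [this, h]; norm_num

end Det

section Core

universe u
variable {R : Type u} [CommRing R] {n : ℕ} (Q : QuadraticForm R (Fin n → R))

/-- Core single-reflection lemma: if `g` commutes with all reflections over all algebras then
`g x` is "proportional" to `x` for all `x`. -/
theorem coords_of_comm_refl (hb : polarIdeal Q = ⊤) (g : (Fin n → R) ≃ₗ[R] (Fin n → R))
    (H : ∀ (A : Type u) [CommRing A] [Algebra R A] (v : A ⊗[R] (Fin n → R)) (u : Aˣ)
        (hu : baseChangeForm A Q v = u) (y : A ⊗[R] (Fin n → R)),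
        g.baseChange R A (Fin n → R) (Fin n → R) (refl (baseChangeForm A Q) v u hu y) =
          refl (baseChangeForm A Q) v u hu (g.baseChange R A (Fin n → R) (Fin n → R) y))
    (j j' : Fin n) (x : Fin n → R) : (g x) j * x j' = (g x) j' * x j := by
  classical
  set q := qPoly Q with hq
  let A := Localization.Away q
  let F : QuadraticForm A (A ⊗[R] (Fin n → R)) := baseChangeForm A Q
  let v : A ⊗[R] (Fin n → R) := vec A (gen R A)
  let gA := g.baseChange R A (Fin n → R) (Fin n → R)
  have hFv : F v = algebraMap (MvPolynomial (Fin n) R) A q := (algebraMap_qPoly Q A).symm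
  have hunit : IsUnit (algebraMap (MvPolynomial (Fin n) R) A q) :=
    IsLocalization.map_units A (⟨q, Submonoid.mem_powers q⟩ : Submonoid.powers q)
  let u : Aˣ := hunit.unit
  have hu : F v = u := by rw [hFv]; exact hunit.unit_spec.symm
  have hG : ∀ y, gA (refl F v u hu y) = refl F v u hu (gA y) := H A v u hu
  have hW : lPoly g j * X j' - lPoly g j' * X j = 0 := by
    apply eq_zero_of_LPoly_mul Q hb
    intro k
    have key := comm_consequence F v u hu gA hG ((1 : A) ⊗ₜ[R] (e k : Fin n → R))
    have hj := congrArg (coord A j) key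
    have hj' := congrArg (coord A j') key
    simp only [map_smul, smul_eq_mul] at hj hj'
    rw [show coord A j v = algebraMap (MvPolynomial (Fin n) R) A (X j) from coord_vec A j _,
      ← algebraMap_lPoly, ← algebraMap_LPoly] at hj
    rw [show coord A j' v = algebraMap (MvPolynomial (Fin n) R) A (X j') from coord_vec A j' _,
      ← algebraMap_lPoly, ← algebraMap_LPoly] at hj'
    have hzero : algebraMap (MvPolynomial (Fin n) R) A
        (LPoly Q k * (lPoly g j * X j' - lPoly g j' * X j)) = 0 := by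
      simp only [map_mul, map_sub]
      linear_combination (algebraMap (MvPolynomial (Fin n) R) A (X j')) * hj -
        (algebraMap (MvPolynomial (Fin n) R) A (X j)) * hj'
    obtain ⟨m, hm⟩ := (IsLocalization.map_eq_zero_iff (Submonoid.powers q) A _).mp hzero
    have hmnz : (m : MvPolynomial (Fin n) R) ∈ nonZeroDivisors (MvPolynomial (Fin n) R) :=
      (Submonoid.powers_le.mpr (qPoly_mem_nonZeroDivisors Q hb)) m.2
    exact (mul_left_mem_nonZeroDivisors_eq_zero_iff hmnz).mp hm
  have := congrArg (eval x) hW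
  simp only [map_sub, map_mul, eval_lPoly, eval_X, map_zero] at this
  exact sub_eq_zero.mp this

variable (A : Type u) [CommRing A] [Algebra R A]

lemma refl_mem_orth (v : A ⊗[R] (Fin n → R)) (u : Aˣ) (hu : baseChangeForm A Q v = u) :
    refl (baseChangeForm A Q) v u hu ∈ QuadGrp.orth Q A := by
  rw [QuadGrp.orth, QuadGrp.mem_O]
  intro y
  apply (AlgebraTensorModule.rid R A A).injective
  exact refl_isometry (baseChangeForm A Q) v u hu y

lemma det_refl (v : A ⊗[R] (Fin n → R)) (u : Aˣ) (hu : baseChangeForm A Q v = u) :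
    LinearEquiv.det (refl (baseChangeForm A Q) v u hu) = -1 := by
  classical
  apply Units.ext
  rw [LinearEquiv.coe_det, Units.val_neg, Units.val_one]
  exact det_reflection ((Pi.basisFun R (Fin n)).baseChange A) _ v _

lemma det_neg_equiv :
    LinearEquiv.det (LinearEquiv.neg A : (A ⊗[R] (Fin n → R)) ≃ₗ[A] (A ⊗[R] (Fin n → R))) =
      (-1) ^ n := by
  classical
  apply Units.ext
  rw [LinearEquiv.coe_det, Units.val_pow_eq_pow_val, Units.val_neg, Units.val_one]
  rw [← LinearMap.det_toMatrix ((Pi.basisFun R (Fin n)).baseChange A)]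
  have : LinearMap.toMatrix ((Pi.basisFun R (Fin n)).baseChange A)
      ((Pi.basisFun R (Fin n)).baseChange A)
      ((LinearEquiv.neg A : (A ⊗[R] (Fin n → R)) ≃ₗ[A] (A ⊗[R] (Fin n → R))) :
        (A ⊗[R] (Fin n → R)) →ₗ[A] (A ⊗[R] (Fin n → R))) = -1 := by
    ext i k
    rw [LinearMap.toMatrix_apply]
    simp only [LinearEquiv.coe_coe, LinearEquiv.neg_apply, map_neg, Module.Basis.repr_self,
      Finsupp.coe_neg, Pi.neg_apply, Finsupp.single_apply, Matrix.neg_apply, Matrix.one_apply]
    by_cases hik : i = k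
    · subst hik; simp
    · simp [hik, Ne.symm hik]
  rw [this, Matrix.det_neg, Matrix.det_one, mul_one, Fintype.card_fin]

/-- For odd `n`, commuting with the determinant-one isometries implies commuting with reflections. -/
theorem comm_refl_of_comm_sorth'_odd (hodd : Odd n) (g : (Fin n → R) ≃ₗ[R] (Fin n → R))
    (hcomm : ∀ h ∈ QuadGrp.sorth' Q A,
        g.baseChange R A (Fin n → R) (Fin n → R) * h = h * g.baseChange R A (Fin n → R) (Fin n → R))
    (v : A ⊗[R] (Fin n → R)) (u : Aˣ) (hu : baseChangeForm A Q v = u) (y : A ⊗[R] (Fin n → R)) :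
    g.baseChange R A (Fin n → R) (Fin n → R) (refl (baseChangeForm A Q) v u hu y) =
      refl (baseChangeForm A Q) v u hu (g.baseChange R A (Fin n → R) (Fin n → R) y) := by
  let τ := refl (baseChangeForm A Q) v u hu
  let h : (A ⊗[R] (Fin n → R)) ≃ₗ[A] (A ⊗[R] (Fin n → R)) := LinearEquiv.neg A * τ
  have hmem : h ∈ QuadGrp.sorth' Q A := by
    rw [QuadGrp.sorth', QuadGrp.SO', Subgroup.mem_inf]
    constructor
    · rw [QuadGrp.mem_O]
      intro z
      change QuadGrp.baseChange A Q (-(τ z)) = _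
      rw [QuadraticMap.map_neg]
      exact (QuadGrp.mem_O _ _).mp (refl_mem_orth Q A v u hu) z
    · rw [MonoidHom.mem_ker, map_mul, det_neg_equiv, det_refl, hodd.neg_one_pow]
      simp
  have := congrArg (fun f => f y) (hcomm h hmem)
  change g.baseChange R A (Fin n → R) (Fin n → R) (-(τ y)) =
    -(τ (g.baseChange R A (Fin n → R) (Fin n → R) y)) at this
  rw [map_neg, neg_inj] at this
  exact this

end Core

section Aeval

universe u
variable {R : Type u} [CommRing R] {n : ℕ} (Q : QuadraticForm R (Fin n → R))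
variable (A : Type u) [CommRing A] [Algebra R A]

lemma aeval_qPoly (a : Fin n → A) :
    aeval a (qPoly Q) = baseChangeForm A Q (vec A a) := by
  rw [baseChangeForm_vec]
  simp only [qPoly, map_sum, map_mul, aeval_C, aeval_X, Algebra.smul_def]

lemma aeval_LPoly (k : Fin n) (a : Fin n → A) :
    aeval a (LPoly Q k) =
      QuadraticMap.polar (baseChangeForm A Q) ((1 : A) ⊗ₜ[R] (e k : Fin n → R)) (vec A a) := by
  rw [polar_one_tmul_vec]
  simp only [LPoly, map_sum, map_mul, aeval_C, aeval_X, Algebra.smul_def]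

lemma aeval_lPoly (g : (Fin n → R) ≃ₗ[R] (Fin n → R)) (j : Fin n) (a : Fin n → A) :
    aeval a (lPoly g j) =
      coord A j (g.baseChange R A (Fin n → R) (Fin n → R) (vec A a)) := by
  rw [coord_baseChange_vec]
  simp only [lPoly, map_sum, map_mul, aeval_C, aeval_X, Algebra.smul_def]

lemma eval_aeval {σ : Type*} (ρ : σ → R) (V : Fin n → MvPolynomial σ R)
    (p : MvPolynomial (Fin n) R) :
    eval ρ (aeval V p) = eval (fun i => eval ρ (V i)) p := by
  have := congrArg (fun φ => φ p) (MvPolynomial.comp_aeval (R := R) (f := V) (aeval ρ : MvPolynomial σ R →ₐ[R] R))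
  simpa [MvPolynomial.coe_aeval_eq_eval] using this

lemma algebraMap_aeval {σ : Type*} [Algebra (MvPolynomial σ R) A] [IsScalarTower R (MvPolynomial σ R) A]
    (V : Fin n → MvPolynomial σ R) (p : MvPolynomial (Fin n) R) :
    algebraMap (MvPolynomial σ R) A (aeval V p) =
      aeval (fun i => algebraMap (MvPolynomial σ R) A (V i)) p := by
  have := congrArg (fun φ => φ p) (MvPolynomial.comp_aeval (R := R) (f := V)
    (IsScalarTower.toAlgHom R (MvPolynomial σ R) A))
  simpa using this

end Aeval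

section Regular

universe u
variable {R : Type u} [CommRing R] {n : ℕ} (Q : QuadraticForm R (Fin n → R))
variable (A : Type u) [CommRing A] [Algebra R A]

lemma eq_sum_coord (z : A ⊗[R] (Fin n → R)) :
    z = ∑ i, coord A i z • ((1 : A) ⊗ₜ[R] (e i : Fin n → R)) := by
  induction z using TensorProduct.induction_on with
  | zero => simp
  | tmul a m =>
    simp only [coord_tmul, TensorProduct.smul_tmul', smul_eq_mul, mul_one]
    conv_lhs => rw [eq_sum_smul_e m, TensorProduct.tmul_sum]
    apply Finset.sum_congr rfl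
    intro i _
    rw [TensorProduct.tmul_smul, TensorProduct.smul_tmul']
  | add x y hx hy =>
    conv_lhs => rw [hx, hy]
    rw [← Finset.sum_add_distrib]
    apply Finset.sum_congr rfl
    intro i _
    rw [map_add, add_smul]

lemma eq_zero_of_polar_eq_zero (hreg : IsRegular Q) (z : A ⊗[R] (Fin n → R))
    (hz : ∀ y, QuadraticMap.polar (baseChangeForm A Q) y z = 0) : z = 0 := by
  have hcoord : ∀ i, coord A i z = 0 := by
    intro i
    obtain ⟨w, hw⟩ := hreg.2 (LinearMap.proj i)
    have key : ∀ z : A ⊗[R] (Fin n → R),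
        coord A i z = QuadraticMap.polar (baseChangeForm A Q) ((1 : A) ⊗ₜ[R] w) z := by
      intro z
      induction z using TensorProduct.induction_on with
      | zero => simp
      | tmul a m =>
        have h1 : a ⊗ₜ[R] m = a • ((1 : A) ⊗ₜ[R] m) := by
          rw [TensorProduct.smul_tmul', smul_eq_mul, mul_one]
        rw [coord_tmul, h1, QuadraticMap.polar_smul_right,
          Groth.Agent.Lib.Helper41.HalfDisc.polar_baseChangeForm_one_tmul]
        have h2 : QuadraticMap.polar Q w m = m i := by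
          have := congrArg (fun f => f m) hw
          simpa using this
        rw [h2, Algebra.smul_def, smul_eq_mul, mul_comm]
      | add x y hx hy =>
        rw [map_add, hx, hy, QuadraticMap.polar_add_right]
    rw [key, hz]
  rw [eq_sum_coord A z]
  simp [hcoord]

end Regular

section Two

universe u
variable {R : Type u} [CommRing R] {n : ℕ} (Q : QuadraticForm R (Fin n → R))

lemma exists_Q_notMem (hb : polarIdeal Q = ⊤) (I : Ideal R) (hI : I.IsMaximal) :
    ∃ x : Fin n → R, Q x ∉ I := by
  by_contra hcon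
  push Not at hcon
  apply hI.ne_top
  rw [eq_top_iff, ← hb, polarIdeal, Ideal.span_le]
  rintro _ ⟨⟨i, k⟩, rfl⟩
  exact I.sub_mem (I.sub_mem (hcon (e i + e k)) (hcon (e i))) (hcon (e k))

/-- The two generic vectors: `V i = x_i`, `V' i = x_i + δ_{i j''} t` in `R[x_0..x_{n-1}, t]`. -/
noncomputable def V1 (R : Type u) [CommRing R] (n : ℕ) : Fin n → MvPolynomial (Fin (n + 1)) R :=
  fun i => X i.castSucc

noncomputable def V2 (R : Type u) [CommRing R] (n : ℕ) (j'' : Fin n) :
    Fin n → MvPolynomial (Fin (n + 1)) R :=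
  fun i => X i.castSucc + if i = j'' then X (Fin.last n) else 0

lemma eval_V1 (x : Fin n → R) (t : R) (i : Fin n) :
    eval (Fin.snoc x t : Fin (n + 1) → R) (V1 R n i) = x i := by
  simp [V1]

lemma eval_V2 (x : Fin n → R) (t : R) (j'' i : Fin n) :
    eval (Fin.snoc x t : Fin (n + 1) → R) (V2 R n j'' i) = x i + if i = j'' then t else 0 := by
  simp only [V2, map_add, eval_X, Fin.snoc_castSucc]
  split_ifs <;> simp

lemma q1_mem_nonZeroDivisors (hb : polarIdeal Q = ⊤) :
    aeval (V1 R n) (qPoly Q) ∈ nonZeroDivisors (MvPolynomial (Fin (n + 1)) R) := by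
  apply McCoyMv.mem_nonZeroDivisors_of_eval MonomialOrder.lex
  intro I hI
  obtain ⟨x, hx⟩ := exists_Q_notMem Q hb I hI
  refine ⟨Fin.snoc x 0, ?_⟩
  rw [eval_aeval]
  simp only [eval_V1, eval_qPoly]
  exact hx

lemma q2_mem_nonZeroDivisors (hb : polarIdeal Q = ⊤) (j'' : Fin n) :
    aeval (V2 R n j'') (qPoly Q) ∈ nonZeroDivisors (MvPolynomial (Fin (n + 1)) R) := by
  apply McCoyMv.mem_nonZeroDivisors_of_eval MonomialOrder.lex
  intro I hI
  obtain ⟨x, hx⟩ := exists_Q_notMem Q hb I hI
  refine ⟨Fin.snoc x 0, ?_⟩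
  rw [eval_aeval]
  simp only [eval_V2, ite_self, add_zero, eval_qPoly]
  exact hx

lemma X_mul_X_mem_nonZeroDivisors (a b : Fin (n + 1)) :
    (X a * X b : MvPolynomial (Fin (n + 1)) R) ∈ nonZeroDivisors (MvPolynomial (Fin (n + 1)) R) := by
  apply McCoyMv.mem_nonZeroDivisors_of_eval MonomialOrder.lex
  intro I hI
  refine ⟨fun _ => 1, ?_⟩
  simp only [map_mul, eval_X, mul_one]
  exact (Ideal.ne_top_iff_one I).mp hI.ne_top

end Two

section TwoMain

universe u
variable {R : Type u} [CommRing R] {n : ℕ} (Q : QuadraticForm R (Fin n → R))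

theorem coords_of_comm_two_refl (hb : polarIdeal Q = ⊤) (hreg : IsRegular Q)
    (g : (Fin n → R) ≃ₗ[R] (Fin n → R))
    (H2 : ∀ (A : Type u) [CommRing A] [Algebra R A] (v v' : A ⊗[R] (Fin n → R)) (u u' : Aˣ)
        (hu : baseChangeForm A Q v = u) (hu' : baseChangeForm A Q v' = u')
        (y : A ⊗[R] (Fin n → R)),
        g.baseChange R A (Fin n → R) (Fin n → R)
            (refl (baseChangeForm A Q) v u hu (refl (baseChangeForm A Q) v' u' hu' y)) =
          refl (baseChangeForm A Q) v u hu (refl (baseChangeForm A Q) v' u' hu'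
            (g.baseChange R A (Fin n → R) (Fin n → R) y)))
    (j j' j'' : Fin n) (hj : j ≠ j'') (hj' : j' ≠ j'') (x : Fin n → R) :
    (g x) j * x j' = (g x) j' * x j := by
  classical
  set q1 : MvPolynomial (Fin (n + 1)) R := aeval (V1 R n) (qPoly Q) with hq1
  set q2 : MvPolynomial (Fin (n + 1)) R := aeval (V2 R n j'') (qPoly Q) with hq2
  let A := Localization.Away (q1 * q2)
  let F : QuadraticForm A (A ⊗[R] (Fin n → R)) := baseChangeForm A Q
  let a : Fin n → A := fun i => algebraMap (MvPolynomial (Fin (n + 1)) R) A (V1 R n i)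
  let a' : Fin n → A := fun i => algebraMap (MvPolynomial (Fin (n + 1)) R) A (V2 R n j'' i)
  let t : A := algebraMap (MvPolynomial (Fin (n + 1)) R) A (X (Fin.last n))
  let v : A ⊗[R] (Fin n → R) := vec A a
  let v' : A ⊗[R] (Fin n → R) := vec A a'
  let gA := g.baseChange R A (Fin n → R) (Fin n → R)
  have hFv : F v = algebraMap (MvPolynomial (Fin (n + 1)) R) A q1 := by
    change F v = algebraMap (MvPolynomial (Fin (n + 1)) R) A (aeval (V1 R n) (qPoly Q))
    rw [algebraMap_aeval, aeval_qPoly]
  have hFv' : F v' = algebraMap (MvPolynomial (Fin (n + 1)) R) A q2 := by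
    change F v' = algebraMap (MvPolynomial (Fin (n + 1)) R) A (aeval (V2 R n j'') (qPoly Q))
    rw [algebraMap_aeval, aeval_qPoly]
  have hunit12 : IsUnit (algebraMap (MvPolynomial (Fin (n + 1)) R) A (q1 * q2)) :=
    IsLocalization.map_units A (⟨q1 * q2, Submonoid.mem_powers _⟩ : Submonoid.powers (q1 * q2))
  rw [map_mul] at hunit12
  have hunit1 := isUnit_of_mul_isUnit_left hunit12
  have hunit2 := isUnit_of_mul_isUnit_right hunit12
  let u : Aˣ := hunit1.unit
  let u' : Aˣ := hunit2.unit
  have hu : F v = u := by rw [hFv]; exact hunit1.unit_spec.symm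
  have hu' : F v' = u' := by rw [hFv']; exact hunit2.unit_spec.symm
  have ha'j : a' j = a j := by simp [a', a, V2, V1, hj]
  have ha'j' : a' j' = a j' := by simp [a', a, V2, V1, hj']
  have ha'j'' : a' j'' = a j'' + t := by simp [a', a, t, V2, V1]
  -- the functional D
  let D : (A ⊗[R] (Fin n → R)) →ₗ[A] A := a j' • coord A j - a j • coord A j'
  have hD : ∀ z, D z = a j' * coord A j z - a j * coord A j' z := fun z => by
    simp [D]
  have hDv : D v = 0 := by rw [hD]; simp only [v, coord_vec]; ring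
  have hDv' : D v' = 0 := by rw [hD]; simp only [v', coord_vec, ha'j, ha'j']; ring
  set D₀ := D (gA v) with hD₀
  set D' := D (gA v') with hD'
  set r := QuadraticMap.polar F v' v with hr
  have hui : (↑u⁻¹ : A) * u = 1 := Units.inv_mul u
  have hui' : (↑u'⁻¹ : A) * u' = 1 := Units.inv_mul u'
  have hE : ∀ y, QuadraticMap.polar F y
      (((u' : A) * D₀) • v + ((u : A) * D' - r * D₀) • v') = 0 := by
    intro y
    have h := congrArg D (H2 A v v' u u' hu hu' y)
    simp only [refl_apply, map_sub, map_smul, smul_eq_mul, hDv, hDv', mul_zero, sub_zero] at h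
    rw [QuadraticMap.polar_add_right, QuadraticMap.polar_smul_right, QuadraticMap.polar_smul_right]
    simp only [smul_eq_mul]
    set p := QuadraticMap.polar F y v
    set p' := QuadraticMap.polar F y v'
    have key : (↑u'⁻¹ * p') * D' + (↑u⁻¹ * (p - ↑u'⁻¹ * p' * r)) * D₀ = 0 := by
      linear_combination -h
    linear_combination ((u : A) * u') * key - ((u' : A) * D₀ * p) * hui - ((u : A) * D' * p') * hui' +
      (r * D₀ * p' * (↑u'⁻¹ * u')) * hui + (r * D₀ * p') * hui'
  have hz := eq_zero_of_polar_eq_zero Q A hreg _ hE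
  have hzj := congrArg (coord A j) hz
  have hzj'' := congrArg (coord A j'') hz
  simp only [map_add, map_smul, smul_eq_mul, v, v', coord_vec, map_zero, ha'j, ha'j''] at hzj hzj''
  have hc1 : D₀ * (a j * t) = 0 := by
    have : ((u' : A) * D₀) * (a j * t) = 0 := by
      linear_combination (a j'' + t) * hzj - (a j) * hzj''
    linear_combination (↑u'⁻¹ : A) * this - (D₀ * (a j * t)) * hui'
  -- pull back to the polynomial ring
  set W' : MvPolynomial (Fin (n + 1)) R :=
    V1 R n j' * aeval (V1 R n) (lPoly g j) - V1 R n j * aeval (V1 R n) (lPoly g j') with hW'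
  have hD₀' : D₀ = algebraMap (MvPolynomial (Fin (n + 1)) R) A W' := by
    rw [hD₀, hD, hW', map_sub, map_mul, map_mul, algebraMap_aeval, algebraMap_aeval, aeval_lPoly,
      aeval_lPoly]
  have hzero : algebraMap (MvPolynomial (Fin (n + 1)) R) A
      (W' * (X j.castSucc * X (Fin.last n))) = 0 := by
    rw [map_mul, map_mul, ← hD₀']
    exact hc1
  obtain ⟨m, hm⟩ := (IsLocalization.map_eq_zero_iff (Submonoid.powers (q1 * q2)) A _).mp hzero
  have hmnz : (m : MvPolynomial (Fin (n + 1)) R) ∈ nonZeroDivisors (MvPolynomial (Fin (n + 1)) R) :=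
    (Submonoid.powers_le.mpr (mul_mem (q1_mem_nonZeroDivisors Q hb)
      (q2_mem_nonZeroDivisors Q hb j''))) m.2
  have h1 : W' * (X j.castSucc * X (Fin.last n)) = 0 :=
    (mul_left_mem_nonZeroDivisors_eq_zero_iff hmnz).mp hm
  have hW0 : W' = 0 :=
    (mul_right_mem_nonZeroDivisors_eq_zero_iff (X_mul_X_mem_nonZeroDivisors _ _)).mp h1
  have := congrArg (eval (Fin.snoc x 0 : Fin (n + 1) → R)) hW0
  rw [hW', map_sub, map_mul, map_mul, eval_aeval, eval_aeval] at this
  simp only [eval_V1, eval_lPoly, map_zero] at this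
  linear_combination this

end TwoMain

section SOprime

universe u
variable {R : Type u} [CommRing R] {n : ℕ} (Q : QuadraticForm R (Fin n → R))

lemma exists_third (hn : 3 ≤ n) (j j' : Fin n) : ∃ j'' : Fin n, j ≠ j'' ∧ j' ≠ j'' := by
  classical
  have hcard : ({j, j'} : Finset (Fin n)).card < (Finset.univ : Finset (Fin n)).card := by
    rw [Finset.card_univ, Fintype.card_fin]
    exact lt_of_le_of_lt (Finset.card_le_two) (by omega)
  obtain ⟨j'', _, hj''⟩ := Finset.exists_mem_notMem_of_card_lt_card hcard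
  rw [Finset.mem_insert, Finset.mem_singleton, not_or] at hj''
  exact ⟨j'', fun h => hj''.1 h.symm, fun h => hj''.2 h.symm⟩

/-- From commutation with two-reflection products, get the coordinate identities for all `j j'`. -/
theorem coords_of_comm_two_refl' (hn : 3 ≤ n) (hb : polarIdeal Q = ⊤) (hreg : IsRegular Q)
    (g : (Fin n → R) ≃ₗ[R] (Fin n → R))
    (H2 : ∀ (A : Type u) [CommRing A] [Algebra R A] (v v' : A ⊗[R] (Fin n → R)) (u u' : Aˣ)
        (hu : baseChangeForm A Q v = u) (hu' : baseChangeForm A Q v' = u')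
        (y : A ⊗[R] (Fin n → R)),
        g.baseChange R A (Fin n → R) (Fin n → R)
            (refl (baseChangeForm A Q) v u hu (refl (baseChangeForm A Q) v' u' hu' y)) =
          refl (baseChangeForm A Q) v u hu (refl (baseChangeForm A Q) v' u' hu'
            (g.baseChange R A (Fin n → R) (Fin n → R) y)))
    (j j' : Fin n) (x : Fin n → R) : (g x) j * x j' = (g x) j' * x j := by
  obtain ⟨j'', hj, hj'⟩ := exists_third hn j j'
  exact coords_of_comm_two_refl Q hb hreg g H2 j j' j'' hj hj' x

theorem comm_two_refl_of_comm_sorth' (A : Type u) [CommRing A] [Algebra R A]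
    (g : (Fin n → R) ≃ₗ[R] (Fin n → R))
    (hcomm : ∀ h ∈ QuadGrp.sorth' Q A,
        g.baseChange R A (Fin n → R) (Fin n → R) * h = h * g.baseChange R A (Fin n → R) (Fin n → R))
    (v v' : A ⊗[R] (Fin n → R)) (u u' : Aˣ)
    (hu : baseChangeForm A Q v = u) (hu' : baseChangeForm A Q v' = u') (y : A ⊗[R] (Fin n → R)) :
    g.baseChange R A (Fin n → R) (Fin n → R)
        (refl (baseChangeForm A Q) v u hu (refl (baseChangeForm A Q) v' u' hu' y)) =
      refl (baseChangeForm A Q) v u hu (refl (baseChangeForm A Q) v' u' hu'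
        (g.baseChange R A (Fin n → R) (Fin n → R) y)) := by
  let h : (A ⊗[R] (Fin n → R)) ≃ₗ[A] (A ⊗[R] (Fin n → R)) :=
    refl (baseChangeForm A Q) v u hu * refl (baseChangeForm A Q) v' u' hu'
  have hmem : h ∈ QuadGrp.sorth' Q A := by
    rw [QuadGrp.sorth', QuadGrp.SO', Subgroup.mem_inf]
    constructor
    · exact Subgroup.mul_mem _ (refl_mem_orth Q A v u hu) (refl_mem_orth Q A v' u' hu')
    · rw [MonoidHom.mem_ker, map_mul, det_refl, det_refl]
      simp
  exact congrArg (fun f => f y) (hcomm h hmem)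

theorem scalar_of_centralizes_sorth' (hn : 3 ≤ n)
    (hQ : QuadGrp.IsNondeg (Pi.basisFun R (Fin n)) (LinearEquiv.refl R R) Q)
    (g : (Fin n → R) ≃ₗ[R] (Fin n → R)) (hg : g ∈ QuadGrp.O Q)
    (hcomm : ∀ (A : Type u) [CommRing A] [Algebra R A], ∀ h ∈ QuadGrp.sorth' Q A,
        g.baseChange R A (Fin n → R) (Fin n → R) * h = h * g.baseChange R A (Fin n → R) (Fin n → R)) :
    ∃ c : R, c * c = 1 ∧ ∀ v, g v = c • v := by
  have hb := polarIdeal_eq_top Q hn hQ
  apply exists_scalar_of_coords Q (by omega) hb g hg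
  rcases Nat.even_or_odd n with he | ho
  · exact coords_of_comm_two_refl' Q hn hb (hQ.1 he) g
      (fun A _ _ v v' u u' hu hu' y => comm_two_refl_of_comm_sorth' Q A g (hcomm A) v v' u u' hu hu' y)
  · exact coords_of_comm_refl Q hb g
      (fun A _ _ v u hu y => comm_refl_of_comm_sorth'_odd Q A ho g (hcomm A) v u hu y)

end SOprime

section Dickson

variable {A : Type*} [CommRing A] {T : Type*} [AddCommGroup T] [Module A T]
variable (F : QuadraticForm A T)

lemma ι_refl (w : T) (u : Aˣ) (hu : F w = u) (y : T) :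
    ι F w * ι F y * ((↑u⁻¹ : A) • ι F w) = - ι F (refl F w u hu y) := by
  have h1 : ι F w * ι F y = algebraMap A _ (QuadraticMap.polar F w y) - ι F y * ι F w := by
    rw [← ι_mul_ι_add_swap]; abel
  have h2 : ι F w * ι F w = algebraMap A _ (u : A) := by rw [ι_sq_scalar, hu]
  rw [refl_apply, map_sub, map_smul, h1, sub_mul, mul_smul_comm, mul_smul_comm, mul_assoc, h2,
    QuadraticMap.polar_comm, neg_sub, Algebra.algebraMap_eq_smul_one, smul_mul_assoc, one_mul,
    smul_smul, ← Algebra.commutes, ← Algebra.smul_def, smul_smul,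
    Units.inv_mul, one_smul]

lemma ι_mul_inv (w : T) (u : Aˣ) (hu : F w = u) : ι F w * ((↑u⁻¹ : A) • ι F w) = 1 := by
  rw [mul_smul_comm, ι_sq_scalar, hu, Algebra.algebraMap_eq_smul_one, smul_smul, Units.inv_mul,
    one_smul]

lemma inv_mul_ι (w : T) (u : Aˣ) (hu : F w = u) : ((↑u⁻¹ : A) • ι F w) * ι F w = 1 := by
  rw [smul_mul_assoc, ι_sq_scalar, hu, Algebra.algebraMap_eq_smul_one, smul_smul, Units.inv_mul,
    one_smul]

/-- The Clifford map induced by a product of two reflections is conjugation by `ι v * ι v'`. -/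
theorem map_two_refl (v v' : T) (u u' : Aˣ) (hu : F v = u) (hu' : F v' = u')
    (hh : refl F v u hu * refl F v' u' hu' ∈ QuadGrp.O F) (c : CliffordAlgebra F) :
    CliffordAlgebra.map (QuadGrp.isometryOfMem F (refl F v u hu * refl F v' u' hu') hh) c =
      (ι F v * ι F v') * c * (((↑u'⁻¹ : A) • ι F v') * ((↑u⁻¹ : A) • ι F v)) := by
  have hUU : (ι F v * ι F v') * (((↑u'⁻¹ : A) • ι F v') * ((↑u⁻¹ : A) • ι F v)) = 1 := by
    rw [mul_assoc, ← mul_assoc (ι F v'), ι_mul_inv F v' u' hu', one_mul, ι_mul_inv F v u hu]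
  have hUU' : (((↑u'⁻¹ : A) • ι F v') * ((↑u⁻¹ : A) • ι F v)) * (ι F v * ι F v') = 1 := by
    rw [mul_assoc, ← mul_assoc ((↑u⁻¹ : A) • ι F v), inv_mul_ι F v u hu, one_mul,
      inv_mul_ι F v' u' hu']
  induction c using CliffordAlgebra.induction with
  | algebraMap r =>
    rw [AlgHom.commutes, ← Algebra.commutes, mul_assoc, hUU, mul_one]
  | ι y =>
    rw [CliffordAlgebra.map_apply_ι, QuadGrp.isometryOfMem_apply]
    change ι F (refl F v u hu (refl F v' u' hu' y)) = _
    have e1 := ι_refl F v u hu (refl F v' u' hu' y)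
    have e2 := ι_refl F v' u' hu' y
    have : ι F (refl F v u hu (refl F v' u' hu' y)) =
        ι F v * (ι F v' * ι F y * ((↑u'⁻¹ : A) • ι F v')) * ((↑u⁻¹ : A) • ι F v) := by
      rw [e2, mul_neg, neg_mul, e1, neg_neg]
    rw [this]
    simp only [mul_assoc]
  | mul a b ha hb =>
    rw [map_mul, ha, hb]
    calc ι F v * ι F v' * a * (((↑u'⁻¹ : A) • ι F v') * ((↑u⁻¹ : A) • ι F v)) *
          (ι F v * ι F v' * b * (((↑u'⁻¹ : A) • ι F v') * ((↑u⁻¹ : A) • ι F v)))
        = ι F v * ι F v' * a * ((((↑u'⁻¹ : A) • ι F v') * ((↑u⁻¹ : A) • ι F v)) *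
          (ι F v * ι F v')) * b * (((↑u'⁻¹ : A) • ι F v') * ((↑u⁻¹ : A) • ι F v)) := by
          simp only [mul_assoc]
      _ = _ := by rw [hUU', mul_one]; simp only [mul_assoc]
  | add a b ha hb =>
    rw [map_add, ha, hb, mul_add, add_mul]

/-- A product of two reflections satisfies the Dickson condition. -/
theorem isDicksonTrivial_two_refl (v v' : T) (u u' : Aˣ) (hu : F v = u) (hu' : F v' = u')
    (hh : refl F v u hu * refl F v' u' hu' ∈ QuadGrp.O F) :
    QuadGrp.IsDicksonTrivial F (refl F v u hu * refl F v' u' hu') hh := by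
  intro z hz
  rw [map_two_refl F v v' u u' hu hu' hh]
  have hUU : (ι F v * ι F v') * (((↑u'⁻¹ : A) • ι F v') * ((↑u⁻¹ : A) • ι F v)) = 1 := by
    rw [mul_assoc, ← mul_assoc (ι F v'), ι_mul_inv F v' u' hu', one_mul, ι_mul_inv F v u hu]
  have hUmem : ι F v * ι F v' ∈ CliffordAlgebra.even F :=
    CliffordAlgebra.ι_mul_ι_mem_evenOdd_zero F v v'
  have hcomm := (Subalgebra.mem_center_iff.mp hz) ⟨ι F v * ι F v', hUmem⟩
  have hcomm' : (ι F v * ι F v') * (z : CliffordAlgebra F) = (z : CliffordAlgebra F) * (ι F v * ι F v') :=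
    congrArg Subtype.val hcomm
  rw [hcomm', mul_assoc, hUU, mul_one]

end Dickson

section SOeven

universe u
variable {R : Type u} [CommRing R] {n : ℕ} (Q : QuadraticForm R (Fin n → R))

lemma two_refl_mem_sorth (A : Type u) [CommRing A] [Algebra R A]
    (v v' : A ⊗[R] (Fin n → R)) (u u' : Aˣ)
    (hu : baseChangeForm A Q v = u) (hu' : baseChangeForm A Q v' = u') :
    refl (baseChangeForm A Q) v u hu * refl (baseChangeForm A Q) v' u' hu' ∈ QuadGrp.sorth Q A := by
  have hO : refl (baseChangeForm A Q) v u hu * refl (baseChangeForm A Q) v' u' hu' ∈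
      QuadGrp.O (baseChangeForm A Q) := by
    apply Subgroup.mul_mem
    · exact (QuadGrp.mem_O _ _).mpr (refl_isometry _ v u hu)
    · exact (QuadGrp.mem_O _ _).mpr (refl_isometry _ v' u' hu')
  rw [QuadGrp.sorth, QuadGrp.SO]
  split_ifs
  · exact ⟨hO, isDicksonTrivial_two_refl _ v v' u u' hu hu' hO⟩
  · rw [QuadGrp.SO', Subgroup.mem_inf]
    refine ⟨hO, ?_⟩
    rw [MonoidHom.mem_ker, map_mul, det_refl, det_refl]
    simp

lemma mem_O_of_mem_SO (g : (Fin n → R) ≃ₗ[R] (Fin n → R)) (hg : g ∈ QuadGrp.SO Q) :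
    g ∈ QuadGrp.O Q := by
  rw [QuadGrp.SO] at hg
  split_ifs at hg
  · obtain ⟨h, _⟩ := hg
    exact h
  · exact (Subgroup.mem_inf.mp hg).1

theorem scalar_of_centralizes_sorth (hn : 3 ≤ n) (hreg : QuadGrp.IsRegular Q)
    (g : (Fin n → R) ≃ₗ[R] (Fin n → R)) (hg : g ∈ QuadGrp.O Q)
    (hcomm : ∀ (A : Type u) [CommRing A] [Algebra R A], ∀ h ∈ QuadGrp.sorth Q A,
        g.baseChange R A (Fin n → R) (Fin n → R) * h = h * g.baseChange R A (Fin n → R) (Fin n → R)) :
    ∃ c : R, c * c = 1 ∧ ∀ v, g v = c • v := by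
  have hb := polarIdeal_eq_top_of_isRegular Q (by omega) hreg
  apply exists_scalar_of_coords Q (by omega) hb g hg
  apply coords_of_comm_two_refl' Q hn hb hreg g
  intro A _ _ v v' u u' hu hu' y
  exact congrArg (fun f => f y) (hcomm A _ (two_refl_mem_sorth Q A v v' u u' hu hu'))

end SOeven

end Groth.Agent.Lib.Helper77.QuadRefl
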