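import Mathlib
import Groth.Agent.Lib.Helper77.FinOrd9
import Groth.Agent.Lib.Helper77.DeligneSch

set_option autoImplicit false
universe u
open TensorProduct WithConv

namespace Groth.Agent.Lib.Helper77.RedOrd

/-- over a reduced ring, an element of a projective module is detected on the fibres. -/
theorem eq_of_forall_residueField_tmul_eq (R : Type u) [CommRing R] [IsReduced R]
    (A : Type u) [AddCommGroup A] [Module R A] [Module.Projective R A] (x y : A)
    (h : ∀ p : PrimeSpectrum R,
      (1 : p.asIdeal.ResidueField) ⊗ₜ[R] x = (1 : p.asIdeal.ResidueField) ⊗ₜ[R] y) : x = y := by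
  obtain ⟨s, hs⟩ := (Module.projective_def' (R := R) (P := A)).mp inferInstance
  have hx : ∀ z : A, Finsupp.linearCombination R id (s z) = z := fun z => LinearMap.congr_fun hs z
  have key : s x = s y := by
    ext j
    have h0 : IsNilpotent (s x j - s y j) := by
      rw [nilpotent_iff_mem_prime]
      intro J hJ
      have h1 := h ⟨J, hJ⟩
      have h2 := congrArg ((TensorProduct.rid R J.ResidueField).toLinearMap ∘ₗ
        LinearMap.lTensor J.ResidueField ((Finsupp.lapply j) ∘ₗ s)) h1
      simp only [LinearMap.coe_comp, LinearEquiv.coe_coe, Function.comp_apply,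
        LinearMap.lTensor_tmul, Finsupp.lapply_apply, TensorProduct.rid_tmul] at h2
      rw [← Ideal.ker_algebraMap_residueField J, RingHom.mem_ker, map_sub, sub_eq_zero,
        Algebra.algebraMap_eq_smul_one, Algebra.algebraMap_eq_smul_one]
      exact h2
    exact sub_eq_zero.mp h0.eq_zero
  rw [← hx x, ← hx y, key]

/-- **A finite locally free group scheme of constant rank `n` over a reduced ring is killed by
`n`** (Hopf algebra form). -/
theorem main (R : Type u) [CommRing R] [IsReduced R] (A : Type u) [CommRing A] [HopfAlgebra R A]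
    [Module.Finite R A] [Module.Projective R A]
    (n : ℕ) (hn : ∀ p : PrimeSpectrum R, Module.rankAtStalk A p = n) :
    (toConv (AlgHom.id R A)) ^ n = 1 := by
  apply WithConv.ext
  apply AlgHom.ext
  intro a
  apply eq_of_forall_residueField_tmul_eq R A
  intro p
  have h1 := FinOrd.id_pow_finrank_eq_one p.asIdeal.ResidueField (p.asIdeal.ResidueField ⊗[R] A)
  have hr : Module.finrank p.asIdeal.ResidueField (p.asIdeal.ResidueField ⊗[R] A) = n := by
    have h2 := Module.rankAtStalk_baseChange (R := R) (M := A) (S := p.asIdeal.ResidueField)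
      (⊥ : PrimeSpectrum p.asIdeal.ResidueField)
    rw [Module.rankAtStalk_eq_finrank_of_free] at h2
    have h3 : (⊥ : PrimeSpectrum p.asIdeal.ResidueField).comap
        (algebraMap R p.asIdeal.ResidueField) = p := by
      ext1
      exact Ideal.ker_algebraMap_residueField p.asIdeal
    rw [h3] at h2
    simp only [Pi.natCast_def, Nat.cast_id] at h2
    rw [h2, hn]
  rw [hr] at h1
  have h2 := congrArg (Deligne.res R p.asIdeal.ResidueField A (p.asIdeal.ResidueField ⊗[R] A)) h1
  rw [Deligne.res_pow, Deligne.res_one] at h2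
  have h3 : Deligne.res R p.asIdeal.ResidueField A (p.asIdeal.ResidueField ⊗[R] A)
      (toConv (AlgHom.id p.asIdeal.ResidueField (p.asIdeal.ResidueField ⊗[R] A))) =
      toConv ((Algebra.TensorProduct.includeRight :
        A →ₐ[R] p.asIdeal.ResidueField ⊗[R] A).comp (toConv (AlgHom.id R A)).ofConv) := rfl
  rw [h3, ← Deligne.comp_convPow] at h2
  have h4 := congrArg (fun f => f a) h2
  simp only at h4
  show (1 : p.asIdeal.ResidueField) ⊗ₜ[R] (((toConv (AlgHom.id R A)) ^ n) a) =
    (1 : p.asIdeal.ResidueField) ⊗ₜ[R] ((1 : WithConv (A →ₐ[R] A)) a)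
  refine Eq.trans h4 ?_
  rw [AlgHom.convOne_apply, AlgHom.convOne_apply]
  simp [Algebra.algebraMap_eq_smul_one, Algebra.TensorProduct.one_def]

end Groth.Agent.Lib.Helper77.RedOrd
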