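import Mathlib
import Groth.Agent.Lib.Helper77.RedOrd1
import Groth.Agent.Lib.Helper77.DeligneSch

set_option autoImplicit false
universe u
open CategoryTheory CategoryTheory.Limits MonoidalCategory CartesianMonoidalCategory MonObj GrpObj AlgebraicGeometry

namespace Groth.Agent.Lib.Helper77.RedOrd

/-- the affine case. -/
theorem pow_eq_one_of_affine_base (R₀ : Type u) [CommRing R₀] [_root_.IsReduced R₀]
    (G : Over (Spec (CommRingCat.of R₀))) [GrpObj G]
    [IsFinite G.hom] [Flat G.hom] [LocallyOfFinitePresentation G.hom]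
    (r : ℕ) (hr : ∀ s : Spec (CommRingCat.of R₀), Scheme.Hom.finrank G.hom s = r) :
    (𝟙 G : G ⟶ G) ^ r = 1 := by
  have hA' : IsAffine G.left := isAffine_of_isAffineHom G.hom
  obtain ⟨A, _, _, eG, h1⟩ := DeligneSch.exists_hopf_model R₀ G
  -- structure morphism
  have hiso : IsIso eG.hom.left := inferInstanceAs (IsIso ((Over.forget _).map eG.hom))
  have hiso' : IsIso eG.inv.left := inferInstanceAs (IsIso ((Over.forget _).map eG.inv))
  have hw : eG.hom.left ≫ G.hom = Spec.map (CommRingCat.ofHom (algebraMap R₀ A)) := Over.w eG.hom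
  have hfin : IsFinite (Spec.map (CommRingCat.ofHom (algebraMap R₀ A))) := by
    rw [← hw]
    exact (MorphismProperty.cancel_left_of_respectsIso @IsFinite eG.hom.left G.hom).mpr
      inferInstance
  have hflat : Flat (Spec.map (CommRingCat.ofHom (algebraMap R₀ A))) := by
    rw [← hw]
    exact (MorphismProperty.cancel_left_of_respectsIso @Flat eG.hom.left G.hom).mpr
      inferInstance
  have hfp : LocallyOfFinitePresentation (Spec.map (CommRingCat.ofHom (algebraMap R₀ A))) := by
    rw [← hw]
    exact (MorphismProperty.cancel_left_of_respectsIso @LocallyOfFinitePresentation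
      eG.hom.left G.hom).mpr inferInstance
  have i1 : Module.Finite R₀ A :=
    RingHom.finite_algebraMap.mp ((IsFinite.SpecMap_iff _).mp hfin)
  have i2 : Module.Flat R₀ A :=
    RingHom.flat_algebraMap_iff.mp (Flat.SpecMap_iff.mp hflat)
  have i3 : Algebra.FinitePresentation R₀ A :=
    RingHom.finitePresentation_algebraMap.mp ((LocallyOfFinitePresentation.SpecMap_iff _).mp hfp)
  have i4 : Module.FinitePresentation R₀ A :=
    Module.FinitePresentation.of_finite_of_finitePresentation R₀ A
  have i5 : Module.Projective R₀ A := Module.Flat.projective_of_finitePresentation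
  have hrank : ∀ p : PrimeSpectrum R₀, Module.rankAtStalk (R := R₀) A p = r := by
    intro p
    let x : ↥(Spec (CommRingCat.of R₀)) := p
    have h2 := hr x
    have h3 : Scheme.Hom.finrank (eG.hom.left ≫ G.hom) = Scheme.Hom.finrank G.hom :=
      Scheme.Hom.finrank_comp_left_of_isIso _ _
    have h7 := Scheme.Hom.finrank_SpecMap_algebraMap R₀ A p
    rw [← h3] at h2
    have h8 : Scheme.Hom.finrank (eG.hom.left ≫ G.hom) x =
        Scheme.Hom.finrank (Spec.map (CommRingCat.ofHom (algebraMap R₀ A))) p := by
      congr 1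
    rw [← h7, ← h8]
    exact h2
  have key := RedOrd.main R₀ A r hrank
  -- transport
  have h4 : Spec.mapMulEquiv (R := R₀) (S := A) (T := A) (WithConv.toConv (AlgHom.id R₀ A)) =
      𝟙 ((Spec (CommRingCat.of A)).asOver (Spec (CommRingCat.of R₀))) := by
    ext1
    simp [Spec.mapMulEquiv]
  have h5 : (𝟙 ((Spec (CommRingCat.of A)).asOver (Spec (CommRingCat.of R₀))) :
      (Spec (CommRingCat.of A)).asOver (Spec (CommRingCat.of R₀)) ⟶ _) ^ r = 1 := by
    rw [← h4, ← map_pow, key, map_one]
  have h6 : (𝟙 G : G ⟶ G) = eG.inv ≫ 𝟙 _ ≫ eG.hom := by simp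
  rw [h6, ← MonObj.comp_pow, ← MonObj.pow_comp, h5, MonObj.one_comp, MonObj.comp_one]

/-- the affine case, with the base only propositionally a spectrum. -/
theorem pow_eq_one_of_affine_base' {S : Scheme.{u}} [IsReduced S]
    (hS : ∃ R : CommRingCat.{u}, S = Spec R)
    (G : Over S) [GrpObj G]
    [IsFinite G.hom] [Flat G.hom] [LocallyOfFinitePresentation G.hom]
    (r : ℕ) (hr : ∀ s : S, Scheme.Hom.finrank G.hom s = r) :
    (𝟙 G : G ⟶ G) ^ r = 1 := by
  obtain ⟨R, rfl⟩ := hS
  have : _root_.IsReduced R := (affine_isReduced_iff R).mp inferInstance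
  exact pow_eq_one_of_affine_base R G r hr

open scoped Obj in
/-- the identity of a finite locally free group scheme of constant rank `r` over a reduced base
is killed by `r`. -/
theorem id_pow_eq_one {S : Scheme.{u}} [IsReduced S] (G : Over S) [GrpObj G]
    [IsFinite G.hom] [Flat G.hom] [LocallyOfFinitePresentation G.hom]
    (r : ℕ) (hr : ∀ s : S, Scheme.Hom.finrank G.hom s = r) :
    (𝟙 G : G ⟶ G) ^ r = 1 := by
  apply Over.OverMorphism.ext
  refine Scheme.Cover.hom_ext (S.affineCover.pullback₁ G.hom) _ _ (fun i => ?_)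
  let j := S.affineCover.f i
  let G' : Over (S.affineCover.X i) := (Over.pullback j).obj G
  have hG' : G'.hom = pullback.snd G.hom j := rfl
  have i1 : IsFinite G'.hom := by rw [hG']; infer_instance
  have i2 : Flat G'.hom := by rw [hG']; infer_instance
  have i3 : LocallyOfFinitePresentation G'.hom := by rw [hG']; infer_instance
  have i4 : IsReduced (S.affineCover.X i) := isReduced_of_isOpenImmersion j
  have key : (𝟙 G' : G' ⟶ G') ^ r = 1 := by
    refine pow_eq_one_of_affine_base' (S := S.affineCover.X i) ⟨_, rfl⟩ G' r ?_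
    intro x
    rw [hG', Scheme.Hom.finrank_pullback_snd]
    exact hr _
  -- naturality
  have hnat : ∀ φ : G ⟶ G, pullback.fst G.hom j ≫ φ.left =
      ((Over.pullback j).map φ).left ≫ pullback.fst G.hom j := by
    intro φ
    simp only [Over.pullback, Over.homMk_left]
    exact (pullback.lift_fst _ _ _).symm
  have hmap : (Over.pullback j).map ((𝟙 G : G ⟶ G) ^ r) = (𝟙 G' : G' ⟶ G') ^ r := by
    have := map_pow ((Over.pullback j).homMonoidHom (X := G) (M := G)) (𝟙 G) r
    simpa using this
  have hone : (Over.pullback j).map (1 : G ⟶ G) = 1 := Functor.map_one _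
  show pullback.fst G.hom j ≫ ((𝟙 G : G ⟶ G) ^ r).left = pullback.fst G.hom j ≫ (1 : G ⟶ G).left
  rw [hnat, hnat, hmap, hone, key]

end Groth.Agent.Lib.Helper77.RedOrd
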