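import Mathlib
import Groth.Prelude.Def_W4c2movlemaddchowShuffle

/-!
# Shuffle decompositions: (r+s,t)∘(r,s) and (r,s+t)∘(s,t) both enumerate (r,s,t)-shuffles.
-/

set_option autoImplicit false

namespace Groth.Agent.Lib.Helper77

open Equiv W4c2movlemaddchow

theorem extRight_castAdd (a t : ℕ) (σ : Perm (Fin a)) (x : Fin a) :
    extRight a t σ (Fin.castAdd t x) = Fin.castAdd t (σ x) := by
  simp [extRight, Equiv.permCongr_apply]

theorem extRight_natAdd (a t : ℕ) (σ : Perm (Fin a)) (l : Fin t) :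
    extRight a t σ (Fin.natAdd a l) = Fin.natAdd a l := by
  simp [extRight, Equiv.permCongr_apply]

theorem extRight_inv_castAdd (a t : ℕ) (σ : Perm (Fin a)) (x : Fin a) :
    (extRight a t σ)⁻¹ (Fin.castAdd t x) = Fin.castAdd t (σ⁻¹ x) := by
  rw [Equiv.Perm.inv_eq_iff_eq, extRight_castAdd]
  simp

theorem extRight_inv_natAdd (a t : ℕ) (σ : Perm (Fin a)) (l : Fin t) :
    (extRight a t σ)⁻¹ (Fin.natAdd a l) = Fin.natAdd a l := by
  rw [Equiv.Perm.inv_eq_iff_eq, extRight_natAdd]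

theorem sign_extRight (a t : ℕ) (σ : Perm (Fin a)) :
    Equiv.Perm.sign (extRight a t σ) = Equiv.Perm.sign σ := by
  simp [extRight]

/-- the block embedding `Fin (s+t) → Fin (r+s+t)` onto the last `s+t` positions -/
def blk (r s t : ℕ) (j : Fin (s + t)) : Fin (r + s + t) :=
  (finCongr (Nat.add_assoc r s t)).symm (Fin.natAdd r j)

theorem blk_val (r s t : ℕ) (j : Fin (s + t)) : (blk r s t j : ℕ) = r + j := by
  simp [blk]

theorem blk_injective (r s t : ℕ) : Function.Injective (blk r s t) := by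
  intro a b h
  have := congrArg Fin.val h
  simp only [blk_val] at this
  exact Fin.ext (by omega)

theorem castAdd_natAdd_eq_blk (r s t : ℕ) (j : Fin s) :
    Fin.castAdd t (Fin.natAdd r j) = blk r s t (Fin.castAdd t j) := by
  apply Fin.ext; simp [blk_val]

theorem natAdd_eq_blk (r s t : ℕ) (l : Fin t) :
    Fin.natAdd (r + s) l = blk r s t (Fin.natAdd s l) := by
  apply Fin.ext; simp [blk_val, Nat.add_assoc]

theorem extLeft_castAdd (r s t : ℕ) (σ : Perm (Fin (s + t))) (i : Fin r) :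
    extLeft r s t σ (Fin.castAdd t (Fin.castAdd s i)) = Fin.castAdd t (Fin.castAdd s i) := by
  have h : (finCongr (Nat.add_assoc r s t)) (Fin.castAdd t (Fin.castAdd s i)) =
      Fin.castAdd (s + t) i := by
    apply Fin.ext; simp
  apply Fin.ext
  simp [extLeft, Equiv.permCongr_apply, h]

theorem extLeft_blk (r s t : ℕ) (σ : Perm (Fin (s + t))) (j : Fin (s + t)) :
    extLeft r s t σ (blk r s t j) = blk r s t (σ j) := by
  simp [extLeft, blk, Equiv.permCongr_apply]

theorem extLeft_inv_castAdd (r s t : ℕ) (σ : Perm (Fin (s + t))) (i : Fin r) :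
    (extLeft r s t σ)⁻¹ (Fin.castAdd t (Fin.castAdd s i)) = Fin.castAdd t (Fin.castAdd s i) := by
  rw [Equiv.Perm.inv_eq_iff_eq, extLeft_castAdd]

theorem extLeft_inv_blk (r s t : ℕ) (σ : Perm (Fin (s + t))) (j : Fin (s + t)) :
    (extLeft r s t σ)⁻¹ (blk r s t j) = blk r s t (σ⁻¹ j) := by
  rw [Equiv.Perm.inv_eq_iff_eq, extLeft_blk]
  simp

theorem sign_extLeft (r s t : ℕ) (σ : Perm (Fin (s + t))) :
    Equiv.Perm.sign (extLeft r s t σ) = Equiv.Perm.sign σ := by
  simp [extLeft]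

theorem sort_symm_comp_monotone {n m : ℕ} {α : Type*} [LinearOrder α] (g : Fin n → α)
    (hg : Function.Injective g) (π : Perm (Fin n)) (hπ : Monotone (g ∘ π))
    (h : Fin m → Fin n) (hh : Monotone (fun i => g (h i))) :
    Monotone (fun i => π⁻¹ (h i)) := by
  intro i i' hii'
  by_contra hlt
  simp only [not_le] at hlt
  have h1 : g (h i') ≤ g (h i) := by
    have := hπ hlt.le
    simpa using this
  have h2 : g (h i) ≤ g (h i') := hh hii'
  have h3 : h i = h i' := hg (le_antisymm h2 h1)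
  rw [h3] at hlt
  exact lt_irrefl _ hlt

/-- Case analysis on `Fin (a + t)`. -/
theorem fin_add_cases {a t : ℕ} (x : Fin (a + t)) :
    (∃ y : Fin a, x = Fin.castAdd t y) ∨ (∃ l : Fin t, x = Fin.natAdd a l) := by
  induction x using Fin.addCases with
  | left y => exact Or.inl ⟨y, rfl⟩
  | right l => exact Or.inr ⟨l, rfl⟩

theorem bijOn_extRight (r s t : ℕ) :
    Set.BijOn
      (fun p : Equiv.Perm (Fin (r + s + t)) × Equiv.Perm (Fin (r + s)) =>
        p.1 * W4c2movlemaddchow.extRight (r + s) t p.2)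
      ({τ | W4c2movlemaddchow.IsShuffle₂ (r + s) t τ} ×ˢ {σ | W4c2movlemaddchow.IsShuffle₂ r s σ})
      {ν | W4c2movlemaddchow.IsShuffle₃ r s t ν} := by
  refine ⟨?_, ?_, ?_⟩
  · rintro ⟨τ, σ⟩ ⟨hτ, hσ⟩
    simp only [Set.mem_ofPred_eq] at hτ hσ ⊢
    refine ⟨?_, ?_, ?_⟩
    · intro i i' h
      simp only [Perm.mul_apply, extRight_castAdd]
      exact hτ.1 (hσ.1 h)
    · intro i i' h
      simp only [Perm.mul_apply, extRight_castAdd]
      exact hτ.1 (hσ.2 h)
    · intro i i' h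
      simp only [Perm.mul_apply, extRight_natAdd]
      exact hτ.2 h
  · rintro ⟨τ₁, σ₁⟩ ⟨hτ₁, hσ₁⟩ ⟨τ₂, σ₂⟩ ⟨hτ₂, hσ₂⟩ heq
    simp only [Set.mem_ofPred_eq] at hτ₁ hσ₁ hτ₂ hσ₂ heq
    set ν := τ₁ * extRight (r + s) t σ₁ with hν
    let g : Fin (r + s) → Fin (r + s + t) := fun x => ν (Fin.castAdd t x)
    have hg : Function.Injective g := fun x y hxy =>
      Fin.castAdd_injective _ _ (ν.injective hxy)
    have h1 : g ∘ (σ₁⁻¹ : Perm _) = fun x => τ₁ (Fin.castAdd t x) := by
      funext x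
      simp [g, hν, Perm.mul_apply, extRight_castAdd]
    have h2 : g ∘ (σ₂⁻¹ : Perm _) = fun x => τ₂ (Fin.castAdd t x) := by
      funext x
      simp [g, heq, Perm.mul_apply, extRight_castAdd]
    have hm1 : Monotone (g ∘ (σ₁⁻¹ : Perm _)) := by rw [h1]; exact hτ₁.1
    have hm2 : Monotone (g ∘ (σ₂⁻¹ : Perm _)) := by rw [h2]; exact hτ₂.1
    have h3 := Tuple.unique_monotone hm1 hm2
    have h4 : σ₁⁻¹ = σ₂⁻¹ := by
      ext x
      have := congrFun h3 x
      exact congrArg Fin.val (hg this)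
    have h5 : σ₁ = σ₂ := inv_injective h4
    subst h5
    have h6 : τ₁ = τ₂ := mul_right_cancel heq
    rw [h6]
  · intro ν hν
    simp only [Set.mem_ofPred_eq] at hν
    let g : Fin (r + s) → Fin (r + s + t) := fun x => ν (Fin.castAdd t x)
    have hg : Function.Injective g := fun x y hxy =>
      Fin.castAdd_injective _ _ (ν.injective hxy)
    let π : Perm (Fin (r + s)) := Tuple.sort g
    have hπ : Monotone (g ∘ π) := Tuple.monotone_sort g
    refine ⟨(ν * (extRight (r + s) t π⁻¹)⁻¹, π⁻¹), ⟨?_, ?_⟩, ?_⟩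
    · simp only [Set.mem_ofPred_eq]
      refine ⟨?_, ?_⟩
      · intro x y hxy
        simp only [Perm.mul_apply, extRight_inv_castAdd, inv_inv]
        exact hπ hxy
      · intro x y hxy
        simp only [Perm.mul_apply, extRight_inv_natAdd]
        exact hν.2.2 hxy
    · simp only [Set.mem_ofPred_eq]
      refine ⟨?_, ?_⟩
      · exact sort_symm_comp_monotone g hg π hπ (fun i => Fin.castAdd s i) hν.1
      · exact sort_symm_comp_monotone g hg π hπ (fun i => Fin.natAdd r i) hν.2.1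
    · simp

theorem isShuffle₂_permCongr_iff (r s t : ℕ) (τ : Perm (Fin (r + s + t))) :
    IsShuffle₂ r (s + t) ((finCongr (Nat.add_assoc r s t)).permCongr τ) ↔
      Monotone (fun i : Fin r => τ (Fin.castAdd t (Fin.castAdd s i))) ∧
        Monotone (fun j : Fin (s + t) => τ (blk r s t j)) := by
  have h : ∀ i : Fin r, (finCongr (Nat.add_assoc r s t)).symm (Fin.castAdd (s + t) i) =
      Fin.castAdd t (Fin.castAdd s i) := by
    intro i; apply Fin.ext; simp
  unfold IsShuffle₂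
  simp only [Equiv.permCongr_apply, h]
  have hb : ∀ j : Fin (s + t), (finCongr (Nat.add_assoc r s t)).symm (Fin.natAdd r j) =
      blk r s t j := fun j => rfl
  simp only [hb, finCongr_apply]
  constructor
  · rintro ⟨h1, h2⟩
    exact ⟨fun a b hab => (Fin.cast_le_cast _).mp (h1 hab),
      fun a b hab => (Fin.cast_le_cast _).mp (h2 hab)⟩
  · rintro ⟨h1, h2⟩
    exact ⟨fun a b hab => (Fin.cast_le_cast _).mpr (h1 hab),
      fun a b hab => (Fin.cast_le_cast _).mpr (h2 hab)⟩

theorem bijOn_extLeft (r s t : ℕ) :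
    Set.BijOn
      (fun p : Equiv.Perm (Fin (r + s + t)) × Equiv.Perm (Fin (s + t)) =>
        p.1 * W4c2movlemaddchow.extLeft r s t p.2)
      ({τ | W4c2movlemaddchow.IsShuffle₂ r (s + t) ((finCongr (Nat.add_assoc r s t)).permCongr τ)} ×ˢ
        {σ | W4c2movlemaddchow.IsShuffle₂ s t σ})
      {ν | W4c2movlemaddchow.IsShuffle₃ r s t ν} := by
  refine ⟨?_, ?_, ?_⟩
  · rintro ⟨τ, σ⟩ ⟨hτ, hσ⟩
    simp only [Set.mem_ofPred_eq, isShuffle₂_permCongr_iff] at hτ hσ ⊢
    refine ⟨?_, ?_, ?_⟩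
    · intro i i' h
      simp only [Perm.mul_apply, extLeft_castAdd]
      exact hτ.1 h
    · intro i i' h
      simp only [Perm.mul_apply, castAdd_natAdd_eq_blk, extLeft_blk]
      exact hτ.2 (hσ.1 h)
    · intro i i' h
      simp only [Perm.mul_apply, natAdd_eq_blk, extLeft_blk]
      exact hτ.2 (hσ.2 h)
  · rintro ⟨τ₁, σ₁⟩ ⟨hτ₁, hσ₁⟩ ⟨τ₂, σ₂⟩ ⟨hτ₂, hσ₂⟩ heq
    simp only [Set.mem_ofPred_eq, isShuffle₂_permCongr_iff] at hτ₁ hσ₁ hτ₂ hσ₂ heq
    set ν := τ₁ * extLeft r s t σ₁ with hν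
    let g : Fin (s + t) → Fin (r + s + t) := fun x => ν (blk r s t x)
    have hg : Function.Injective g := fun x y hxy =>
      blk_injective _ _ _ (ν.injective hxy)
    have h1 : g ∘ (σ₁⁻¹ : Perm _) = fun x => τ₁ (blk r s t x) := by
      funext x
      simp [g, hν, Perm.mul_apply, extLeft_blk]
    have h2 : g ∘ (σ₂⁻¹ : Perm _) = fun x => τ₂ (blk r s t x) := by
      funext x
      simp [g, heq, Perm.mul_apply, extLeft_blk]
    have hm1 : Monotone (g ∘ (σ₁⁻¹ : Perm _)) := by rw [h1]; exact hτ₁.2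
    have hm2 : Monotone (g ∘ (σ₂⁻¹ : Perm _)) := by rw [h2]; exact hτ₂.2
    have h3 := Tuple.unique_monotone hm1 hm2
    have h4 : σ₁⁻¹ = σ₂⁻¹ := by
      ext x
      have := congrFun h3 x
      exact congrArg Fin.val (hg this)
    have h5 : σ₁ = σ₂ := inv_injective h4
    subst h5
    have h6 : τ₁ = τ₂ := mul_right_cancel heq
    rw [h6]
  · intro ν hν
    simp only [Set.mem_ofPred_eq] at hν
    let g : Fin (s + t) → Fin (r + s + t) := fun x => ν (blk r s t x)
    have hg : Function.Injective g := fun x y hxy =>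
      blk_injective _ _ _ (ν.injective hxy)
    let π : Perm (Fin (s + t)) := Tuple.sort g
    have hπ : Monotone (g ∘ π) := Tuple.monotone_sort g
    refine ⟨(ν * (extLeft r s t π⁻¹)⁻¹, π⁻¹), ⟨?_, ?_⟩, ?_⟩
    · simp only [Set.mem_ofPred_eq, isShuffle₂_permCongr_iff]
      refine ⟨?_, ?_⟩
      · intro x y hxy
        simp only [Perm.mul_apply, extLeft_inv_castAdd]
        exact hν.1 hxy
      · intro x y hxy
        simp only [Perm.mul_apply, extLeft_inv_blk, inv_inv]
        exact hπ hxy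
    · simp only [Set.mem_ofPred_eq]
      refine ⟨?_, ?_⟩
      · refine sort_symm_comp_monotone g hg π hπ (fun i => Fin.castAdd t i) ?_
        intro a b hab
        simp only [g, ← castAdd_natAdd_eq_blk]
        exact hν.2.1 hab
      · refine sort_symm_comp_monotone g hg π hπ (fun i => Fin.natAdd s i) ?_
        intro a b hab
        simp only [g, ← natAdd_eq_blk]
        exact hν.2.2 hab
    · simp

end Groth.Agent.Lib.Helper77
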