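import Mathlib

/-!
# Determinants of skew-symmetric matrices are squares (helper77)
-/

set_option autoImplicit false
universe u

namespace Groth.Agent.Lib.Helper77.SkewDet

open Matrix

section Field
variable {K : Type*} [Field K]

/-- a 2×2 type: determinant of a skew matrix on a two-element index type -/
theorem det_two_of_skew {P : Type*} [Fintype P] [DecidableEq P] (A : Matrix P P K)
    (i j : P) (hij : i ≠ j) (hP : ∀ a : P, a = i ∨ a = j)
    (hii : A i i = 0) (hjj : A j j = 0) (hji : A j i = -A i j) :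
    A.det = A i j * A i j := by
  let f : Fin 2 → P := ![i, j]
  have hfinj : Function.Injective f := by
    intro a b hab
    fin_cases a <;> fin_cases b <;> simp_all [f]
  have hfsurj : Function.Surjective f := by
    intro a
    rcases hP a with h | h
    · exact ⟨0, by simp [f, h]⟩
    · exact ⟨1, by simp [f, h]⟩
  let e : Fin 2 ≃ P := Equiv.ofBijective f ⟨hfinj, hfsurj⟩
  rw [← Matrix.det_submatrix_equiv_self e A, Matrix.det_fin_two]
  have h0 : e 0 = i := rfl
  have h1 : e 1 = j := rfl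
  simp only [Matrix.submatrix_apply, h0, h1, hii, hjj, hji]
  ring

theorem inv_transpose_of_skew {P : Type*} [Fintype P] [DecidableEq P] (A : Matrix P P K)
    [Invertible A] (hA : Aᵀ = -A) : (⅟A)ᵀ = -⅟A := by
  have h1 : (⅟A)ᵀ * Aᵀ = 1 := by
    rw [← Matrix.transpose_mul, mul_invOf_self, Matrix.transpose_one]
  rw [hA] at h1
  have h2 : (-(⅟A)ᵀ) * A = 1 := by
    rw [Matrix.neg_mul, ← Matrix.mul_neg]
    exact h1
  have h3 : -(⅟A)ᵀ = ⅟A := by
    have := congrArg (· * ⅟A) h2
    simp only [Matrix.mul_assoc, mul_invOf_self, Matrix.mul_one, Matrix.one_mul] at this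
    exact this
  calc (⅟A)ᵀ = -(-(⅟A)ᵀ) := (neg_neg _).symm
    _ = -⅟A := by rw [h3]

theorem isSquare_det_of_skew (h2 : (2 : K) ≠ 0) :
    ∀ (N : ℕ) (ι : Type) [Fintype ι] [DecidableEq ι], Fintype.card ι = N →
      ∀ M : Matrix ι ι K, Mᵀ = -M → IsSquare M.det := by
  classical
  intro N
  induction N using Nat.strong_induction_on with
  | _ N ih =>
  intro ι _ _ hcard M hM
  have hent : ∀ a b, M a b = - M b a := fun a b => by
    have := congrFun (congrFun hM b) a
    simpa using this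
  have hdiag : ∀ a, M a a = 0 := by
    intro a
    have := hent a a
    have h : (2 : K) * M a a = 0 := by linear_combination this
    exact (mul_eq_zero.mp h).resolve_left h2
  by_cases hzero : M = 0
  · rcases isEmpty_or_nonempty ι with he | hne
    · rw [Matrix.det_isEmpty]
      exact ⟨1, by simp⟩
    · rw [hzero, Matrix.det_zero]
      exact ⟨0, by simp⟩
  · obtain ⟨i0, j0, hs⟩ : ∃ i j, M i j ≠ 0 := by
      by_contra hcon
      push Not at hcon
      exact hzero (Matrix.ext hcon)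
    have hij : i0 ≠ j0 := by
      rintro rfl
      exact hs (hdiag _)
    let p : ι → Prop := fun a => a = i0 ∨ a = j0
    let e : {a // p a} ⊕ {a // ¬ p a} ≃ ι := Equiv.sumCompl p
    let M' := M.submatrix e e
    have hdet : M.det = M'.det := (Matrix.det_submatrix_equiv_self e M).symm
    have hM'T : M'ᵀ = -M' := by
      ext a b
      show M (e b) (e a) = - M (e a) (e b)
      exact hent _ _
    let A := M'.toBlocks₁₁
    let B := M'.toBlocks₁₂
    let C := M'.toBlocks₂₁
    let D := M'.toBlocks₂₂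
    have hM' : M' = fromBlocks A B C D := (Matrix.fromBlocks_toBlocks M').symm
    have hAT : Aᵀ = -A := by
      ext a b
      exact hent _ _
    have hDT : Dᵀ = -D := by
      ext a b
      exact hent _ _
    have hBT : Bᵀ = -C := by
      ext a b
      exact hent _ _
    have hCT : Cᵀ = -B := by
      ext a b
      exact hent _ _
    have hA : A.det = M i0 j0 * M i0 j0 := by
      refine det_two_of_skew A ⟨i0, Or.inl rfl⟩ ⟨j0, Or.inr rfl⟩ ?_ ?_ (hdiag _) (hdiag _) (hent _ _)
      · intro h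
        exact hij (congrArg Subtype.val h)
      · rintro ⟨a, ha | ha⟩
        · left; exact Subtype.ext ha
        · right; exact Subtype.ext ha
    have hAunit : IsUnit A.det := by
      rw [hA]
      exact (IsUnit.mk0 _ hs).mul (IsUnit.mk0 _ hs)
    let _ := Matrix.invertibleOfIsUnitDet A hAunit
    have hS : (D - C * ⅟A * B)ᵀ = -(D - C * ⅟A * B) := by
      rw [Matrix.transpose_sub, Matrix.transpose_mul, Matrix.transpose_mul, hDT, hBT, hCT,
        inv_transpose_of_skew A hAT]
      simp only [Matrix.neg_mul, Matrix.mul_neg, neg_neg, Matrix.mul_assoc]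
      abel
    have hcard' : Fintype.card {a // ¬ p a} < N := by
      rw [← hcard, Fintype.card_subtype_compl]
      have hpos : 0 < Fintype.card {a // p a} := Fintype.card_pos_iff.mpr ⟨⟨i0, Or.inl rfl⟩⟩
      have hle : Fintype.card {a // p a} ≤ Fintype.card ι := Fintype.card_subtype_le p
      omega
    obtain ⟨r, hr⟩ := ih _ hcard' {a // ¬ p a} rfl _ hS
    rw [hdet, hM', Matrix.det_fromBlocks₁₁, hA, hr]
    exact ⟨M i0 j0 * r, by ring⟩

end Field

/-- over an integrally closed domain in which `2 ≠ 0`, the determinant of a skew-symmetric matrix is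
a square -/
theorem exists_sq_eq_det_of_skew {R : Type*} [CommRing R] [IsDomain R] [IsIntegrallyClosed R]
    (h2 : (2 : R) ≠ 0) {ι : Type} [Fintype ι] [DecidableEq ι] (N : Matrix ι ι R) (hN : Nᵀ = -N) :
    ∃ P : R, N.det = P ^ 2 := by
  let K := FractionRing R
  have hK : (N.map (algebraMap R K))ᵀ = -(N.map (algebraMap R K)) := by
    ext a b
    have := congrFun (congrFun hN a) b
    simp only [Matrix.transpose_apply, Matrix.neg_apply, Matrix.map_apply] at this ⊢
    rw [this, map_neg]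
  have h2' : (2 : K) ≠ 0 := by
    have : (2 : K) = algebraMap R K 2 := (map_ofNat (algebraMap R K) 2).symm
    rw [this]
    exact (map_ne_zero_iff _ (IsFractionRing.injective R K)).mpr h2
  obtain ⟨r, hr⟩ := isSquare_det_of_skew (K := K) h2' _ ι rfl _ hK
  have hint : IsIntegral R r := by
    refine ⟨Polynomial.X ^ 2 - Polynomial.C N.det, Polynomial.monic_X_pow_sub_C _ (by norm_num), ?_⟩
    rw [Polynomial.eval₂_sub, Polynomial.eval₂_pow, Polynomial.eval₂_X, Polynomial.eval₂_C, pow_two,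
      ← hr, RingHom.map_det]
    exact sub_self _
  obtain ⟨P, hP⟩ := IsIntegrallyClosed.algebraMap_eq_of_integral hint
  refine ⟨P, ?_⟩
  apply IsFractionRing.injective R K
  rw [map_pow, hP, pow_two, ← hr, RingHom.map_det]
  rfl

section Generic

variable (m : ℕ)

/-- the standard symplectic matrix over a ring -/
def Jm (S : Type*) [CommRing S] : Matrix (Fin m ⊕ Fin m) (Fin m ⊕ Fin m) S :=
  Matrix.fromBlocks 0 1 (-1) 0

theorem Jm_transpose (S : Type*) [CommRing S] : (Jm m S)ᵀ = -Jm m S := by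
  unfold Jm
  rw [Matrix.fromBlocks_transpose, Matrix.fromBlocks_neg]
  simp

theorem Jm_mul_neg (S : Type*) [CommRing S] : Jm m S * (-Jm m S) = 1 := by
  unfold Jm
  rw [Matrix.fromBlocks_neg, Matrix.fromBlocks_multiply]
  simp [Matrix.fromBlocks_one]

theorem Jm_map {S T : Type*} [CommRing S] [CommRing T] (f : S →+* T) :
    (Jm m S).map f = Jm m T := by
  unfold Jm
  rw [Matrix.fromBlocks_map]
  simp [Matrix.map_zero, Matrix.map_one, Matrix.map_neg]

variable (B : Type) [CommRing B]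

/-- the generic matrix -/
noncomputable def Gen : Matrix (Fin m ⊕ Fin m) (Fin m ⊕ Fin m)
    (MvPolynomial ((Fin m ⊕ Fin m) × (Fin m ⊕ Fin m)) B) :=
  Matrix.of fun i j => MvPolynomial.X (i, j)

/-- the generic skew matrix `x J + y (J G + Gᵀ J)/2` -/
noncomputable def Ngen (x y h : B) : Matrix (Fin m ⊕ Fin m) (Fin m ⊕ Fin m)
    (MvPolynomial ((Fin m ⊕ Fin m) × (Fin m ⊕ Fin m)) B) :=
  (MvPolynomial.C x : MvPolynomial ((Fin m ⊕ Fin m) × (Fin m ⊕ Fin m)) B) •
      Jm m (MvPolynomial ((Fin m ⊕ Fin m) × (Fin m ⊕ Fin m)) B) +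
    (MvPolynomial.C (y * h) : MvPolynomial ((Fin m ⊕ Fin m) × (Fin m ⊕ Fin m)) B) •
      (Jm m (MvPolynomial ((Fin m ⊕ Fin m) × (Fin m ⊕ Fin m)) B) * Gen m B +
        (Gen m B)ᵀ * Jm m (MvPolynomial ((Fin m ⊕ Fin m) × (Fin m ⊕ Fin m)) B))

theorem Ngen_transpose (x y h : B) : (Ngen m B x y h)ᵀ = -Ngen m B x y h := by
  unfold Ngen
  rw [Matrix.transpose_add, Matrix.transpose_smul, Matrix.transpose_smul, Matrix.transpose_add,
    Matrix.transpose_mul, Matrix.transpose_mul, Matrix.transpose_transpose, Jm_transpose]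
  simp only [Matrix.mul_neg, Matrix.neg_mul, smul_neg, neg_add_rev, smul_add]
  abel

theorem Ngen_eval (x y h : B) (hh : 2 * h = 1) (A : Matrix (Fin m ⊕ Fin m) (Fin m ⊕ Fin m) B)
    (hA : Aᵀ * Jm m B = Jm m B * A) :
    (Ngen m B x y h).map (MvPolynomial.eval (fun ij => A ij.1 ij.2)) =
      Jm m B * (x • (1 : Matrix _ _ B) + y • A) := by
  have hG : (Gen m B).map (MvPolynomial.eval (fun ij => A ij.1 ij.2)) = A := by
    ext i j
    simp [Gen]
  have hGT : ((Gen m B)ᵀ).map (MvPolynomial.eval (fun ij => A ij.1 ij.2)) = Aᵀ := by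
    ext i j
    simp [Gen]
  unfold Ngen
  rw [Matrix.map_add _ (map_add _), Matrix.map_smul' _ _ _ (map_mul _),
    Matrix.map_smul' _ _ _ (map_mul _), Matrix.map_add _ (map_add _), Matrix.map_mul, Matrix.map_mul, Jm_map, hG, hGT, hA]
  simp only [MvPolynomial.eval_C]
  rw [Matrix.mul_add, Matrix.mul_smul, Matrix.mul_smul, Matrix.mul_one]
  congr 1
  rw [← two_smul B (Jm m B * A), smul_smul]
  congr 1
  linear_combination y * hh

theorem det_identity [IsDomain B]
    [IsIntegrallyClosed (MvPolynomial ((Fin m ⊕ Fin m) × (Fin m ⊕ Fin m)) B)]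
    (h2 : (2 : B) ≠ 0) (x y h : B) (hh : 2 * h = 1) :
    ∃ P : MvPolynomial ((Fin m ⊕ Fin m) × (Fin m ⊕ Fin m)) B,
      ∀ A : Matrix (Fin m ⊕ Fin m) (Fin m ⊕ Fin m) B, Aᵀ * Jm m B = Jm m B * A →
        (Jm m B).det * (x • (1 : Matrix _ _ B) + y • A).det =
          (MvPolynomial.eval (fun ij => A ij.1 ij.2) P) ^ 2 := by
  have h2' : (2 : MvPolynomial ((Fin m ⊕ Fin m) × (Fin m ⊕ Fin m)) B) ≠ 0 := by
    have : (2 : MvPolynomial ((Fin m ⊕ Fin m) × (Fin m ⊕ Fin m)) B) = MvPolynomial.C 2 :=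
      (map_ofNat MvPolynomial.C 2).symm
    rw [this]
    exact (map_ne_zero_iff _ (MvPolynomial.C_injective _ _)).mpr h2
  obtain ⟨P, hP⟩ := exists_sq_eq_det_of_skew h2' (Ngen m B x y h) (Ngen_transpose m B x y h)
  refine ⟨P, fun A hA => ?_⟩
  rw [← Matrix.det_mul, ← Ngen_eval m B x y h hh A hA]
  have := RingHom.map_det (MvPolynomial.eval (fun ij : (Fin m ⊕ Fin m) × (Fin m ⊕ Fin m) => A ij.1 ij.2))
    (Ngen m B x y h)
  rw [RingHom.mapMatrix_apply] at this
  rw [← this, hP, map_pow]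

theorem Jm_det_ne_zero : (Jm m ℂ).det ≠ 0 := by
  intro h
  have := congrArg Matrix.det (Jm_mul_neg m ℂ)
  rw [Matrix.det_mul, h, zero_mul, Matrix.det_one] at this
  exact zero_ne_one this

theorem main :
    (∃ P : MvPolynomial ((Fin m ⊕ Fin m) × (Fin m ⊕ Fin m)) (Polynomial ℂ),
      ∀ A : Matrix (Fin m ⊕ Fin m) (Fin m ⊕ Fin m) ℂ,
        A.transpose * Matrix.fromBlocks 0 1 (-1) 0 = Matrix.fromBlocks 0 1 (-1) 0 * A →
        A.charpoly = (MvPolynomial.eval (fun ij => Polynomial.C (A ij.1 ij.2)) P) ^ 2) ∧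
    (∃ Q : MvPolynomial ((Fin m ⊕ Fin m) × (Fin m ⊕ Fin m)) ℂ,
      ∀ A : Matrix (Fin m ⊕ Fin m) (Fin m ⊕ Fin m) ℂ,
        A.transpose * Matrix.fromBlocks 0 1 (-1) 0 = Matrix.fromBlocks 0 1 (-1) 0 * A →
        A.det = (MvPolynomial.eval (fun ij => A ij.1 ij.2) Q) ^ 2) := by
  obtain ⟨μ, hμ⟩ := IsAlgClosed.exists_pow_nat_eq ((Jm m ℂ).det)⁻¹ (by norm_num : 0 < 2)
  have hd := Jm_det_ne_zero m
  constructor
  · obtain ⟨P, hP⟩ := det_identity m (Polynomial ℂ) (by norm_num) Polynomial.X (-1)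
      (Polynomial.C (1 / 2)) (by rw [← Polynomial.C_ofNat, ← Polynomial.C_mul]; norm_num)
    refine ⟨MvPolynomial.C (Polynomial.C μ) * P, fun A hA => ?_⟩
    have hA' : (A.map Polynomial.C)ᵀ * Jm m (Polynomial ℂ) = Jm m (Polynomial ℂ) * A.map Polynomial.C := by
      have := congrArg (fun M : Matrix _ _ ℂ => M.map (Polynomial.C : ℂ →+* Polynomial ℂ)) hA
      simp only [Matrix.map_mul] at this
      rw [← Matrix.transpose_map, ← Jm_map m (Polynomial.C : ℂ →+* Polynomial ℂ)]
      exact this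
    have h1 := hP (A.map Polynomial.C) hA'
    have hchar : ((Polynomial.X : Polynomial ℂ) •
          (1 : Matrix (Fin m ⊕ Fin m) (Fin m ⊕ Fin m) (Polynomial ℂ)) +
        (-1 : Polynomial ℂ) • A.map Polynomial.C) = A.charmatrix := by
      ext i j
      rw [Matrix.charmatrix_apply]
      simp [Matrix.one_apply, Matrix.diagonal_apply, sub_eq_add_neg]
    rw [hchar] at h1
    have hJ : (Jm m (Polynomial ℂ)).det = Polynomial.C (Jm m ℂ).det := by
      rw [← Jm_map m (Polynomial.C : ℂ →+* Polynomial ℂ)]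
      have := RingHom.map_det (Polynomial.C : ℂ →+* Polynomial ℂ) (Jm m ℂ)
      rw [RingHom.mapMatrix_apply] at this
      exact this.symm
    rw [hJ] at h1
    show A.charmatrix.det = _
    rw [map_mul, MvPolynomial.eval_C, mul_pow]
    have h3 : (MvPolynomial.eval (fun ij => Polynomial.C (A ij.1 ij.2)) P) ^ 2 =
        Polynomial.C (Jm m ℂ).det * A.charmatrix.det := h1.symm
    rw [h3, ← Polynomial.C_pow, hμ, ← mul_assoc, ← Polynomial.C_mul, inv_mul_cancel₀ hd,
      Polynomial.C_1, one_mul]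
  · obtain ⟨Q, hQ⟩ := det_identity m ℂ (by norm_num) 0 1 (1 / 2) (by norm_num)
    refine ⟨MvPolynomial.C μ * Q, fun A hA => ?_⟩
    have h1 := hQ A hA
    rw [zero_smul, zero_add, one_smul] at h1
    rw [map_mul, MvPolynomial.eval_C, mul_pow, ← h1, hμ, ← mul_assoc, inv_mul_cancel₀ hd, one_mul]

end Generic

end Groth.Agent.Lib.Helper77.SkewDet
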