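import Mathlib

set_option autoImplicit false
universe u v

namespace Groth.Agent.Lib.Helper77.SubstLead

open Polynomial in
theorem prod_bound {R ι : Type*} [CommSemiring R] (s : Finset ι) (p : ι → Polynomial R) (n : ι → ℕ)
    (h : ∀ i ∈ s, (p i).natDegree ≤ n i) :
    (∏ i ∈ s, p i).natDegree ≤ ∑ i ∈ s, n i ∧
      (∏ i ∈ s, p i).coeff (∑ i ∈ s, n i) = ∏ i ∈ s, (p i).coeff (n i) := by
  classical
  induction s using Finset.induction_on with
  | empty => simp
  | insert a s ha ih =>
    have h1 := ih (fun i hi => h i (Finset.mem_insert_of_mem hi))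
    have h2 := h a (Finset.mem_insert_self a s)
    rw [Finset.prod_insert ha, Finset.sum_insert ha, Finset.prod_insert ha]
    exact ⟨natDegree_mul_le_of_le h2 h1.1, by rw [coeff_mul_add_eq_of_natDegree_le h2 h1.1, h1.2]⟩

variable {k : Type u} [Field k] {K : Type v} [Field K] [Algebra k K] {r : ℕ}

/-- the linear form `x_i + g_i t^N` -/
noncomputable def L (g : Fin r → K) (N : ℕ) (i : Fin r) : Polynomial (MvPolynomial (Fin r) K) :=
  Polynomial.C (MvPolynomial.X i) + Polynomial.C (MvPolynomial.C (g i)) * Polynomial.X ^ N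

theorem natDegree_L_le (g : Fin r → K) (N : ℕ) (i : Fin r) : (L g N i).natDegree ≤ N := by
  unfold L
  compute_degree

theorem coeff_L (g : Fin r → K) (N : ℕ) (hN : 1 ≤ N) (i : Fin r) :
    (L g N i).coeff N = MvPolynomial.C (g i) := by
  unfold L
  have : N ≠ 0 := by omega
  simp [Polynomial.coeff_C, this]

/-- the substitution hom -/
noncomputable def φ (g : Fin r → K) (N : ℕ) :
    MvPolynomial (Fin r) k →ₐ[k] Polynomial (MvPolynomial (Fin r) K) :=
  MvPolynomial.aeval (L g N)

theorem φ_monomial (g : Fin r → K) (N : ℕ) (hN : 1 ≤ N) (α : Fin r →₀ ℕ) (c : k) :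
    (φ (k := k) g N (MvPolynomial.monomial α c)).natDegree ≤ N * (∑ i, α i) ∧
    (φ (k := k) g N (MvPolynomial.monomial α c)).coeff (N * (∑ i, α i)) =
      MvPolynomial.C (algebraMap k K c * ∏ i, g i ^ α i) := by
  have h0 : φ (k := k) g N (MvPolynomial.monomial α c) =
      Polynomial.C (MvPolynomial.C (algebraMap k K c)) * ∏ i, (L g N i) ^ (α i) := by
    unfold φ
    rw [MvPolynomial.aeval_monomial, Finsupp.prod_fintype _ _ (fun i => pow_zero _)]
    rfl
  have h1 := prod_bound Finset.univ (fun i => (L g N i) ^ (α i)) (fun i => α i * N)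
    (fun i _ => Polynomial.natDegree_pow_le_of_le (α i) (natDegree_L_le g N i))
  have h2 : ∑ i, α i * N = N * ∑ i, α i := by
    rw [Finset.mul_sum]; exact Finset.sum_congr rfl (fun i _ => mul_comm _ _)
  rw [h2] at h1
  rw [h0]
  refine ⟨?_, ?_⟩
  · calc _ ≤ (Polynomial.C (MvPolynomial.C (algebraMap k K c))).natDegree +
          (∏ i, (L g N i) ^ (α i)).natDegree := Polynomial.natDegree_mul_le
      _ ≤ 0 + N * ∑ i, α i := by
          gcongr
          · simp
          · exact h1.1
      _ = _ := by simp
  · rw [Polynomial.coeff_C_mul, h1.2]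
    have : ∀ i, ((L g N i) ^ (α i)).coeff (α i * N) = MvPolynomial.C (g i ^ α i) := by
      intro i
      rw [Polynomial.coeff_pow_of_natDegree_le (natDegree_L_le g N i), coeff_L g N hN, map_pow]
    simp only [this]
    rw [map_mul, map_prod]


theorem deg_le_totalDegree (a : MvPolynomial (Fin r) k) (α : Fin r →₀ ℕ) (hα : α ∈ a.support) :
    ∑ i, α i ≤ a.totalDegree := by
  have := MvPolynomial.le_totalDegree hα
  rwa [Finsupp.sum_fintype _ _ (fun _ => rfl)] at this

theorem φ_bound (g : Fin r → K) (N : ℕ) (hN : 1 ≤ N) (a : MvPolynomial (Fin r) k) (d : ℕ)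
    (hd : a.totalDegree ≤ d) :
    (φ (k := k) g N a).natDegree ≤ N * d ∧
    (φ (k := k) g N a).coeff (N * d) =
      MvPolynomial.C (MvPolynomial.aeval g (MvPolynomial.homogeneousComponent d a)) := by
  classical
  have ha : a = ∑ α ∈ a.support, MvPolynomial.monomial α (MvPolynomial.coeff α a) :=
    (MvPolynomial.support_sum_monomial_coeff a).symm
  have hφ : φ (k := k) g N a =
      ∑ α ∈ a.support, φ (k := k) g N (MvPolynomial.monomial α (MvPolynomial.coeff α a)) := by
    conv_lhs => rw [ha]
    rw [map_sum]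
  refine ⟨?_, ?_⟩
  · rw [hφ]
    apply Polynomial.natDegree_sum_le_of_forall_le
    intro α hα
    refine (φ_monomial g N hN α _).1.trans ?_
    exact Nat.mul_le_mul_left N ((deg_le_totalDegree a α hα).trans hd)
  · rw [hφ, Polynomial.finsetSum_coeff, MvPolynomial.homogeneousComponent_apply, map_sum, map_sum,
      Finset.sum_filter]
    apply Finset.sum_congr rfl
    intro α hα
    split_ifs with h
    · rw [Finsupp.degree_eq_sum] at h
      rw [← h, (φ_monomial g N hN α _).2, MvPolynomial.aeval_monomial,
        Finsupp.prod_fintype _ _ (fun i => pow_zero _)]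
    · rw [Finsupp.degree_eq_sum] at h
      apply Polynomial.coeff_eq_zero_of_natDegree_lt
      refine lt_of_le_of_lt (φ_monomial g N hN α _).1 ?_
      have h1 := (deg_le_totalDegree a α hα).trans hd
      have h2 : ∑ i, α i < d := lt_of_le_of_ne h1 h
      exact Nat.mul_lt_mul_of_pos_left h2 (by omega)

theorem homogeneousComponent_totalDegree_ne_zero (a : MvPolynomial (Fin r) k) (ha : a ≠ 0) :
    MvPolynomial.homogeneousComponent a.totalDegree a ≠ 0 := by
  classical
  have hne : a.support.Nonempty := by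
    rwa [Finset.nonempty_iff_ne_empty, Ne, MvPolynomial.support_eq_empty]
  obtain ⟨α, hα, hmax⟩ := Finset.exists_mem_eq_sup a.support hne (fun s => s.sum fun _ e => e)
  intro h0
  have h1 := congrArg (MvPolynomial.coeff α) h0
  rw [MvPolynomial.coeff_homogeneousComponent, MvPolynomial.coeff_zero] at h1
  have h2 : α.degree = a.totalDegree := by
    unfold MvPolynomial.totalDegree
    rw [hmax]
    rfl
  rw [if_pos h2] at h1
  exact (MvPolynomial.mem_support_iff.mp hα) h1


theorem arith (D N dj j ds js : ℕ) (hj : j ≤ D) (hjs : js ≤ D) (hN : D + 1 ≤ N)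
    (hw : (D + 1) * dj + j ≤ (D + 1) * ds + js) (hne : j ≠ js) : N * dj + j < N * ds + js := by
  rcases lt_trichotomy dj ds with h | h | h
  · have h1 : N * (dj + 1) ≤ N * ds := Nat.mul_le_mul_left N h
    rw [Nat.mul_add, Nat.mul_one] at h1
    omega
  · subst h
    have : j ≤ js := by omega
    omega
  · exfalso
    have h1 : (D + 1) * (ds + 1) ≤ (D + 1) * dj := Nat.mul_le_mul_left (D + 1) h
    rw [Nat.mul_add, Nat.mul_one] at h1
    omega

theorem main (f : Polynomial (MvPolynomial (Fin r) k)) (hf : f ≠ 0) :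
    ∃ h : MvPolynomial (Fin r) k, h ≠ 0 ∧ ∀ N : ℕ, f.natDegree + 1 ≤ N →
      ∀ (K : Type v) [Field K] [Algebra k K] (g : Fin r → K), MvPolynomial.aeval g h ≠ 0 →
        ∃ c : K, c ≠ 0 ∧
          (Polynomial.eval₂ (φ (k := k) g N).toRingHom Polynomial.X f).leadingCoeff =
            MvPolynomial.C c := by
  classical
  set D := f.natDegree with hD
  let w : ℕ → ℕ := fun j => (D + 1) * (f.coeff j).totalDegree + j
  have hne : f.support.Nonempty := by
    rwa [Finset.nonempty_iff_ne_empty, Ne, Polynomial.support_eq_empty]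
  obtain ⟨js, hjs, hmax⟩ := Finset.exists_max_image f.support w hne
  have hajs : f.coeff js ≠ 0 := Polynomial.mem_support_iff.mp hjs
  set ds := (f.coeff js).totalDegree with hds
  refine ⟨MvPolynomial.homogeneousComponent ds (f.coeff js),
    homogeneousComponent_totalDegree_ne_zero _ hajs, ?_⟩
  intro N hN K _ _ g hg
  refine ⟨MvPolynomial.aeval g (MvPolynomial.homogeneousComponent ds (f.coeff js)), hg, ?_⟩
  have hN1 : 1 ≤ N := by omega
  set F := Polynomial.eval₂ (φ (k := k) g N).toRingHom Polynomial.X f with hF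
  have hFsum : F = ∑ j ∈ f.support, φ (k := k) g N (f.coeff j) * Polynomial.X ^ j := by
    rw [hF, Polynomial.eval₂_eq_sum, Polynomial.sum_def]
    rfl
  have hle : ∀ j ∈ f.support, j ≤ D := fun j hj => Polynomial.le_natDegree_of_mem_supp j hj
  have hterm : ∀ j ∈ f.support,
      (φ (k := k) g N (f.coeff j) * Polynomial.X ^ j).natDegree ≤
        N * (f.coeff j).totalDegree + j := by
    intro j _
    refine Polynomial.natDegree_mul_le.trans ?_
    rw [Polynomial.natDegree_X_pow]
    have := (φ_bound (k := k) g N hN1 (f.coeff j) _ le_rfl).1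
    omega
  have hlt : ∀ j ∈ f.support, j ≠ js →
      N * (f.coeff j).totalDegree + j < N * ds + js := by
    intro j hj hne
    exact arith D N _ j ds js (hle j hj) (hle js hjs) hN (hmax j hj) hne
  have hdeg : F.natDegree ≤ N * ds + js := by
    rw [hFsum]
    apply Polynomial.natDegree_sum_le_of_forall_le
    intro j hj
    by_cases hjj : j = js
    · subst hjj; exact hterm j hj
    · exact (hterm j hj).trans (hlt j hj hjj).le
  have hcoeff : F.coeff (N * ds + js) =
      MvPolynomial.C (MvPolynomial.aeval g (MvPolynomial.homogeneousComponent ds (f.coeff js))) := by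
    rw [hFsum, Polynomial.finsetSum_coeff, Finset.sum_eq_single js]
    · rw [Polynomial.coeff_mul_X_pow]
      exact (φ_bound (k := k) g N hN1 (f.coeff js) ds le_rfl).2
    · intro j hj hjj
      exact Polynomial.coeff_eq_zero_of_natDegree_lt ((hterm j hj).trans_lt (hlt j hj hjj))
    · intro h; exact absurd hjs h
  have hcne : F.coeff (N * ds + js) ≠ 0 := by
    rw [hcoeff]
    intro h0
    exact hg (MvPolynomial.C_injective _ _ (by rw [h0, map_zero]))
  have hnat : F.natDegree = N * ds + js := Polynomial.natDegree_eq_of_le_of_coeff_ne_zero hdeg hcne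
  rw [Polynomial.leadingCoeff, hnat, hcoeff]

theorem main2 (f : Polynomial (MvPolynomial (Fin r) k)) (hf : f ≠ 0) :
    ∃ h : MvPolynomial (Fin r) k, h ≠ 0 ∧ ∀ N : ℕ, f.natDegree + 1 ≤ N →
      ∀ (K : Type v) [Field K] [Algebra k K] (g : Fin r → K), MvPolynomial.aeval g h ≠ 0 →
        ∃ c : K, c ≠ 0 ∧
          (Polynomial.eval₂ (φ (k := k) g N).toRingHom Polynomial.X f).leadingCoeff =
            MvPolynomial.C c ∧
          f.natDegree ≤ (Polynomial.eval₂ (φ (k := k) g N).toRingHom Polynomial.X f).natDegree := by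
  classical
  set D := f.natDegree with hD
  let w : ℕ → ℕ := fun j => (D + 1) * (f.coeff j).totalDegree + j
  have hne : f.support.Nonempty := by
    rwa [Finset.nonempty_iff_ne_empty, Ne, Polynomial.support_eq_empty]
  obtain ⟨js, hjs, hmax⟩ := Finset.exists_max_image f.support w hne
  have hajs : f.coeff js ≠ 0 := Polynomial.mem_support_iff.mp hjs
  set ds := (f.coeff js).totalDegree with hds
  refine ⟨MvPolynomial.homogeneousComponent ds (f.coeff js),
    homogeneousComponent_totalDegree_ne_zero _ hajs, ?_⟩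
  intro N hN K _ _ g hg
  refine ⟨MvPolynomial.aeval g (MvPolynomial.homogeneousComponent ds (f.coeff js)), hg, ?_⟩
  have hN1 : 1 ≤ N := by omega
  set F := Polynomial.eval₂ (φ (k := k) g N).toRingHom Polynomial.X f with hF
  have hFsum : F = ∑ j ∈ f.support, φ (k := k) g N (f.coeff j) * Polynomial.X ^ j := by
    rw [hF, Polynomial.eval₂_eq_sum, Polynomial.sum_def]
    rfl
  have hle : ∀ j ∈ f.support, j ≤ D := fun j hj => Polynomial.le_natDegree_of_mem_supp j hj
  have hterm : ∀ j ∈ f.support,
      (φ (k := k) g N (f.coeff j) * Polynomial.X ^ j).natDegree ≤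
        N * (f.coeff j).totalDegree + j := by
    intro j _
    refine Polynomial.natDegree_mul_le.trans ?_
    rw [Polynomial.natDegree_X_pow]
    have := (φ_bound (k := k) g N hN1 (f.coeff j) _ le_rfl).1
    omega
  have hlt : ∀ j ∈ f.support, j ≠ js →
      N * (f.coeff j).totalDegree + j < N * ds + js := by
    intro j hj hne
    exact arith D N _ j ds js (hle j hj) (hle js hjs) hN (hmax j hj) hne
  have hdeg : F.natDegree ≤ N * ds + js := by
    rw [hFsum]
    apply Polynomial.natDegree_sum_le_of_forall_le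
    intro j hj
    by_cases hjj : j = js
    · subst hjj; exact hterm j hj
    · exact (hterm j hj).trans (hlt j hj hjj).le
  have hcoeff : F.coeff (N * ds + js) =
      MvPolynomial.C (MvPolynomial.aeval g (MvPolynomial.homogeneousComponent ds (f.coeff js))) := by
    rw [hFsum, Polynomial.finsetSum_coeff, Finset.sum_eq_single js]
    · rw [Polynomial.coeff_mul_X_pow]
      exact (φ_bound (k := k) g N hN1 (f.coeff js) ds le_rfl).2
    · intro j hj hjj
      exact Polynomial.coeff_eq_zero_of_natDegree_lt ((hterm j hj).trans_lt (hlt j hj hjj))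
    · intro h; exact absurd hjs h
  have hcne : F.coeff (N * ds + js) ≠ 0 := by
    rw [hcoeff]
    intro h0
    exact hg (MvPolynomial.C_injective _ _ (by rw [h0, map_zero]))
  have hnat : F.natDegree = N * ds + js := Polynomial.natDegree_eq_of_le_of_coeff_ne_zero hdeg hcne
  refine ⟨by rw [Polynomial.leadingCoeff, hnat, hcoeff], ?_⟩
  rw [hnat]
  have hDs : D ∈ f.support := Polynomial.natDegree_mem_support_of_nonzero hf
  have hwD : (D + 1) * (f.coeff D).totalDegree + D ≤ (D + 1) * ds + js := hmax D hDs
  rcases Nat.eq_zero_or_pos ds with h0 | hpos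
  · rw [h0] at hwD ⊢
    have : D ≤ (D + 1) * (f.coeff D).totalDegree + D := Nat.le_add_left _ _
    omega
  · have : N * 1 ≤ N * ds := Nat.mul_le_mul_left N hpos
    omega


end Groth.Agent.Lib.Helper77.SubstLead
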