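import Mathlib
import Groth.Agent.Lib.Helper77.MultTors

/-!
# Localised density of the torsion subgroups of a diagonalisable group

For `a, y ∈ T[M]` (`M` finitely generated): if for every `n > 0` some `a ^ k * y` lies in the ideal
of `ₙD(M)`, then some `a ^ k * y` vanishes.  Proof: reduce to `T` of finite type over `ℤ`, where
every nonzero element survives in a finite quotient ring, in which the characters have finite order.
-/

set_option autoImplicit false
universe u
open TensorProduct

namespace Groth.Agent.Lib.Helper77.TorsLoc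
open SGA3b Groth.Agent.Lib.Helper77.MultMono Groth.Agent.Lib.Helper77.MultRigid
  Groth.Agent.Lib.Helper77.MultTors

section FiniteRings

theorem int_isJacobsonRing : IsJacobsonRing ℤ := by
  rw [isJacobsonRing_iff_prime_eq]
  intro P hP
  by_cases h : P = ⊥
  · subst h
    refine le_antisymm ?_ Ideal.le_jacobson
    intro x hx
    rw [Ideal.mem_jacobson_bot] at hx
    rw [Ideal.mem_bot]
    by_contra hx0
    have h1 := hx (2 * x)
    rw [Int.isUnit_iff] at h1
    have h2 : 0 < x * x := mul_self_pos.mpr hx0
    rcases h1 with h1 | h1 <;> nlinarith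
  · have : P.IsMaximal := hP.isMaximal h
    exact Ideal.jacobson_eq_self_of_isMaximal

/-- a field of finite type over `ℤ` is finite. -/
theorem finite_of_field_finiteType_int (K : Type*) [Field K] [Algebra.FiniteType ℤ K] :
    Finite K := by
  haveI := int_isJacobsonRing
  haveI : Module.Finite ℤ K := finite_of_finite_type_of_isJacobsonRing ℤ K
  have hnotinj : ¬ Function.Injective (algebraMap ℤ K) := fun hinj =>
    Int.not_isField (isField_of_isIntegral_of_isField hinj (Field.toIsField _))
  obtain ⟨p, hp⟩ := CharP.exists K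
  have hp0 : p ≠ 0 := by
    rintro rfl
    haveI : CharZero K := CharP.charP_to_charZero K
    exact hnotinj (algebraMap ℤ K).injective_int
  haveI : Fact p.Prime := ⟨(CharP.char_is_prime_or_zero K p).resolve_right hp0⟩
  letI : Algebra (ZMod p) K := ZMod.algebra K p
  haveI : Module.Finite (ZMod p) K := Module.Finite.of_restrictScalars_finite ℤ (ZMod p) K
  exact Module.finite_of_finite (ZMod p)

/-- a commutative ring which is a field and of finite type over `ℤ` is finite. -/
theorem finite_of_isField_finiteType_int (K : Type*) [CommRing K] (hK : IsField K)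
    [alg : Algebra ℤ K] [hft : Algebra.FiniteType ℤ K] : Finite K := by
  obtain rfl : alg = Ring.toIntAlgebra K := Subsingleton.elim _ _
  letI := hK.toField
  exact finite_of_field_finiteType_int K

/-- in an algebra of finite type over `ℤ`, a nonzero element survives in a finite quotient. -/
theorem exists_ringHom_finite_ne_zero (B : Type u) [CommRing B] [Algebra ℤ B]
    [Algebra.FiniteType ℤ B]
    {y : B} (hy : y ≠ 0) :
    ∃ (F : Type u) (_ : CommRing F) (_ : Finite F) (χ : B →+* F), χ y ≠ 0 := by
  haveI : IsNoetherianRing B := Algebra.FiniteType.isNoetherianRing ℤ B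
  let I : Ideal B := LinearMap.ker (LinearMap.toSpanSingleton B B y)
  have hI : I ≠ ⊤ := by
    intro h
    have h1 : (1 : B) ∈ I := h ▸ Submodule.mem_top
    rw [LinearMap.mem_ker, LinearMap.toSpanSingleton_apply, one_smul] at h1
    exact hy h1
  obtain ⟨𝔫, h𝔫, hle⟩ := Ideal.exists_le_maximal I hI
  have hnot : y ∉ (⨅ i : ℕ, 𝔫 ^ i • ⊤ : Submodule B B) := by
    intro hmem
    rw [Ideal.mem_iInf_smul_pow_eq_bot_iff] at hmem
    obtain ⟨r, hr⟩ := hmem
    have h1 : (1 - (r : B)) ∈ I := by
      rw [LinearMap.mem_ker, LinearMap.toSpanSingleton_apply, sub_smul, one_smul]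
      exact sub_eq_zero.mpr hr.symm
    have h2 : (1 : B) ∈ 𝔫 := by
      have := 𝔫.add_mem (hle h1) r.2
      simpa using this
    exact h𝔫.ne_top ((Ideal.eq_top_iff_one _).mpr h2)
  rw [Submodule.mem_iInf] at hnot
  push Not at hnot
  obtain ⟨s, hs⟩ := hnot
  have hs' : y ∉ 𝔫 ^ s := by
    intro h
    apply hs
    rw [smul_eq_mul, Ideal.mul_top]
    exact h
  haveI : Algebra.FiniteType ℤ (B ⧸ 𝔫) :=
    Algebra.FiniteType.of_surjective (Ideal.Quotient.mkₐ ℤ 𝔫) (Ideal.Quotient.mkₐ_surjective ℤ 𝔫)
  haveI : Finite (B ⧸ 𝔫) :=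
    finite_of_isField_finiteType_int (B ⧸ 𝔫) ((Ideal.Quotient.maximal_ideal_iff_isField_quotient 𝔫).mp h𝔫)
  have hfin : Finite (B ⧸ 𝔫 ^ s) := Ideal.finite_quotient_pow (IsNoetherian.noetherian 𝔫) s
  refine ⟨B ⧸ 𝔫 ^ s, inferInstance, hfin, Ideal.Quotient.mk (𝔫 ^ s), ?_⟩
  intro h
  exact hs' (Ideal.Quotient.eq_zero_iff_mem.mp h)

end FiniteRings

section Characters

variable (T : Type u) [CommRing T] (M : Type u) [CommGroup M]

open MonoidAlgebra

/-- a ring homomorphism from `T[M]` under which the elements of `M` have `n`-th power `1` kills the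
ideal of the `n`-torsion subgroup. -/
lemma ringHom_eq_zero_of_mem_torsionIdeal {F : Type*} [CommRing F] (χ : MonoidAlgebra T M →+* F)
    (n : ℕ) (hn : ∀ m : M, χ (single m (1 : T)) ^ n = 1) :
    ∀ z ∈ torsionIdeal T (MonoidAlgebra T M) n, χ z = 0 := by
  have key : ∀ z : MonoidAlgebra T M, χ (powConv T (MonoidAlgebra T M) n z) =
      χ (algebraMap T (MonoidAlgebra T M) (Coalgebra.counit (R := T) z)) := by
    intro z
    induction z using MonoidAlgebra.induction_on with
    | of m =>
      rw [MonoidAlgebra.of_apply]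
      have h3 : powConv T (MonoidAlgebra T M) n (single m (1 : T)) = single (m ^ n) (1 : T) :=
        Groth.Agent.Lib.Helper77.MultFin.convPow_single T M n m
      have h4 : (single (m ^ n) (1 : T) : MonoidAlgebra T M) = (single m (1 : T)) ^ n := by
        rw [MonoidAlgebra.single_pow, one_pow]
      rw [h3, h4, map_pow, hn]
      have h5 : (single (1 : M) (1 : T) : MonoidAlgebra T M) = 1 := rfl
      simp [h5]
    | add y z hy hz => rw [map_add, map_add, hy, hz, map_add, map_add, map_add]
    | smul r z hz =>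
      have e1 : powConv T (MonoidAlgebra T M) n (r • z) =
          algebraMap T (MonoidAlgebra T M) r * powConv T (MonoidAlgebra T M) n z := by
        rw [map_smul, Algebra.smul_def]
      have e2 : algebraMap T (MonoidAlgebra T M) (Coalgebra.counit (R := T) (r • z)) =
          algebraMap T (MonoidAlgebra T M) r *
            algebraMap T (MonoidAlgebra T M) (Coalgebra.counit (R := T) z) := by
        rw [map_smul, smul_eq_mul, map_mul]
      rw [e1, e2, map_mul, map_mul, hz]
  intro z hz
  have hle : torsionIdeal T (MonoidAlgebra T M) n ≤ RingHom.ker χ := by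
    unfold torsionIdeal
    rw [Ideal.map_le_iff_le_comap]
    intro w hw
    rw [Ideal.mem_comap, RingHom.mem_ker]
    have hw' : Coalgebra.counit (R := T) w = 0 := hw
    have := key w
    rw [hw', map_zero, map_zero] at this
    exact this
  exact hle hz

end Characters

section CoreFT

variable (T : Type u) [CommRing T] (M : Type u) [CommGroup M]

/-- the core statement over a base of finite type over `ℤ`. -/
theorem exists_pow_mul_eq_zero_of_finiteType_int [alg : Algebra ℤ T] [Algebra.FiniteType ℤ T]
    [Group.FG M]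
    (a y : MonoidAlgebra T M)
    (h : ∀ n : ℕ, 0 < n → ∃ k : ℕ, a ^ k * y ∈ torsionIdeal T (MonoidAlgebra T M) n) :
    ∃ k : ℕ, a ^ k * y = 0 := by
  obtain rfl : alg = Ring.toIntAlgebra T := Subsingleton.elim _ _
  by_contra hne
  push Not at hne
  haveI : Algebra.FiniteType ℤ (MonoidAlgebra T M) :=
    Algebra.FiniteType.trans (inferInstance : Algebra.FiniteType ℤ T) inferInstance
  haveI : Algebra.FiniteType ℤ (Localization.Away a) :=
    Algebra.FiniteType.trans (inferInstance : Algebra.FiniteType ℤ (MonoidAlgebra T M))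
      inferInstance
  have hy' : algebraMap (MonoidAlgebra T M) (Localization.Away a) y ≠ 0 := by
    intro h0
    rw [IsLocalization.map_eq_zero_iff (Submonoid.powers a)] at h0
    obtain ⟨⟨_, k, rfl⟩, hk⟩ := h0
    exact hne k hk
  obtain ⟨F, _, hF, χ', hχ'⟩ := exists_ringHom_finite_ne_zero (Localization.Away a) hy'
  let χ : MonoidAlgebra T M →+* F := χ'.comp (algebraMap (MonoidAlgebra T M) (Localization.Away a))
  have hua : IsUnit (χ a) := by
    have : IsUnit (algebraMap (MonoidAlgebra T M) (Localization.Away a) a) :=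
      IsLocalization.Away.algebraMap_isUnit a
    exact this.map χ'
  have hpos : 0 < Nat.card Fˣ := Nat.card_pos
  have hchar : ∀ m : M, χ (MonoidAlgebra.single m (1 : T)) ^ Nat.card Fˣ = 1 := by
    intro m
    have hu : IsUnit (MonoidAlgebra.single m (1 : T) : MonoidAlgebra T M) := by
      refine IsUnit.of_mul_eq_one (MonoidAlgebra.single m⁻¹ (1 : T)) ?_
      rw [MonoidAlgebra.single_mul_single, mul_inv_cancel, one_mul]
      rfl
    obtain ⟨u, hu'⟩ := hu.map χ
    rw [← hu', ← Units.val_pow_eq_pow_val, pow_card_eq_one', Units.val_one]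
  obtain ⟨k, hk⟩ := h (Nat.card Fˣ) hpos
  have h0 := ringHom_eq_zero_of_mem_torsionIdeal T M χ (Nat.card Fˣ) hchar _ hk
  rw [map_mul, map_pow] at h0
  have h1 : χ y = 0 := (hua.pow k).mul_right_eq_zero.mp h0
  exact hχ' h1

end CoreFT

section Reduce

variable {T₀ T : Type u} [CommRing T₀] [CommRing T] (f : T₀ →+* T) (M : Type u) [CommGroup M]

lemma mapRingHom_injective (hf : Function.Injective f) (N : Type*) [Monoid N] :
    Function.Injective (MonoidAlgebra.mapRingHom N f) := by
  intro x y hxy
  ext m
  apply hf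
  have := congrArg (fun z => z.coeff m) hxy
  simpa using this

lemma mem_torsionIdeal_of_mapRingHom_mem (hf : Function.Injective f) (n : ℕ)
    (z : MonoidAlgebra T₀ M)
    (hz : MonoidAlgebra.mapRingHom M f z ∈ torsionIdeal T (MonoidAlgebra T M) n) :
    z ∈ torsionIdeal T₀ (MonoidAlgebra T₀ M) n := by
  rw [← ker_mapDomain_eq_torsionIdeal, RingHom.mem_ker] at hz ⊢
  apply mapRingHom_injective f hf (M ⧸ powSubgroup M n)
  rw [map_zero]
  have key := DFunLike.congr_fun (MonoidAlgebra.mapRingHom_comp_mapDomainRingHom f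
    (QuotientGroup.mk' (powSubgroup M n))) z
  exact key.trans hz

/-- every element of `T[M]` with coefficients in a subring comes from the subring. -/
lemma exists_mapRingHom_eq (S : Subalgebra ℤ T) (x : MonoidAlgebra T M)
    (hx : ∀ m, x.coeff m ∈ S) :
    ∃ x₀ : MonoidAlgebra S M, MonoidAlgebra.mapRingHom M (algebraMap S T) x₀ = x := by
  classical
  let g : T → S := fun t => if h : t ∈ S then ⟨t, h⟩ else 0
  have hg0 : g 0 = 0 := by
    simp only [g, dif_pos S.zero_mem]
    rfl
  refine ⟨MonoidAlgebra.ofCoeff (x.coeff.mapRange g hg0), ?_⟩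
  ext m
  rw [MonoidAlgebra.coeff_mapRingHom]
  simp only [Finsupp.mapRange_apply, g, dif_pos (hx m)]
  rfl

end Reduce

section Core

variable (T : Type u) [CommRing T] (M : Type u) [CommGroup M]

/-- **localised density of the torsion subgroups of a diagonalisable group of finite type.** -/
theorem exists_pow_mul_eq_zero [Group.FG M] (a y : MonoidAlgebra T M)
    (h : ∀ n : ℕ, 0 < n → ∃ k : ℕ, a ^ k * y ∈ torsionIdeal T (MonoidAlgebra T M) n) :
    ∃ k : ℕ, a ^ k * y = 0 := by
  classical
  let s : Finset T := a.coeff.support.image a.coeff ∪ y.coeff.support.image y.coeff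
  let S : Subalgebra ℤ T := Algebra.adjoin ℤ (s : Set T)
  haveI : Algebra.FiniteType ℤ S := (Subalgebra.fg_iff_finiteType _).mp (Subalgebra.fg_adjoin_finset s)
  have hmem : ∀ (x : MonoidAlgebra T M), x.coeff.support.image x.coeff ⊆ s → ∀ m, x.coeff m ∈ S := by
    intro x hx m
    by_cases hm : x.coeff m = 0
    · rw [hm]
      exact S.zero_mem
    · apply Algebra.subset_adjoin
      apply hx
      exact Finset.mem_image_of_mem _ (Finsupp.mem_support_iff.mpr hm)
  obtain ⟨a₀, ha₀⟩ := exists_mapRingHom_eq M S a (hmem a Finset.subset_union_left)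
  obtain ⟨y₀, hy₀⟩ := exists_mapRingHom_eq M S y (hmem y Finset.subset_union_right)
  have hinj : Function.Injective (algebraMap S T) := Subtype.val_injective
  have h₀ : ∀ n : ℕ, 0 < n → ∃ k : ℕ, a₀ ^ k * y₀ ∈ torsionIdeal S (MonoidAlgebra S M) n := by
    intro n hn
    obtain ⟨k, hk⟩ := h n hn
    refine ⟨k, mem_torsionIdeal_of_mapRingHom_mem (algebraMap S T) M hinj n _ ?_⟩
    rw [map_mul, map_pow, ha₀, hy₀]
    exact hk
  obtain ⟨k, hk⟩ := exists_pow_mul_eq_zero_of_finiteType_int S M a₀ y₀ h₀
  refine ⟨k, ?_⟩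
  rw [← ha₀, ← hy₀, ← map_pow, ← map_mul, hk, map_zero]

end Core

end Groth.Agent.Lib.Helper77.TorsLoc
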