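import Mathlib
import Groth.Agent.Lib.Helper77.TorsLoc1

/-!
# Schematic density of the torsion subgroups of a group of multiplicative type of finite type
-/

set_option autoImplicit false
universe u
open TensorProduct

namespace Groth.Agent.Lib.Helper77.TorsLoc
open SGA3b Groth.Agent.Lib.Helper77.MultMono Groth.Agent.Lib.Helper77.MultRigid
  Groth.Agent.Lib.Helper77.MultTors

section Loc

/-- intersection of extended ideals in a localisation away from `a`. -/
lemma iInf_map_away_eq_bot {A : Type*} [CommRing A] (a : A) {ι : Type*} (J : ι → Ideal A)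
    (h : ∀ y : A, (∀ i, ∃ k : ℕ, a ^ k * y ∈ J i) → ∃ k : ℕ, a ^ k * y = 0) :
    ⨅ i, Ideal.map (algebraMap A (Localization.Away a)) (J i) = ⊥ := by
  rw [eq_bot_iff]
  intro x hx
  rw [Ideal.mem_bot]
  obtain ⟨⟨y, ⟨_, j, rfl⟩⟩, hxy⟩ := IsLocalization.surj (Submonoid.powers a) x
  have hxy' : x * algebraMap A (Localization.Away a) (a ^ j) =
      algebraMap A (Localization.Away a) y := hxy
  have hy : ∀ i, ∃ k : ℕ, a ^ k * y ∈ J i := by
    intro i
    have h1 : algebraMap A (Localization.Away a) y ∈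
        Ideal.map (algebraMap A (Localization.Away a)) (J i) := by
      rw [← hxy']
      exact Ideal.mul_mem_right _ _ ((Ideal.mem_iInf.mp hx) i)
    rw [IsLocalization.algebraMap_mem_map_algebraMap_iff (Submonoid.powers a)] at h1
    obtain ⟨m, ⟨k, rfl⟩, hm⟩ := h1
    exact ⟨k, hm⟩
  obtain ⟨k, hk⟩ := h y hy
  have h2 : algebraMap A (Localization.Away a) y = 0 := by
    rw [IsLocalization.map_eq_zero_iff (Submonoid.powers a)]
    exact ⟨⟨a ^ k, k, rfl⟩, hk⟩
  rw [h2] at hxy'
  have hu : IsUnit (algebraMap A (Localization.Away a) (a ^ j)) :=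
    IsLocalization.map_units _ (⟨a ^ j, j, rfl⟩ : Submonoid.powers a)
  exact hu.mul_left_eq_zero.mp hxy'

end Loc

section Const

variable {K : Type u} [CommRing K] {X : Type u} [CommRing X] [HopfAlgebra K X]

theorem exists_pow_mul_eq_zero_of_isMultTypeConst (hft : Algebra.FiniteType K X)
    (hX : IsMultTypeConst K X) (a y : X)
    (h : ∀ n : ℕ, 0 < n → ∃ k : ℕ, a ^ k * y ∈ torsionIdeal K X n) :
    ∃ k : ℕ, a ^ k * y = 0 := by
  obtain ⟨K', _, _, hff, M, _, ⟨ε⟩⟩ := hX
  rcases subsingleton_or_nontrivial K' with hK' | hK'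
  · refine ⟨0, ?_⟩
    have : Subsingleton (K' ⊗[K] X) := Module.subsingleton K' _
    exact (Module.FaithfullyFlat.one_tmul_eq_zero_iff K _ _).mp
      (Subsingleton.elim ((1 : K') ⊗ₜ[K] (a ^ 0 * y)) 0)
  have hft' : Algebra.FiniteType K' (MonoidAlgebra K' M) :=
    Algebra.FiniteType.equiv (inferInstance : Algebra.FiniteType K' (K' ⊗[K] X))
      (ε : (K' ⊗[K] X) ≃ₐ[K'] MonoidAlgebra K' M)
  haveI hfg : Group.FG M := MonoidAlgebra.finiteType_iff_group_fg.mp hft'
  let ψ : X →+* MonoidAlgebra K' M :=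
    (ε : K' ⊗[K] X →+* MonoidAlgebra K' M).comp
      ((Algebra.TensorProduct.includeRight : X →ₐ[K] K' ⊗[K] X) : X →+* K' ⊗[K] X)
  have hψ : ∀ (n : ℕ), ∀ z ∈ torsionIdeal K X n,
      ψ z ∈ torsionIdeal K' (MonoidAlgebra K' M) n := by
    intro n z hz
    apply map_torsionIdeal_le (ε : K' ⊗[K] X →ₐc[K'] MonoidAlgebra K' M) n
    apply Ideal.mem_map_of_mem
    rw [torsionIdeal_baseChange]
    exact Ideal.mem_map_of_mem _ hz
  obtain ⟨k, hk⟩ := exists_pow_mul_eq_zero K' M (ψ a) (ψ y) (fun n hn => by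
    obtain ⟨k, hk⟩ := h n hn
    exact ⟨k, by rw [← map_pow, ← map_mul]; exact hψ n _ hk⟩)
  refine ⟨k, ?_⟩
  rw [← map_pow, ← map_mul] at hk
  have h1 : (1 : K') ⊗ₜ[K] (a ^ k * y) = 0 := ε.injective (hk.trans (map_zero ε).symm)
  exact (Module.FaithfullyFlat.one_tmul_eq_zero_iff K _ _).mp h1

end Const

section Main

variable {R : Type u} [CommRing R] {A : Type u} [CommRing A] [HopfAlgebra R A]

theorem exists_pow_mul_eq_zero_of_isMultType (hft : Algebra.FiniteType R A)
    (hA : IsMultType R A) (a y : A)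
    (h : ∀ n : ℕ, 0 < n → ∃ k : ℕ, a ^ k * y ∈ torsionIdeal R A n) :
    ∃ k : ℕ, a ^ k * y = 0 := by
  classical
  obtain ⟨s, hs, hloc⟩ := hA
  have hlocal : ∀ f ∈ s, ∃ k j : ℕ, f ^ j • (a ^ k * y) = 0 := by
    intro f hf
    have h' : ∀ n : ℕ, 0 < n → ∃ k : ℕ,
        ((1 : Localization.Away f) ⊗ₜ[R] a) ^ k * ((1 : Localization.Away f) ⊗ₜ[R] y) ∈
          torsionIdeal (Localization.Away f) (Localization.Away f ⊗[R] A) n := by
      intro n hn
      obtain ⟨k, hk⟩ := h n hn
      refine ⟨k, ?_⟩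
      rw [torsionIdeal_baseChange]
      have e : ((1 : Localization.Away f) ⊗ₜ[R] a) ^ k * ((1 : Localization.Away f) ⊗ₜ[R] y) =
          (Algebra.TensorProduct.includeRight : A →ₐ[R] Localization.Away f ⊗[R] A)
            (a ^ k * y) := by
        rw [map_mul, map_pow]
        rfl
      rw [e]
      exact Ideal.mem_map_of_mem _ hk
    obtain ⟨k, hk⟩ := exists_pow_mul_eq_zero_of_isMultTypeConst
      (inferInstance : Algebra.FiniteType (Localization.Away f) (Localization.Away f ⊗[R] A))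
      (hloc f hf) _ _ h'
    have hk' : TensorProduct.mk R (Localization.Away f) A 1 (a ^ k * y) = 0 := by
      have e : ((1 : Localization.Away f) ⊗ₜ[R] a) ^ k * ((1 : Localization.Away f) ⊗ₜ[R] y) =
          (Algebra.TensorProduct.includeRight : A →ₐ[R] Localization.Away f ⊗[R] A)
            (a ^ k * y) := by
        rw [map_mul, map_pow]
        rfl
      rw [e] at hk
      exact hk
    rw [IsLocalizedModule.eq_zero_iff (Submonoid.powers f)] at hk'
    obtain ⟨⟨_, j, rfl⟩, hj⟩ := hk'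
    exact ⟨k, j, hj⟩
  obtain ⟨s', hs's, hs'⟩ := (Ideal.span_eq_top_iff_finite s).mp hs
  choose! kf jf hkj using hlocal
  refine ⟨s'.sup kf, ?_⟩
  let I : Ideal R := LinearMap.ker (LinearMap.toSpanSingleton R A (a ^ (s'.sup kf) * y))
  have hI : I = ⊤ := by
    rw [eq_top_iff, ← Ideal.span_pow_eq_top (s' : Set R) hs' (s'.sup jf), Ideal.span_le]
    rintro _ ⟨f, hf, rfl⟩
    show f ^ (s'.sup jf) ∈ I
    rw [LinearMap.mem_ker, LinearMap.toSpanSingleton_apply]
    have hkK : kf f ≤ s'.sup kf := Finset.le_sup (f := kf) hf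
    have hjN : jf f ≤ s'.sup jf := Finset.le_sup (f := jf) hf
    have hj := hkj f (hs's hf)
    have e1 : a ^ (s'.sup kf) * y = a ^ (s'.sup kf - kf f) * (a ^ kf f * y) := by
      rw [← mul_assoc, ← pow_add, Nat.sub_add_cancel hkK]
    have e2 : f ^ (s'.sup jf) = f ^ (s'.sup jf - jf f) * f ^ jf f := by
      rw [← pow_add, Nat.sub_add_cancel hjN]
    rw [e1, e2, mul_smul, ← mul_smul_comm, hj, mul_zero, smul_zero]
  have h1 : (1 : R) ∈ I := hI ▸ Submodule.mem_top
  rw [LinearMap.mem_ker, LinearMap.toSpanSingleton_apply, one_smul] at h1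
  exact h1

/-- **schematic density of the torsion subgroups** of a group of multiplicative type and of
finite type. -/
theorem iInf_torsionIdeal_eq_bot (hft : Algebra.FiniteType R A) (hA : IsMultType R A) (a : A) :
    ⨅ n : {n : ℕ // 0 < n},
      Ideal.map (algebraMap A (Localization.Away a)) (torsionIdeal R A n.1) = ⊥ := by
  apply iInf_map_away_eq_bot a (fun n : {n : ℕ // 0 < n} => torsionIdeal R A n.1)
  intro y hy
  exact exists_pow_mul_eq_zero_of_isMultType hft hA a y (fun n hn => hy ⟨n, hn⟩)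

end Main

end Groth.Agent.Lib.Helper77.TorsLoc
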