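import Mathlib
import Groth.Agent.Lib.Helper77.TorsLoc2
import Groth.Agent.Lib.Helper77.TorsPt2

/-!
# Schematic density of the torsion subgroups in a commutative group with an open subgroup of
multiplicative type (over a field)

Translations by rational points, expressed through convolution; translation by an `N`-torsion point
fixes the image of the `N`-th power endomorphism.
-/

set_option autoImplicit false
universe u
open TensorProduct WithConv

namespace Groth.Agent.Lib.Helper77.TorsCoset
open SGA3b Groth.Agent.Lib.Helper77.MultMono Groth.Agent.Lib.Helper77.MultRigid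
  Groth.Agent.Lib.Helper77.MultTors Groth.Agent.Lib.Helper77.TorsPt
  Groth.Agent.Lib.Helper77.TorsLoc

section Trans

variable {Ω : Type u} [CommRing Ω] {C : Type u} [CommRing C] [HopfAlgebra Ω C]

/-- the constant point. -/
noncomputable def cst (y : C →ₐ[Ω] Ω) : C →ₐ[Ω] C := (Algebra.ofId Ω C).comp y

lemma trans_eq (y : C →ₐ[Ω] Ω) :
    trans y = (toConv (cst y) * toConv (AlgHom.id Ω C)).ofConv := by
  rw [AlgHom.convMul_def]
  show ((Algebra.TensorProduct.lid Ω C) : Ω ⊗[Ω] C →ₐ[Ω] C).comp
      ((Algebra.TensorProduct.map y (AlgHom.id Ω C)).comp (Bialgebra.comulAlgHom Ω C)) =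
    (Algebra.TensorProduct.lmul' Ω).comp
      ((Algebra.TensorProduct.map (cst y) (AlgHom.id Ω C)).comp (Bialgebra.comulAlgHom Ω C))
  rw [← AlgHom.comp_assoc, ← AlgHom.comp_assoc]
  congr 1
  ext <;> simp [cst, Algebra.ofId_apply, Algebra.algebraMap_eq_smul_one]

lemma cst_mul (y z : C →ₐ[Ω] Ω) :
    toConv (cst y) * toConv (cst z) = toConv (cst (toConv y * toConv z).ofConv) := by
  have h := AlgHom.comp_convMul_distrib (Algebra.ofId Ω C) (toConv y) (toConv z)
  exact (congrArg toConv h).symm

lemma cst_one : toConv (cst (1 : WithConv (C →ₐ[Ω] Ω)).ofConv) = 1 := by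
  apply congrArg toConv
  apply AlgHom.ext
  intro c
  show algebraMap Ω C (algebraMap Ω Ω (Coalgebra.counit (R := Ω) c)) = algebraMap Ω C (Coalgebra.counit (R := Ω) c)
  rfl

lemma cst_pow (z : C →ₐ[Ω] Ω) (N : ℕ) :
    toConv (cst z) ^ N = toConv (cst (toConv z ^ N).ofConv) := by
  induction N with
  | zero => rw [pow_zero, pow_zero, cst_one]
  | succ N ih => rw [pow_succ, pow_succ, ih, cst_mul, toConv_ofConv]

lemma trans_comp_cst (y z : C →ₐ[Ω] Ω) : (trans z).comp (cst y) = cst y := by
  apply AlgHom.ext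
  intro c
  show trans z (algebraMap Ω C (y c)) = algebraMap Ω C (y c)
  rw [AlgHom.commutes]

lemma trans_comp_trans (y z : C →ₐ[Ω] Ω) :
    (trans z).comp (trans y) = trans (toConv y * toConv z).ofConv := by
  rw [trans_eq y, AlgHom.comp_convMul_distrib]
  simp only [trans_comp_cst, AlgHom.comp_id]
  rw [trans_eq z, toConv_ofConv, ← mul_assoc, cst_mul, trans_eq]

lemma trans_one : trans (1 : WithConv (C →ₐ[Ω] Ω)).ofConv = AlgHom.id Ω C := by
  rw [trans_eq, cst_one, one_mul]

lemma trans_inv_trans (z : WithConv (C →ₐ[Ω] Ω)) (c : C) :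
    trans (z⁻¹).ofConv (trans z.ofConv c) = c := by
  have h := trans_comp_trans z.ofConv (z⁻¹).ofConv
  rw [toConv_ofConv, toConv_ofConv, mul_inv_cancel, trans_one] at h
  exact congrArg (fun f => f c) h

variable [Coalgebra.IsCocomm Ω C]

/-- translation by an `N`-torsion point fixes the image of the `N`-th power endomorphism. -/
lemma trans_comp_powConv (z : C →ₐ[Ω] Ω) (N : ℕ) (hz : toConv z ^ N = 1) :
    (trans z).comp (powConv Ω C N) = powConv Ω C N := by
  have h := comp_pow (trans z) (toConv (AlgHom.id Ω C)) N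
  show (trans z).comp (ofConv (toConv (AlgHom.id Ω C) ^ N)) = ofConv (toConv (AlgHom.id Ω C) ^ N)
  rw [h, ofConv_toConv, AlgHom.comp_id, trans_eq, toConv_ofConv, mul_pow, cst_pow, hz, cst_one,
    one_mul]

lemma trans_mem_torsionIdeal (z : C →ₐ[Ω] Ω) (N : ℕ) (hz : toConv z ^ N = 1) {c : C}
    (hc : c ∈ torsionIdeal Ω C N) : trans z c ∈ torsionIdeal Ω C N := by
  have hle : torsionIdeal Ω C N ≤ (torsionIdeal Ω C N).comap (trans z) := by
    unfold torsionIdeal
    rw [Ideal.map_le_iff_le_comap]
    intro a ha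
    rw [Ideal.mem_comap, Ideal.mem_comap]
    have h1 : trans z (powConv Ω C N a) = ((trans z).comp (powConv Ω C N)) a := rfl
    rw [h1, trans_comp_powConv z N hz]
    exact Ideal.mem_map_of_mem _ ha
  exact hle hc

lemma powConv_mul (n N : ℕ) :
    powConv Ω C (n * N) = (powConv Ω C n).comp (powConv Ω C N) := by
  have h := comp_pow (powConv Ω C n) (toConv (AlgHom.id Ω C)) N
  show ofConv (toConv (AlgHom.id Ω C) ^ (n * N)) =
    (powConv Ω C n).comp (ofConv (toConv (AlgHom.id Ω C) ^ N))
  rw [h, AlgHom.comp_id, pow_mul]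
  rfl

lemma counit_powConv (N : ℕ) (c : C) :
    Coalgebra.counit (R := Ω) (powConv Ω C N c) = Coalgebra.counit (R := Ω) c := by
  have h := comp_powConv (Bialgebra.counitAlgHom Ω C) N
  have h1 : toConv (Bialgebra.counitAlgHom Ω C) = (1 : WithConv (C →ₐ[Ω] Ω)) := by
    apply congrArg toConv
    apply AlgHom.ext
    intro c
    rfl
  rw [h1, one_pow] at h
  exact congrArg (fun f => f c) h

lemma torsionIdeal_mul_le (n N : ℕ) : torsionIdeal Ω C (n * N) ≤ torsionIdeal Ω C n := by
  unfold torsionIdeal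
  rw [powConv_mul, ← Ideal.map_mapₐ]
  apply Ideal.map_mono
  rw [Ideal.map_le_iff_le_comap]
  intro a ha
  rw [Ideal.mem_comap, RingHom.mem_ker]
  rw [RingHom.mem_ker] at ha
  exact (counit_powConv N a).trans ha

end Trans

end Groth.Agent.Lib.Helper77.TorsCoset
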