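import Mathlib
import Groth.Agent.Lib.Helper77.TorsCoset1

/-!
# Schematic density of the torsion subgroups: groups with an open diagonalisable subgroup over an
algebraically closed field
-/

set_option autoImplicit false
universe u
open TensorProduct WithConv

namespace Groth.Agent.Lib.Helper77.TorsCoset
open SGA3b Groth.Agent.Lib.Helper77.MultMono Groth.Agent.Lib.Helper77.MultRigid
  Groth.Agent.Lib.Helper77.MultTors Groth.Agent.Lib.Helper77.TorsPt
  Groth.Agent.Lib.Helper77.TorsLoc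

section Null

variable {Ω : Type u} [Field Ω] [IsAlgClosed Ω] {C : Type u} [CommRing C] [Algebra Ω C]

/-- a nonzero element of a finitely generated algebra over an algebraically closed field: some
rational point kills its annihilator. -/
theorem exists_point_of_ne_zero (hft : Algebra.FiniteType Ω C) {w : C} (hw : w ≠ 0) :
    ∃ x : C →ₐ[Ω] Ω, ∀ c : C, c * w = 0 → x c = 0 := by
  let I : Ideal C := LinearMap.ker (LinearMap.toSpanSingleton C C w)
  have hI : I ≠ ⊤ := by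
    intro h
    have h1 : (1 : C) ∈ I := h ▸ Submodule.mem_top
    rw [LinearMap.mem_ker, LinearMap.toSpanSingleton_apply, one_smul] at h1
    exact hw h1
  obtain ⟨𝔪, h𝔪, hle⟩ := Ideal.exists_le_maximal I hI
  letI : Field (C ⧸ 𝔪) := Ideal.Quotient.field 𝔪
  haveI : Algebra.FiniteType Ω (C ⧸ 𝔪) :=
    hft.of_surjective (Ideal.Quotient.mkₐ Ω 𝔪) (Ideal.Quotient.mkₐ_surjective Ω 𝔪)
  haveI : Module.Finite Ω (C ⧸ 𝔪) := finite_of_finite_type_of_isJacobsonRing Ω (C ⧸ 𝔪)
  haveI : Algebra.IsIntegral Ω (C ⧸ 𝔪) := Algebra.IsIntegral.of_finite Ω (C ⧸ 𝔪)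
  have hbij : Function.Bijective (algebraMap Ω (C ⧸ 𝔪)) :=
    IsAlgClosed.algebraMap_bijective_of_isIntegral
  let E : Ω ≃ₐ[Ω] (C ⧸ 𝔪) := AlgEquiv.ofBijective (Algebra.ofId Ω (C ⧸ 𝔪)) hbij
  refine ⟨(E.symm : (C ⧸ 𝔪) →ₐ[Ω] Ω).comp (Ideal.Quotient.mkₐ Ω 𝔪), fun c hc => ?_⟩
  have h0 : c ∈ I := by
    rw [LinearMap.mem_ker, LinearMap.toSpanSingleton_apply, smul_eq_mul]
    exact hc
  have h1 : Ideal.Quotient.mkₐ Ω 𝔪 c = 0 := Ideal.Quotient.eq_zero_iff_mem.mpr (hle h0)
  show E.symm (Ideal.Quotient.mkₐ Ω 𝔪 c) = 0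
  rw [h1, map_zero]

end Null

section Main

variable {Ω : Type u} [Field Ω] [IsAlgClosed Ω] {C : Type u} [CommRing C] [HopfAlgebra Ω C]
  [Coalgebra.IsCocomm Ω C] {M : Type u} [CommGroup M]

/-- every coset of the open diagonalisable subgroup contains a torsion point. -/
theorem exists_torsion_point (hft : Algebra.FiniteType Ω C)
    (π : C →ₐc[Ω] MonoidAlgebra Ω M) (hπ : Function.Surjective π)
    {e : C} (he : IsIdempotentElem e)
    (hker : RingHom.ker (π : C →ₐ[Ω] MonoidAlgebra Ω M) = Ideal.span {e})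
    (x : C →ₐ[Ω] Ω) :
    ∃ (z : WithConv (C →ₐ[Ω] Ω)) (N : ℕ), 0 < N ∧ z ^ N = 1 ∧ (z⁻¹ * toConv x) e = 0 := by
  haveI : IsNoetherianRing C := Algebra.FiniteType.isNoetherianRing Ω C
  haveI : Group.FG M := by
    have h1 : Algebra.FiniteType Ω (MonoidAlgebra Ω M) :=
      hft.of_surjective (π : C →ₐ[Ω] MonoidAlgebra Ω M) hπ
    exact MonoidAlgebra.finiteType_iff_group_fg.mp h1
  have hπe : π e = 0 := by
    have h1 : e ∈ RingHom.ker (π : C →ₐ[Ω] MonoidAlgebra Ω M) := by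
      rw [hker]
      exact Ideal.mem_span_singleton_self e
    exact h1
  have hεe : Coalgebra.counit (R := Ω) e = 0 := by
    rw [← CoalgHomClass.counit_comp_apply π e, hπe, map_zero]
  have hfac : ∀ w : C →ₐ[Ω] Ω, w e = 0 → ∃ w' : MonoidAlgebra Ω M →ₐ[Ω] Ω,
      w'.comp (π : C →ₐ[Ω] MonoidAlgebra Ω M) = w := by
    intro w hw
    have hle : RingHom.ker (π : C →ₐ[Ω] MonoidAlgebra Ω M) ≤ RingHom.ker w := by
      rw [hker, Ideal.span_le]
      intro c hc
      rw [Set.mem_singleton_iff] at hc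
      rw [hc]
      exact hw
    refine ⟨AlgHom.liftOfSurjective (π : C →ₐ[Ω] MonoidAlgebra Ω M) hπ w hle, ?_⟩
    apply AlgHom.ext
    intro c
    exact AlgHom.liftOfSurjective_apply _ hπ w hle c
  obtain ⟨n, hn, hxn⟩ := exists_pow_apply_eq_zero he hεe x
  obtain ⟨g, hg⟩ := hfac (toConv x ^ n).ofConv hxn
  let χ : M →* Ω := (MonoidAlgebra.lift Ω Ω M).symm g
  have hgχ : g = MonoidAlgebra.lift Ω Ω M χ := ((MonoidAlgebra.lift Ω Ω M).apply_symm_apply g).symm
  obtain ⟨f, hf, ψ', hψ'⟩ := exists_root_character χ.toHomUnits hn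
  let ψ : M →* Ω := (Units.coeHom Ω).comp ψ'
  have hψ : ψ ^ (n * f) = χ ^ f := by
    apply MonoidHom.ext
    intro m
    have h1 := congrArg (fun (θ : M →* Ωˣ) => ((θ m : Ωˣ) : Ω)) hψ'
    simpa [ψ] using h1
  let yt : MonoidAlgebra Ω M →ₐ[Ω] Ω := MonoidAlgebra.lift Ω Ω M ψ
  let y : WithConv (C →ₐ[Ω] Ω) := toConv (yt.comp (π : C →ₐ[Ω] MonoidAlgebra Ω M))
  have hy : y ^ (n * f) = toConv x ^ (n * f) := by
    have h1 : y ^ (n * f) = toConv ((toConv yt ^ (n * f)).ofConv.comp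
        (π : C →ₐ[Ω] MonoidAlgebra Ω M)) := by
      rw [pow_comp_bialgHom]
    have h2 : (toConv x ^ n) ^ f = toConv ((toConv g ^ f).ofConv.comp
        (π : C →ₐ[Ω] MonoidAlgebra Ω M)) := by
      rw [pow_comp_bialgHom, hg]
    rw [h1, pow_mul (toConv x), h2, lift_pow, hgχ, lift_pow, hψ]
  refine ⟨toConv x * y⁻¹, n * f, Nat.mul_pos hn hf, ?_, ?_⟩
  · rw [mul_pow, inv_pow, hy, mul_inv_cancel]
  · have h1 : (toConv x * y⁻¹)⁻¹ * toConv x = y := by
      rw [mul_inv_rev, inv_inv, mul_assoc, inv_mul_cancel, mul_one]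
    rw [h1]
    show yt (π e) = 0
    rw [hπe, map_zero]

/-- **schematic density of the torsion subgroups** of a commutative group of finite type over an
algebraically closed field with an open diagonalisable subgroup. -/
theorem exists_pow_mul_eq_zero_of_open_diag (hft : Algebra.FiniteType Ω C)
    (π : C →ₐc[Ω] MonoidAlgebra Ω M) (hπ : Function.Surjective π)
    {e : C} (he : IsIdempotentElem e)
    (hker : RingHom.ker (π : C →ₐ[Ω] MonoidAlgebra Ω M) = Ideal.span {e})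
    (a y : C) (h : ∀ n : ℕ, 0 < n → ∃ k : ℕ, a ^ k * y ∈ torsionIdeal Ω C n) :
    ∃ k : ℕ, a ^ k * y = 0 := by
  haveI : IsNoetherianRing C := Algebra.FiniteType.isNoetherianRing Ω C
  haveI : Group.FG M := by
    have h1 : Algebra.FiniteType Ω (MonoidAlgebra Ω M) :=
      hft.of_surjective (π : C →ₐ[Ω] MonoidAlgebra Ω M) hπ
    exact MonoidAlgebra.finiteType_iff_group_fg.mp h1
  let ann : ℕ → Ideal C := fun k => LinearMap.ker (LinearMap.toSpanSingleton C C (a ^ k * y))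
  have hann : ∀ (k : ℕ) (c : C), c ∈ ann k ↔ c * (a ^ k * y) = 0 := by
    intro k c
    show c ∈ LinearMap.ker (LinearMap.toSpanSingleton C C (a ^ k * y)) ↔ _
    rw [LinearMap.mem_ker, LinearMap.toSpanSingleton_apply, smul_eq_mul]
  have hmono : Monotone ann := by
    apply monotone_nat_of_le_succ
    intro k c hc
    rw [hann] at hc ⊢
    have e1 : c * (a ^ (k + 1) * y) = a * (c * (a ^ k * y)) := by ring
    rw [e1, hc, mul_zero]
  obtain ⟨K, hK⟩ := monotone_stabilizes_iff_noetherian.mpr inferInstance ⟨ann, hmono⟩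
  refine ⟨K, ?_⟩
  by_contra hw
  obtain ⟨x, hx⟩ := exists_point_of_ne_zero hft hw
  obtain ⟨z, N, hN, hzN, hze⟩ := exists_torsion_point hft π hπ he hker x
  have hloc : ∀ n : ℕ, 0 < n → ∃ k : ℕ, (π (trans z.ofConv a)) ^ k * π (trans z.ofConv y) ∈
      torsionIdeal Ω (MonoidAlgebra Ω M) n := by
    intro n hn
    obtain ⟨k, hk⟩ := h (n * N) (Nat.mul_pos hn hN)
    refine ⟨k, ?_⟩
    have hz' : toConv z.ofConv ^ (n * N) = 1 := by
      rw [toConv_ofConv, mul_comm, pow_mul, hzN, one_pow]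
    have h1 : trans z.ofConv (a ^ k * y) ∈ torsionIdeal Ω C (n * N) :=
      trans_mem_torsionIdeal z.ofConv (n * N) hz' hk
    have h2 := torsionIdeal_mul_le n N h1
    have h3 := map_torsionIdeal_le π n (Ideal.mem_map_of_mem _ h2)
    have h4 : (π (trans z.ofConv a)) ^ k * π (trans z.ofConv y) =
        (π : C →ₐ[Ω] MonoidAlgebra Ω M) (trans z.ofConv (a ^ k * y)) := by
      rw [map_mul, map_pow, map_mul, map_pow]
      rfl
    rw [h4]
    exact h3
  obtain ⟨k, hk⟩ := exists_pow_mul_eq_zero Ω M _ _ hloc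
  have h4 : trans z.ofConv (a ^ k * y) ∈ Ideal.span {e} := by
    rw [← hker, RingHom.mem_ker]
    show π (trans z.ofConv (a ^ k * y)) = 0
    rw [map_mul, map_pow, map_mul, map_pow]
    exact hk
  obtain ⟨b, hb⟩ := Ideal.mem_span_singleton'.mp h4
  have h5 : (1 - e) * trans z.ofConv (a ^ k * y) = 0 := by
    rw [← hb, mul_comm b e, ← mul_assoc, sub_mul, one_mul, he.eq, sub_self, zero_mul]
  have h6 := congrArg (TorsPt.trans (z⁻¹).ofConv) h5
  rw [map_mul, trans_inv_trans, map_zero, map_sub, map_one] at h6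
  have h7 : (1 - trans (z⁻¹).ofConv e) ∈ ann K := by
    have h8 : (1 - trans (z⁻¹).ofConv e) ∈ ann (max k K) :=
      hmono (le_max_left k K) ((hann k _).mpr h6)
    have h10 : ann K = ann (max k K) := hK (max k K) (le_max_right k K)
    rw [h10]
    exact h8
  have h9 : x (1 - trans (z⁻¹).ofConv e) = 0 := hx _ ((hann K _).mp h7)
  rw [map_sub, map_one, apply_trans, toConv_ofConv, hze, sub_zero] at h9
  exact one_ne_zero h9

end Main

end Groth.Agent.Lib.Helper77.TorsCoset
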