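import Mathlib
import Groth.Agent.Lib.Helper77.TorsCoset2
import Groth.Agent.Lib.Helper77.MultKer

/-!
# Schematic density of the torsion subgroups in a commutative group of finite type over a field
with an open subgroup of multiplicative type
-/

set_option autoImplicit false
universe u
open TensorProduct WithConv

namespace Groth.Agent.Lib.Helper77.TorsCoset
open SGA3b Groth.Agent.Lib.Helper77.MultMono Groth.Agent.Lib.Helper77.MultRigid
  Groth.Agent.Lib.Helper77.MultTors Groth.Agent.Lib.Helper77.TorsPt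
  Groth.Agent.Lib.Helper77.TorsLoc Groth.Agent.Lib.Helper77.MultBC
  Groth.Agent.Lib.Helper77.MultKer

section Descend

/-- descent from an algebraically closed extension over which the open subgroup is diagonalisable. -/
theorem exists_pow_mul_eq_zero_of_isDiagOf (k : Type u) [Field k] (C : Type u) [CommRing C]
    [HopfAlgebra k C] [Coalgebra.IsCocomm k C] (hft : Algebra.FiniteType k C)
    (e : C) (he : IsIdempotentElem e) [(Ideal.span {e}).IsHopfIdeal k]
    (Ω : Type u) [Field Ω] [IsAlgClosed Ω] [Algebra k Ω] (M : Type u) [CommGroup M]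
    (hd : IsDiagOf M Ω (Ω ⊗[k] (C ⧸ Ideal.span {e})))
    (a y : C) (h : ∀ n : ℕ, 0 < n → ∃ j : ℕ, a ^ j * y ∈ torsionIdeal k C n) :
    ∃ j : ℕ, a ^ j * y = 0 := by
  obtain ⟨εD⟩ := hd
  let π₀ : C →ₐc[k] C ⧸ Ideal.span {e} := Bialgebra.Quotient.mkBialgHom (Ideal.span {e})
  have hπ₀ : Function.Surjective π₀ := Ideal.Quotient.mk_surjective
  let π : Ω ⊗[k] C →ₐc[Ω] MonoidAlgebra Ω M := (εD : _ →ₐc[Ω] _).comp (bcHom k Ω π₀)
  have hπ : Function.Surjective π := εD.surjective.comp (bcHom_surjective k Ω π₀ hπ₀)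
  have hkerπ : RingHom.ker (π : Ω ⊗[k] C →ₐ[Ω] MonoidAlgebra Ω M) =
      Ideal.span {(1 : Ω) ⊗ₜ[k] e} := by
    have h2 := ker_bcHom k Ω π₀ hπ₀
    rw [ker_mkBialgHom, Ideal.map_span, Set.image_singleton] at h2
    have h2' : RingHom.ker ((bcHom k Ω π₀ : Ω ⊗[k] C →ₐc[Ω] Ω ⊗[k] (C ⧸ Ideal.span {e})) :
        Ω ⊗[k] C →ₐ[Ω] Ω ⊗[k] (C ⧸ Ideal.span {e})) = Ideal.span {(1 : Ω) ⊗ₜ[k] e} := h2
    rw [← h2']
    ext z
    rw [RingHom.mem_ker, RingHom.mem_ker]
    show εD (bcHom k Ω π₀ z) = 0 ↔ bcHom k Ω π₀ z = 0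
    exact EmbeddingLike.map_eq_zero_iff
  have hid : IsIdempotentElem ((1 : Ω) ⊗ₜ[k] e) := by
    show _ * _ = _
    rw [Algebra.TensorProduct.tmul_mul_tmul, one_mul, he.eq]
  have hinc : ∀ (j : ℕ), ((1 : Ω) ⊗ₜ[k] a) ^ j * ((1 : Ω) ⊗ₜ[k] y) =
      (Algebra.TensorProduct.includeRight : C →ₐ[k] Ω ⊗[k] C) (a ^ j * y) := by
    intro j
    rw [map_mul, map_pow]
    rfl
  have h' : ∀ n : ℕ, 0 < n → ∃ j : ℕ,
      ((1 : Ω) ⊗ₜ[k] a) ^ j * ((1 : Ω) ⊗ₜ[k] y) ∈ torsionIdeal Ω (Ω ⊗[k] C) n := by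
    intro n hn
    obtain ⟨j, hj⟩ := h n hn
    refine ⟨j, ?_⟩
    rw [torsionIdeal_baseChange, hinc]
    exact Ideal.mem_map_of_mem _ hj
  have hftΩ : Algebra.FiniteType Ω (Ω ⊗[k] C) := inferInstance
  obtain ⟨j, hj⟩ := exists_pow_mul_eq_zero_of_open_diag hftΩ π hπ hid hkerπ _ _ h'
  refine ⟨j, ?_⟩
  rw [hinc] at hj
  have hj' : (1 : Ω) ⊗ₜ[k] (a ^ j * y) = 0 := hj
  exact (Module.FaithfullyFlat.one_tmul_eq_zero_iff k _ _).mp hj'

end Descend

section Final

/-- **schematic density of the torsion subgroups** in a commutative group of finite type over a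
field with an open subgroup of multiplicative type. -/
theorem iInf_torsionIdeal_eq_bot_of_open_multType (k : Type u) [Field k] (C : Type u) [CommRing C]
    [HopfAlgebra k C] [Coalgebra.IsCocomm k C] (hft : Algebra.FiniteType k C)
    (e : C) (he : IsIdempotentElem e) [(Ideal.span {e}).IsHopfIdeal k]
    (hG : IsMultType k (C ⧸ Ideal.span {e})) (a : C) :
    ⨅ n : {n : ℕ // 0 < n},
      Ideal.map (algebraMap C (Localization.Away a)) (torsionIdeal k C n.1) = ⊥ := by
  apply iInf_map_away_eq_bot a (fun n : {n : ℕ // 0 < n} => torsionIdeal k C n.1)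
  intro y hy
  obtain ⟨s, hs, hloc⟩ := hG
  obtain ⟨f, hf, hfu⟩ := exists_isUnit_of_span_eq_top s hs
  obtain ⟨K', _, _, hff, M, _, hd⟩ := hloc f hf
  haveI := hff
  haveI : Nontrivial (Localization.Away f) := by
    haveI := faithfullyFlat_away_of_isUnit hfu
    haveI : Nontrivial (Localization.Away f ⊗[k] k) := inferInstance
    exact (TensorProduct.rid k (Localization.Away f)).symm.toEquiv.nontrivial
  haveI : Nontrivial K' := by
    by_contra hnt
    rw [not_nontrivial_iff_subsingleton] at hnt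
    haveI : Nontrivial (K' ⊗[Localization.Away f] Localization.Away f) := inferInstance
    haveI : Subsingleton (K' ⊗[Localization.Away f] Localization.Away f) :=
      Module.subsingleton K' _
    exact false_of_nontrivial_of_subsingleton (K' ⊗[Localization.Away f] Localization.Away f)
  obtain ⟨𝔪, h𝔪⟩ := Ideal.exists_maximal K'
  letI : Field (K' ⧸ 𝔪) := Ideal.Quotient.field 𝔪
  letI : Algebra k K' :=
    ((algebraMap (Localization.Away f) K').comp (algebraMap k (Localization.Away f))).toAlgebra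
  haveI : IsScalarTower k (Localization.Away f) K' := IsScalarTower.of_algebraMap_eq (fun _ => rfl)
  have h1 : IsDiagOf M (AlgebraicClosure (K' ⧸ 𝔪))
      ((AlgebraicClosure (K' ⧸ 𝔪)) ⊗[Localization.Away f] (Localization.Away f ⊗[k]
        (C ⧸ Ideal.span {e}))) := isDiagOf_tower K' (AlgebraicClosure (K' ⧸ 𝔪)) hd
  have h2 : IsDiagOf M (AlgebraicClosure (K' ⧸ 𝔪))
      ((AlgebraicClosure (K' ⧸ 𝔪)) ⊗[k] (C ⧸ Ideal.span {e})) :=
    isDiagOf_of_equiv (cancelBC k (Localization.Away f) (AlgebraicClosure (K' ⧸ 𝔪))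
      (C ⧸ Ideal.span {e})) h1
  exact exists_pow_mul_eq_zero_of_isDiagOf k C hft e he (AlgebraicClosure (K' ⧸ 𝔪)) M h2 a y
    (fun n hn => hy ⟨n, hn⟩)

end Final

end Groth.Agent.Lib.Helper77.TorsCoset
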