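import Mathlib
import Groth.Prelude.Def_GLin

set_option autoImplicit false
set_option linter.unusedSectionVars false
universe u v w

namespace Groth.Agent.Lib.Helper77.TorusGrading

open TensorProduct HopfRep

section Comod

variable (k : Type u) [CommRing k] (Λ : Type v) [AddCommGroup Λ] [DecidableEq Λ]
variable (V : Type w) [AddCommGroup V] [Module k V] [HopfRep.Comod k (AddMonoidAlgebra k Λ) V]

/-- the coefficient functional -/
noncomputable def c (w : Λ) : AddMonoidAlgebra k Λ →ₗ[k] k :=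
  (Finsupp.lapply w) ∘ₗ (AddMonoidAlgebra.coeffLinearEquiv k).toLinearMap

@[simp] theorem c_single (w u : Λ) (a : k) :
    c k Λ w (AddMonoidAlgebra.single u a) = if u = w then a else 0 := by
  simp [c, Finsupp.single_apply]

/-- the identification `V ⊗ k[Λ] ≃ (Λ →₀ V)` -/
noncomputable def Φ : V ⊗[k] AddMonoidAlgebra k Λ ≃ₗ[k] (Λ →₀ V) :=
  (TensorProduct.congr (LinearEquiv.refl k V) (AddMonoidAlgebra.coeffLinearEquiv k)) ≪≫ₗ
    TensorProduct.finsuppScalarRight k k V Λ

theorem Φ_symm_single (w : Λ) (v : V) :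
    (Φ k Λ V).symm (Finsupp.single w v) = v ⊗ₜ[k] AddMonoidAlgebra.single w 1 := by
  simp [Φ]

theorem Φ_tmul_apply (v : V) (h : AddMonoidAlgebra k Λ) (w : Λ) :
    Φ k Λ V (v ⊗ₜ[k] h) w = c k Λ w h • v := by
  simp [Φ, c]

/-- the weight-`w` component -/
noncomputable def P (w : Λ) : V →ₗ[k] V :=
  (Finsupp.lapply w) ∘ₗ (Φ k Λ V).toLinearMap ∘ₗ (Comod.coact (k := k) (A := AddMonoidAlgebra k Λ))

/-- the finitely supported family of components -/
noncomputable def comp (v : V) : Λ →₀ V :=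
  Φ k Λ V (Comod.coact (k := k) (A := AddMonoidAlgebra k Λ) v)

theorem comp_apply (v : V) (w : Λ) : comp k Λ V v w = P k Λ V w v := rfl

theorem coact_eq_sum (v : V) :
    Comod.coact (k := k) (A := AddMonoidAlgebra k Λ) v =
      ∑ w ∈ (comp k Λ V v).support, (P k Λ V w v) ⊗ₜ[k] AddMonoidAlgebra.single w (1 : k) := by
  have h1 : Comod.coact (k := k) (A := AddMonoidAlgebra k Λ) v = (Φ k Λ V).symm (comp k Λ V v) := by
    simp [comp]
  conv_lhs => rw [h1, ← Finsupp.sum_single (comp k Λ V v)]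
  rw [Finsupp.sum, map_sum]
  refine Finset.sum_congr rfl fun w _ => ?_
  rw [Φ_symm_single, comp_apply]

theorem P_eq_zero_of_notMem (v : V) (w : Λ) (hw : w ∉ (comp k Λ V v).support) :
    P k Λ V w v = 0 := by
  rw [← comp_apply]
  exact Finsupp.notMem_support_iff.mp hw

/-- counit axiom: the components sum to `v` -/
theorem sum_P (v : V) : ∑ w ∈ (comp k Λ V v).support, P k Λ V w v = v := by
  have h := LinearMap.congr_fun (Comod.counit_comp (k := k) (A := AddMonoidAlgebra k Λ) (V := V)) v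
  simp only [LinearMap.coe_comp, Function.comp_apply, LinearMap.flip_apply,
    TensorProduct.mk_apply] at h
  rw [coact_eq_sum, map_sum] at h
  have h2 := congrArg (TensorProduct.rid k V) h
  rw [map_sum] at h2
  simpa using h2

/-- auxiliary map used to extract the last tensor factor's coefficient -/
noncomputable def Ψ (w : Λ) :
    V ⊗[k] (AddMonoidAlgebra k Λ ⊗[k] AddMonoidAlgebra k Λ) →ₗ[k] V ⊗[k] AddMonoidAlgebra k Λ :=
  LinearMap.lTensor V ((TensorProduct.rid k (AddMonoidAlgebra k Λ)).toLinearMap ∘ₗ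
    (LinearMap.lTensor (AddMonoidAlgebra k Λ) (c k Λ w)))

theorem Ψ_assoc (w : Λ) (x : V ⊗[k] AddMonoidAlgebra k Λ) (h : AddMonoidAlgebra k Λ) :
    Ψ k Λ V w (TensorProduct.assoc k V _ _ (x ⊗ₜ[k] h)) = c k Λ w h • x := by
  induction x using TensorProduct.induction_on with
  | zero => simp
  | tmul a b =>
    simp [Ψ, TensorProduct.tmul_smul]
  | add x y hx hy =>
    rw [TensorProduct.add_tmul, map_add, map_add, hx, hy, smul_add]

theorem comul_single_one (u : Λ) :
    Coalgebra.comul (R := k) (AddMonoidAlgebra.single u (1 : k)) =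
      AddMonoidAlgebra.single u (1 : k) ⊗ₜ[k] AddMonoidAlgebra.single u (1 : k) :=
  (AddMonoidAlgebra.isGroupLikeElem_single_one (R := k) (A := k) u).comul_eq_tmul_self

/-- coassociativity: each component is an eigenvector -/
theorem coact_P (v : V) (w : Λ) :
    Comod.coact (k := k) (A := AddMonoidAlgebra k Λ) (P k Λ V w v) =
      (P k Λ V w v) ⊗ₜ[k] AddMonoidAlgebra.single w (1 : k) := by
  by_cases hw : w ∈ (comp k Λ V v).support
  swap
  · rw [P_eq_zero_of_notMem k Λ V v w hw, map_zero, TensorProduct.zero_tmul]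
  have h := LinearMap.congr_fun (Comod.coassoc (k := k) (A := AddMonoidAlgebra k Λ) (V := V)) v
  simp only [LinearMap.coe_comp, Function.comp_apply, LinearEquiv.coe_coe] at h
  have h2 := congrArg (Ψ k Λ V w) h
  rw [coact_eq_sum k Λ V v] at h2
  simp only [map_sum, LinearMap.rTensor_tmul, LinearMap.lTensor_tmul, Ψ_assoc, comul_single_one]
    at h2
  have h3 : ∀ u : Λ, Ψ k Λ V w ((P k Λ V u v) ⊗ₜ[k]
      (AddMonoidAlgebra.single u (1 : k) ⊗ₜ[k] AddMonoidAlgebra.single u (1 : k))) =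
      c k Λ w (AddMonoidAlgebra.single u (1 : k)) • ((P k Λ V u v) ⊗ₜ[k]
        AddMonoidAlgebra.single u (1 : k)) := by
    intro u
    simp only [Ψ, LinearMap.lTensor_tmul, LinearMap.coe_comp, LinearEquiv.coe_coe,
      Function.comp_apply, TensorProduct.rid_tmul, TensorProduct.tmul_smul]
  simp only [h3, c_single, ite_smul, one_smul, zero_smul] at h2
  rw [Finset.sum_ite_eq' _ w, Finset.sum_ite_eq' _ w, if_pos hw, if_pos hw] at h2
  exact h2

theorem P_of_mem_eigenspace {v : V} {u : Λ}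
    (hv : v ∈ HopfRep.eigenspace k (AddMonoidAlgebra k Λ) V (AddMonoidAlgebra.single u 1)) (w : Λ) :
    P k Λ V w v = if u = w then v else 0 := by
  have hv' : Comod.coact (k := k) (A := AddMonoidAlgebra k Λ) v =
      v ⊗ₜ[k] AddMonoidAlgebra.single u 1 := hv
  show (Φ k Λ V (Comod.coact (k := k) (A := AddMonoidAlgebra k Λ) v)) w = _
  rw [hv', Φ_tmul_apply, c_single]
  split_ifs <;> simp

theorem P_mem_eigenspace (v : V) (w : Λ) :
    P k Λ V w v ∈ HopfRep.eigenspace k (AddMonoidAlgebra k Λ) V (AddMonoidAlgebra.single w 1) :=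
  coact_P k Λ V v w

end Comod

section Alg

variable (k : Type u) [CommRing k] (Λ : Type v) [AddCommGroup Λ] [DecidableEq Λ]
variable (R : Type w) [CommRing R] [Algebra k R] [HopfRep.Comod k (AddMonoidAlgebra k Λ) R]
  [GLin.IsCoactAlg k (AddMonoidAlgebra k Λ) R]

theorem mul_mem_eigenspace {f g : R} {u w : Λ}
    (hf : f ∈ HopfRep.eigenspace k (AddMonoidAlgebra k Λ) R (AddMonoidAlgebra.single u 1))
    (hg : g ∈ HopfRep.eigenspace k (AddMonoidAlgebra k Λ) R (AddMonoidAlgebra.single w 1)) :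
    f * g ∈ HopfRep.eigenspace k (AddMonoidAlgebra k Λ) R (AddMonoidAlgebra.single (u + w) 1) := by
  have hf' : Comod.coact (k := k) (A := AddMonoidAlgebra k Λ) f =
      f ⊗ₜ[k] AddMonoidAlgebra.single u 1 := hf
  have hg' : Comod.coact (k := k) (A := AddMonoidAlgebra k Λ) g =
      g ⊗ₜ[k] AddMonoidAlgebra.single w 1 := hg
  show Comod.coact (k := k) (A := AddMonoidAlgebra k Λ) (f * g) = _
  rw [GLin.IsCoactAlg.coact_mul, hf', hg', Algebra.TensorProduct.tmul_mul_tmul,
    AddMonoidAlgebra.single_mul_single, mul_one]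

theorem P_mul_of_mem (a f : R) (w u : Λ)
    (hf : f ∈ HopfRep.eigenspace k (AddMonoidAlgebra k Λ) R (AddMonoidAlgebra.single w 1)) :
    P k Λ R u (a * f) = P k Λ R (u - w) a * f := by
  conv_lhs => rw [← sum_P k Λ R a, Finset.sum_mul, map_sum]
  have h1 : ∀ v ∈ (comp k Λ R a).support, P k Λ R u (P k Λ R v a * f) =
      if v = u - w then P k Λ R v a * f else 0 := by
    intro v _
    rw [P_of_mem_eigenspace k Λ R (mul_mem_eigenspace k Λ R (P_mem_eigenspace k Λ R a v) hf) u]
    have : v + w = u ↔ v = u - w := eq_sub_iff_add_eq.symm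
    simp only [this]
  rw [Finset.sum_congr rfl h1, Finset.sum_ite_eq' _ (u - w)]
  split_ifs with h
  · rfl
  · rw [P_eq_zero_of_notMem k Λ R a (u - w) h, zero_mul]

/-- the ideal generated by eigenvectors of nonzero weight -/
def Iplus : Ideal R :=
  Ideal.span {f : R | ∃ w : Λ, w ≠ 0 ∧
    f ∈ HopfRep.eigenspace k (AddMonoidAlgebra k Λ) R (AddMonoidAlgebra.single w 1)}

variable (hpos : ∀ w : Λ,
  HopfRep.eigenspace k (AddMonoidAlgebra k Λ) R (AddMonoidAlgebra.single w 1) ≠ ⊥ →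
  HopfRep.eigenspace k (AddMonoidAlgebra k Λ) R (AddMonoidAlgebra.single (-w) 1) ≠ ⊥ → w = 0)

include hpos in
theorem mul_eq_zero_of_pos {w : Λ} (hw : w ≠ 0) {a f : R}
    (ha : a ∈ HopfRep.eigenspace k (AddMonoidAlgebra k Λ) R (AddMonoidAlgebra.single (-w) 1))
    (hf : f ∈ HopfRep.eigenspace k (AddMonoidAlgebra k Λ) R (AddMonoidAlgebra.single w 1)) :
    a * f = 0 := by
  by_cases ha0 : a = 0
  · rw [ha0, zero_mul]
  by_cases hf0 : f = 0
  · rw [hf0, mul_zero]
  exfalso
  apply hw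
  apply hpos w
  · intro hbot
    rw [hbot] at hf
    exact hf0 hf
  · intro hbot
    rw [hbot] at ha
    exact ha0 ha

include hpos in
theorem P_zero_mul_eq_zero (a f : R) {w : Λ} (hw : w ≠ 0)
    (hf : f ∈ HopfRep.eigenspace k (AddMonoidAlgebra k Λ) R (AddMonoidAlgebra.single w 1)) :
    P k Λ R 0 (a * f) = 0 := by
  rw [P_mul_of_mem k Λ R a f w 0 hf, zero_sub]
  exact mul_eq_zero_of_pos k Λ R hpos hw (P_mem_eigenspace k Λ R a (-w)) hf

include hpos in
theorem P_zero_eq_zero_of_mem_Iplus {r : R} (hr : r ∈ Iplus k Λ R) : P k Λ R 0 r = 0 := by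
  have key : ∀ x ∈ Iplus k Λ R, ∀ a : R, P k Λ R 0 (a * x) = 0 := by
    intro x hx
    refine Submodule.span_induction (p := fun x _ => ∀ a : R, P k Λ R 0 (a * x) = 0)
      ?_ ?_ ?_ ?_ hx
    · rintro f ⟨w, hw, hf⟩ a
      exact P_zero_mul_eq_zero k Λ R hpos a f hw hf
    · intro a
      simp
    · intro x y _ _ hx hy a
      rw [mul_add, map_add, hx, hy, add_zero]
    · intro c x _ hx a
      rw [smul_eq_mul, ← mul_assoc]
      exact hx _
  have := key r hr 1
  rwa [one_mul] at this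

theorem P_zero_of_mem_invariants {r : R} (hr : r ∈ GLin.invariants k (AddMonoidAlgebra k Λ) R) :
    P k Λ R 0 r = r := by
  have h : r ∈ HopfRep.eigenspace k (AddMonoidAlgebra k Λ) R (AddMonoidAlgebra.single 0 1) := by
    have h1 : Comod.coact (k := k) (A := AddMonoidAlgebra k Λ) r = r ⊗ₜ[k] (1 : AddMonoidAlgebra k Λ) := hr
    show Comod.coact (k := k) (A := AddMonoidAlgebra k Λ) r = _
    rw [h1, AddMonoidAlgebra.one_def]
  rw [P_of_mem_eigenspace k Λ R h 0, if_pos rfl]

theorem P_zero_mem_invariants (r : R) : P k Λ R 0 r ∈ GLin.invariants k (AddMonoidAlgebra k Λ) R := by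
  show Comod.coact (k := k) (A := AddMonoidAlgebra k Λ) (P k Λ R 0 r) = _
  rw [coact_P, AddMonoidAlgebra.one_def]

theorem sub_P_zero_mem_Iplus (r : R) : r - P k Λ R 0 r ∈ Iplus k Λ R := by
  have hsum := sum_P k Λ R r
  by_cases h0 : (0 : Λ) ∈ (comp k Λ R r).support
  · have h1 : r - P k Λ R 0 r = ∑ w ∈ (comp k Λ R r).support.erase 0, P k Λ R w r := by
      rw [← Finset.add_sum_erase _ _ h0] at hsum
      exact sub_eq_of_eq_add' hsum.symm
    rw [h1]
    refine Ideal.sum_mem _ fun w hw => ?_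
    exact Ideal.subset_span ⟨w, (Finset.mem_erase.mp hw).1, P_mem_eigenspace k Λ R r w⟩
  · have h1 : r - P k Λ R 0 r = ∑ w ∈ (comp k Λ R r).support, P k Λ R w r := by
      rw [P_eq_zero_of_notMem k Λ R r 0 h0, sub_zero, hsum]
    rw [h1]
    refine Ideal.sum_mem _ fun w hw => ?_
    refine Ideal.subset_span ⟨w, ?_, P_mem_eigenspace k Λ R r w⟩
    rintro rfl
    exact h0 hw

include hpos in
theorem main_bijective :
    Function.Bijective
      ((Ideal.Quotient.mkₐ k (Iplus k Λ R)).comp (GLin.invariants k (AddMonoidAlgebra k Λ) R).val) := by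
  constructor
  · rw [injective_iff_map_eq_zero]
    intro r hr
    have hr' : (r : R) ∈ Iplus k Λ R := Ideal.Quotient.eq_zero_iff_mem.mp hr
    have h1 := P_zero_eq_zero_of_mem_Iplus k Λ R hpos hr'
    rw [P_zero_of_mem_invariants k Λ R r.2] at h1
    exact Subtype.ext h1
  · intro y
    obtain ⟨r, rfl⟩ := Ideal.Quotient.mk_surjective y
    refine ⟨⟨P k Λ R 0 r, P_zero_mem_invariants k Λ R r⟩, ?_⟩
    show Ideal.Quotient.mk _ (P k Λ R 0 r) = Ideal.Quotient.mk _ r
    rw [eq_comm, Ideal.Quotient.eq]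
    exact sub_P_zero_mem_Iplus k Λ R r

end Alg

end Groth.Agent.Lib.Helper77.TorusGrading
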