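import Mathlib
import Groth.Prelude.Def_GLin
import Groth.Agent.Lib.Helper77.TorusGrading

set_option autoImplicit false
set_option linter.unusedSectionVars false
universe u v w

namespace Groth.Agent.Lib.Helper77.TorusGrading

open TensorProduct HopfRep

section Orbit

variable (k : Type u) [Field k] (Λ : Type v) [AddCommGroup Λ] [DecidableEq Λ]
variable (R : Type w) [CommRing R] [Algebra k R] [HopfRep.Comod k (AddMonoidAlgebra k Λ) R]
  [GLin.IsCoactAlg k (AddMonoidAlgebra k Λ) R]

/-- coefficients of the orbit map -/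
theorem c_orbitHom (x : R →ₐ[k] k) (f : R) (w : Λ) :
    c k Λ w (GLin.orbitHom k (AddMonoidAlgebra k Λ) x f) = x (P k Λ R w f) := by
  have key : ∀ t : R ⊗[k] AddMonoidAlgebra k Λ,
      c k Λ w ((Algebra.TensorProduct.lid k (AddMonoidAlgebra k Λ))
        (Algebra.TensorProduct.map x (AlgHom.id k (AddMonoidAlgebra k Λ)) t)) =
      x (Φ k Λ R t w) := by
    intro t
    induction t using TensorProduct.induction_on with
    | zero => simp
    | tmul r h =>
      rw [Φ_tmul_apply, Algebra.TensorProduct.map_tmul, Algebra.TensorProduct.lid_tmul,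
        AlgHom.id_apply, map_smul, map_smul, smul_eq_mul, smul_eq_mul, mul_comm]
    | add a b ha hb =>
      simp only [map_add, Finsupp.add_apply, ha, hb]
  exact key _

theorem ext_c {h h' : AddMonoidAlgebra k Λ} (H : ∀ w, c k Λ w h = c k Λ w h') : h = h' := by
  apply (AddMonoidAlgebra.coeffLinearEquiv k).injective
  ext w
  exact H w

variable (hpos : ∀ w : Λ,
  HopfRep.eigenspace k (AddMonoidAlgebra k Λ) R (AddMonoidAlgebra.single w 1) ≠ ⊥ →
  HopfRep.eigenspace k (AddMonoidAlgebra k Λ) R (AddMonoidAlgebra.single (-w) 1) ≠ ⊥ → w = 0)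

include hpos in
theorem P_zero_mul (f g : R) : P k Λ R 0 (f * g) = P k Λ R 0 f * P k Λ R 0 g := by
  conv_lhs => rw [← sum_P k Λ R g, Finset.mul_sum, map_sum]
  have h1 : ∀ w ∈ (comp k Λ R g).support, P k Λ R 0 (f * P k Λ R w g) =
      if w = 0 then P k Λ R 0 f * P k Λ R 0 g else 0 := by
    intro w _
    rw [P_mul_of_mem k Λ R f _ w 0 (P_mem_eigenspace k Λ R g w), zero_sub]
    split_ifs with hw
    · subst hw
      rw [neg_zero]
    · exact mul_eq_zero_of_pos k Λ R hpos hw (P_mem_eigenspace k Λ R f (-w))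
        (P_mem_eigenspace k Λ R g w)
  rw [Finset.sum_congr rfl h1, Finset.sum_ite_eq' _ (0 : Λ)]
  split_ifs with h
  · rfl
  · rw [P_eq_zero_of_notMem k Λ R g 0 h, mul_zero]

theorem P_zero_one : P k Λ R 0 (1 : R) = 1 :=
  P_zero_of_mem_invariants k Λ R (GLin.invariants k (AddMonoidAlgebra k Λ) R).one_mem

/-- projection to invariants as algebra hom -/
noncomputable def P0hom : R →ₐ[k] R :=
  AlgHom.ofLinearMap (P k Λ R 0) (P_zero_one k Λ R) (P_zero_mul k Λ R hpos)

theorem P0hom_apply (f : R) : P0hom k Λ R hpos f = P k Λ R 0 f := rfl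

/-- fixed point criterion -/
theorem isFixedPt_iff (x : R →ₐ[k] k) :
    GLin.IsFixedPt k (AddMonoidAlgebra k Λ) x ↔
      ∀ (w : Λ), w ≠ 0 → ∀ f ∈ HopfRep.eigenspace k (AddMonoidAlgebra k Λ) R
        (AddMonoidAlgebra.single w 1), x f = 0 := by
  constructor
  · intro hfix w hw f hf
    have h1 := congrArg (c k Λ w) (AlgHom.congr_fun hfix f)
    rw [c_orbitHom, P_of_mem_eigenspace k Λ R hf w, if_pos rfl] at h1
    rw [h1]
    show c k Λ w (algebraMap k (AddMonoidAlgebra k Λ) (x f)) = 0
    rw [AddMonoidAlgebra.coe_algebraMap]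
    simp [hw.symm]
  · intro H
    apply AlgHom.ext
    intro f
    apply ext_c
    intro w
    rw [c_orbitHom]
    show _ = c k Λ w (algebraMap k (AddMonoidAlgebra k Λ) (x f))
    rw [AddMonoidAlgebra.coe_algebraMap]
    simp only [Function.comp_apply, Algebra.algebraMap_self, RingHom.id_apply, c_single]
    have hxf : x f = x (P k Λ R 0 f) := by
      conv_lhs => rw [← sum_P k Λ R f, map_sum]
      have h1 : ∀ u ∈ (comp k Λ R f).support, x (P k Λ R u f) =
          if u = 0 then x (P k Λ R 0 f) else 0 := by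
        intro u _
        split_ifs with hu
        · rw [hu]
        · exact H u hu _ (P_mem_eigenspace k Λ R f u)
      rw [Finset.sum_congr rfl h1, Finset.sum_ite_eq' _ (0 : Λ)]
      split_ifs with h
      · rfl
      · rw [P_eq_zero_of_notMem k Λ R f 0 h, map_zero]
    split_ifs with hw
    · rw [← hw, hxf]
    · exact H w (Ne.symm hw) _ (P_mem_eigenspace k Λ R f w)

theorem isClosedOrbit_of_isFixedPt (x : R →ₐ[k] k)
    (hfix : GLin.IsFixedPt k (AddMonoidAlgebra k Λ) x) :
    GLin.IsClosedOrbit k (AddMonoidAlgebra k Λ) x := by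
  have hsurj : Function.Surjective x := fun c => ⟨algebraMap k R c, by simp⟩
  have hmax : (RingHom.ker x).IsMaximal := RingHom.ker_isMaximal_of_surjective _ hsurj
  let pt : PrimeSpectrum R := ⟨RingHom.ker x, hmax.isPrime⟩
  have hrange : Set.range (PrimeSpectrum.comap (GLin.orbitHom k (AddMonoidAlgebra k Λ) x).toRingHom)
      = {pt} := by
    ext q
    simp only [Set.mem_range, Set.mem_singleton_iff]
    have hcomap : ∀ p : PrimeSpectrum (AddMonoidAlgebra k Λ),
        PrimeSpectrum.comap (GLin.orbitHom k (AddMonoidAlgebra k Λ) x).toRingHom p = pt := by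
      intro p
      ext f
      show GLin.orbitHom k (AddMonoidAlgebra k Λ) x f ∈ p.asIdeal ↔ x f = 0
      rw [hfix]
      show algebraMap k (AddMonoidAlgebra k Λ) (x f) ∈ p.asIdeal ↔ x f = 0
      constructor
      · intro hmem
        by_contra hne
        apply p.2.ne_top
        rw [Ideal.eq_top_iff_one]
        have : algebraMap k (AddMonoidAlgebra k Λ) ((x f)⁻¹) *
            algebraMap k (AddMonoidAlgebra k Λ) (x f) ∈ p.asIdeal := Ideal.mul_mem_left _ _ hmem
        rwa [← map_mul, inv_mul_cancel₀ hne, map_one] at this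
      · intro h0
        rw [h0, map_zero]
        exact zero_mem _
    constructor
    · rintro ⟨p, rfl⟩
      exact hcomap p
    · rintro rfl
      obtain ⟨p⟩ : Nonempty (PrimeSpectrum (AddMonoidAlgebra k Λ)) := inferInstance
      exact ⟨p, hcomap p⟩
  show IsClosed _
  rw [hrange, PrimeSpectrum.isClosed_singleton_iff_isMaximal]
  exact hmax

include hpos in
theorem isFixedPt_of_isClosedOrbit (x : R →ₐ[k] k)
    (hcl : GLin.IsClosedOrbit k (AddMonoidAlgebra k Λ) x) :
    GLin.IsFixedPt k (AddMonoidAlgebra k Λ) x := by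
  rw [isFixedPt_iff]
  intro w hw f hf
  let y : R →ₐ[k] k := x.comp (P0hom k Λ R hpos)
  have hsurj : Function.Surjective y := fun c => ⟨algebraMap k R c, by simp⟩
  have hmax : (RingHom.ker y).IsMaximal := RingHom.ker_isMaximal_of_surjective _ hsurj
  let pt : PrimeSpectrum R := ⟨RingHom.ker y, hmax.isPrime⟩
  have hle : RingHom.ker (GLin.orbitHom k (AddMonoidAlgebra k Λ) x).toRingHom ≤ RingHom.ker y := by
    intro g hg
    have hg' : GLin.orbitHom k (AddMonoidAlgebra k Λ) x g = 0 := hg
    have := c_orbitHom k Λ R x g 0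
    rw [hg', map_zero] at this
    show x (P0hom k Λ R hpos g) = 0
    rw [P0hom_apply, ← this]
  have hmem : pt ∈ closure (Set.range
      (PrimeSpectrum.comap (GLin.orbitHom k (AddMonoidAlgebra k Λ) x).toRingHom)) := by
    rw [PrimeSpectrum.closure_range_comap]
    exact hle
  have hcl' : IsClosed (Set.range
      (PrimeSpectrum.comap (GLin.orbitHom k (AddMonoidAlgebra k Λ) x).toRingHom)) := hcl
  rw [hcl'.closure_eq] at hmem
  obtain ⟨p, hp⟩ := hmem
  have hyf : y f = 0 := by
    show x (P0hom k Λ R hpos f) = 0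
    rw [P0hom_apply, P_of_mem_eigenspace k Λ R hf 0, if_neg hw, map_zero]
  have hfp : GLin.orbitHom k (AddMonoidAlgebra k Λ) x f ∈ p.asIdeal := by
    have : f ∈ (PrimeSpectrum.comap (GLin.orbitHom k (AddMonoidAlgebra k Λ) x).toRingHom p).asIdeal := by
      rw [hp]
      exact hyf
    exact this
  have horb : GLin.orbitHom k (AddMonoidAlgebra k Λ) x f = AddMonoidAlgebra.single w (x f) := by
    apply ext_c
    intro u
    rw [c_orbitHom, P_of_mem_eigenspace k Λ R hf u, c_single]
    split_ifs <;> simp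
  rw [horb] at hfp
  by_contra hne
  apply p.2.ne_top
  rw [Ideal.eq_top_iff_one]
  have h1 : AddMonoidAlgebra.single (-w) ((x f)⁻¹) * AddMonoidAlgebra.single w (x f) ∈ p.asIdeal :=
    Ideal.mul_mem_left _ _ hfp
  rwa [AddMonoidAlgebra.single_mul_single, neg_add_cancel, inv_mul_cancel₀ hne,
    ← AddMonoidAlgebra.one_def] at h1

end Orbit

end Groth.Agent.Lib.Helper77.TorusGrading
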