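import Mathlib

/-!
# Truncated polynomial algebras `k[X_i]/(X_i^{p^{e_i}})`: the exponents are invariants
-/

set_option autoImplicit false
universe u

namespace Groth.Agent.Lib.Helper77.TruncPoly

open MvPolynomial

variable {k : Type u} [Field k] {r : ℕ}

/-- the truncation ideal -/
noncomputable def truncIdeal (k : Type u) [Field k] {r : ℕ} (m : Fin r → ℕ) :
    Ideal (MvPolynomial (Fin r) k) :=
  Ideal.span (Set.range fun i : Fin r => (X i : MvPolynomial (Fin r) k) ^ m i)

theorem mem_truncIdeal (m : Fin r → ℕ) (x : MvPolynomial (Fin r) k) :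
    x ∈ truncIdeal k m ↔ ∀ α ∈ x.support, ∃ i, m i ≤ α i := by
  have h := @mem_ideal_span_monomial_image (Fin r) k _ x
    (Set.range fun i => Finsupp.single i (m i))
  have e : (fun s => monomial s (1 : k)) '' (Set.range fun i => Finsupp.single i (m i)) =
      Set.range fun i : Fin r => (X i : MvPolynomial (Fin r) k) ^ m i := by
    rw [← Set.range_comp]
    congr 1
    funext i
    simp [X_pow_eq_monomial]
  unfold truncIdeal
  rw [← e, h]
  constructor
  · intro H α hα
    obtain ⟨_, ⟨i, rfl⟩, hle⟩ := H α hα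
    refine ⟨i, ?_⟩
    have := hle i
    simpa using this
  · intro H α hα
    obtain ⟨i, hi⟩ := H α hα
    refine ⟨_, ⟨i, rfl⟩, ?_⟩
    intro j
    by_cases hij : j = i
    · subst hij; simpa using hi
    · simp [Ne.symm hij]

theorem monomial_mem_truncIdeal (m : Fin r → ℕ) (α : Fin r →₀ ℕ) (c : k) (i : Fin r)
    (hi : m i ≤ α i) : monomial α c ∈ truncIdeal k m := by
  classical
  rw [mem_truncIdeal]
  intro β hβ
  have : β = α := by
    by_contra hne
    rw [mem_support_iff, coeff_monomial, if_neg (Ne.symm hne)] at hβ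
    exact hβ rfl
  subst this
  exact ⟨i, hi⟩

theorem linearIndependent_mk_monomial (m : Fin r → ℕ) :
    LinearIndependent k (fun α : {α : Fin r →₀ ℕ // ∀ i, α i < m i} =>
      Ideal.Quotient.mkₐ k (truncIdeal k m) (monomial α.1 1)) := by
  classical
  rw [linearIndependent_iff']
  intro s c hc α hα
  have h1 : (∑ β ∈ s, monomial β.1 (c β) : MvPolynomial (Fin r) k) ∈ truncIdeal k m := by
    rw [← Ideal.Quotient.eq_zero_iff_mem, ← Ideal.Quotient.mkₐ_eq_mk k, map_sum, ← hc]
    apply Finset.sum_congr rfl
    intro β _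
    rw [← map_smul, smul_monomial, smul_eq_mul, mul_one]
  rw [mem_truncIdeal] at h1
  by_contra hne
  have hsupp : α.1 ∈ (∑ β ∈ s, monomial β.1 (c β) : MvPolynomial (Fin r) k).support := by
    rw [mem_support_iff, coeff_sum, Finset.sum_eq_single α]
    · rw [coeff_monomial, if_pos rfl]; exact hne
    · intro β _ hβ
      rw [coeff_monomial, if_neg]
      intro h; exact hβ (Subtype.ext h)
    · intro h; exact absurd hα h
  obtain ⟨i, hi⟩ := h1 α.1 hsupp
  exact absurd (α.2 i) (not_lt.mpr hi)

section Frob

variable (p : ℕ) [hp : Fact p.Prime] [CharP k p] (e : Fin r → ℕ)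

/-- the truncated polynomial algebra -/
abbrev TA (k : Type u) [Field k] {r : ℕ} (p : ℕ) (e : Fin r → ℕ) : Type u :=
  MvPolynomial (Fin r) k ⧸ truncIdeal k (fun i => p ^ e i)

/-- span of the `p^n`-th powers -/
noncomputable def W (n : ℕ) : Submodule k (TA k p e) :=
  Submodule.span k (Set.range fun a : TA k p e => a ^ p ^ n)

/-- index → exponent vector -/
noncomputable def expo (n : ℕ) (a : (i : Fin r) → Fin (p ^ (e i - n))) : Fin r →₀ ℕ :=
  Finsupp.equivFunOnFinite.symm (fun i => (a i : ℕ))

omit hp in
theorem expo_apply (n : ℕ) (a : (i : Fin r) → Fin (p ^ (e i - n))) (i : Fin r) :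
    expo p e n a i = (a i : ℕ) := rfl

theorem pow_mul_expo_lt (n : ℕ) (a : (i : Fin r) → Fin (p ^ (e i - n))) (i : Fin r) :
    p ^ n * expo p e n a i < p ^ e i := by
  have hpos : 0 < p := hp.out.pos
  have ha := (a i).2
  rw [expo_apply]
  by_cases h : n ≤ e i
  · calc p ^ n * (a i : ℕ) < p ^ n * p ^ (e i - n) :=
          Nat.mul_lt_mul_of_pos_left ha (pow_pos hpos n)
      _ = p ^ e i := by rw [← pow_add, Nat.add_sub_cancel' h]
  · have h0 : e i - n = 0 := by omega
    have ha' : (a i : ℕ) < p ^ (e i - n) := ha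
    have h1 : p ^ (e i - n) = 1 := by rw [h0, pow_zero]
    have : (a i : ℕ) = 0 := by omega
    rw [this, mul_zero]
    exact pow_pos hpos _

/-- the candidate basis of `W n` -/
noncomputable def vec (n : ℕ) (a : (i : Fin r) → Fin (p ^ (e i - n))) : TA k p e :=
  Ideal.Quotient.mkₐ k _ (monomial (p ^ n • expo p e n a) 1)

omit [CharP k p] in
theorem linearIndependent_vec (n : ℕ) : LinearIndependent k (vec (k := k) p e n) := by
  have hpos : 0 < p := hp.out.pos
  have hli := linearIndependent_mk_monomial (k := k) (fun i => p ^ e i)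
  let ι : ((i : Fin r) → Fin (p ^ (e i - n))) → {α : Fin r →₀ ℕ // ∀ i, α i < p ^ e i} :=
    fun a => ⟨p ^ n • expo p e n a, fun i => by simpa using pow_mul_expo_lt p e n a i⟩
  have hι : Function.Injective ι := by
    intro a a' h
    have h1 : p ^ n • expo p e n a = p ^ n • expo p e n a' := congrArg Subtype.val h
    funext i
    apply Fin.ext
    have h2 := DFunLike.congr_fun h1 i
    simp only [Finsupp.smul_apply, smul_eq_mul, expo_apply] at h2
    exact Nat.eq_of_mul_eq_mul_left (pow_pos hpos n) h2
  exact hli.comp ι hι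

theorem W_eq_span_vec (n : ℕ) :
    W (k := k) p e n = Submodule.span k (Set.range (vec (k := k) p e n)) := by
  have hpos : 0 < p := hp.out.pos
  apply le_antisymm
  · apply Submodule.span_le.mpr
    rintro _ ⟨a, rfl⟩
    obtain ⟨x, rfl⟩ := Ideal.Quotient.mk_surjective a
    have hx : x ^ p ^ n = ∑ α ∈ x.support, monomial (p ^ n • α) ((coeff α x) ^ p ^ n) := by
      conv_lhs => rw [← support_sum_monomial_coeff x]
      rw [sum_pow_char_pow]
      apply Finset.sum_congr rfl
      intro α _
      rw [monomial_pow]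
    show (Ideal.Quotient.mk _ x) ^ p ^ n ∈ _
    rw [← map_pow, hx, map_sum]
    apply Submodule.sum_mem
    intro α _
    by_cases hα : ∀ i, α i < p ^ (e i - n)
    · let a : (i : Fin r) → Fin (p ^ (e i - n)) := fun i => ⟨α i, hα i⟩
      have : Ideal.Quotient.mk (truncIdeal k (fun i => p ^ e i))
          (monomial (p ^ n • α) ((coeff α x) ^ p ^ n)) =
          ((coeff α x) ^ p ^ n) • vec (k := k) p e n a := by
        unfold vec
        rw [← map_smul, smul_monomial, smul_eq_mul, mul_one, Ideal.Quotient.mkₐ_eq_mk]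
        have hαa : α = expo p e n a := by
          ext i
          rfl
        rw [← hαa]
      rw [this]
      exact Submodule.smul_mem _ _ (Submodule.subset_span ⟨a, rfl⟩)
    · push Not at hα
      obtain ⟨i, hi⟩ := hα
      have : monomial (p ^ n • α) ((coeff α x) ^ p ^ n) ∈ truncIdeal k (fun i => p ^ e i) := by
        apply monomial_mem_truncIdeal _ _ _ i
        simp only [Finsupp.smul_apply, smul_eq_mul]
        calc p ^ e i ≤ p ^ n * p ^ (e i - n) := by
              rw [← pow_add]; exact Nat.pow_le_pow_right hpos (by omega)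
          _ ≤ p ^ n * α i := Nat.mul_le_mul_left _ hi
      rw [Ideal.Quotient.eq_zero_iff_mem.mpr this]
      exact zero_mem _
  · apply Submodule.span_le.mpr
    rintro _ ⟨a, rfl⟩
    apply Submodule.subset_span
    refine ⟨Ideal.Quotient.mk _ (monomial (expo p e n a) 1), ?_⟩
    simp only [vec, Ideal.Quotient.mkₐ_eq_mk]
    rw [← map_pow, monomial_pow, one_pow]

theorem finrank_W (n : ℕ) :
    Module.finrank k (W (k := k) p e n) = p ^ (∑ i, (e i - n)) := by
  rw [W_eq_span_vec, finrank_span_eq_card (linearIndependent_vec p e n), Fintype.card_pi]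
  simp only [Fintype.card_fin]
  rw [Finset.prod_pow_eq_pow_sum]

end Frob

theorem finrank_span_pow_eq {A B : Type*} [CommRing A] [CommRing B] [Algebra k A] [Algebra k B]
    (φ : A ≃ₐ[k] B) (q : ℕ) :
    Module.finrank k (Submodule.span k (Set.range fun a : A => a ^ q)) =
      Module.finrank k (Submodule.span k (Set.range fun b : B => b ^ q)) := by
  have h : (Submodule.span k (Set.range fun a : A => a ^ q)).map φ.toLinearEquiv.toLinearMap =
      Submodule.span k (Set.range fun b : B => b ^ q) := by
    rw [Submodule.map_span]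
    congr 1
    ext b
    constructor
    · rintro ⟨_, ⟨a, rfl⟩, rfl⟩
      exact ⟨φ a, by simp⟩
    · rintro ⟨b, rfl⟩
      exact ⟨_, ⟨φ.symm b, rfl⟩, by simp⟩
  rw [← h]
  exact (LinearEquiv.finrank_map_eq φ.toLinearEquiv _).symm

/-- combinatorial end: equal truncated sums force a matching of exponents -/
theorem exists_equiv_of_sum_sub_eq {r s : ℕ} (e : Fin r → ℕ) (f : Fin s → ℕ)
    (he : ∀ i, 1 ≤ e i) (hf : ∀ j, 1 ≤ f j)
    (h : ∀ n : ℕ, ∑ i, (e i - n) = ∑ j, (f j - n)) :
    ∃ σ : Fin r ≃ Fin s, ∀ i : Fin r, f (σ i) = e i := by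
  classical
  -- number of indices with exponent > n
  have hgt : ∀ n : ℕ, (Finset.univ.filter fun i => n < e i).card =
      (Finset.univ.filter fun j => n < f j).card := by
    intro n
    have key : ∀ {t : ℕ} (g : Fin t → ℕ),
        ∑ i, (g i - n) = ∑ i, (g i - (n + 1)) + (Finset.univ.filter fun i => n < g i).card := by
      intro t g
      rw [Finset.card_filter, ← Finset.sum_add_distrib]
      apply Finset.sum_congr rfl
      intro i _
      split_ifs with hlt <;> omega
    have h1 := key e
    have h2 := key f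
    have h3 := h n
    have h4 := h (n + 1)
    omega
  have heq : ∀ c : ℕ, (Finset.univ.filter fun i => e i = c).card =
      (Finset.univ.filter fun j => f j = c).card := by
    intro c
    rcases Nat.eq_zero_or_pos c with rfl | hc
    · rw [Finset.card_eq_zero.mpr, Finset.card_eq_zero.mpr]
      · ext j; simp; have := hf j; omega
      · ext i; simp; have := he i; omega
    · obtain ⟨n, rfl⟩ : ∃ n, c = n + 1 := ⟨c - 1, by omega⟩
      have key : ∀ {t : ℕ} (g : Fin t → ℕ),
          (Finset.univ.filter fun i => n < g i).card =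
            (Finset.univ.filter fun i => n + 1 < g i).card +
              (Finset.univ.filter fun i => g i = n + 1).card := by
        intro t g
        rw [← Finset.card_union_of_disjoint]
        · congr 1
          ext i
          simp only [Finset.mem_filter, Finset.mem_univ, true_and, Finset.mem_union]
          omega
        · rw [Finset.disjoint_filter]
          intro i _ h1 h2
          omega
      have h1 := key e
      have h2 := key f
      have h3 := hgt n
      have h4 := hgt (n + 1)
      omega
  have hfib : ∀ c : ℕ, Fintype.card {i // e i = c} = Fintype.card {j // f j = c} := by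
    intro c
    rw [Fintype.card_subtype, Fintype.card_subtype]
    exact heq c
  refine ⟨Equiv.ofFiberEquiv (fun c => Fintype.equivOfCardEq (hfib c)), fun i => ?_⟩
  exact Equiv.ofFiberEquiv_map _ i

theorem main (p : ℕ) [Fact p.Prime] [CharP k p] (r s : ℕ) (e : Fin r → ℕ) (f : Fin s → ℕ)
    (he : ∀ i, 1 ≤ e i) (hf : ∀ j, 1 ≤ f j)
    (φ : TA k p e ≃ₐ[k] TA k p f) :
    ∃ σ : Fin r ≃ Fin s, ∀ i : Fin r, f (σ i) = e i := by
  apply exists_equiv_of_sum_sub_eq e f he hf
  intro n
  have h1 := finrank_W (k := k) p e n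
  have h2 := finrank_W (k := k) p f n
  have h3 := finrank_span_pow_eq φ (p ^ n)
  have h4 : p ^ (∑ i, (e i - n)) = p ^ (∑ j, (f j - n)) := by
    rw [← h1, ← h2]; exact h3
  exact Nat.pow_right_injective (Fact.out : p.Prime).two_le h4

end Groth.Agent.Lib.Helper77.TruncPoly
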