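import Mathlib
import Groth.Prelude.Def_SGA3

set_option autoImplicit false
universe u

namespace Groth.Agent.Lib.Helper77.UnitCompNormal

open TensorProduct WithConv

theorem eq_zero_of_idempotent_mem_jacobson {B : Type*} [CommRing B] {f : B}
    (hf : IsIdempotentElem f) (hmem : f ∈ Ideal.jacobson (⊥ : Ideal B)) : f = 0 := by
  have hu : IsUnit (f * -1 + 1) := Ideal.mem_jacobson_bot.mp hmem (-1)
  have hz : f * (f * -1 + 1) = 0 := by
    have : f * f = f := hf
    linear_combination -this
  exact (hu.mul_left_eq_zero).mp hz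

/-- the ideal generated by a proper ideal of a local ring in a finite base change lies in the
Jacobson radical -/
theorem map_includeLeft_le_jacobson {R : Type*} [CommRing R] {A0 A : Type*} [CommRing A0]
    [Algebra R A0] [IsLocalRing A0] [CommRing A] [Algebra R A] [Module.Finite R A]
    (I0 : Ideal A0) (hI0 : I0 ≠ ⊤) :
    I0.map (Algebra.TensorProduct.includeLeft : A0 →ₐ[R] A0 ⊗[R] A) ≤
      Ideal.jacobson (⊥ : Ideal (A0 ⊗[R] A)) := by
  rw [Ideal.jacobson, le_sInf_iff]
  rintro 𝔫 ⟨-, h𝔫⟩
  have : 𝔫.IsMaximal := h𝔫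
  have hint : Algebra.IsIntegral A0 (A0 ⊗[R] A) := inferInstance
  have hmax : (𝔫.comap (algebraMap A0 (A0 ⊗[R] A))).IsMaximal :=
    Ideal.isMaximal_comap_of_isIntegral_of_isMaximal 𝔫
  have heq : 𝔫.comap (algebraMap A0 (A0 ⊗[R] A)) = IsLocalRing.maximalIdeal A0 :=
    IsLocalRing.eq_maximalIdeal hmax
  rw [Ideal.map_le_iff_le_comap]
  have : I0 ≤ IsLocalRing.maximalIdeal A0 := IsLocalRing.le_maximalIdeal hI0
  rw [← heq] at this
  exact this

variable (k : Type u) [CommRing k] (A : Type u) [CommRing A] [HopfAlgebra k A]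

/-- conv3 is the triple convolution product -/
theorem conv3_eq {C : Type u} [CommRing C] [Algebra k C] (f g h : A →ₐ[k] C) :
    Dyn.conv3 k A f g h = (toConv f * toConv g * toConv h).ofConv := by
  rw [AlgHom.convMul_def, AlgHom.convMul_def]
  unfold Dyn.conv3
  have h1 : Algebra.TensorProduct.map ((Algebra.TensorProduct.lmul' (S := C) k).comp
      ((Algebra.TensorProduct.map f g).comp (Bialgebra.comulAlgHom k A))) h =
      (Algebra.TensorProduct.map ((Algebra.TensorProduct.lmul' (S := C) k).comp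
        (Algebra.TensorProduct.map f g)) h).comp
        (Algebra.TensorProduct.map (Bialgebra.comulAlgHom k A) (AlgHom.id k A)) := by
    rw [← Algebra.TensorProduct.map_comp, AlgHom.comp_assoc, AlgHom.comp_id]
  show _ = (Algebra.TensorProduct.lmul' (S := C) k).comp
      ((Algebra.TensorProduct.map ((Algebra.TensorProduct.lmul' (S := C) k).comp
      ((Algebra.TensorProduct.map f g).comp (Bialgebra.comulAlgHom k A))) h).comp
        (Bialgebra.comulAlgHom k A))
  rw [h1, AlgHom.comp_assoc]

/-- functoriality in the target -/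
theorem comp_conv3 {C C' : Type u} [CommRing C] [Algebra k C] [CommRing C'] [Algebra k C']
    (ψ : C →ₐ[k] C') (f g h : A →ₐ[k] C) :
    ψ.comp (Dyn.conv3 k A f g h) = Dyn.conv3 k A (ψ.comp f) (ψ.comp g) (ψ.comp h) := by
  rw [conv3_eq, conv3_eq, AlgHom.comp_convMul_distrib, AlgHom.comp_convMul_distrib]

/-- conjugating the unit gives the unit -/
theorem conv3_id_unit :
    Dyn.conv3 k A (AlgHom.id k A) ((Algebra.ofId k A).comp (Bialgebra.counitAlgHom k A))
      (HopfAlgebra.antipodeAlgHom k A) = (Algebra.ofId k A).comp (Bialgebra.counitAlgHom k A) := by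
  rw [conv3_eq]
  have h1 : toConv ((Algebra.ofId k A).comp (Bialgebra.counitAlgHom k A)) =
      (1 : WithConv (A →ₐ[k] A)) := rfl
  have h2 : toConv (HopfAlgebra.antipodeAlgHom k A) = (toConv (AlgHom.id k A))⁻¹ := by
    show _ = toConv ((AlgHom.id k A).comp (HopfAlgebra.antipodeAlgHom k A))
    rw [AlgHom.id_comp]
  rw [h1, h2, mul_one, mul_inv_cancel]
  rfl

theorem main [Module.Finite k A]
    (e : A) (he : IsIdempotentElem e) (hε : Bialgebra.counitAlgHom k A e = 1)
    [IsLocalRing (A ⧸ Ideal.span ({1 - e} : Set A))] :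
    SGA3.IsNormalHopfIdeal k A (Ideal.span ({1 - e} : Set A)) := by
  intro T _ _ g h hh a ha
  set I : Ideal A := Ideal.span ({1 - e} : Set A) with hI
  let mk : A →ₐ[k] A ⧸ I := Ideal.Quotient.mkₐ k I
  have hεI : ∀ a ∈ I, Bialgebra.counitAlgHom k A a = 0 := by
    intro a ha
    have hle : I ≤ RingHom.ker (Bialgebra.counitAlgHom k A) := by
      refine Ideal.span_le.mpr ?_
      intro x hx
      rw [Set.mem_singleton_iff.mp hx, SetLike.mem_coe, RingHom.mem_ker, map_sub, map_one, hε,
        sub_self]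
    exact hle ha
  let hbar : (A ⧸ I) →ₐ[k] T := Ideal.Quotient.liftₐ I h hh
  let εbar : (A ⧸ I) →ₐ[k] k := Ideal.Quotient.liftₐ I (Bialgebra.counitAlgHom k A) hεI
  let g0 : A →ₐ[k] (A ⧸ I) ⊗[k] A := Algebra.TensorProduct.includeRight
  let h0 : A →ₐ[k] (A ⧸ I) ⊗[k] A := (Algebra.TensorProduct.includeLeft).comp mk
  let ψ : (A ⧸ I) ⊗[k] A →ₐ[k] T := Algebra.TensorProduct.lift hbar g (fun x y => Commute.all (hbar x) (g y))
  have hψg : ψ.comp g0 = g := Algebra.TensorProduct.lift_comp_includeRight hbar g (fun x y => Commute.all (hbar x) (g y))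
  have hψh : ψ.comp h0 = h := by
    apply AlgHom.ext
    intro x
    simp [ψ, h0, mk, hbar]
  let c0 := Dyn.conv3 k A g0 h0 (g0.comp (HopfAlgebra.antipodeAlgHom k A))
  have hc : Dyn.conv3 k A g h (g.comp (HopfAlgebra.antipodeAlgHom k A)) = ψ.comp c0 := by
    rw [comp_conv3, hψg, hψh, ← AlgHom.comp_assoc, hψg]
  -- the retraction π
  let π : (A ⧸ I) ⊗[k] A →ₐ[k] A :=
    (Algebra.TensorProduct.lid k A).toAlgHom.comp (Algebra.TensorProduct.map εbar (AlgHom.id k A))
  have hπg : π.comp g0 = AlgHom.id k A := by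
    apply AlgHom.ext
    intro x
    simp [π, g0]
  have hπh : π.comp h0 = (Algebra.ofId k A).comp (Bialgebra.counitAlgHom k A) := by
    apply AlgHom.ext
    intro x
    simp [π, h0, mk, εbar, Algebra.ofId_apply, Algebra.algebraMap_eq_smul_one]
  have hπc : π.comp c0 = (Algebra.ofId k A).comp (Bialgebra.counitAlgHom k A) := by
    rw [comp_conv3, hπg, hπh, ← AlgHom.comp_assoc, hπg, AlgHom.id_comp, conv3_id_unit]
  -- key
  have hsurjε : Function.Surjective εbar := fun c => ⟨algebraMap k _ c, by simp⟩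
  have hI0 : RingHom.ker εbar ≠ ⊤ := by
    intro htop
    have h1 : (1 : A ⧸ I) ∈ RingHom.ker εbar := htop ▸ Submodule.mem_top
    rw [RingHom.mem_ker, map_one] at h1
    have : Nontrivial k := by
      by_contra hnt
      rw [not_nontrivial_iff_subsingleton] at hnt
      have : Subsingleton (A ⧸ I) := Module.subsingleton k _
      exact not_subsingleton (A ⧸ I) this
    exact one_ne_zero h1
  have key : c0 e = 1 := by
    have hidem : IsIdempotentElem (1 - c0 e) := (he.map c0).one_sub
    have hπf : π (1 - c0 e) = 0 := by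
      rw [map_sub, map_one]
      have : π (c0 e) = (π.comp c0) e := rfl
      rw [this, hπc]
      simp [Algebra.ofId_apply, hε]
    have hker : (1 - c0 e) ∈ RingHom.ker (Algebra.TensorProduct.map εbar (AlgHom.id k A)) := by
      rw [RingHom.mem_ker]
      have : (Algebra.TensorProduct.lid k A)
          ((Algebra.TensorProduct.map εbar (AlgHom.id k A)) (1 - c0 e)) = 0 := hπf
      exact (Algebra.TensorProduct.lid k A).injective (by rw [this, map_zero])
    rw [Algebra.TensorProduct.rTensor_ker _ hsurjε] at hker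
    have hjac := map_includeLeft_le_jacobson (R := k) (A := A) (RingHom.ker εbar) hI0 hker
    have := eq_zero_of_idempotent_mem_jacobson hidem hjac
    exact (sub_eq_zero.mp this).symm
  rw [hc]
  obtain ⟨x, rfl⟩ := Ideal.mem_span_singleton'.mp ha
  show ψ (c0 (x * (1 - e))) = 0
  rw [map_mul, map_sub, map_one, key, sub_self, mul_zero, map_zero]

end Groth.Agent.Lib.Helper77.UnitCompNormal
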