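import Mathlib
import Groth.Prelude.Def_Versch

/-!
# Étale Cartier dual iff bijective Verschiebung (field case) (helper77)
-/

set_option autoImplicit false
universe u v

namespace Groth.Agent.Lib.Helper77.VerschEtale

open TensorProduct WithConv

section P1
variable (p : ℕ) [Fact p.Prime] (k : Type u) [Field k] [CharP k p]
  (D : Type v) [CommRing D] [Algebra k D] [Module.Finite k D]

/-- if the `p`-th powers span `D` over `k` then `D` is étale -/
theorem etale_of_span_pow (h : Submodule.span k (Set.range fun y : D => y ^ p) = ⊤) :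
    Algebra.Etale k D := by
  have hsub : Subsingleton (Ω[D⁄k]) := by
    have hD : ∀ y : D, KaehlerDifferential.D k D y = 0 := by
      intro y
      have hy : y ∈ Submodule.span k (Set.range fun y : D => y ^ p) := h ▸ Submodule.mem_top
      induction hy using Submodule.span_induction with
      | mem z hz =>
        obtain ⟨w, rfl⟩ := hz
        show KaehlerDifferential.D k D (w ^ p) = 0
        rw [Derivation.leibniz_pow]
        have : (p : ℕ) • (w ^ (p - 1) • KaehlerDifferential.D k D w) = 
            ((p : ℕ) : k) • (w ^ (p - 1) • KaehlerDifferential.D k D w) := by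
          rw [Nat.cast_smul_eq_nsmul]
        rw [this, CharP.cast_eq_zero, zero_smul]
      | zero => exact map_zero _
      | add z w _ _ hz hw => rw [map_add, hz, hw, add_zero]
      | smul c z _ hz => rw [Derivation.map_smul, hz, smul_zero]
    have htop : (⊤ : Submodule D (Ω[D⁄k])) = ⊥ := by
      rw [← KaehlerDifferential.span_range_derivation, Submodule.span_eq_bot]
      rintro _ ⟨y, rfl⟩
      exact hD y
    constructor
    intro a b
    have ha : a ∈ (⊥ : Submodule D (Ω[D⁄k])) := htop ▸ Submodule.mem_top
    have hb : b ∈ (⊥ : Submodule D (Ω[D⁄k])) := htop ▸ Submodule.mem_top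
    rw [Submodule.mem_bot] at ha hb
    rw [ha, hb]
  have hunr : Algebra.FormallyUnramified k D := ⟨hsub⟩
  have hfe : Algebra.FormallyEtale k D := Algebra.FormallyEtale.of_formallyUnramified_of_field k D
  have hfp : Algebra.FinitePresentation k D := Algebra.FinitePresentation.of_finiteType.mp inferInstance
  exact ⟨hfe, hfp⟩

end P1

section Forms
variable (p : ℕ) [Fact p.Prime] (R : Type u) [CommRing R] [CharP R p]
  (A : Type v) [CommRing A] [HopfAlgebra R A] [Coalgebra.IsCocomm R A]
  [Module.Finite R A] [Module.Projective R A]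

/-- every linear form is `∑ y(a_i) x_i`. -/
theorem form_eq {n : ℕ} (a : Fin n → A) (x : Fin n → CartDual.D R A)
    (hax : ∀ b : A, b = ∑ i, x i b • a i) (y : CartDual.D R A) :
    y = ∑ i, y (a i) • x i := by
  apply WithConv.ext
  apply LinearMap.ext
  intro b
  show y b = (∑ i, y (a i) • x i).ofConv b
  rw [WithConv.ofConv_sum, LinearMap.sum_apply]
  conv_lhs => rw [hax b]
  show y.ofConv (∑ i, (x i) b • a i) = _
  rw [map_sum]
  refine Finset.sum_congr rfl fun i _ => ?_
  rw [map_smul, WithConv.ofConv_smul, LinearMap.smul_apply, smul_eq_mul, smul_eq_mul, mul_comm]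

theorem form_pow_eq {n : ℕ} (a : Fin n → A) (x : Fin n → CartDual.D R A)
    (hax : ∀ b : A, b = ∑ i, x i b • a i) (y : CartDual.D R A) :
    y ^ p = ∑ i, (y (a i)) ^ p • (x i) ^ p := by
  conv_lhs => rw [form_eq R A a x hax y]
  rw [sum_pow_char]
  refine Finset.sum_congr rfl fun i _ => ?_
  rw [smul_pow]

theorem v_apply (v : A →+* FrobAlg.BaseChange p R A) (hv : Versch.IsVerschiebung p R A v)
    {n : ℕ} (a : Fin n → A) (x : Fin n → CartDual.D R A)
    (hax : ∀ b : A, b = ∑ i, x i b • a i) (b : A) :
    v b = ∑ i, (a i) ⊗ₜ[R] (FrobAlg.toTwist p R (((x i) ^ p) b)) := by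
  rw [Versch.isVerschiebung_iff] at hv
  apply Versch.evTw_injective p R A
  intro y
  rw [hv b y, map_sum]
  simp only [Versch.evTw_tmul']
  rw [form_pow_eq p R A a x hax y]
  simp only [← map_mul, ← map_sum]
  congr 1
  show (∑ i, y (a i) ^ p • x i ^ p).ofConv b = _
  rw [WithConv.ofConv_sum, LinearMap.sum_apply]
  rfl

/-- every element of the twist is of the form `∑ a_i ⊗ s_i` -/
theorem exists_eq_sum_tmul {n : ℕ} (a : Fin n → A) (x : Fin n → CartDual.D R A)
    (hax : ∀ b : A, b = ∑ i, x i b • a i) (w : FrobAlg.BaseChange p R A) :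
    ∃ s : Fin n → FrobAlg.Twist p R, w = ∑ i, (a i) ⊗ₜ[R] s i := by
  induction w using TensorProduct.induction_on with
  | zero => exact ⟨fun _ => 0, by simp⟩
  | tmul b t =>
    refine ⟨fun i => (x i b) • t, ?_⟩
    conv_lhs => rw [hax b]
    rw [TensorProduct.sum_tmul]
    refine Finset.sum_congr rfl fun i _ => ?_
    rw [TensorProduct.smul_tmul]
  | add w w' hw hw' =>
    obtain ⟨s, hs⟩ := hw
    obtain ⟨s', hs'⟩ := hw'
    refine ⟨fun i => s i + s' i, ?_⟩
    rw [hs, hs', ← Finset.sum_add_distrib]
    refine Finset.sum_congr rfl fun i _ => ?_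
    rw [TensorProduct.tmul_add]

end Forms

section P2
variable (p : ℕ) [Fact p.Prime] (k : Type u) [Field k] [CharP k p]
  (A : Type v) [CommRing A] [HopfAlgebra k A] [Coalgebra.IsCocomm k A] [FiniteDimensional k A]

theorem span_pow_eq_top_of_injective (v : A →+* FrobAlg.BaseChange p k A)
    (hv : Versch.IsVerschiebung p k A v) (hinj : Function.Injective v) :
    Submodule.span k (Set.range fun y : CartDual.D k A => y ^ p) = ⊤ := by
  by_contra hne
  obtain ⟨φ, hφ, hle⟩ := Submodule.exists_le_ker_of_lt_top _ (lt_top_iff_ne_top.mpr hne)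
  let ψ : Module.Dual k (Module.Dual k A) := φ ∘ₗ (CartDual.toDual k A).symm.toLinearMap
  obtain ⟨c, hc⟩ := (Module.bijective_dual_eval k A).surjective ψ
  have hφc : ∀ y : CartDual.D k A, φ y = y c := by
    intro y
    have h2 : ψ y.ofConv = φ y := rfl
    have h3 : (Module.Dual.eval k A c) y.ofConv = y c := rfl
    rw [← h2, ← hc, h3]
  have hzero : ∀ y : CartDual.D k A, (y ^ p) c = 0 := by
    intro y
    rw [← hφc]
    exact hle (Submodule.subset_span ⟨y, rfl⟩)
  rw [Versch.isVerschiebung_iff] at hv
  have hvc : v c = v 0 := by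
    apply Versch.evTw_injective p k A
    intro y
    rw [hv, hv, hzero, map_zero]
    simp
  have hc0 : c = 0 := hinj hvc
  apply hφ
  apply LinearMap.ext
  intro y
  rw [hφc, hc0]
  simp

end P2

section P3
variable (p : ℕ) [Fact p.Prime] (k : Type u) [Field k] [CharP k p]
  (D : Type v) [CommRing D] [Algebra k D] [CharP D p]

theorem relFrob_tmul (b : D) (s : FrobAlg.Twist p k) :
    FrobAlg.relFrob p k D (b ⊗ₜ s) = b ^ p * algebraMap k D ((FrobAlg.toTwist p k).symm s) := by
  simp [FrobAlg.relFrob, FrobAlg.frobHom, FrobAlg.inclHom, Algebra.TensorProduct.lift_tmul]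
  rfl

theorem charP_baseChange : CharP (FrobAlg.BaseChange p k D) p := by
  have : Nontrivial D := CharP.nontrivial_of_char_ne_one (R := D) (v := p) (Fact.out : p.Prime).ne_one
  apply charP_of_injective_algebraMap (R := FrobAlg.Twist p k) _ p
  exact Algebra.TensorProduct.includeRight_injective (R := k) (A := D) (B := FrobAlg.Twist p k)
    (algebraMap k D).injective

theorem pow_eq_relFrob_tmul (z : FrobAlg.BaseChange p k D) :
    z ^ p = (FrobAlg.relFrob p k D z) ⊗ₜ[k] (1 : FrobAlg.Twist p k) := by
  have := charP_baseChange p k D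
  induction z using TensorProduct.induction_on with
  | zero => rw [zero_pow (Fact.out : p.Prime).ne_zero, map_zero, TensorProduct.zero_tmul]
  | tmul b s =>
    rw [relFrob_tmul, Algebra.TensorProduct.tmul_pow, mul_comm, ← Algebra.smul_def,
      TensorProduct.smul_tmul]
    congr 1
    rw [Algebra.smul_def, mul_one, FrobAlg.algebraMap_twist, map_pow, RingEquiv.apply_symm_apply]
  | add z w hz hw => rw [add_pow_char, hz, hw, map_add, TensorProduct.add_tmul]

theorem relFrob_injective_of_isReduced [IsReduced (FrobAlg.BaseChange p k D)] :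
    Function.Injective (FrobAlg.relFrob p k D) := by
  rw [injective_iff_map_eq_zero]
  intro z hz
  have h := pow_eq_relFrob_tmul p k D z
  rw [hz, TensorProduct.zero_tmul] at h
  exact IsReduced.eq_zero z ⟨p, h⟩

theorem isReduced_baseChange_of_etale [Algebra.Etale k D] [Module.Finite k D] :
    IsReduced (FrobAlg.BaseChange p k D) := by
  letI : Field (FrobAlg.Twist p k) := inferInstanceAs (Field k)
  have h1 : Algebra.FormallyUnramified (FrobAlg.Twist p k) (FrobAlg.Twist p k ⊗[k] D) := inferInstance
  have h2 : IsReduced (FrobAlg.Twist p k ⊗[k] D) :=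
    Algebra.FormallyUnramified.isReduced_of_field (FrobAlg.Twist p k) (FrobAlg.Twist p k ⊗[k] D)
  exact isReduced_of_injective (Algebra.TensorProduct.comm k D (FrobAlg.Twist p k)).toRingEquiv.toRingHom
    (Algebra.TensorProduct.comm k D (FrobAlg.Twist p k)).injective

end P3

section Main
variable (p : ℕ) [Fact p.Prime] (k : Type u) [Field k] [CharP k p]
  (A : Type v) [CommRing A] [HopfAlgebra k A] [Coalgebra.IsCocomm k A] [FiniteDimensional k A]

/-- the dual basis elements in `D` -/
noncomputable def xb (i : Fin (Module.finrank k A)) : CartDual.D k A :=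
  toConv ((Module.finBasis k A).coord i)

theorem xb_apply (i j : Fin (Module.finrank k A)) :
    xb k A i (Module.finBasis k A j) = if i = j then 1 else 0 := by
  show (Module.finBasis k A).coord i (Module.finBasis k A j) = _
  rw [Module.Basis.coord_apply, Module.Basis.repr_self, Finsupp.single_apply]
  simp [eq_comm]

theorem hax (c : A) : c = ∑ i, xb k A i c • Module.finBasis k A i := by
  conv_lhs => rw [← (Module.finBasis k A).sum_repr c]
  rfl

theorem linearIndependent_pow
    (hinj : Function.Injective (FrobAlg.relFrob p k (CartDual.D k A))) :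
    LinearIndependent k (fun i => (xb k A i) ^ p) := by
  rw [Fintype.linearIndependent_iff]
  intro g hg j
  let z : FrobAlg.BaseChange p k (CartDual.D k A) := ∑ i, (xb k A i) ⊗ₜ[k] FrobAlg.toTwist p k (g i)
  have hz : FrobAlg.relFrob p k (CartDual.D k A) z = 0 := by
    rw [map_sum]
    simp only [relFrob_tmul, RingEquiv.symm_apply_apply]
    rw [← hg]
    refine Finset.sum_congr rfl fun i _ => ?_
    rw [mul_comm, ← Algebra.smul_def]
  have hz0 : z = 0 := hinj (by rw [hz, map_zero])
  let ev : CartDual.D k A →ₗ[k] k :=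
    LinearMap.applyₗ (Module.finBasis k A j) ∘ₗ (CartDual.toDual k A).toLinearMap
  let ε : FrobAlg.BaseChange p k (CartDual.D k A) →ₗ[k] FrobAlg.Twist p k :=
    (TensorProduct.lid k (FrobAlg.Twist p k)).toLinearMap ∘ₗ LinearMap.rTensor (FrobAlg.Twist p k) ev
  have hε : ε z = FrobAlg.toTwist p k (g j) := by
    have h1 : ∀ i, ε ((xb k A i) ⊗ₜ[k] FrobAlg.toTwist p k (g i)) =
        (if i = j then FrobAlg.toTwist p k (g i) else 0) := by
      intro i
      show (TensorProduct.lid k (FrobAlg.Twist p k)) ((ev (xb k A i)) ⊗ₜ[k] FrobAlg.toTwist p k (g i)) = _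
      rw [TensorProduct.lid_tmul]
      have : ev (xb k A i) = xb k A i (Module.finBasis k A j) := rfl
      rw [this, xb_apply]
      split_ifs <;> simp
    simp only [z, map_sum, h1]
    simp
  rw [hz0, map_zero] at hε
  have := (FrobAlg.toTwist p k).injective (hε.symm.trans (map_zero _).symm)
  exact this

theorem finrank_D : Module.finrank k (CartDual.D k A) = Module.finrank k A := by
  rw [(CartDual.toDual k A).finrank_eq, Subspace.dual_finrank_eq]

theorem span_xb_pow (hinj : Function.Injective (FrobAlg.relFrob p k (CartDual.D k A))) :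
    Submodule.span k (Set.range fun i => (xb k A i) ^ p) = ⊤ := by
  apply (linearIndependent_pow p k A hinj).span_eq_top_of_card_eq_finrank'
  rw [Fintype.card_fin, finrank_D]

theorem eq_zero_of_forall_xb_pow
    (hspan : Submodule.span k (Set.range fun i => (xb k A i) ^ p) = ⊤) (c : A)
    (h0 : ∀ i, ((xb k A i) ^ p) c = 0) : c = 0 := by
  have hall : ∀ y : CartDual.D k A, y c = 0 := by
    intro y
    have hy : y ∈ Submodule.span k (Set.range fun i => (xb k A i) ^ p) := hspan ▸ Submodule.mem_top
    induction hy using Submodule.span_induction with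
    | mem z hz =>
      obtain ⟨i, rfl⟩ := hz
      exact h0 i
    | zero => rfl
    | add z w _ _ hz hw =>
      show (z + w).ofConv c = 0
      rw [WithConv.ofConv_add, LinearMap.add_apply]
      have h1 : z.ofConv c = 0 := hz
      have h2 : w.ofConv c = 0 := hw
      rw [h1, h2, add_zero]
    | smul r z _ hz =>
      show (r • z).ofConv c = 0
      rw [WithConv.ofConv_smul, LinearMap.smul_apply]
      have h1 : z.ofConv c = 0 := hz
      rw [h1, smul_zero]
  exact (Module.forall_dual_apply_eq_zero_iff k c).mp (fun f => hall (toConv f))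

theorem v_injective (v : A →+* FrobAlg.BaseChange p k A) (hv : Versch.IsVerschiebung p k A v)
    (hspan : Submodule.span k (Set.range fun i => (xb k A i) ^ p) = ⊤) :
    Function.Injective v := by
  rw [injective_iff_map_eq_zero]
  intro c hc
  have hv' := (Versch.isVerschiebung_iff p k A v).mp hv
  apply eq_zero_of_forall_xb_pow p k A hspan c
  intro i
  have := hv' c (xb k A i)
  rw [hc, map_zero] at this
  exact (FrobAlg.toTwist p k).injective (this.symm.trans (map_zero _).symm)

theorem v_surjective (v : A →+* FrobAlg.BaseChange p k A) (hv : Versch.IsVerschiebung p k A v)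
    (hspan : Submodule.span k (Set.range fun i => (xb k A i) ^ p) = ⊤) :
    Function.Surjective v := by
  intro w
  obtain ⟨s, hs⟩ := exists_eq_sum_tmul p k A (Module.finBasis k A) (xb k A) (hax k A) w
  let Ψ : A →ₗ[k] (Fin (Module.finrank k A) → k) :=
    LinearMap.pi (fun i => ((xb k A i) ^ p).ofConv)
  have hΨinj : Function.Injective Ψ := by
    rw [← LinearMap.ker_eq_bot, LinearMap.ker_eq_bot']
    intro c hc
    apply eq_zero_of_forall_xb_pow p k A hspan c
    intro i
    exact congrFun hc i
  have hΨsurj : Function.Surjective Ψ :=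
    (LinearMap.injective_iff_surjective_of_finrank_eq_finrank (by simp)).mp hΨinj
  obtain ⟨c, hc⟩ := hΨsurj (fun i => (FrobAlg.toTwist p k).symm (s i))
  refine ⟨c, ?_⟩
  rw [v_apply p k A v hv _ (xb k A) (hax k A) c, hs]
  refine Finset.sum_congr rfl fun i _ => ?_
  congr 1
  have h1 : ((xb k A i) ^ p) c = (FrobAlg.toTwist p k).symm (s i) := congrFun hc i
  rw [h1, RingEquiv.apply_symm_apply]

theorem main (v : A →+* FrobAlg.BaseChange p k A) (hv : Versch.IsVerschiebung p k A v) :
    Algebra.Etale k (CartDual.D k A) ↔ Function.Bijective v := by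
  constructor
  · intro het
    have hred : IsReduced (FrobAlg.BaseChange p k (CartDual.D k A)) :=
      isReduced_baseChange_of_etale p k (CartDual.D k A)
    have hinj := relFrob_injective_of_isReduced p k (CartDual.D k A)
    have hspan := span_xb_pow p k A hinj
    exact ⟨v_injective p k A v hv hspan, v_surjective p k A v hv hspan⟩
  · intro hbij
    have hspan := span_pow_eq_top_of_injective p k A v hv hbij.1
    exact etale_of_span_pow p k (CartDual.D k A) hspan

end Main

end Groth.Agent.Lib.Helper77.VerschEtale
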