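import Mathlib
import Groth.Agent.Lib.Helper77.VerschFV

set_option autoImplicit false
universe u

namespace Groth.Agent.Lib.Helper77.VerschPow

open TensorProduct WithConv

section
variable (R : Type u) [CommRing R] (A : Type u) [CommRing A] [HopfAlgebra R A]

theorem powConv_mul (m n : ℕ) :
    SGA3b.powConv R A (m * n) = (SGA3b.powConv R A m).comp (SGA3b.powConv R A n) := by
  have key : ∀ (h : A →ₐ[R] A) (n : ℕ),
      h.comp (SGA3b.powConv R A n) = ((toConv h) ^ n).ofConv := by
    intro h n
    induction n with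
    | zero =>
      unfold SGA3b.powConv
      rw [pow_zero, pow_zero]
      apply AlgHom.ext
      intro a
      show h ((1 : WithConv (A →ₐ[R] A)) a) = (1 : WithConv (A →ₐ[R] A)) a
      rw [AlgHom.convOne_apply, AlgHom.commutes]
    | succ n ih =>
      unfold SGA3b.powConv at ih ⊢
      rw [pow_succ, pow_succ, AlgHom.comp_convMul_distrib, ih]
      rfl
  rw [key]
  unfold SGA3b.powConv
  rw [toConv_ofConv, ← pow_mul]

end

section
variable (p : ℕ) [Fact p.Prime] (k : Type u) [Field k] [CharP k p]
  (A : Type u) [CommRing A] [HopfAlgebra k A] [Coalgebra.IsCocomm k A] [Module.Finite k A]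

include k in
theorem charP_of_hopf : CharP A p := by
  apply charP_of_injective_algebraMap (R := k) _ p
  intro r s h
  have := congrArg (Bialgebra.counitAlgHom k A) h
  simpa using this

theorem exists_powConv_eq (v : A →+* FrobAlg.BaseChange p k A)
    (hv : Versch.IsVerschiebung p k A v) (hsurj : Function.Surjective v) (m : ℕ) :
    ∀ c : A, ∃ b : A, c ^ (p ^ m) = SGA3b.powConv k A (p ^ m) b := by
  have := charP_of_hopf p k A
  have hFV := VerschFV.main p k A v hv
  induction m with
  | zero =>
    intro c
    refine ⟨c, ?_⟩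
    rw [pow_zero, pow_one]
    unfold SGA3b.powConv
    rw [pow_one]
    rfl
  | succ m ih =>
    intro c
    obtain ⟨b0, hb0⟩ := hsurj (c ⊗ₜ[k] (1 : FrobAlg.Twist p k))
    have h1 : c ^ p = SGA3b.powConv k A p b0 := by
      have := congrArg (fun φ : A →+* A => φ b0) hFV
      simp only [RingHom.comp_apply, hb0, VerschFV.relFrob_tmul] at this
      simpa using this
    obtain ⟨b1, hb1⟩ := ih b0
    refine ⟨b1, ?_⟩
    rw [pow_succ', pow_mul, h1, ← map_pow, hb1, powConv_mul]
    rfl

theorem main (n : ℕ)
    (hn : SGA3b.powConv k A (p ^ n) = (Algebra.ofId k A).comp (Bialgebra.counitAlgHom k A))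
    (v : A →+* FrobAlg.BaseChange p k A) (hv : Versch.IsVerschiebung p k A v)
    (hbij : Function.Bijective v)
    (a : A) (ha : Coalgebra.counit (R := k) a = 0) : a ^ (p ^ n) = 0 := by
  obtain ⟨b, hb⟩ := exists_powConv_eq p k A v hv hbij.2 n a
  rw [hn] at hb
  have h1 : a ^ (p ^ n) = algebraMap k A (Coalgebra.counit (R := k) b) := hb
  have h2 := congrArg (Bialgebra.counitAlgHom k A) h1
  rw [map_pow, Bialgebra.counitAlgHom_apply, ha, zero_pow (pow_pos (Fact.out : p.Prime).pos n).ne',
    AlgHom.commutes] at h2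
  have h3 : Coalgebra.counit (R := k) b = 0 := h2.symm
  rw [h1, h3, map_zero]

end

end Groth.Agent.Lib.Helper77.VerschPow
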